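import Mathlib

set_option autoImplicit false

namespace Cfsg.Agent.Lib.Helper4

open Module.End

section General

variable {V : Type*} [AddCommGroup V] [Module ℂ V] [FiniteDimensional ℂ V]

/-- the set of eigenvalues (with nonzero eigenspace) is finite -/
theorem finite_eigen (f : Module.End ℂ V) : {μ : ℂ | f.eigenspace μ ≠ ⊥}.Finite :=
  WellFoundedGT.finite_ne_bot_of_iSupIndep f.eigenspaces_iSupIndep

/-- If `f` is diagonalizable and `h` acts on each eigenspace of `f` by the scalar `c μ`, then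
the trace of `h` is `∑ c μ * dim E_μ`. -/
theorem trace_eq_sum_of_eigen (f h : Module.End ℂ V) (hf : ⨆ μ : ℂ, f.eigenspace μ = ⊤) (c : ℂ → ℂ)
    (hc : ∀ μ : ℂ, ∀ v ∈ f.eigenspace μ, h v = c μ • v) :
    LinearMap.trace ℂ V h =
      ∑ μ ∈ (finite_eigen f).toFinset, c μ * (Module.finrank ℂ (f.eigenspace μ) : ℂ) := by
  classical
  have hds := DirectSum.isInternal_submodule_of_iSupIndep_of_iSup_eq_top f.eigenspaces_iSupIndep hf
  have hmaps : ∀ μ, Set.MapsTo h (f.eigenspace μ) (f.eigenspace μ) := by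
    intro μ v hv
    rw [SetLike.mem_coe] at hv ⊢
    rw [hc μ v hv]
    exact Submodule.smul_mem _ _ hv
  rw [LinearMap.trace_eq_sum_trace_restrict' hds (finite_eigen f) hmaps]
  refine Finset.sum_congr rfl fun μ _ => ?_
  have h1 : h.restrict (hmaps μ) = c μ • LinearMap.id := by
    ext ⟨v, hv⟩
    show h v = c μ • v
    exact hc μ v hv
  rw [h1, map_smul, LinearMap.trace_id, smul_eq_mul]

end General

section Rep

variable {G : Type*} [Group G] [Finite G]
variable {V : Type*} [AddCommGroup V] [Module ℂ V] [FiniteDimensional ℂ V]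
variable (ρ : Representation ℂ G V) (g : G)

theorem rho_pow_orderOf : ρ g ^ orderOf g = 1 := by
  rw [← map_pow, pow_orderOf_eq_one, map_one]

theorem rho_isSemisimple : Module.End.IsSemisimple (ρ g) := by
  have hn : orderOf g ≠ 0 := (orderOf_pos g).ne'
  apply Module.End.isSemisimple_of_squarefree_aeval_eq_zero (p := Polynomial.X ^ orderOf g - 1)
  · exact (Polynomial.X_pow_sub_one_separable_iff.mpr (by exact_mod_cast hn)).squarefree
  · simp [rho_pow_orderOf]

theorem rho_iSup_eigenspace : ⨆ μ : ℂ, Module.End.eigenspace (ρ g) μ = ⊤ :=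
  (rho_isSemisimple ρ g).iSup_eigenspace_eq_top

theorem eigenvalue_pow_orderOf (μ : ℂ) (hμ : Module.End.eigenspace (ρ g) μ ≠ ⊥) : μ ^ orderOf g = 1 := by
  obtain ⟨v, hv, hv0⟩ := (Submodule.ne_bot_iff _).mp hμ
  have hev : Module.End.HasEigenvector (ρ g) μ v := ⟨hv, hv0⟩
  have h1 := hev.pow_apply (orderOf g)
  rw [rho_pow_orderOf, Module.End.one_apply] at h1
  have h2 : (μ ^ orderOf g - 1) • v = 0 := by rw [sub_smul, ← h1, one_smul, sub_self]
  rcases smul_eq_zero.mp h2 with h3 | h3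
  · exact sub_eq_zero.mp h3
  · exact absurd h3 hv0

theorem eigenvalue_norm (μ : ℂ) (hμ : Module.End.eigenspace (ρ g) μ ≠ ⊥) : ‖μ‖ = 1 :=
  Complex.norm_eq_one_of_pow_eq_one (eigenvalue_pow_orderOf ρ g μ hμ) (orderOf_pos g).ne'

/-- the finite set of eigenvalues of `ρ g` -/
noncomputable def eigvals : Finset ℂ := (finite_eigen (ρ g)).toFinset

theorem mem_eigvals {μ : ℂ} : μ ∈ eigvals ρ g ↔ Module.End.eigenspace (ρ g) μ ≠ ⊥ := by
  simp [eigvals]

/-- multiplicity of an eigenvalue -/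
noncomputable def eigmult (μ : ℂ) : ℕ := Module.finrank ℂ (Module.End.eigenspace (ρ g) μ)

theorem eigmult_pos {μ : ℂ} (hμ : μ ∈ eigvals ρ g) : 0 < eigmult ρ g μ := by
  rw [mem_eigvals] at hμ
  unfold eigmult
  rw [Module.finrank_pos_iff]
  exact Submodule.nontrivial_iff_ne_bot.mpr hμ

theorem character_eq_sum : ρ.character g = ∑ μ ∈ eigvals ρ g, μ * (eigmult ρ g μ : ℂ) := by
  have := trace_eq_sum_of_eigen (ρ g) (ρ g) (rho_iSup_eigenspace ρ g) (fun μ => μ)
    (fun μ v hv => Module.End.mem_eigenspace_iff.mp hv)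
  exact this

theorem finrank_eq_sum : (Module.finrank ℂ V : ℂ) = ∑ μ ∈ eigvals ρ g, (eigmult ρ g μ : ℂ) := by
  have := trace_eq_sum_of_eigen (ρ g) LinearMap.id (rho_iSup_eigenspace ρ g) (fun _ => 1)
    (fun μ v _ => by simp)
  rw [LinearMap.trace_id] at this
  simp only [one_mul] at this
  exact this

theorem finrank_eq_sum_nat : Module.finrank ℂ V = ∑ μ ∈ eigvals ρ g, eigmult ρ g μ := by
  have := finrank_eq_sum ρ g
  exact_mod_cast this

theorem character_inv_eq_sum :
    ρ.character g⁻¹ = ∑ μ ∈ eigvals ρ g, μ⁻¹ * (eigmult ρ g μ : ℂ) := by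
  have := trace_eq_sum_of_eigen (ρ g) (ρ g⁻¹) (rho_iSup_eigenspace ρ g) (fun μ => μ⁻¹) ?_
  · exact this
  · intro μ v hv
    by_cases hv0 : v = 0
    · simp [hv0]
    have hμ : Module.End.eigenspace (ρ g) μ ≠ ⊥ := (Submodule.ne_bot_iff _).mpr ⟨v, hv, hv0⟩
    have hμ0 : μ ≠ 0 := by
      intro h0
      have := eigenvalue_norm ρ g μ hμ
      rw [h0, norm_zero] at this
      exact zero_ne_one this
    have h1 : ρ g v = μ • v := Module.End.mem_eigenspace_iff.mp hv
    have h2 : ρ g⁻¹ (ρ g v) = v := by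
      rw [← Module.End.mul_apply, ← map_mul, inv_mul_cancel, map_one, Module.End.one_apply]
    rw [h1, map_smul] at h2
    calc ρ g⁻¹ v = μ⁻¹ • (μ • ρ g⁻¹ v) := by rw [smul_smul, inv_mul_cancel₀ hμ0, one_smul]
      _ = μ⁻¹ • v := by rw [h2]

open ComplexConjugate in
/-- `χ(g⁻¹) = conj χ(g)` -/
theorem character_inv : ρ.character g⁻¹ = conj (ρ.character g) := by
  rw [character_inv_eq_sum, character_eq_sum, map_sum]
  refine Finset.sum_congr rfl fun μ hμ => ?_
  rw [map_mul, Complex.conj_natCast, Complex.inv_eq_conj (eigenvalue_norm ρ g μ ((mem_eigvals ρ g).mp hμ))]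

/-- `|χ(g)| ≤ χ(1)` -/
theorem norm_character_le : ‖ρ.character g‖ ≤ (Module.finrank ℂ V : ℝ) := by
  rw [character_eq_sum]
  calc ‖∑ μ ∈ eigvals ρ g, μ * (eigmult ρ g μ : ℂ)‖
      ≤ ∑ μ ∈ eigvals ρ g, ‖μ * (eigmult ρ g μ : ℂ)‖ := norm_sum_le _ _
    _ = ∑ μ ∈ eigvals ρ g, (eigmult ρ g μ : ℝ) := by
        refine Finset.sum_congr rfl fun μ hμ => ?_
        rw [norm_mul, eigenvalue_norm ρ g μ ((mem_eigvals ρ g).mp hμ), one_mul, Complex.norm_natCast]
    _ = (Module.finrank ℂ V : ℝ) := by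
        rw [finrank_eq_sum_nat ρ g]; push_cast; rfl

/-- character values are algebraic integers -/
theorem character_isIntegral : IsIntegral ℤ (ρ.character g) := by
  rw [character_eq_sum]
  refine IsIntegral.sum _ fun μ hμ => ?_
  refine IsIntegral.mul ?_ (isIntegral_natCast _)
  exact IsIntegral.of_pow (orderOf_pos g) (by
    rw [eigenvalue_pow_orderOf ρ g μ ((mem_eigvals ρ g).mp hμ)]; exact isIntegral_one)


open ComplexConjugate in
/-- if `χ(g) = ω χ(1)` with `|ω| = 1` then every eigenvalue of `ρ g` equals `ω` -/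
theorem eigvals_eq_of_character_eq (ω : ℂ) (hω : ‖ω‖ = 1)
    (h : ρ.character g = ω * (Module.finrank ℂ V : ℂ)) : ∀ μ ∈ eigvals ρ g, μ = ω := by
  have hωω : conj ω * ω = 1 := by
    rw [mul_comm, Complex.mul_conj, Complex.normSq_eq_norm_sq, hω]; norm_num
  have h1 : ∑ μ ∈ eigvals ρ g, (1 - μ * conj ω) * (eigmult ρ g μ : ℂ) = 0 := by
    have : ∑ μ ∈ eigvals ρ g, (1 - μ * conj ω) * (eigmult ρ g μ : ℂ)
        = ∑ μ ∈ eigvals ρ g, (eigmult ρ g μ : ℂ)
          - conj ω * ∑ μ ∈ eigvals ρ g, μ * (eigmult ρ g μ : ℂ) := by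
      rw [Finset.mul_sum, ← Finset.sum_sub_distrib]
      refine Finset.sum_congr rfl fun μ _ => ?_
      ring
    rw [this, ← character_eq_sum, ← finrank_eq_sum, h, ← mul_assoc, hωω, one_mul, sub_self]
  have h2 : ∑ μ ∈ eigvals ρ g, (1 - (μ * conj ω).re) * (eigmult ρ g μ : ℝ) = 0 := by
    have := congrArg Complex.re h1
    rw [Complex.re_sum, Complex.zero_re] at this
    rw [← this]
    refine Finset.sum_congr rfl fun μ _ => ?_
    simp [Complex.mul_re]
  have hnorm : ∀ μ ∈ eigvals ρ g, ‖μ * conj ω‖ = 1 := by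
    intro μ hμ
    rw [norm_mul, eigenvalue_norm ρ g μ ((mem_eigvals ρ g).mp hμ), RCLike.norm_conj, hω, one_mul]
  have hnonneg : ∀ μ ∈ eigvals ρ g, 0 ≤ (1 - (μ * conj ω).re) * (eigmult ρ g μ : ℝ) := by
    intro μ hμ
    refine mul_nonneg ?_ (Nat.cast_nonneg _)
    have := Complex.re_le_norm (μ * conj ω)
    rw [hnorm μ hμ] at this
    linarith
  intro μ hμ
  have h3 := (Finset.sum_eq_zero_iff_of_nonneg hnonneg).mp h2 μ hμ
  have hm : (0 : ℝ) < (eigmult ρ g μ : ℝ) := Nat.cast_pos.mpr (eigmult_pos ρ g hμ)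
  have hre : (μ * conj ω).re = 1 := by
    rcases mul_eq_zero.mp h3 with h4 | h4
    · linarith
    · linarith
  have him : (μ * conj ω).im = 0 := by
    have h5 := hnorm μ hμ
    have h6 : ‖μ * conj ω‖ ^ 2 = (μ * conj ω).re ^ 2 + (μ * conj ω).im ^ 2 := by
      rw [← Complex.normSq_eq_norm_sq, Complex.normSq_apply]; ring
    rw [h5, hre] at h6
    have : (μ * conj ω).im ^ 2 = 0 := by linarith
    exact pow_eq_zero_iff (two_ne_zero) |>.mp this
  have h7 : μ * conj ω = 1 := Complex.ext (by simpa using hre) (by simpa using him)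
  calc μ = μ * (conj ω * ω) := by rw [hωω, mul_one]
    _ = (μ * conj ω) * ω := by ring
    _ = ω := by rw [h7, one_mul]

/-- if every eigenvalue of `ρ g` equals `ω` then `ρ g = ω • id` -/
theorem rho_eq_smul_of_eigvals (ω : ℂ) (h : ∀ μ ∈ eigvals ρ g, μ = ω) :
    ρ g = ω • (LinearMap.id : V →ₗ[ℂ] V) := by
  have h1 : (⊤ : Submodule ℂ V) ≤ Module.End.eigenspace (ρ g) ω := by
    rw [← rho_iSup_eigenspace ρ g]
    refine iSup_le fun μ => ?_
    by_cases hμ : μ ∈ eigvals ρ g
    · rw [h μ hμ]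
    · rw [mem_eigvals, not_not] at hμ
      rw [hμ]; exact bot_le
  ext v
  have := h1 (Submodule.mem_top : v ∈ ⊤)
  rw [Module.End.mem_eigenspace_iff] at this
  simpa using this

/-- `χ(g) = χ(1)` iff `ρ g = id` -/
theorem character_eq_finrank_iff :
    ρ.character g = (Module.finrank ℂ V : ℂ) ↔ ρ g = LinearMap.id := by
  constructor
  · intro h
    have := rho_eq_smul_of_eigvals ρ g 1
      (eigvals_eq_of_character_eq ρ g 1 (by simp) (by rw [h, one_mul]))
    rw [this, one_smul]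
  · intro h
    unfold Representation.character
    rw [h, LinearMap.trace_id]

/-- `|χ(g)| = χ(1)` iff `ρ g` is a scalar -/
theorem norm_character_eq_finrank_iff :
    ‖ρ.character g‖ = (Module.finrank ℂ V : ℝ) ↔
      ∃ ω : ℂ, ρ g = ω • (LinearMap.id : V →ₗ[ℂ] V) := by
  constructor
  · intro h
    by_cases hd : Module.finrank ℂ V = 0
    · refine ⟨0, ?_⟩
      have : Subsingleton V := Module.finrank_zero_iff.mp hd
      ext v
      exact Subsingleton.elim _ _
    · have hd' : (Module.finrank ℂ V : ℂ) ≠ 0 := Nat.cast_ne_zero.mpr hd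
      have hd'' : (Module.finrank ℂ V : ℝ) ≠ 0 := Nat.cast_ne_zero.mpr hd
      refine ⟨ρ.character g / (Module.finrank ℂ V : ℂ), ?_⟩
      apply rho_eq_smul_of_eigvals
      apply eigvals_eq_of_character_eq
      · rw [norm_div, h, Complex.norm_natCast, div_self hd'']
      · rw [div_mul_cancel₀ _ hd']
  · rintro ⟨ω, hω⟩
    have hchar : ρ.character g = ω * (Module.finrank ℂ V : ℂ) := by
      unfold Representation.character
      rw [hω, map_smul, LinearMap.trace_id, smul_eq_mul]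
    by_cases hd : Module.finrank ℂ V = 0
    · rw [hchar, hd]; simp
    · have hpos : 0 < Module.finrank ℂ V := Nat.pos_of_ne_zero hd
      have : Nontrivial V := Module.finrank_pos_iff.mp hpos
      obtain ⟨v, hv⟩ := exists_ne (0 : V)
      have hμ : Module.End.eigenspace (ρ g) ω ≠ ⊥ := by
        refine (Submodule.ne_bot_iff _).mpr ⟨v, ?_, hv⟩
        rw [Module.End.mem_eigenspace_iff, hω]; simp
      rw [hchar, norm_mul, eigenvalue_norm ρ g ω hμ, one_mul, Complex.norm_natCast]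

end Rep

end Cfsg.Agent.Lib.Helper4
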