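import Mathlib
import Cfsg.Prelude.Def_Characters
import Cfsg.Agent.Lib.Helper4.RepEigen

set_option autoImplicit false

namespace Cfsg.Agent.Lib.Helper4

open scoped ComplexConjugate

section Transport

variable {G : Type*} [Group G] {V W : Type*} [AddCommGroup V] [Module ℂ V]
  [AddCommGroup W] [Module ℂ W]

/-- transport a representation along a linear equivalence -/
noncomputable def transportRep (ρ : Representation ℂ G V) (e : V ≃ₗ[ℂ] W) :
    Representation ℂ G W where
  toFun g := e.toLinearMap ∘ₗ ρ g ∘ₗ e.symm.toLinearMap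
  map_one' := by ext; simp
  map_mul' a b := by ext; simp

theorem transportRep_apply (ρ : Representation ℂ G V) (e : V ≃ₗ[ℂ] W) (g : G) (w : W) :
    transportRep ρ e g w = e (ρ g (e.symm w)) := rfl

/-- the transported representation is equivalent to the original -/
noncomputable def transportEquiv (ρ : Representation ℂ G V) (e : V ≃ₗ[ℂ] W) :
    Representation.Equiv ρ (transportRep ρ e) :=
  Representation.Equiv.mk e (by intro g; ext v; simp [transportRep_apply])

theorem isIrreducible_of_equiv {ρ : Representation ℂ G V} {σ : Representation ℂ G W}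
    (φ : Representation.Equiv ρ σ) (h : ρ.IsIrreducible) : σ.IsIrreducible := by
  rw [Representation.irreducible_iff_isSimpleModule_asModule] at h ⊢
  let l := Representation.IntertwiningMap.equivLinearMapAsModule ρ σ φ.toIntertwiningMap
  have hl : Function.Bijective l := φ.toLinearEquiv.bijective
  exact (LinearMap.isSimpleModule_iff_of_bijective l hl).mp h

/-- the character of an irreducible finite-dimensional representation is an irreducible character
in the sense of `Cfsg.IsIrrCharacter` -/
theorem isIrrCharacter_of_irreducible [FiniteDimensional ℂ V] (ρ : Representation ℂ G V)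
    (h : ρ.IsIrreducible) : Cfsg.IsIrrCharacter G ρ.character := by
  let b := Module.finBasis ℂ V
  let e : V ≃ₗ[ℂ] (Fin (Module.finrank ℂ V) → ℂ) := b.equivFun
  refine ⟨Module.finrank ℂ V, transportRep ρ e, isIrreducible_of_equiv (transportEquiv ρ e) h, ?_⟩
  exact (Representation.char_iso (transportEquiv ρ e)).symm

theorem isCharacter_of_rep [FiniteDimensional ℂ V] (ρ : Representation ℂ G V) :
    Cfsg.IsCharacter G ρ.character := by
  let b := Module.finBasis ℂ V
  let e : V ≃ₗ[ℂ] (Fin (Module.finrank ℂ V) → ℂ) := b.equivFun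
  exact ⟨Module.finrank ℂ V, transportRep ρ e, (Representation.char_iso (transportEquiv ρ e)).symm⟩

end Transport


section Ortho

variable {G : Type*} [Group G] [Fintype G]
variable {V W : Type*} [AddCommGroup V] [Module ℂ V] [FiniteDimensional ℂ V]
  [AddCommGroup W] [Module ℂ W] [FiniteDimensional ℂ W]

theorem card_ne_zero_complex : (Nat.card G : ℂ) ≠ 0 :=
  Nat.cast_ne_zero.mpr Nat.card_pos.ne'

open scoped Classical in
/-- first orthogonality relation, in terms of `Cfsg.classInner` -/
theorem classInner_character (ρ : Representation ℂ G V) (σ : Representation ℂ G W)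
    (hρ : ρ.IsIrreducible) (hσ : σ.IsIrreducible) :
    Cfsg.classInner ρ.character σ.character = if Nonempty (σ.Equiv ρ) then 1 else 0 := by
  have := hρ
  have := hσ
  have : Invertible (Nat.card G : ℂ) := invertibleOfNonzero card_ne_zero_complex
  rw [← Representation.char_orthonormal ρ σ]
  unfold Cfsg.classInner
  congr 1
  refine Finset.sum_congr rfl fun g _ => ?_
  rw [character_inv σ g]

theorem equiv_of_character_eq (ρ : Representation ℂ G V) (σ : Representation ℂ G W)
    (hρ : ρ.IsIrreducible) (hσ : σ.IsIrreducible) (h : ρ.character = σ.character) :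
    Nonempty (σ.Equiv ρ) := by
  by_contra hne
  have h1 := classInner_character ρ σ hρ hσ
  have h2 := classInner_character ρ ρ hρ hρ
  rw [if_neg hne] at h1
  rw [if_pos ⟨Representation.Equiv.refl ρ⟩] at h2
  rw [← h, h2] at h1
  exact one_ne_zero h1

open scoped Classical in
/-- orthonormality of the irreducible characters -/
theorem classInner_irr (χ ψ : Cfsg.IrrCharacter G) :
    Cfsg.classInner (χ : G → ℂ) (ψ : G → ℂ) = if χ = ψ then 1 else 0 := by
  obtain ⟨n, ρ, hρ, hρχ⟩ := χ.2
  obtain ⟨m, σ, hσ, hσψ⟩ := ψ.2
  rw [← hρχ, ← hσψ, classInner_character ρ σ hρ hσ]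
  by_cases h : χ = ψ
  · rw [if_pos h, if_pos]
    apply equiv_of_character_eq ρ σ hρ hσ
    rw [hρχ, hσψ, h]
  · rw [if_neg h, if_neg]
    rintro ⟨φ⟩
    apply h
    apply Subtype.ext
    rw [← hρχ, ← hσψ]
    exact (Representation.char_iso φ).symm

end Ortho

section Complete

variable {G : Type*} [Group G] [Fintype G]

/-- the operator `∑ g, f g • ρ g` -/
noncomputable def opSum {V : Type*} [AddCommGroup V] [Module ℂ V]
    (ρ : Representation ℂ G V) (f : G → ℂ) : V →ₗ[ℂ] V := ∑ g, f g • ρ g

theorem opSum_apply {V : Type*} [AddCommGroup V] [Module ℂ V]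
    (ρ : Representation ℂ G V) (f : G → ℂ) (v : V) : opSum ρ f v = ∑ g, f g • ρ g v := by
  simp [opSum, LinearMap.sum_apply]

theorem opSum_comm {V : Type*} [AddCommGroup V] [Module ℂ V]
    (ρ : Representation ℂ G V) (f : G → ℂ) (hf : Cfsg.IsClassFunction G f) (h : G) (v : V) :
    opSum ρ f (ρ h v) = ρ h (opSum ρ f v) := by
  rw [opSum_apply, opSum_apply, map_sum]
  -- reindex the left side by g ↦ h * g * h⁻¹
  let e : G ≃ G := (MulAut.conj h).toEquiv
  rw [← Equiv.sum_comp e]
  refine Finset.sum_congr rfl fun g _ => ?_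
  have he : e g = h * g * h⁻¹ := rfl
  rw [he, hf g h, map_smul]
  congr 1
  rw [← Module.End.mul_apply, ← map_mul, ← Module.End.mul_apply, ← map_mul]
  congr 2
  group

theorem trace_opSum {V : Type*} [AddCommGroup V] [Module ℂ V]
    (ρ : Representation ℂ G V) (f : G → ℂ) :
    LinearMap.trace ℂ V (opSum ρ f) = ∑ g, f g * ρ.character g := by
  unfold opSum Representation.character
  rw [map_sum]
  refine Finset.sum_congr rfl fun g _ => ?_
  rw [map_smul, smul_eq_mul]

/-- Schur: a class-function sum acts as a scalar on an irreducible representation -/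
theorem opSum_eq_smul_of_irreducible {V : Type*} [AddCommGroup V] [Module ℂ V]
    [FiniteDimensional ℂ V] (ρ : Representation ℂ G V) (hirr : ρ.IsIrreducible)
    (f : G → ℂ) (hf : Cfsg.IsClassFunction G f) :
    ∃ c : ℂ, opSum ρ f = c • LinearMap.id ∧
      c * (Module.finrank ℂ V : ℂ) = ∑ g, f g * ρ.character g := by
  have := hirr
  let T : Representation.IntertwiningMap ρ ρ :=
    (opSum ρ f).intertwiningMap_of_isIntertwiningMap ρ ρ (fun g v => opSum_comm ρ f hf g v)
  obtain ⟨c, hc⟩ :=
    (Representation.IsIrreducible.algebraMap_intertwiningMap_bijective_of_isAlgClosed (ρ := ρ)).2 T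
  have h1 : opSum ρ f = c • LinearMap.id := by
    have := congrArg Representation.IntertwiningMap.toLinearMap hc
    ext v
    have h2 := LinearMap.congr_fun this v
    simp only [Representation.IntertwiningMap.algebraMap_apply] at h2
    exact h2.symm
  refine ⟨c, h1, ?_⟩
  rw [← trace_opSum, h1, map_smul, LinearMap.trace_id, smul_eq_mul]

theorem opSum_sub_coe {V : Type*} [AddCommGroup V] [Module ℂ V]
    (ρ : Representation ℂ G V) (σ : Subrepresentation ρ) (f : G → ℂ)
    (w : σ.toSubmodule) : ((opSum σ.toRepresentation f w : σ.toSubmodule) : V) = opSum ρ f (w : V) := by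
  rw [opSum_apply, opSum_apply, Submodule.coe_sum]
  refine Finset.sum_congr rfl fun g _ => ?_
  rw [Submodule.coe_smul]
  rfl

universe v

/-- key step of completeness: if the class function `f` is orthogonal (bilinearly) to every
irreducible character, then `∑ g, f g • ρ g = 0` for every finite-dimensional representation -/
theorem opSum_eq_zero_aux (f : G → ℂ) (hf : Cfsg.IsClassFunction G f)
    (h0 : ∀ χ : G → ℂ, Cfsg.IsIrrCharacter G χ → ∑ g, f g * χ g = 0) :
    ∀ (d : ℕ) (V : Type v) [AddCommGroup V] [Module ℂ V] [FiniteDimensional ℂ V]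
      (ρ : Representation ℂ G V), Module.finrank ℂ V = d → opSum ρ f = 0 := by
  intro d
  induction d using Nat.strong_induction_on with
  | _ d ih =>
    intro V _ _ _ ρ hd
    by_cases hirr : ρ.IsIrreducible
    · obtain ⟨c, hc1, hc2⟩ := opSum_eq_smul_of_irreducible ρ hirr f hf
      rw [h0 _ (isIrrCharacter_of_irreducible ρ hirr)] at hc2
      have := hirr
      have hnt : Nontrivial V := by
        by_contra hnt
        rw [not_nontrivial_iff_subsingleton] at hnt
        have h1 : (⊥ : Subrepresentation ρ) = ⊤ := by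
          apply Subrepresentation.toSubmodule_injective
          exact Subsingleton.elim _ _
        exact bot_ne_top h1
      have hpos : (Module.finrank ℂ V : ℂ) ≠ 0 :=
        Nat.cast_ne_zero.mpr (Module.finrank_pos (R := ℂ) (M := V)).ne'
      have hc0 : c = 0 := by
        rcases mul_eq_zero.mp hc2 with h | h
        · exact h
        · exact absurd h hpos
      rw [hc1, hc0, zero_smul]
    · by_cases hsub : Subsingleton V
      · ext v; exact Subsingleton.elim _ _
      · rw [not_subsingleton_iff_nontrivial] at hsub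
        have hbt : (⊥ : Subrepresentation ρ) ≠ ⊤ := by
          intro h
          have h1 : (⊥ : Submodule ℂ V) = ⊤ := congrArg Subrepresentation.toSubmodule h
          exact bot_ne_top h1
        have hex : ∃ σ : Subrepresentation ρ, σ ≠ ⊥ ∧ σ ≠ ⊤ := by
          by_contra hcon
          push Not at hcon
          apply hirr
          exact { exists_pair_ne := ⟨⊥, ⊤, hbt⟩
                  eq_bot_or_eq_top := fun a => by
                    by_cases h : a = ⊥
                    · exact Or.inl h
                    · exact Or.inr (hcon a h) }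
        obtain ⟨σ, hσb, hσt⟩ := hex
        have : NeZero (Nat.card G : ℂ) := ⟨card_ne_zero_complex⟩
        obtain ⟨σ', hσ'⟩ := exists_isCompl σ
        have hσ't : σ' ≠ ⊤ := by
          intro h
          apply hσb
          have := hσ'.inf_eq_bot
          rw [h, inf_top_eq] at this
          exact this
        have hlt : ∀ τ : Subrepresentation ρ, τ ≠ ⊤ →
            Module.finrank ℂ τ.toSubmodule < d := by
          intro τ hτ
          rw [← hd]
          apply Submodule.finrank_lt
          intro h
          apply hτ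
          apply Subrepresentation.toSubmodule_injective
          exact h
        have hz : ∀ τ : Subrepresentation ρ, τ ≠ ⊤ →
            ∀ w ∈ τ.toSubmodule, opSum ρ f w = 0 := by
          intro τ hτ w hw
          have := ih _ (hlt τ hτ) τ.toSubmodule τ.toRepresentation rfl
          rw [← opSum_sub_coe ρ τ f ⟨w, hw⟩, this]
          rfl
        have hsup : σ.toSubmodule ⊔ σ'.toSubmodule = ⊤ :=
          congrArg Subrepresentation.toSubmodule hσ'.sup_eq_top
        ext v
        have hv : v ∈ σ.toSubmodule ⊔ σ'.toSubmodule := by rw [hsup]; exact Submodule.mem_top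
        obtain ⟨w, hw, w', hw', rfl⟩ := Submodule.mem_sup.mp hv
        rw [map_add, hz σ hσt w hw, hz σ' hσ't w' hw', add_zero]
        rfl

end Complete


section Final

variable {G : Type*} [Group G] [Fintype G]

/-- `Cfsg.classInner` as a linear map in its first argument -/
noncomputable def classInnerL (ψ : G → ℂ) : (G → ℂ) →ₗ[ℂ] ℂ :=
  (Nat.card G : ℂ)⁻¹ • ∑ g : G, conj (ψ g) • (LinearMap.proj g : (G → ℂ) →ₗ[ℂ] ℂ)

theorem classInnerL_apply (ψ φ : G → ℂ) : classInnerL ψ φ = Cfsg.classInner φ ψ := by
  unfold classInnerL Cfsg.classInner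
  simp only [LinearMap.smul_apply, LinearMap.sum_apply, LinearMap.proj_apply, smul_eq_mul]
  congr 1
  refine Finset.sum_congr rfl fun g _ => ?_
  ring

theorem isClassFunction_of_isIrrCharacter {χ : G → ℂ} (h : Cfsg.IsIrrCharacter G χ) :
    Cfsg.IsClassFunction G χ := by
  obtain ⟨n, ρ, _, rfl⟩ := h
  intro g k
  exact Representation.char_conj ρ g k

theorem isClassFunction_of_isCharacter {χ : G → ℂ} (h : Cfsg.IsCharacter G χ) :
    Cfsg.IsClassFunction G χ := by
  obtain ⟨n, ρ, rfl⟩ := h
  intro g k
  exact Representation.char_conj ρ g k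

/-- completeness: a class function orthogonal to all irreducible characters vanishes -/
theorem eq_zero_of_classInner_irr_eq_zero (f : G → ℂ) (hf : Cfsg.IsClassFunction G f)
    (h : ∀ χ : Cfsg.IrrCharacter G, Cfsg.classInner f (χ : G → ℂ) = 0) : f = 0 := by
  let f' : G → ℂ := fun g => f g⁻¹
  have hf' : Cfsg.IsClassFunction G f' := by
    intro g k
    show f (k * g * k⁻¹)⁻¹ = f g⁻¹
    have : (k * g * k⁻¹)⁻¹ = k * g⁻¹ * k⁻¹ := by group
    rw [this, hf]
  have h0 : ∀ χ : G → ℂ, Cfsg.IsIrrCharacter G χ → ∑ g, f' g * χ g = 0 := by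
    intro χ hχ
    have h1 := h ⟨χ, hχ⟩
    obtain ⟨n, ρ, _, rfl⟩ := hχ
    unfold Cfsg.classInner at h1
    rcases mul_eq_zero.mp h1 with h2 | h2
    · exact absurd (inv_eq_zero.mp h2) card_ne_zero_complex
    · rw [← h2, ← Equiv.sum_comp (Equiv.inv G)]
      refine Finset.sum_congr rfl fun g _ => ?_
      show f (g⁻¹)⁻¹ * ρ.character g⁻¹ = _
      rw [inv_inv, character_inv]
  have key := opSum_eq_zero_aux f' hf' h0 _ (MonoidAlgebra ℂ G) (Representation.leftRegular ℂ G) rfl
  have h1 : opSum (Representation.leftRegular ℂ G) f' (MonoidAlgebra.single 1 1) = 0 := by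
    rw [key]; rfl
  rw [opSum_apply] at h1
  simp only [Representation.ofMulAction_single, smul_eq_mul, mul_one] at h1
  funext g
  have h2 := congrArg (fun x => MonoidAlgebra.coeff x g⁻¹) h1
  classical
  simp only [MonoidAlgebra.coeff_sum, MonoidAlgebra.coeff_smul, MonoidAlgebra.coeff_single,
    Finsupp.coe_finsetSum, Finsupp.coe_smul, Finset.sum_apply, Pi.smul_apply,
    smul_eq_mul, MonoidAlgebra.coeff_zero, Finsupp.coe_zero, Pi.zero_apply] at h2
  simp only [Finsupp.single_apply, mul_ite, mul_one, mul_zero, Finset.sum_ite_eq',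
    Finset.mem_univ, if_true] at h2
  simpa [f'] using h2

/-- the irreducible characters are linearly independent -/
theorem linearIndependent_irr :
    LinearIndependent ℂ (fun χ : Cfsg.IrrCharacter G => (χ : G → ℂ)) := by
  classical
  rw [linearIndependent_iff']
  intro s c hc χ hχ
  have h1 := congrArg (classInnerL (χ : G → ℂ)) hc
  rw [map_sum, map_zero] at h1
  simp only [map_smul, classInnerL_apply, classInner_irr, smul_eq_mul, mul_ite, mul_one, mul_zero]
    at h1
  rw [Finset.sum_ite_eq' s χ] at h1
  simpa [hχ] using h1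

instance finite_irr : Finite (Cfsg.IrrCharacter G) :=
  LinearIndependent.finite linearIndependent_irr

/-- expansion of a class function in irreducible characters -/
theorem classFunction_expansion [Fintype (Cfsg.IrrCharacter G)] (f : G → ℂ)
    (hf : Cfsg.IsClassFunction G f) :
    f = ∑ χ : Cfsg.IrrCharacter G, Cfsg.classInner f (χ : G → ℂ) • (χ : G → ℂ) := by
  classical
  rw [← sub_eq_zero]
  apply eq_zero_of_classInner_irr_eq_zero
  · intro g k
    simp only [Pi.sub_apply, Finset.sum_apply, Pi.smul_apply, smul_eq_mul]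
    rw [hf g k]
    congr 1
    refine Finset.sum_congr rfl fun χ _ => ?_
    rw [isClassFunction_of_isIrrCharacter χ.2 g k]
  · intro ψ
    rw [← classInnerL_apply, map_sub, map_sum]
    simp only [map_smul, classInnerL_apply, classInner_irr, smul_eq_mul, mul_ite, mul_one, mul_zero]
    rw [Finset.sum_ite_eq' Finset.univ ψ]
    simp

end Final


section Counting

variable {G : Type*} [Group G] [Fintype G]

theorem char_eq_of_isConj {χ : G → ℂ} (hχ : Cfsg.IsClassFunction G χ) {a b : G} (h : IsConj a b) :
    χ a = χ b := by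
  obtain ⟨c, rfl⟩ := isConj_iff.mp h
  exact (hχ a c).symm

/-- the number of irreducible characters equals the number of conjugacy classes -/
theorem card_irr_eq_card_conjClasses :
    Nat.card (Cfsg.IrrCharacter G) = Nat.card (ConjClasses G) := by
  classical
  have : Fintype (Cfsg.IrrCharacter G) := Fintype.ofFinite _
  have : Fintype (ConjClasses G) := Fintype.ofFinite _
  let Φ : (ConjClasses G → ℂ) →ₗ[ℂ] (Cfsg.IrrCharacter G → ℂ) :=
    LinearMap.pi (fun χ => (classInnerL (χ : G → ℂ)).comp
      (LinearMap.funLeft ℂ ℂ (ConjClasses.mk : G → ConjClasses G)))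
  let Ψ : (Cfsg.IrrCharacter G → ℂ) →ₗ[ℂ] (ConjClasses G → ℂ) :=
    LinearMap.pi (fun C => ∑ χ : Cfsg.IrrCharacter G,
      ((χ : G → ℂ) (Quotient.out C)) • (LinearMap.proj χ : (Cfsg.IrrCharacter G → ℂ) →ₗ[ℂ] ℂ))
  have hΦ : ∀ φ χ, Φ φ χ = Cfsg.classInner (fun g => φ (ConjClasses.mk g)) (χ : G → ℂ) := by
    intro φ χ
    simp only [Φ, LinearMap.pi_apply, LinearMap.comp_apply, classInnerL_apply]
    rfl
  have hΨ : ∀ c C, Ψ c C = ∑ χ : Cfsg.IrrCharacter G, (χ : G → ℂ) (Quotient.out C) * c χ := by
    intro c C
    simp only [Ψ, LinearMap.pi_apply, LinearMap.sum_apply, LinearMap.smul_apply,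
      LinearMap.proj_apply, smul_eq_mul]
  have h1 : Ψ.comp Φ = LinearMap.id := by
    refine LinearMap.ext fun φ => funext fun C => ?_
    rw [LinearMap.comp_apply, hΨ, LinearMap.id_apply]
    have hf : Cfsg.IsClassFunction G (fun g => φ (ConjClasses.mk g)) := by
      intro g k
      show φ (ConjClasses.mk (k * g * k⁻¹)) = φ (ConjClasses.mk g)
      congr 1
      rw [ConjClasses.mk_eq_mk_iff_isConj, isConj_comm, isConj_iff]
      exact ⟨k, rfl⟩
    have := congrFun (classFunction_expansion _ hf) (Quotient.out C)
    simp only [Finset.sum_apply, Pi.smul_apply, smul_eq_mul] at this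
    have hC : ConjClasses.mk (Quotient.out C) = C := Quotient.out_eq C
    rw [hC] at this
    rw [this]
    refine Finset.sum_congr rfl fun χ _ => ?_
    rw [hΦ, mul_comm]
  have h2 : Φ.comp Ψ = LinearMap.id := by
    refine LinearMap.ext fun c => funext fun χ' => ?_
    rw [LinearMap.comp_apply, hΦ, LinearMap.id_apply]
    have hfun : (fun g => Ψ c (ConjClasses.mk g)) =
        ∑ χ : Cfsg.IrrCharacter G, c χ • (χ : G → ℂ) := by
      funext g
      rw [hΨ]
      simp only [Finset.sum_apply, Pi.smul_apply, smul_eq_mul]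
      refine Finset.sum_congr rfl fun χ _ => ?_
      rw [mul_comm]
      congr 1
      apply char_eq_of_isConj (isClassFunction_of_isIrrCharacter χ.2)
      rw [← ConjClasses.mk_eq_mk_iff_isConj]
      exact Quotient.out_eq (ConjClasses.mk g)
    rw [hfun, ← classInnerL_apply, map_sum]
    simp only [map_smul, classInnerL_apply, classInner_irr, smul_eq_mul, mul_ite, mul_one, mul_zero]
    rw [Finset.sum_ite_eq' Finset.univ χ']
    simp
  let e : (ConjClasses G → ℂ) ≃ₗ[ℂ] (Cfsg.IrrCharacter G → ℂ) := LinearEquiv.ofLinearMap Φ Ψ h2 h1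
  have h3 := e.finrank_eq
  rw [Module.finrank_fintype_fun_eq_card, Module.finrank_fintype_fun_eq_card] at h3
  rw [Nat.card_eq_fintype_card, Nat.card_eq_fintype_card]
  exact h3.symm

/-- the sum of the squares of the degrees of the irreducible characters is `|G|` -/
theorem sum_sq_degree [Fintype (Cfsg.IrrCharacter G)] :
    ∑ χ : Cfsg.IrrCharacter G, (χ : G → ℂ) 1 ^ 2 = (Nat.card G : ℂ) := by
  classical
  let f : G → ℂ := fun g => if g = 1 then (Nat.card G : ℂ) else 0
  have hf : Cfsg.IsClassFunction G f := by
    intro g k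
    show (if k * g * k⁻¹ = 1 then (Nat.card G : ℂ) else 0) = if g = 1 then (Nat.card G : ℂ) else 0
    have : k * g * k⁻¹ = 1 ↔ g = 1 := by
      constructor
      · intro h
        have : g = k⁻¹ * (k * g * k⁻¹) * k := by group
        rw [this, h]; group
      · rintro rfl; group
    simp only [this]
  have hin : ∀ χ : Cfsg.IrrCharacter G, Cfsg.classInner f (χ : G → ℂ) = (χ : G → ℂ) 1 := by
    intro χ
    unfold Cfsg.classInner
    simp only [f, ite_mul, zero_mul, Finset.sum_ite_eq', Finset.mem_univ, if_true]
    obtain ⟨n, ρ, _, hρ⟩ := χ.2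
    rw [← hρ, Representation.char_one, Complex.conj_natCast, ← mul_assoc,
      inv_mul_cancel₀ card_ne_zero_complex, one_mul]
  have := congrFun (classFunction_expansion f hf) 1
  simp only [Finset.sum_apply, Pi.smul_apply, smul_eq_mul] at this
  have hf1 : f 1 = (Nat.card G : ℂ) := by simp [f]
  rw [hf1] at this
  rw [this]
  refine Finset.sum_congr rfl fun χ _ => ?_
  rw [hin, sq]

theorem ncard_conj_eq_index (g : G) :
    {x : G | IsConj g x}.ncard = (Subgroup.centralizer ({g} : Set G)).index := by
  have h1 : (Subgroup.centralizer ({g} : Set G)).index =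
      (MulAction.stabilizer (ConjAct G) g).index := by
    rw [Subgroup.centralizer_eq_comap_stabilizer]
    exact Subgroup.index_comap_of_surjective _ (ConjAct.toConjAct (G := G)).surjective
  rw [h1, MulAction.index_stabilizer]
  congr 1
  ext x
  rw [ConjAct.mem_orbit_conjAct, Set.mem_setOf_eq, isConj_comm]

open scoped Classical in
/-- second (column) orthogonality relation -/
theorem column_orthogonality [Fintype (Cfsg.IrrCharacter G)] (g h : G) :
    ∑ χ : Cfsg.IrrCharacter G, (χ : G → ℂ) g * conj ((χ : G → ℂ) h) =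
      if IsConj g h then (Nat.card (Subgroup.centralizer ({g} : Set G)) : ℂ) else 0 := by
  classical
  let f : G → ℂ := fun x => if IsConj h x then 1 else 0
  have hf : Cfsg.IsClassFunction G f := by
    intro x k
    show (if IsConj h (k * x * k⁻¹) then (1:ℂ) else 0) = if IsConj h x then 1 else 0
    have : IsConj h (k * x * k⁻¹) ↔ IsConj h x := by
      have hx : IsConj x (k * x * k⁻¹) := isConj_iff.mpr ⟨k, rfl⟩
      exact ⟨fun h1 => h1.trans hx.symm, fun h1 => h1.trans hx⟩
    simp only [this]
  set N : ℕ := {x : G | IsConj h x}.ncard with hN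
  have hin : ∀ χ : Cfsg.IrrCharacter G,
      Cfsg.classInner f (χ : G → ℂ) = (Nat.card G : ℂ)⁻¹ * ((N : ℂ) * conj ((χ : G → ℂ) h)) := by
    intro χ
    unfold Cfsg.classInner
    congr 1
    have h1 : ∀ x : G, f x * conj ((χ : G → ℂ) x) =
        if IsConj h x then conj ((χ : G → ℂ) h) else 0 := by
      intro x
      by_cases hx : IsConj h x
      · simp only [f, if_pos hx, one_mul]
        rw [char_eq_of_isConj (isClassFunction_of_isIrrCharacter χ.2) hx]
      · simp only [f, if_neg hx, zero_mul]
    simp only [h1]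
    rw [Finset.sum_ite, Finset.sum_const_zero, add_zero, Finset.sum_const, nsmul_eq_mul]
    congr 2
    rw [hN, Set.ncard_eq_toFinset_card']
    congr 1
    ext x
    simp
  have hexp := congrFun (classFunction_expansion f hf) g
  simp only [Finset.sum_apply, Pi.smul_apply, smul_eq_mul, hin] at hexp
  have hNpos : (N : ℂ) ≠ 0 := by
    rw [hN, ncard_conj_eq_index]
    exact Nat.cast_ne_zero.mpr (Subgroup.index_ne_zero_of_finite)
  have hsum : ∑ χ : Cfsg.IrrCharacter G, (χ : G → ℂ) g * conj ((χ : G → ℂ) h) =
      (Nat.card G : ℂ) * (N : ℂ)⁻¹ * f g := by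
    rw [hexp, Finset.mul_sum]
    refine Finset.sum_congr rfl fun χ _ => ?_
    field_simp [card_ne_zero_complex]
  rw [hsum]
  by_cases hgh : IsConj g h
  · rw [if_pos hgh]
    have hfg : f g = 1 := by simp only [f, if_pos hgh.symm]
    rw [hfg, mul_one]
    have hNg : N = (Subgroup.centralizer ({g} : Set G)).index := by
      rw [hN, ← ncard_conj_eq_index]
      congr 1
      ext x
      exact ⟨fun h1 => hgh.trans h1, fun h1 => hgh.symm.trans h1⟩
    have hmul := Subgroup.card_mul_index (Subgroup.centralizer ({g} : Set G))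
    rw [← hNg] at hmul
    have hmul' : (Nat.card (Subgroup.centralizer ({g} : Set G)) : ℂ) * (N : ℂ) = (Nat.card G : ℂ) := by
      exact_mod_cast hmul
    rw [← hmul', mul_assoc, mul_inv_cancel₀ hNpos, mul_one]
  · rw [if_neg hgh]
    have hfg : f g = 0 := by
      simp only [f]
      rw [if_neg]
      exact fun h1 => hgh h1.symm
    rw [hfg, mul_zero]

end Counting

end Cfsg.Agent.Lib.Helper4
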