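import Mathlib

set_option autoImplicit false

namespace Cfsg.Agent.Lib.Helper4

open scoped IntermediateField

/-- An algebraic integer which is an average of roots of unity is `0` or has absolute value `1`. -/
theorem avg_roots_of_unity (n : ℕ) (hn : 0 < n) (S : Finset ℂ) (m : ℂ → ℕ)
    (hS : ∀ μ ∈ S, μ ^ n = 1) (d : ℕ) (hd : d = ∑ μ ∈ S, m μ) (hd0 : 0 < d)
    (hint : IsIntegral ℤ ((∑ μ ∈ S, μ * (m μ : ℂ)) / (d : ℂ))) :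
    (∑ μ ∈ S, μ * (m μ : ℂ)) / (d : ℂ) = 0 ∨ ‖(∑ μ ∈ S, μ * (m μ : ℂ)) / (d : ℂ)‖ = 1 := by
  classical
  have : NeZero n := ⟨hn.ne'⟩
  set α := (∑ μ ∈ S, μ * (m μ : ℂ)) / (d : ℂ) with hα
  set ζ : ℂ := Complex.exp (2 * Real.pi * Complex.I / n) with hζdef
  have hζ : IsPrimitiveRoot ζ n := Complex.isPrimitiveRoot_exp n hn.ne'
  have hζK : ζ ∈ ℚ⟮ζ⟯ := IntermediateField.mem_adjoin_simple_self ℚ ζ
  have hζint : IsIntegral ℚ ζ := (hζ.isIntegral hn).tower_top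
  have hfd : FiniteDimensional ℚ ℚ⟮ζ⟯ := IntermediateField.adjoin.finiteDimensional hζint
  have hμK : ∀ μ ∈ S, μ ∈ ℚ⟮ζ⟯ := by
    intro μ hμ
    obtain ⟨i, _, rfl⟩ := hζ.eq_pow_of_pow_eq_one (hS μ hμ)
    exact pow_mem hζK i
  let x : ℚ⟮ζ⟯ := (d : ℚ⟮ζ⟯)⁻¹ * ∑ μ ∈ S.attach, (⟨μ.1, hμK μ.1 μ.2⟩ : ℚ⟮ζ⟯) * (m μ.1 : ℚ⟮ζ⟯)
  have hdC : (d : ℂ) ≠ 0 := Nat.cast_ne_zero.mpr hd0.ne'
  have hx : (x : ℂ) = α := by
    simp only [x]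
    push_cast
    rw [hα, div_eq_inv_mul]
    congr 1
    exact Finset.sum_attach S (fun μ => μ * (m μ : ℂ))
  -- every embedding sends x to something of norm ≤ 1
  have hle : ∀ σ : ℚ⟮ζ⟯ →ₐ[ℚ] ℂ, ‖σ x‖ ≤ 1 := by
    intro σ
    simp only [x, map_mul, map_inv₀, map_sum, map_natCast]
    rw [norm_mul, norm_inv, Complex.norm_natCast]
    have h1 : ‖∑ μ ∈ S.attach, σ (⟨μ.1, hμK μ.1 μ.2⟩ : ℚ⟮ζ⟯) * (m μ.1 : ℂ)‖ ≤ (d : ℝ) := by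
      calc ‖∑ μ ∈ S.attach, σ (⟨μ.1, hμK μ.1 μ.2⟩ : ℚ⟮ζ⟯) * (m μ.1 : ℂ)‖
          ≤ ∑ μ ∈ S.attach, ‖σ (⟨μ.1, hμK μ.1 μ.2⟩ : ℚ⟮ζ⟯) * (m μ.1 : ℂ)‖ := norm_sum_le _ _
        _ = ∑ μ ∈ S.attach, (m μ.1 : ℝ) := by
            refine Finset.sum_congr rfl fun μ _ => ?_
            have h2 : (σ (⟨μ.1, hμK μ.1 μ.2⟩ : ℚ⟮ζ⟯)) ^ n = 1 := by
              rw [← map_pow]
              have : (⟨μ.1, hμK μ.1 μ.2⟩ : ℚ⟮ζ⟯) ^ n = 1 := by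
                apply Subtype.ext
                push_cast
                exact hS μ.1 μ.2
              rw [this, map_one]
            rw [norm_mul, Complex.norm_eq_one_of_pow_eq_one h2 hn.ne', one_mul, Complex.norm_natCast]
        _ = (d : ℝ) := by
            rw [Finset.sum_attach S (fun μ => (m μ : ℝ)), hd]
            push_cast
            rfl
    have hdR : (0 : ℝ) < d := Nat.cast_pos.mpr hd0
    rw [inv_mul_le_iff₀ hdR, mul_one]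
    exact h1
  by_cases hα0 : α = 0
  · exact Or.inl hα0
  · right
    have hx0 : x ≠ 0 := by
      intro h
      apply hα0
      rw [← hx, h]
      rfl
    have hxint : IsIntegral ℤ x := by
      have : IsIntegral ℤ (algebraMap ℚ⟮ζ⟯ ℂ x) := by
        show IsIntegral ℤ (x : ℂ)
        rw [hx]; exact hint
      exact (isIntegral_algebraMap_iff (algebraMap ℚ⟮ζ⟯ ℂ).injective).mp this
    have hnint : IsIntegral ℤ (Algebra.norm ℚ x) := Algebra.isIntegral_norm ℚ hxint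
    obtain ⟨z, hz⟩ := IsIntegrallyClosed.isIntegral_iff.mp hnint
    have hn0 : Algebra.norm ℚ x ≠ 0 := Algebra.norm_ne_zero_iff.mpr hx0
    have hz0 : z ≠ 0 := by
      intro h
      apply hn0
      rw [← hz, h, map_zero]
    have hprod := Algebra.norm_eq_prod_embeddings ℚ ℂ x
    have hnorm1 : (1 : ℝ) ≤ ‖∏ σ : ℚ⟮ζ⟯ →ₐ[ℚ] ℂ, σ x‖ := by
      rw [← hprod, ← hz]
      have : (algebraMap ℚ ℂ) ((algebraMap ℤ ℚ) z) = (z : ℂ) := by simp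
      rw [this, Complex.norm_intCast]
      exact_mod_cast Int.one_le_abs hz0
    rw [norm_prod] at hnorm1
    let σ0 : ℚ⟮ζ⟯ →ₐ[ℚ] ℂ := IntermediateField.val ℚ⟮ζ⟯
    have hσ0 : σ0 x = α := hx
    rw [← Finset.mul_prod_erase Finset.univ (fun σ : ℚ⟮ζ⟯ →ₐ[ℚ] ℂ => ‖σ x‖) (Finset.mem_univ σ0)]
      at hnorm1
    have hrest : ∏ σ ∈ Finset.univ.erase σ0, ‖σ x‖ ≤ 1 :=
      Finset.prod_le_one (fun σ _ => norm_nonneg _) (fun σ _ => hle σ)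
    have hα1 : ‖α‖ ≤ 1 := hσ0 ▸ hle σ0
    have hα2 : 1 ≤ ‖α‖ := by
      rw [hσ0] at hnorm1
      calc (1 : ℝ) ≤ ‖α‖ * ∏ σ ∈ Finset.univ.erase σ0, ‖σ x‖ := hnorm1
        _ ≤ ‖α‖ * 1 := mul_le_mul_of_nonneg_left hrest (norm_nonneg _)
        _ = ‖α‖ := mul_one _
    exact le_antisymm hα1 hα2

end Cfsg.Agent.Lib.Helper4
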