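import Mathlib
import Cfsg.Prelude.Def_Characters
import Cfsg.Agent.Lib.Helper4.CharOrtho
import Cfsg.Agent.Lib.Helper4.RootsAvg

set_option autoImplicit false

namespace Cfsg.Agent.Lib.Helper4

open scoped ComplexConjugate

section Conv

variable {G : Type*} [Group G] [Fintype G]

/-- convolution of functions on a finite group -/
def conv {R : Type*} [CommRing R] (f1 f2 : G → R) : G → R := fun x => ∑ g, f1 g * f2 (g⁻¹ * x)

/-- conjugation invariance for functions into any type -/
def IsConjInv {R : Type*} (f : G → R) : Prop := ∀ g k : G, f (k * g * k⁻¹) = f g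

theorem isConjInv_conv {R : Type*} [CommRing R] {f1 f2 : G → R} (h1 : IsConjInv f1)
    (h2 : IsConjInv f2) : IsConjInv (conv f1 f2) := by
  intro x k
  unfold conv
  rw [← Equiv.sum_comp (MulAut.conj k).toEquiv]
  refine Finset.sum_congr rfl fun g _ => ?_
  have he : (MulAut.conj k).toEquiv g = k * g * k⁻¹ := rfl
  rw [he, h1 g k]
  congr 1
  have : (k * g * k⁻¹)⁻¹ * (k * x * k⁻¹) = k * (g⁻¹ * x) * k⁻¹ := by group
  rw [this, h2]

theorem opSum_mul_opSum {V : Type*} [AddCommGroup V] [Module ℂ V]
    (ρ : Representation ℂ G V) (f1 f2 : G → ℂ) :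
    opSum ρ f1 * opSum ρ f2 = opSum ρ (conv f1 f2) := by
  have hL : opSum ρ f1 * opSum ρ f2 = ∑ g, ∑ h, (f1 g * f2 h) • ρ (g * h) := by
    unfold opSum
    rw [Finset.sum_mul_sum]
    refine Finset.sum_congr rfl fun g _ => Finset.sum_congr rfl fun h _ => ?_
    rw [smul_mul_smul_comm, map_mul]
  have hR : opSum ρ (conv f1 f2) = ∑ g, ∑ h, (f1 g * f2 h) • ρ (g * h) := by
    unfold opSum conv
    simp only [Finset.sum_smul]
    rw [Finset.sum_comm]
    refine Finset.sum_congr rfl fun g _ => ?_
    rw [← Equiv.sum_comp (Equiv.mulLeft g)]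
    refine Finset.sum_congr rfl fun h _ => ?_
    simp only [Equiv.coe_mulLeft, inv_mul_cancel_left]
  rw [hL, hR]

end Conv

section Omega

variable {G : Type*} [Group G] [Fintype G]
variable {V : Type*} [AddCommGroup V] [Module ℂ V] [FiniteDimensional ℂ V]

/-- the central character value `(∑ f(g) χ(g)) / χ(1)` -/
noncomputable def omegaC (ρ : Representation ℂ G V) (F : G → ℂ) : ℂ :=
  (∑ g, F g * ρ.character g) / (Module.finrank ℂ V : ℂ)

theorem finrank_ne_zero_of_irreducible (ρ : Representation ℂ G V) (hirr : ρ.IsIrreducible) :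
    (Module.finrank ℂ V : ℂ) ≠ 0 := by
  have := hirr
  have hnt : Nontrivial V := by
    by_contra hnt
    rw [not_nontrivial_iff_subsingleton] at hnt
    have h1 : (⊥ : Subrepresentation ρ) = ⊤ := by
      apply Subrepresentation.toSubmodule_injective
      exact Subsingleton.elim _ _
    exact bot_ne_top h1
  exact Nat.cast_ne_zero.mpr (Module.finrank_pos (R := ℂ) (M := V)).ne'

theorem opSum_eq_omegaC_smul (ρ : Representation ℂ G V) (hirr : ρ.IsIrreducible)
    (F : G → ℂ) (hF : Cfsg.IsClassFunction G F) :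
    opSum ρ F = omegaC ρ F • LinearMap.id := by
  obtain ⟨c, hc1, hc2⟩ := opSum_eq_smul_of_irreducible ρ hirr F hF
  have hd := finrank_ne_zero_of_irreducible ρ hirr
  have : c = omegaC ρ F := by
    unfold omegaC
    rw [← hc2, mul_div_assoc, div_self hd, mul_one]
  rw [← this]; exact hc1

theorem omegaC_conv (ρ : Representation ℂ G V) (hirr : ρ.IsIrreducible)
    (F1 F2 : G → ℂ) (h1 : Cfsg.IsClassFunction G F1) (h2 : Cfsg.IsClassFunction G F2) :
    omegaC ρ (conv F1 F2) = omegaC ρ F1 * omegaC ρ F2 := by
  have hd := finrank_ne_zero_of_irreducible ρ hirr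
  have h12 : Cfsg.IsClassFunction G (conv F1 F2) := isConjInv_conv (f1 := F1) (f2 := F2) h1 h2
  have e1 := opSum_eq_omegaC_smul ρ hirr F1 h1
  have e2 := opSum_eq_omegaC_smul ρ hirr F2 h2
  have e3 := opSum_eq_omegaC_smul ρ hirr (conv F1 F2) h12
  have e4 := opSum_mul_opSum ρ F1 F2
  rw [e1, e2, e3] at e4
  have e5 := congrArg (LinearMap.trace ℂ V) e4
  rw [smul_mul_smul_comm, map_smul, map_smul, Module.End.mul_eq_comp, LinearMap.comp_id,
    LinearMap.trace_id, smul_eq_mul, smul_eq_mul] at e5
  exact (mul_right_cancel₀ hd e5).symm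

/-- integer valued conjugation-invariant functions, as a `ℤ`-submodule -/
def clsZ (G : Type*) [Group G] : Submodule ℤ (G → ℤ) where
  carrier := {f | IsConjInv f}
  add_mem' := by
    intro a b ha hb g k
    simp only [Pi.add_apply, ha g k, hb g k]
  zero_mem' := by intro g k; rfl
  smul_mem' := by
    intro c a ha g k
    simp only [Pi.smul_apply, ha g k]

/-- `f ↦ ω(f)` as a `ℤ`-linear map on integer valued functions -/
noncomputable def omegaL (ρ : Representation ℂ G V) : (G → ℤ) →ₗ[ℤ] ℂ where
  toFun f := omegaC ρ (fun g => (f g : ℂ))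
  map_add' f1 f2 := by
    unfold omegaC
    simp only [Pi.add_apply, Int.cast_add, add_mul, Finset.sum_add_distrib, add_div]
  map_smul' c f := by
    unfold omegaC
    simp only [Pi.smul_apply, smul_eq_mul, Int.cast_mul, RingHom.id_apply, zsmul_eq_mul]
    rw [mul_div_assoc', Finset.mul_sum]
    congr 1
    refine Finset.sum_congr rfl fun g _ => ?_
    ring

theorem cast_conv (f1 f2 : G → ℤ) :
    (fun g => ((conv f1 f2 g : ℤ) : ℂ)) = conv (fun g => (f1 g : ℂ)) (fun g => (f2 g : ℂ)) := by
  funext x
  unfold conv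
  push_cast
  rfl

theorem isClassFunction_cast {f : G → ℤ} (hf : f ∈ clsZ G) :
    Cfsg.IsClassFunction G (fun g => (f g : ℂ)) := by
  intro g k
  show ((f (k * g * k⁻¹) : ℤ) : ℂ) = f g
  rw [hf g k]

/-- central character values of integer valued class functions are algebraic integers -/
theorem omegaL_isIntegral (ρ : Representation ℂ G V) (hirr : ρ.IsIrreducible)
    (f0 : G → ℤ) (hf0 : f0 ∈ clsZ G) : IsIntegral ℤ (omegaL ρ f0) := by
  classical
  have hd := finrank_ne_zero_of_irreducible ρ hirr
  let N : Submodule ℤ ℂ := Submodule.map (omegaL ρ) (clsZ G)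
  have hNfg : N.FG := (IsNoetherian.noetherian (clsZ G)).map _
  have hNbot : N ≠ ⊥ := by
    intro h
    let δ : G → ℤ := fun g => if g = 1 then 1 else 0
    have hδ : δ ∈ clsZ G := by
      intro g k
      show (if k * g * k⁻¹ = 1 then (1:ℤ) else 0) = if g = 1 then 1 else 0
      have : k * g * k⁻¹ = 1 ↔ g = 1 := by
        constructor
        · intro h
          have : g = k⁻¹ * (k * g * k⁻¹) * k := by group
          rw [this, h]; group
        · rintro rfl; group
      simp only [this]
    have h1 : omegaL ρ δ ∈ N := Submodule.mem_map_of_mem hδ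
    rw [h, Submodule.mem_bot] at h1
    have h2 : omegaL ρ δ = 1 := by
      show omegaC ρ (fun g => ((δ g : ℤ) : ℂ)) = 1
      unfold omegaC
      simp only [δ, Int.cast_ite, Int.cast_one, Int.cast_zero, ite_mul, one_mul, zero_mul,
        Finset.sum_ite_eq', Finset.mem_univ, if_true, Representation.char_one]
      exact div_self hd
    rw [h2] at h1
    exact one_ne_zero h1
  refine isIntegral_of_smul_mem_submodule N hNbot hNfg (omegaL ρ f0) ?_
  rintro n ⟨f, hf, rfl⟩
  refine ⟨conv f0 f, isConjInv_conv hf0 hf, ?_⟩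
  show omegaC ρ (fun g => ((conv f0 f g : ℤ) : ℂ)) = omegaL ρ f0 • omegaL ρ f
  rw [cast_conv, omegaC_conv ρ hirr _ _ (isClassFunction_cast hf0) (isClassFunction_cast hf)]
  rfl

open scoped Classical in
/-- `|cl(g)| χ(g) / χ(1)` is an algebraic integer -/
theorem class_mul_char_div_degree_isIntegral (ρ : Representation ℂ G V) (hirr : ρ.IsIrreducible)
    (g : G) :
    IsIntegral ℤ (((Subgroup.centralizer ({g} : Set G)).index : ℂ) * ρ.character g /
      (Module.finrank ℂ V : ℂ)) := by
  let f0 : G → ℤ := fun x => if IsConj g x then 1 else 0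
  have hf0 : f0 ∈ clsZ G := by
    intro x k
    show (if IsConj g (k * x * k⁻¹) then (1:ℤ) else 0) = if IsConj g x then 1 else 0
    have : IsConj g (k * x * k⁻¹) ↔ IsConj g x := by
      have hx : IsConj x (k * x * k⁻¹) := isConj_iff.mpr ⟨k, rfl⟩
      exact ⟨fun h1 => h1.trans hx.symm, fun h1 => h1.trans hx⟩
    simp only [this]
  have h1 := omegaL_isIntegral ρ hirr f0 hf0
  have h2 : omegaL ρ f0 = ((Subgroup.centralizer ({g} : Set G)).index : ℂ) * ρ.character g /
      (Module.finrank ℂ V : ℂ) := by
    show omegaC ρ (fun x => ((f0 x : ℤ) : ℂ)) = _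
    unfold omegaC
    congr 1
    have h3 : ∀ x : G, ((f0 x : ℤ) : ℂ) * ρ.character x =
        if IsConj g x then ρ.character g else 0 := by
      intro x
      by_cases hx : IsConj g x
      · simp only [f0, if_pos hx, Int.cast_one, one_mul]
        obtain ⟨c, rfl⟩ := isConj_iff.mp hx
        exact Representation.char_conj ρ g c
      · simp only [f0, if_neg hx, Int.cast_zero, zero_mul]
    simp only [h3]
    have hc : (Finset.univ.filter (fun x => IsConj g x)).card =
        (Subgroup.centralizer ({g} : Set G)).index := by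
      rw [← ncard_conj_eq_index, Set.ncard_eq_toFinset_card']
      congr 1
      ext x
      simp
    rw [Finset.sum_ite, Finset.sum_const_zero, add_zero, Finset.sum_const, nsmul_eq_mul, hc]
  rw [← h2]; exact h1

end Omega


section Degree

variable {G : Type*} [Group G] [Fintype G]
variable {V : Type*} [AddCommGroup V] [Module ℂ V] [FiniteDimensional ℂ V]

theorem sum_char_mul_char_inv (ρ : Representation ℂ G V) (hirr : ρ.IsIrreducible) :
    ∑ g, ρ.character g * ρ.character g⁻¹ = (Nat.card G : ℂ) := by
  classical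
  have := hirr
  have hinv : Invertible (Nat.card G : ℂ) := invertibleOfNonzero card_ne_zero_complex
  have h1 := Representation.char_orthonormal ρ ρ
  rw [if_pos ⟨Representation.Equiv.refl ρ⟩] at h1
  have h2 : (Nat.card G : ℂ) * ((Nat.card G : ℂ)⁻¹ * ∑ g, ρ.character g * ρ.character g⁻¹) =
      (Nat.card G : ℂ) * 1 := by rw [h1]
  rw [← mul_assoc, mul_inv_cancel₀ card_ne_zero_complex, one_mul, mul_one] at h2
  exact h2

/-- sum over the group of a class function, grouped by conjugacy classes -/
theorem sum_eq_sum_classes (F : G → ℂ) (hF : Cfsg.IsClassFunction G F)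
    [Fintype (ConjClasses G)] :
    ∑ g, F g = ∑ C : ConjClasses G,
      ((Subgroup.centralizer ({Quotient.out C} : Set G)).index : ℂ) * F (Quotient.out C) := by
  classical
  rw [← Finset.sum_fiberwise Finset.univ (ConjClasses.mk : G → ConjClasses G) F]
  refine Finset.sum_congr rfl fun C _ => ?_
  have h1 : ∀ g ∈ Finset.univ.filter (fun g : G => ConjClasses.mk g = C), F g = F (Quotient.out C) := by
    intro g hg
    rw [Finset.mem_filter] at hg
    apply char_eq_of_isConj hF
    rw [← ConjClasses.mk_eq_mk_iff_isConj, hg.2]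
    exact (Quotient.out_eq C).symm
  rw [Finset.sum_congr rfl h1, Finset.sum_const, nsmul_eq_mul]
  congr 2
  rw [← ncard_conj_eq_index, Set.ncard_eq_toFinset_card']
  congr 1
  ext x
  simp only [Finset.mem_filter, Finset.mem_univ, true_and, Set.mem_toFinset, Set.mem_ofPred_eq]
  rw [← ConjClasses.mk_eq_mk_iff_isConj]
  have hC : ConjClasses.mk (Quotient.out C) = C := Quotient.out_eq C
  rw [hC]
  exact eq_comm

/-- the degree of an irreducible representation divides the group order -/
theorem degree_dvd_card (ρ : Representation ℂ G V) (hirr : ρ.IsIrreducible) :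
    Module.finrank ℂ V ∣ Nat.card G := by
  classical
  have : Fintype (ConjClasses G) := Fintype.ofFinite _
  have hd := finrank_ne_zero_of_irreducible ρ hirr
  have hint : IsIntegral ℤ ((Nat.card G : ℂ) / (Module.finrank ℂ V : ℂ)) := by
    rw [← sum_char_mul_char_inv ρ hirr, Finset.sum_div]
    have hF : Cfsg.IsClassFunction G
        (fun g => ρ.character g * ρ.character g⁻¹ / (Module.finrank ℂ V : ℂ)) := by
      intro g k
      show ρ.character (k * g * k⁻¹) * ρ.character (k * g * k⁻¹)⁻¹ / _ = _
      have : (k * g * k⁻¹)⁻¹ = k * g⁻¹ * k⁻¹ := by group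
      rw [this, Representation.char_conj, Representation.char_conj]
    rw [sum_eq_sum_classes _ hF]
    refine IsIntegral.sum _ fun C _ => ?_
    have h1 := class_mul_char_div_degree_isIntegral ρ hirr (Quotient.out C)
    have h2 := character_isIntegral ρ (Quotient.out C)⁻¹
    have h3 := h1.mul h2
    convert h3 using 1
    ring
  -- rational algebraic integer is an integer
  have hq : ((Nat.card G : ℂ) / (Module.finrank ℂ V : ℂ)) =
      algebraMap ℚ ℂ ((Nat.card G : ℚ) / (Module.finrank ℂ V : ℚ)) := by
    simp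
  rw [hq, isIntegral_algebraMap_iff (algebraMap ℚ ℂ).injective] at hint
  obtain ⟨z, hz⟩ := IsIntegrallyClosed.isIntegral_iff.mp hint
  have hdq : (Module.finrank ℂ V : ℚ) ≠ 0 := by
    intro h
    apply hd
    have : Module.finrank ℂ V = 0 := by exact_mod_cast h
    rw [this]; simp
  have h4 : (Nat.card G : ℚ) = (Module.finrank ℂ V : ℚ) * (z : ℚ) := by
    have : (algebraMap ℤ ℚ z) = (z : ℚ) := rfl
    rw [this] at hz
    rw [hz, mul_div_cancel₀ _ hdq]
  have h5 : (Nat.card G : ℤ) = (Module.finrank ℂ V : ℤ) * z := by exact_mod_cast h4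
  exact Int.natCast_dvd_natCast.mp ⟨z, h5⟩

end Degree


section Coprime

variable {G : Type*} [Group G] [Fintype G]
variable {V : Type*} [AddCommGroup V] [Module ℂ V] [FiniteDimensional ℂ V]

/-- if `χ(1)` is coprime to `|cl(g)|` then `χ(g) = 0` or `|χ(g)| = χ(1)` -/
theorem character_eq_zero_or_norm_eq (ρ : Representation ℂ G V) (hirr : ρ.IsIrreducible) (g : G)
    (hcop : Nat.Coprime (Module.finrank ℂ V) (Subgroup.centralizer ({g} : Set G)).index) :
    ρ.character g = 0 ∨ ‖ρ.character g‖ = (Module.finrank ℂ V : ℝ) := by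
  have hd := finrank_ne_zero_of_irreducible ρ hirr
  have hd0 : 0 < Module.finrank ℂ V := by
    rcases Nat.eq_zero_or_pos (Module.finrank ℂ V) with h | h
    · rw [h] at hd; simp at hd
    · exact h
  set d := Module.finrank ℂ V with hddef
  set idx := (Subgroup.centralizer ({g} : Set G)).index with hidx
  have hint : IsIntegral ℤ (ρ.character g / (d : ℂ)) := by
    have hbez := Int.gcd_eq_gcd_ab (d : ℤ) (idx : ℤ)
    have hg1 : Int.gcd (d : ℤ) (idx : ℤ) = 1 := by
      rw [Int.gcd_natCast_natCast]; exact hcop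
    rw [hg1] at hbez
    set A := Int.gcdA (d : ℤ) (idx : ℤ)
    set B := Int.gcdB (d : ℤ) (idx : ℤ)
    have h1 : (1 : ℂ) = (d : ℂ) * (A : ℂ) + (idx : ℂ) * (B : ℂ) := by
      have := congrArg (fun z : ℤ => (z : ℂ)) hbez
      simpa using this
    have h2 : ρ.character g / (d : ℂ) =
        (A : ℂ) * ρ.character g + (B : ℂ) * ((idx : ℂ) * ρ.character g / (d : ℂ)) := by
      have : ρ.character g / (d : ℂ) = 1 * (ρ.character g / (d : ℂ)) := by rw [one_mul]
      rw [this, h1]
      field_simp
    rw [h2]
    have hA : IsIntegral ℤ (A : ℂ) := by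
      have := isIntegral_algebraMap (R := ℤ) (A := ℂ) (x := A)
      simpa using this
    have hB : IsIntegral ℤ (B : ℂ) := by
      have := isIntegral_algebraMap (R := ℤ) (A := ℂ) (x := B)
      simpa using this
    refine IsIntegral.add (IsIntegral.mul hA (character_isIntegral ρ g)) (IsIntegral.mul hB ?_)
    exact class_mul_char_div_degree_isIntegral ρ hirr g
  have hsum := character_eq_sum ρ g
  have hkey := avg_roots_of_unity (orderOf g) (orderOf_pos g) (eigvals ρ g) (eigmult ρ g)
    (fun μ hμ => eigenvalue_pow_orderOf ρ g μ ((mem_eigvals ρ g).mp hμ)) d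
    (finrank_eq_sum_nat ρ g) hd0 (by rw [← hsum]; exact hint)
  rw [← hsum] at hkey
  rcases hkey with h | h
  · left
    rcases div_eq_zero_iff.mp h with h1 | h1
    · exact h1
    · exact absurd h1 hd
  · right
    rw [norm_div, Complex.norm_natCast] at h
    have hdR : (d : ℝ) ≠ 0 := Nat.cast_ne_zero.mpr hd0.ne'
    field_simp at h
    exact h

end Coprime

end Cfsg.Agent.Lib.Helper4
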