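import Mathlib
import Cfsg.Prelude.Def_Characters
import Cfsg.Agent.Lib.Helper4.CharIntegral

set_option autoImplicit false

namespace Cfsg.Agent.Lib.Helper4

open scoped ComplexConjugate

section Split

variable {G : Type*} [Group G]
variable {T V W : Type*} [AddCommGroup T] [Module ℂ T] [AddCommGroup V] [Module ℂ V]
  [AddCommGroup W] [Module ℂ W]

/-- split off the image of an injective intertwining map (Maschke) -/
theorem exists_equiv_prod_of_injective [Finite G] (τ : Representation ℂ G T)
    (ρ : Representation ℂ G V)
    (f : Representation.IntertwiningMap τ ρ) (hf : Function.Injective f) :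
    ∃ C : Subrepresentation ρ, Nonempty ((τ.prod C.toRepresentation).Equiv ρ) := by
  have : NeZero (Nat.card G : ℂ) := ⟨Nat.cast_ne_zero.mpr Nat.card_pos.ne'⟩
  obtain ⟨C, hC⟩ := exists_isCompl f.range
  have hdisj : f.range.toSubmodule ⊓ C.toSubmodule = ⊥ := by
    have := hC.inf_eq_bot
    exact congrArg Subrepresentation.toSubmodule this
  have hsup : f.range.toSubmodule ⊔ C.toSubmodule = ⊤ := by
    have := hC.sup_eq_top
    exact congrArg Subrepresentation.toSubmodule this
  let e0 : (T × C.toSubmodule) →ₗ[ℂ] V := f.toLinearMap.coprod C.toSubmodule.subtype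
  have hinj : Function.Injective e0 := by
    rw [← LinearMap.ker_eq_bot, LinearMap.ker_eq_bot']
    rintro ⟨t, c⟩ h
    simp only [e0, LinearMap.coprod_apply, Submodule.subtype_apply] at h
    have hc : (c : V) ∈ f.range.toSubmodule ⊓ C.toSubmodule := by
      refine ⟨?_, c.2⟩
      have : (c : V) = f (-t) := by
        rw [map_neg]
        have h3 : f t = f.toLinearMap t := rfl
        rw [h3]
        exact (neg_eq_of_add_eq_zero_right h).symm ▸ rfl
      rw [this]
      exact (Representation.IntertwiningMap.mem_range _ _ f _).mpr ⟨-t, rfl⟩
    rw [hdisj, Submodule.mem_bot] at hc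
    have hc0 : c = 0 := Subtype.ext hc
    subst hc0
    simp only [ZeroMemClass.coe_zero, add_zero] at h
    have ht : t = 0 := by
      apply hf
      rw [map_zero]
      exact h
    rw [ht]
    rfl
  have hsurj : Function.Surjective e0 := by
    intro v
    have hv : v ∈ f.range.toSubmodule ⊔ C.toSubmodule := by rw [hsup]; trivial
    obtain ⟨r, hr, c, hc, hrc⟩ := Submodule.mem_sup.mp hv
    obtain ⟨t, ht⟩ := (Representation.IntertwiningMap.mem_range _ _ f r).mp hr
    refine ⟨(t, ⟨c, hc⟩), ?_⟩
    simp only [e0, LinearMap.coprod_apply, Submodule.subtype_apply]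
    rw [← hrc, ← ht]
    rfl
  refine ⟨C, ⟨Representation.Equiv.mk (LinearEquiv.ofBijective e0 ⟨hinj, hsurj⟩) ?_⟩⟩
  intro g
  ext x
  · simp only [LinearMap.coe_comp, LinearMap.coe_inl, Function.comp_apply]
    change e0 ((τ.prod C.toRepresentation) g (x, 0)) = ρ g (e0 (x, 0))
    simp only [e0, Representation.prod_apply_apply, LinearMap.prodMap_apply, map_zero,
      LinearMap.coprod_apply, Submodule.subtype_apply, ZeroMemClass.coe_zero, add_zero]
    exact Representation.IntertwiningMap.isIntertwining _ _ f g x
  · simp only [LinearMap.coe_comp, LinearMap.coe_inr, Function.comp_apply]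
    change e0 ((τ.prod C.toRepresentation) g (0, x)) = ρ g (e0 (0, x))
    simp only [e0, Representation.prod_apply_apply, LinearMap.prodMap_apply, map_zero,
      LinearMap.coprod_apply, Submodule.subtype_apply, zero_add]
    rfl

/-- the character of a product representation -/
theorem character_prod [FiniteDimensional ℂ T] [FiniteDimensional ℂ V]
    (τ : Representation ℂ G T) (ρ : Representation ℂ G V) :
    (τ.prod ρ).character = τ.character + ρ.character := by
  ext g
  simp only [Representation.character, Pi.add_apply]
  change LinearMap.trace ℂ (T × V) ((τ g).prodMap (ρ g)) = _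
  exact LinearMap.trace_prodMap' (τ g) (ρ g)

/-- products of equivalent representations are equivalent -/
noncomputable def prodCongrRight (τ : Representation ℂ G T) {ρ : Representation ℂ G V}
    {σ : Representation ℂ G W} (e : ρ.Equiv σ) : (τ.prod ρ).Equiv (τ.prod σ) :=
  Representation.Equiv.mk (LinearEquiv.prodCongr (LinearEquiv.refl ℂ T) e.toLinearEquiv) (by
    intro g
    apply LinearMap.ext
    rintro ⟨t, v⟩
    simp only [LinearMap.coe_comp, Function.comp_apply,
        LinearEquiv.coe_coe, Representation.prod_apply_apply,
        LinearEquiv.prodCongr_apply, LinearEquiv.refl_apply]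
    refine Prod.ext rfl ?_
    exact Representation.IntertwiningMap.isIntertwining _ _ e.toIntertwiningMap g v)

end Split

section Main

variable {G : Type*} [Group G] [Fintype G]

/-- inner product of characters as dimension of the space of intertwining maps -/
theorem classInner_eq_finrank_intertwining {T V : Type*} [AddCommGroup T] [Module ℂ T]
    [FiniteDimensional ℂ T] [AddCommGroup V] [Module ℂ V] [FiniteDimensional ℂ V]
    (τ : Representation ℂ G T) (ρ : Representation ℂ G V) :
    Cfsg.classInner ρ.character τ.character =
      (Module.finrank ℂ (Representation.IntertwiningMap τ ρ) : ℂ) := by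
  have : Invertible (Nat.card G : ℂ) := invertibleOfNonzero card_ne_zero_complex
  rw [← Representation.card_inv_mul_sum_char_mul_char_eq_finrank τ ρ]
  unfold Cfsg.classInner
  congr 1
  refine Finset.sum_congr rfl fun g _ => ?_
  rw [character_inv τ g]

/-- a nonzero finite-dimensional representation receives an injective intertwining map
from an irreducible representation on a coordinate space -/
theorem exists_irreducible_injective {V : Type*} [AddCommGroup V] [Module ℂ V]
    [FiniteDimensional ℂ V] (ρ : Representation ℂ G V) (hV : Module.finrank ℂ V ≠ 0) :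
    ∃ (n : ℕ) (τ : Representation ℂ G (Fin n → ℂ)), τ.IsIrreducible ∧
      Cfsg.classInner ρ.character τ.character ≠ 0 := by
  by_contra hcon
  push Not at hcon
  have hcf : Cfsg.IsClassFunction G ρ.character := by
    intro g h
    exact Representation.char_conj ρ g h
  have h0 : ρ.character = 0 := by
    apply eq_zero_of_classInner_irr_eq_zero _ hcf
    intro χ
    obtain ⟨n, τ, hτ, hτχ⟩ := χ.2
    rw [← hτχ]
    exact hcon n τ hτ
  have h1 := congrFun h0 1
  rw [Representation.char_one] at h1
  simp only [Pi.zero_apply, Nat.cast_eq_zero] at h1
  exact hV h1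

theorem exists_injective_of_classInner_ne_zero {T V : Type*} [AddCommGroup T] [Module ℂ T]
    [FiniteDimensional ℂ T] [AddCommGroup V] [Module ℂ V] [FiniteDimensional ℂ V]
    (τ : Representation ℂ G T) (ρ : Representation ℂ G V) (hτ : τ.IsIrreducible)
    (h : Cfsg.classInner ρ.character τ.character ≠ 0) :
    ∃ f : Representation.IntertwiningMap τ ρ, Function.Injective f := by
  have := hτ
  rw [classInner_eq_finrank_intertwining] at h
  have h2 : Module.finrank ℂ (Representation.IntertwiningMap τ ρ) ≠ 0 := by
    intro h3; rw [h3] at h; simp at h
  have : Nontrivial (Representation.IntertwiningMap τ ρ) :=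
    Module.nontrivial_of_finrank_pos (R := ℂ) (Nat.pos_of_ne_zero h2)
  obtain ⟨f, hf⟩ := exists_ne (0 : Representation.IntertwiningMap τ ρ)
  refine ⟨f, ?_⟩
  rcases Representation.IsIrreducible.injective_or_eq_zero f with h4 | h4
  · exact h4
  · exact absurd h4 hf

universe u v

theorem equiv_of_character_eq_aux : ∀ (n : ℕ) (V : Type u) (W : Type v)
    [AddCommGroup V] [Module ℂ V] [FiniteDimensional ℂ V]
    [AddCommGroup W] [Module ℂ W] [FiniteDimensional ℂ W]
    (ρ : Representation ℂ G V) (σ : Representation ℂ G W),
    Module.finrank ℂ V = n → ρ.character = σ.character → Nonempty (ρ.Equiv σ) := by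
  intro n
  induction n using Nat.strong_induction_on with
  | _ n ih =>
    intro V W _ _ _ _ _ _ ρ σ hn hchar
    by_cases hn0 : n = 0
    · -- both spaces are zero
      subst hn0
      have hW : Module.finrank ℂ W = 0 := by
        have h1 := congrFun hchar 1
        rw [Representation.char_one, Representation.char_one, hn] at h1
        exact_mod_cast h1.symm
      have hVs : Subsingleton V := Module.finrank_zero_iff.mp hn
      have hWs : Subsingleton W := Module.finrank_zero_iff.mp hW
      refine ⟨Representation.Equiv.mk (LinearEquiv.ofSubsingleton V W) ?_⟩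
      intro g
      ext x
      exact Subsingleton.elim _ _
    · have hV : Module.finrank ℂ V ≠ 0 := by rw [hn]; exact hn0
      obtain ⟨m, τ, hτ, hne⟩ := exists_irreducible_injective ρ hV
      obtain ⟨f, hf⟩ := exists_injective_of_classInner_ne_zero τ ρ hτ hne
      have hne' : Cfsg.classInner σ.character τ.character ≠ 0 := by rw [← hchar]; exact hne
      obtain ⟨f', hf'⟩ := exists_injective_of_classInner_ne_zero τ σ hτ hne'
      obtain ⟨C, ⟨e1⟩⟩ := exists_equiv_prod_of_injective τ ρ f hf
      obtain ⟨C', ⟨e2⟩⟩ := exists_equiv_prod_of_injective τ σ f' hf'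
      have hc1 : τ.character + C.toRepresentation.character = ρ.character := by
        rw [← character_prod]; exact Representation.char_iso e1
      have hc2 : τ.character + C'.toRepresentation.character = σ.character := by
        rw [← character_prod]; exact Representation.char_iso e2
      have hcc : C.toRepresentation.character = C'.toRepresentation.character := by
        have : τ.character + C.toRepresentation.character =
            τ.character + C'.toRepresentation.character := by rw [hc1, hc2, hchar]
        exact add_left_cancel this
      have hdim : Module.finrank ℂ C.toSubmodule < n := by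
        have h1 : Module.finrank ℂ ((Fin m → ℂ) × C.toSubmodule) = Module.finrank ℂ V :=
          LinearEquiv.finrank_eq e1.toLinearEquiv
        rw [Module.finrank_prod, hn] at h1
        have h2 : Module.finrank ℂ (Fin m → ℂ) ≠ 0 := by
          have := finrank_ne_zero_of_irreducible τ hτ
          exact_mod_cast this
        omega
      obtain ⟨e3⟩ := ih _ hdim C.toSubmodule C'.toSubmodule C.toRepresentation
        C'.toRepresentation rfl hcc
      exact ⟨(e1.symm.trans (prodCongrRight τ e3)).trans e2⟩

/-- finite-dimensional complex representations of a finite group with the same character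
are equivalent -/
theorem equiv_of_character_eq' {V : Type u} {W : Type v}
    [AddCommGroup V] [Module ℂ V] [FiniteDimensional ℂ V]
    [AddCommGroup W] [Module ℂ W] [FiniteDimensional ℂ W]
    (ρ : Representation ℂ G V) (σ : Representation ℂ G W)
    (h : ρ.character = σ.character) : Nonempty (ρ.Equiv σ) :=
  equiv_of_character_eq_aux _ V W ρ σ rfl h

end Main

end Cfsg.Agent.Lib.Helper4
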