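import Mathlib
import Cfsg.Prelude.Def_Characters
import Cfsg.Agent.Lib.Helper4.CharIntegral

set_option autoImplicit false

namespace Cfsg.Agent.Lib.Helper4

open scoped ComplexConjugate

section

variable {G : Type*} [Group G]

/-- one-dimensional representations are irreducible -/
theorem isIrreducible_of_finrank_eq_one {V : Type*} [AddCommGroup V] [Module ℂ V]
    (ρ : Representation ℂ G V) (h : Module.finrank ℂ V = 1) : ρ.IsIrreducible := by
  have hs : IsSimpleOrder (Submodule ℂ V) := is_simple_module_of_finrank_eq_one h
  have hbt : (⊥ : Subrepresentation ρ) ≠ ⊤ := by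
    intro h1
    have h2 : (⊥ : Submodule ℂ V) = ⊤ := congrArg Subrepresentation.toSubmodule h1
    exact bot_ne_top h2
  exact { exists_pair_ne := ⟨⊥, ⊤, hbt⟩
          eq_bot_or_eq_top := fun σ => by
            rcases eq_bot_or_eq_top σ.toSubmodule with h1 | h1
            · left; exact Subrepresentation.toSubmodule_injective h1
            · right; exact Subrepresentation.toSubmodule_injective h1 }

/-- the trivial character is an irreducible character -/
theorem isIrrCharacter_one : Cfsg.IsIrrCharacter G (fun _ => (1 : ℂ)) := by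
  refine ⟨1, Representation.trivial ℂ G (Fin 1 → ℂ),
    isIrreducible_of_finrank_eq_one _ (by simp), ?_⟩
  funext g
  simp [Representation.character, Representation.trivial]

/-- if `ρ` is irreducible and trivial then its character is the trivial character -/
theorem character_eq_one_of_trivial {V : Type*} [AddCommGroup V] [Module ℂ V]
    [FiniteDimensional ℂ V]
    (ρ : Representation ℂ G V) (hirr : ρ.IsIrreducible) (h : ∀ x, ρ x = LinearMap.id) :
    ρ.character = fun _ => (1 : ℂ) := by
  have := hirr
  have hnt : Nontrivial V := by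
    by_contra hnt
    rw [not_nontrivial_iff_subsingleton] at hnt
    have h1 : (⊥ : Subrepresentation ρ) = ⊤ := by
      apply Subrepresentation.toSubmodule_injective
      exact Subsingleton.elim _ _
    exact bot_ne_top h1
  obtain ⟨v, hv⟩ := exists_ne (0 : V)
  let σ : Subrepresentation ρ :=
    ⟨Submodule.span ℂ {v}, fun x w hw => by rw [h x]; exact hw⟩
  have hσ : σ = ⊤ := by
    rcases eq_bot_or_eq_top σ with h1 | h1
    · exfalso
      have h2 : Submodule.span ℂ {v} = ⊥ := congrArg Subrepresentation.toSubmodule h1
      rw [Submodule.span_singleton_eq_bot] at h2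
      exact hv h2
    · exact h1
  have hspan : Submodule.span ℂ {v} = ⊤ := congrArg Subrepresentation.toSubmodule hσ
  have hfr : Module.finrank ℂ V = 1 := by
    rw [← finrank_top ℂ V, ← hspan]
    exact finrank_span_singleton hv
  funext x
  unfold Representation.character
  rw [h x, LinearMap.trace_id, hfr, Nat.cast_one]

end

section Main

variable {G : Type*} [Group G] [Fintype G]

/-- nontrivial irreducible characters of degree prime to `p` vanish on an element whose class has
`p`-power size, in a non-abelian simple group -/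
theorem char_eq_zero_of_not_dvd [IsSimpleGroup G] (hnc : ¬ ∀ a b : G, a * b = b * a)
    (p k : ℕ) (hp : p.Prime) (g : G) (hg : g ≠ 1)
    (hclass : (Subgroup.centralizer ({g} : Set G)).index = p ^ k)
    {V : Type*} [AddCommGroup V] [Module ℂ V] [FiniteDimensional ℂ V]
    (ρ : Representation ℂ G V) (hirr : ρ.IsIrreducible)
    (hnt : ρ.character ≠ fun _ => (1 : ℂ)) (hpd : ¬ p ∣ Module.finrank ℂ V) :
    ρ.character g = 0 := by
  have hcop : Nat.Coprime (Module.finrank ℂ V) (Subgroup.centralizer ({g} : Set G)).index := by
    rw [hclass]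
    exact Nat.Coprime.pow_right k ((Nat.Prime.coprime_iff_not_dvd hp).mpr hpd).symm
  rcases character_eq_zero_or_norm_eq ρ hirr g hcop with h | h
  · exact h
  · exfalso
    obtain ⟨ω, hω⟩ := (norm_character_eq_finrank_iff ρ g).mp h
    rcases IsSimpleGroup.eq_bot_or_eq_top_of_normal (MonoidHom.ker ρ) (MonoidHom.normal_ker ρ)
      with hK | hK
    · -- faithful: g is central
      have hgc : g ∈ Subgroup.center G := by
        rw [Subgroup.mem_center_iff]
        intro y
        have h1 : ρ (y * g) = ρ (g * y) := by
          rw [map_mul, map_mul, hω]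
          ext v
          simp
        have h2 : (y * g) * (g * y)⁻¹ ∈ MonoidHom.ker ρ := by
          rw [MonoidHom.mem_ker, map_mul, h1, ← map_mul, mul_inv_cancel, map_one]
        rw [hK, Subgroup.mem_bot] at h2
        exact mul_inv_eq_one.mp h2
      rcases IsSimpleGroup.eq_bot_or_eq_top_of_normal (Subgroup.center G) inferInstance with hZ | hZ
      · rw [hZ, Subgroup.mem_bot] at hgc
        exact hg hgc
      · apply hnc
        intro a b
        have ha : a ∈ Subgroup.center G := by rw [hZ]; exact Subgroup.mem_top a
        exact ((Subgroup.mem_center_iff.mp ha) b).symm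
    · -- trivial representation
      apply hnt
      apply character_eq_one_of_trivial ρ hirr
      intro x
      have hx : x ∈ MonoidHom.ker ρ := by rw [hK]; exact Subgroup.mem_top x
      exact MonoidHom.mem_ker.mp hx

/-- Burnside: a finite simple group with a nontrivial class of prime power size has prime order -/
theorem burnside_class [IsSimpleGroup G] (p k : ℕ) (hp : p.Prime) (g : G) (hg : g ≠ 1)
    (hclass : (Subgroup.centralizer ({g} : Set G)).index = p ^ k) : (Nat.card G).Prime := by
  classical
  by_cases hc : ∀ a b : G, a * b = b * a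
  · let inst : CommGroup G := { ‹Group G› with mul_comm := hc }
    exact @IsSimpleGroup.prime_card G inst ‹_›
  · exfalso
    have : Fintype (Cfsg.IrrCharacter G) := Fintype.ofFinite _
    have hcol := column_orthogonality g 1
    have hg1 : ¬ IsConj g 1 := by
      intro h
      exact hg (isConj_one_right.mp h.symm)
    rw [if_neg hg1] at hcol
    let triv : Cfsg.IrrCharacter G := ⟨fun _ => 1, isIrrCharacter_one⟩
    have hγ : ∀ χ : Cfsg.IrrCharacter G, ∃ γ : ℂ, IsIntegral ℤ γ ∧
        (χ ≠ triv → (χ : G → ℂ) g * conj ((χ : G → ℂ) 1) = (p : ℂ) * γ) := by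
      intro χ
      obtain ⟨n, ρ, hirr, hρ⟩ := χ.2
      have h1 : (χ : G → ℂ) 1 = (n : ℂ) := by
        rw [← hρ, Representation.char_one]
        simp
      have hfr : Module.finrank ℂ (Fin n → ℂ) = n := by simp
      by_cases hpn : p ∣ n
      · obtain ⟨n', hn'⟩ := hpn
        refine ⟨(n' : ℂ) * (χ : G → ℂ) g, ?_, ?_⟩
        · rw [← hρ]
          exact IsIntegral.mul (isIntegral_natCast _) (character_isIntegral ρ g)
        · intro _
          rw [h1, Complex.conj_natCast, hn']
          push_cast
          ring
      · refine ⟨0, isIntegral_zero, ?_⟩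
        intro hχ
        have hnt : ρ.character ≠ fun _ => (1 : ℂ) := by
          intro h2
          apply hχ
          apply Subtype.ext
          rw [← hρ, h2]
        have := char_eq_zero_of_not_dvd hc p k hp g hg hclass ρ hirr hnt (by rw [hfr]; exact hpn)
        rw [← hρ, this, zero_mul, mul_zero]
    choose γ hγint hγeq using hγ
    rw [← Finset.add_sum_erase Finset.univ _ (Finset.mem_univ triv)] at hcol
    have ht : (triv : G → ℂ) g * conj ((triv : G → ℂ) 1) = 1 := by
      show (1 : ℂ) * conj (1 : ℂ) = 1
      simp
    rw [ht] at hcol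
    have hsum : ∑ χ ∈ Finset.univ.erase triv, (χ : G → ℂ) g * conj ((χ : G → ℂ) 1) =
        (p : ℂ) * ∑ χ ∈ Finset.univ.erase triv, γ χ := by
      rw [Finset.mul_sum]
      refine Finset.sum_congr rfl fun χ hχ => ?_
      exact hγeq χ (Finset.ne_of_mem_erase hχ)
    rw [hsum] at hcol
    set β := ∑ χ ∈ Finset.univ.erase triv, γ χ with hβ
    have hβint : IsIntegral ℤ β := IsIntegral.sum _ fun χ _ => hγint χ
    have hpC : (p : ℂ) ≠ 0 := Nat.cast_ne_zero.mpr hp.ne_zero
    have hβeq : β = algebraMap ℚ ℂ (-(1 : ℚ) / (p : ℚ)) := by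
      have : (p : ℂ) * β = -1 := by linear_combination hcol
      have h3 : β = -1 / (p : ℂ) := by
        rw [eq_div_iff hpC, mul_comm]; exact this
      rw [h3]; simp
    rw [hβeq, isIntegral_algebraMap_iff (algebraMap ℚ ℂ).injective] at hβint
    obtain ⟨z, hz⟩ := IsIntegrallyClosed.isIntegral_iff.mp hβint
    have hpQ : (p : ℚ) ≠ 0 := Nat.cast_ne_zero.mpr hp.ne_zero
    have h4 : (z : ℚ) * (p : ℚ) = -1 := by
      have : (algebraMap ℤ ℚ z) = (z : ℚ) := rfl
      rw [this] at hz
      rw [hz, div_mul_cancel₀ _ hpQ]
    have h5 : z * (p : ℤ) = -1 := by exact_mod_cast h4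
    have h6 : (p : ℤ) ∣ 1 := ⟨-z, by linarith⟩
    have h7 : p ∣ 1 := by exact_mod_cast h6
    exact hp.one_lt.ne' (Nat.dvd_one.mp h7)

end Main

end Cfsg.Agent.Lib.Helper4
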