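import Mathlib
import Cfsg.Prelude.Def_Characters
import Cfsg.Agent.Lib.Helper4.CharIntegral

set_option autoImplicit false

namespace Cfsg.Agent.Lib.Helper4

open scoped ComplexConjugate

section Comp

variable {G H : Type*} [Group G] [Group H] {V : Type*} [AddCommGroup V] [Module ℂ V]

/-- pulling back an irreducible representation along a surjective homomorphism gives an
irreducible representation -/
theorem isIrreducible_comp_of_surjective (ρ : Representation ℂ G V) (f : H →* G)
    (hf : Function.Surjective f) (h : ρ.IsIrreducible) :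
    Representation.IsIrreducible (ρ.comp f : Representation ℂ H V) := by
  have := h
  have hbt : (⊥ : Subrepresentation (ρ.comp f : Representation ℂ H V)) ≠ ⊤ := by
    intro h1
    have h2 : (⊥ : Submodule ℂ V) = ⊤ := congrArg Subrepresentation.toSubmodule h1
    have h3 : (⊥ : Subrepresentation ρ) = ⊤ := Subrepresentation.toSubmodule_injective h2
    exact bot_ne_top h3
  exact { exists_pair_ne := ⟨⊥, ⊤, hbt⟩
          eq_bot_or_eq_top := fun σ => by
            let σ' : Subrepresentation ρ :=
              ⟨σ.toSubmodule, fun g v hv => by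
                obtain ⟨k, rfl⟩ := hf g
                exact σ.apply_mem_toSubmodule k hv⟩
            rcases eq_bot_or_eq_top σ' with h1 | h1
            · left
              apply Subrepresentation.toSubmodule_injective
              have h2 : σ'.toSubmodule = (⊥ : Subrepresentation ρ).toSubmodule :=
                congrArg Subrepresentation.toSubmodule h1
              exact h2
            · right
              apply Subrepresentation.toSubmodule_injective
              have h2 : σ'.toSubmodule = (⊤ : Subrepresentation ρ).toSubmodule :=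
                congrArg Subrepresentation.toSubmodule h1
              exact h2 }

/-- pulling back an irreducible character along a surjective homomorphism -/
theorem isIrrCharacter_comp_of_surjective {χ : G → ℂ} (hχ : Cfsg.IsIrrCharacter G χ)
    (f : H →* G) (hf : Function.Surjective f) : Cfsg.IsIrrCharacter H (χ ∘ f) := by
  obtain ⟨n, ρ, hρ, rfl⟩ := hχ
  exact ⟨n, ρ.comp f, isIrreducible_comp_of_surjective ρ f hf hρ, rfl⟩

/-- pulling back a character along a homomorphism -/
theorem isCharacter_comp {χ : G → ℂ} (hχ : Cfsg.IsCharacter G χ)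
    (f : H →* G) : Cfsg.IsCharacter H (χ ∘ f) := by
  obtain ⟨n, ρ, rfl⟩ := hχ
  exact ⟨n, ρ.comp f, rfl⟩

end Comp

section Count

variable {G : Type*} [Group G] [Fintype G]

theorem card_centralizer_conj (g k : G) :
    Nat.card (Subgroup.centralizer ({k * g * k⁻¹} : Set G)) =
      Nat.card (Subgroup.centralizer ({g} : Set G)) := by
  symm
  refine Nat.card_congr ⟨fun x => ⟨k * x * k⁻¹, ?_⟩, fun x => ⟨k⁻¹ * x * k, ?_⟩, ?_, ?_⟩
  · have hx := x.2
    rw [Subgroup.mem_centralizer_iff] at hx ⊢
    intro y hy
    rw [Set.mem_singleton_iff] at hy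
    subst hy
    have h1 := hx g (Set.mem_singleton g)
    calc k * g * k⁻¹ * (k * ↑x * k⁻¹) = k * (g * ↑x) * k⁻¹ := by group
      _ = k * (↑x * g) * k⁻¹ := by rw [h1]
      _ = k * ↑x * k⁻¹ * (k * g * k⁻¹) := by group
  · have hx := x.2
    rw [Subgroup.mem_centralizer_iff] at hx ⊢
    intro y hy
    rw [Set.mem_singleton_iff] at hy
    subst hy
    have h1 := hx (k * y * k⁻¹) (Set.mem_singleton _)
    have h2 : k⁻¹ * (k * y * k⁻¹ * ↑x) * k = k⁻¹ * (↑x * (k * y * k⁻¹)) * k := by rw [h1]
    calc y * (k⁻¹ * ↑x * k) = k⁻¹ * (k * y * k⁻¹ * ↑x) * k := by group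
      _ = k⁻¹ * (↑x * (k * y * k⁻¹)) * k := h2
      _ = k⁻¹ * ↑x * k * y := by group
  · intro x
    apply Subtype.ext
    show k⁻¹ * (k * ↑x * k⁻¹) * k = ↑x
    group
  · intro x
    apply Subtype.ext
    show k * (k⁻¹ * ↑x * k) * k⁻¹ = ↑x
    group

theorem card_centralizer_of_isConj {a b : G} (h : IsConj a b) :
    Nat.card (Subgroup.centralizer ({a} : Set G)) =
      Nat.card (Subgroup.centralizer ({b} : Set G)) := by
  obtain ⟨k, hk⟩ := isConj_iff.mp h
  rw [← hk, card_centralizer_conj]

open scoped Classical in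
/-- counting conjugacy classes with a property via centralizer orders -/
theorem sum_card_centralizer_eq (Q : ConjClasses G → Prop) :
    ∑ g : G, (if Q (ConjClasses.mk g) then
      (Nat.card (Subgroup.centralizer ({g} : Set G)) : ℂ) else 0) =
      (Nat.card G : ℂ) * (Nat.card {C : ConjClasses G // Q C} : ℂ) := by
  have : Fintype (ConjClasses G) := Fintype.ofFinite _
  let F : G → ℂ := fun g => if Q (ConjClasses.mk g) then
      (Nat.card (Subgroup.centralizer ({g} : Set G)) : ℂ) else 0
  have hF : Cfsg.IsClassFunction G F := by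
    intro g k
    have h1 : ConjClasses.mk (k * g * k⁻¹) = ConjClasses.mk g :=
      ConjClasses.mk_eq_mk_iff_isConj.mpr (isConj_iff.mpr ⟨k, rfl⟩).symm
    show (if Q (ConjClasses.mk (k * g * k⁻¹)) then
      (Nat.card (Subgroup.centralizer ({k * g * k⁻¹} : Set G)) : ℂ) else 0) = F g
    rw [h1, card_centralizer_conj]
  have h := sum_eq_sum_classes F hF
  show ∑ g : G, F g = _
  rw [h]
  have h2 : ∀ C : ConjClasses G,
      ((Subgroup.centralizer ({Quotient.out C} : Set G)).index : ℂ) * F (Quotient.out C) =
        if Q C then (Nat.card G : ℂ) else 0 := by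
    intro C
    have hC : ConjClasses.mk (Quotient.out C) = C := Quotient.out_eq C
    simp only [F]
    rw [hC]
    by_cases hQ : Q C
    · rw [if_pos hQ, if_pos hQ]
      have := Subgroup.card_mul_index (Subgroup.centralizer ({Quotient.out C} : Set G))
      rw [mul_comm]
      exact_mod_cast this
    · rw [if_neg hQ, if_neg hQ, mul_zero]
  simp only [h2]
  rw [Finset.sum_ite, Finset.sum_const_zero, add_zero, Finset.sum_const, nsmul_eq_mul, mul_comm]
  congr 2
  rw [Nat.card_eq_fintype_card, Fintype.card_subtype]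

open scoped Classical in
/-- Brauer's permutation lemma, abstract form -/
theorem card_fixed_irr_eq (β : G → G) (τ : Cfsg.IrrCharacter G → Cfsg.IrrCharacter G)
    (hτ : ∀ (χ : Cfsg.IrrCharacter G) (g : G), (τ χ : G → ℂ) g = (χ : G → ℂ) (β g))
    (Q : ConjClasses G → Prop) (hQ : ∀ g, Q (ConjClasses.mk g) ↔ IsConj (β g) g) :
    Nat.card {χ : Cfsg.IrrCharacter G // τ χ = χ} = Nat.card {C : ConjClasses G // Q C} := by
  have : Fintype (Cfsg.IrrCharacter G) := Fintype.ofFinite _
  have hG : (Nat.card G : ℂ) ≠ 0 := card_ne_zero_complex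
  have h1 : (Nat.card {χ : Cfsg.IrrCharacter G // τ χ = χ} : ℂ) =
      ∑ χ : Cfsg.IrrCharacter G, Cfsg.classInner (τ χ : G → ℂ) (χ : G → ℂ) := by
    rw [Nat.card_eq_fintype_card, Fintype.card_subtype, Finset.card_filter, Nat.cast_sum]
    refine Finset.sum_congr rfl fun χ _ => ?_
    rw [classInner_irr]
    split_ifs <;> simp
  have h2 : ∑ χ : Cfsg.IrrCharacter G, Cfsg.classInner (τ χ : G → ℂ) (χ : G → ℂ) =
      (Nat.card G : ℂ)⁻¹ * ∑ g : G, ∑ χ : Cfsg.IrrCharacter G,
        (χ : G → ℂ) (β g) * conj ((χ : G → ℂ) g) := by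
    unfold Cfsg.classInner
    rw [← Finset.mul_sum, Finset.sum_comm]
    congr 1
    refine Finset.sum_congr rfl fun g _ => ?_
    refine Finset.sum_congr rfl fun χ _ => ?_
    rw [hτ]
  have h3 : ∀ g : G, ∑ χ : Cfsg.IrrCharacter G, (χ : G → ℂ) (β g) * conj ((χ : G → ℂ) g) =
      if Q (ConjClasses.mk g) then (Nat.card (Subgroup.centralizer ({g} : Set G)) : ℂ)
        else 0 := by
    intro g
    rw [column_orthogonality]
    by_cases hc : IsConj (β g) g
    · rw [if_pos hc, if_pos ((hQ g).mpr hc), card_centralizer_of_isConj hc]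
    · rw [if_neg hc, if_neg (fun h => hc ((hQ g).mp h))]
  have h4 : (Nat.card {χ : Cfsg.IrrCharacter G // τ χ = χ} : ℂ) =
      (Nat.card {C : ConjClasses G // Q C} : ℂ) := by
    rw [h1, h2]
    simp only [h3]
    rw [sum_card_centralizer_eq, ← mul_assoc, inv_mul_cancel₀ hG, one_mul]
  exact_mod_cast h4

end Count

end Cfsg.Agent.Lib.Helper4
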