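import Mathlib
import Cfsg.Prelude.Def_Characters
import Cfsg.Agent.Lib.Helper4.PermLemma

set_option autoImplicit false

namespace Cfsg.Agent.Lib.Helper4

open scoped ComplexConjugate

section

variable {G : Type*} [Group G] [Fintype G]

/-- second orthogonality at a single element, real form -/
theorem sum_normSq_char [Fintype (Cfsg.IrrCharacter G)] (g : G) :
    ∑ χ : Cfsg.IrrCharacter G, Complex.normSq ((χ : G → ℂ) g) =
      (Nat.card (Subgroup.centralizer ({g} : Set G)) : ℝ) := by
  classical
  have h := column_orthogonality g g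
  rw [if_pos (IsConj.refl g)] at h
  have h2 : ∑ χ : Cfsg.IrrCharacter G, (χ : G → ℂ) g * conj ((χ : G → ℂ) g) =
      ((∑ χ : Cfsg.IrrCharacter G, Complex.normSq ((χ : G → ℂ) g) : ℝ) : ℂ) := by
    rw [Complex.ofReal_sum]
    refine Finset.sum_congr rfl fun χ _ => ?_
    rw [Complex.mul_conj]
  rw [h2] at h
  exact_mod_cast h

/-- If `H` is normal, `ρ` irreducible and nontrivial on `H`, and `C_H(g) = 1`,
then `χ_ρ(g) = 0`. -/
theorem character_eq_zero_of_free {V : Type*} [AddCommGroup V] [Module ℂ V]
    [FiniteDimensional ℂ V] (ρ : Representation ℂ G V) (hρ : ρ.IsIrreducible)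
    (H : Subgroup G) [H.Normal] (hker : ∃ h ∈ H, ρ h ≠ LinearMap.id) (g : G)
    (hg : ∀ h ∈ H, h * g = g * h → h = 1) : ρ.character g = 0 := by
  classical
  have : Fintype (Cfsg.IrrCharacter G) := Fintype.ofFinite _
  have : Fintype (G ⧸ H) := Fintype.ofFinite _
  have : Fintype (Cfsg.IrrCharacter (G ⧸ H)) := Fintype.ofFinite _
  let π : G →* G ⧸ H := QuotientGroup.mk' H
  have hπ : Function.Surjective π := QuotientGroup.mk'_surjective H
  let ι : Cfsg.IrrCharacter (G ⧸ H) → Cfsg.IrrCharacter G := fun χ =>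
    ⟨(χ : G ⧸ H → ℂ) ∘ π, isIrrCharacter_comp_of_surjective χ.2 π hπ⟩
  have hι : Function.Injective ι := by
    intro χ ψ h
    apply Subtype.ext
    funext y
    obtain ⟨x, rfl⟩ := hπ y
    exact congrFun (congrArg Subtype.val h) x
  let χ0 : Cfsg.IrrCharacter G := ⟨ρ.character, isIrrCharacter_of_irreducible ρ hρ⟩
  have hχ0 : χ0 ∉ Finset.univ.image ι := by
    intro hmem
    obtain ⟨χ, _, hχ⟩ := Finset.mem_image.mp hmem
    obtain ⟨h, hh, hne⟩ := hker
    apply hne
    rw [← character_eq_finrank_iff, ← Representation.char_one ρ]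
    have h1 : ρ.character = (χ : G ⧸ H → ℂ) ∘ π := (congrArg Subtype.val hχ).symm
    rw [h1]
    show (χ : G ⧸ H → ℂ) (π h) = (χ : G ⧸ H → ℂ) (π 1)
    have : π h = π 1 := by
      rw [map_one]
      exact (QuotientGroup.eq_one_iff h).mpr hh
    rw [this]
  -- the inequality of sums
  have hsub : insert χ0 (Finset.univ.image ι) ⊆ (Finset.univ : Finset (Cfsg.IrrCharacter G)) :=
    Finset.subset_univ _
  have hle := Finset.sum_le_sum_of_subset_of_nonneg
    (f := fun χ : Cfsg.IrrCharacter G => Complex.normSq ((χ : G → ℂ) g)) hsub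
    (fun χ _ _ => Complex.normSq_nonneg _)
  rw [Finset.sum_insert hχ0, Finset.sum_image (fun a _ b _ h => hι h), sum_normSq_char g] at hle
  have h2 : ∑ χ : Cfsg.IrrCharacter (G ⧸ H), Complex.normSq ((ι χ : G → ℂ) g) =
      (Nat.card (Subgroup.centralizer ({π g} : Set (G ⧸ H))) : ℝ) := by
    rw [← sum_normSq_char (π g)]
    rfl
  rw [h2] at hle
  -- centralizer comparison
  have hcard : Nat.card (Subgroup.centralizer ({g} : Set G)) ≤
      Nat.card (Subgroup.centralizer ({π g} : Set (G ⧸ H))) := by
    refine Nat.card_le_card_of_injective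
      (fun x : Subgroup.centralizer ({g} : Set G) =>
        (⟨π x, ?_⟩ : Subgroup.centralizer ({π g} : Set (G ⧸ H)))) ?_
    · have hx := x.2
      rw [Subgroup.mem_centralizer_iff] at hx ⊢
      intro y hy
      rw [Set.mem_singleton_iff] at hy
      subst hy
      rw [← map_mul, ← map_mul, hx g (Set.mem_singleton g)]
    · intro x y hxy
      have h3 : π (x : G) = π (y : G) := congrArg Subtype.val hxy
      have h4 : (x : G)⁻¹ * (y : G) ∈ H := by
        have : π ((x : G)⁻¹ * (y : G)) = 1 := by
          rw [map_mul, map_inv, h3, inv_mul_cancel]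
        exact (QuotientGroup.eq_one_iff _).mp this
      have hx := x.2
      have hy := y.2
      rw [Subgroup.mem_centralizer_iff] at hx hy
      have hxg := hx g (Set.mem_singleton g)
      have hyg := hy g (Set.mem_singleton g)
      have h5 : (x : G)⁻¹ * (y : G) * g = g * ((x : G)⁻¹ * (y : G)) := by
        have hxg' : (x : G)⁻¹ * g = g * (x : G)⁻¹ := by
          have : (x : G)⁻¹ * (g * (x : G)) * (x : G)⁻¹ = (x : G)⁻¹ * ((x : G) * g) * (x : G)⁻¹ := by
            rw [hxg]
          simpa [mul_assoc] using this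
        calc (x : G)⁻¹ * (y : G) * g = (x : G)⁻¹ * ((y : G) * g) := by group
          _ = (x : G)⁻¹ * (g * (y : G)) := by rw [hyg]
          _ = ((x : G)⁻¹ * g) * (y : G) := by group
          _ = (g * (x : G)⁻¹) * (y : G) := by rw [hxg']
          _ = g * ((x : G)⁻¹ * (y : G)) := by group
      have h6 := hg _ h4 h5
      apply Subtype.ext
      have : (y : G) = (x : G) * ((x : G)⁻¹ * (y : G)) := by group
      rw [this, h6, mul_one]
  have hcard' : (Nat.card (Subgroup.centralizer ({g} : Set G)) : ℝ) ≤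
      (Nat.card (Subgroup.centralizer ({π g} : Set (G ⧸ H))) : ℝ) := by exact_mod_cast hcard
  have hnn : 0 ≤ Complex.normSq (ρ.character g) := Complex.normSq_nonneg _
  have hz : Complex.normSq (ρ.character g) = 0 := by
    have : Complex.normSq ((χ0 : G → ℂ) g) = Complex.normSq (ρ.character g) := rfl
    rw [this] at hle
    linarith
  exact Complex.normSq_eq_zero.mp hz

end

end Cfsg.Agent.Lib.Helper4
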