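import Mathlib
import Cfsg.Prelude.Def_Characters
import Cfsg.Agent.Lib.Helper4.VanishFree
import Cfsg.Agent.Lib.Helper2.NilpotentBasic
import Cfsg.Agent.Lib.Helper4.BurnsideClass

set_option autoImplicit false

namespace Cfsg.Agent.Lib.Helper4

open scoped ComplexConjugate

section Schur

variable {G : Type*} [Group G]
variable {V : Type*} [AddCommGroup V] [Module ℂ V] [FiniteDimensional ℂ V]

/-- Schur's lemma: an operator commuting with an irreducible representation is a scalar -/
theorem exists_scalar_of_commute (ρ : Representation ℂ G V) (hρ : ρ.IsIrreducible)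
    (T : V →ₗ[ℂ] V) (hT : ∀ g v, T (ρ g v) = ρ g (T v)) : ∃ c : ℂ, T = c • LinearMap.id := by
  have := hρ
  let T' : Representation.IntertwiningMap ρ ρ :=
    T.intertwiningMap_of_isIntertwiningMap ρ ρ (fun g v => hT g v)
  obtain ⟨c, hc⟩ :=
    (Representation.IsIrreducible.algebraMap_intertwiningMap_bijective_of_isAlgClosed (ρ := ρ)).2 T'
  refine ⟨c, ?_⟩
  have := congrArg Representation.IntertwiningMap.toLinearMap hc
  ext v
  have h2 := LinearMap.congr_fun this v
  simp only [Representation.IntertwiningMap.algebraMap_apply] at h2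
  exact h2.symm

/-- central elements act as scalars in an irreducible representation -/
theorem exists_scalar_of_mem_center (ρ : Representation ℂ G V) (hρ : ρ.IsIrreducible)
    (z : G) (hz : z ∈ Subgroup.center G) : ∃ c : ℂ, ρ z = c • LinearMap.id := by
  apply exists_scalar_of_commute ρ hρ
  intro g v
  rw [← Module.End.mul_apply, ← map_mul, ← Module.End.mul_apply, ← map_mul]
  rw [Subgroup.mem_center_iff] at hz
  rw [hz g]

theorem nontrivial_of_irreducible (ρ : Representation ℂ G V) (hρ : ρ.IsIrreducible) :
    Nontrivial V := by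
  have := hρ
  by_contra hnt
  rw [not_nontrivial_iff_subsingleton] at hnt
  have h1 : (⊥ : Subrepresentation ρ) = ⊤ := by
    apply Subrepresentation.toSubmodule_injective
    exact Subsingleton.elim _ _
  exact bot_ne_top h1

/-- a group with a faithful irreducible complex representation has cyclic centre -/
theorem isCyclic_center_of_faithful_irreducible [Finite G] (ρ : Representation ℂ G V)
    (hρ : ρ.IsIrreducible) (hinj : Function.Injective ρ) : IsCyclic (Subgroup.center G) := by
  classical
  have hnt := nontrivial_of_irreducible ρ hρ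
  have hid : (LinearMap.id : V →ₗ[ℂ] V) ≠ 0 := by
    intro h
    obtain ⟨v, hv⟩ := exists_ne (0 : V)
    apply hv
    have := LinearMap.congr_fun h v
    simpa using this
  have hex : ∀ z : Subgroup.center G, ∃ c : ℂ, ρ (z : G) = c • LinearMap.id :=
    fun z => exists_scalar_of_mem_center ρ hρ z z.2
  choose lam hlam using hex
  have hsmul_inj : ∀ a b : ℂ, a • (LinearMap.id : V →ₗ[ℂ] V) = b • LinearMap.id → a = b := by
    intro a b h
    have h2 : (a - b) • (LinearMap.id : V →ₗ[ℂ] V) = 0 := by rw [sub_smul, h, sub_self]
    rcases smul_eq_zero.mp h2 with h3 | h3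
    · exact sub_eq_zero.mp h3
    · exact absurd h3 hid
  let f : Subgroup.center G →* ℂ :=
    { toFun := lam
      map_one' := by
        apply hsmul_inj
        rw [← hlam, one_smul]
        show ρ (1 : G) = LinearMap.id
        rw [map_one]
        rfl
      map_mul' := by
        intro a b
        apply hsmul_inj
        rw [← hlam]
        show ρ ((a : G) * (b : G)) = _
        rw [map_mul, hlam a, hlam b]
        apply LinearMap.ext
        intro v
        simp only [Module.End.mul_apply, LinearMap.smul_apply, LinearMap.id_apply, mul_smul] }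
  have hf : Function.Injective f := by
    intro a b hab
    apply Subtype.ext
    apply hinj
    rw [hlam a, hlam b]
    show f a • LinearMap.id = f b • LinearMap.id
    rw [hab]
  exact isCyclic_of_injective_ringHom f hf

end Schur

section Exists

variable {G : Type*} [Group G] [Fintype G]

/-- for `z ≠ 1` there is an irreducible representation not killing `z` -/
theorem exists_irreducible_ne_id (z : G) (hz : z ≠ 1) :
    ∃ (n : ℕ) (ρ : Representation ℂ G (Fin n → ℂ)), ρ.IsIrreducible ∧ ρ z ≠ LinearMap.id := by
  classical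
  have : Fintype (Cfsg.IrrCharacter G) := Fintype.ofFinite _
  by_contra hcon
  push Not at hcon
  have hcol := column_orthogonality z 1
  rw [if_neg (fun h => hz (isConj_one_right.mp h.symm))] at hcol
  have h1 : ∀ χ : Cfsg.IrrCharacter G, (χ : G → ℂ) z = (χ : G → ℂ) 1 := by
    intro χ
    obtain ⟨n, ρ, hρ, hχ⟩ := χ.2
    rw [← hχ]
    unfold Representation.character
    rw [hcon n ρ hρ, map_one]
    rfl
  have h2 : ∑ χ : Cfsg.IrrCharacter G, (χ : G → ℂ) z * conj ((χ : G → ℂ) 1) =
      ((∑ χ : Cfsg.IrrCharacter G, Complex.normSq ((χ : G → ℂ) 1) : ℝ) : ℂ) := by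
    rw [Complex.ofReal_sum]
    refine Finset.sum_congr rfl fun χ _ => ?_
    rw [h1 χ, Complex.mul_conj]
  rw [h2, sum_normSq_char (1 : G)] at hcol
  have h3 : (Nat.card (Subgroup.centralizer ({1} : Set G)) : ℝ) = 0 := by exact_mod_cast hcol
  have h4 : Nat.card (Subgroup.centralizer ({1} : Set G)) = 0 := by exact_mod_cast h3
  exact Nat.card_pos.ne' h4

/-- in a cyclic group, an element of order `p` lies in every subgroup containing an element
of order `p` -/
theorem mem_of_orderOf_eq_prime_of_isCyclic {Z : Type*} [Group Z] [Finite Z] [IsCyclic Z]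
    (p : ℕ) [Fact p.Prime] (z w : Z) (hz : orderOf z = p) (hw : orderOf w = p) :
    z ∈ Subgroup.zpowers w := by
  classical
  have : Fintype Z := Fintype.ofFinite Z
  by_contra hmem
  have hp : p.Prime := Fact.out
  let S : Finset Z := (Subgroup.zpowers w : Set Z).toFinset
  have hScard : S.card = p := by
    rw [Set.toFinset_card, ← hw, ← Nat.card_eq_fintype_card]
    exact Nat.card_zpowers w
  have hzS : z ∉ S := by
    intro h
    apply hmem
    simpa [S] using h
  have hsub : insert z S ⊆ Finset.univ.filter (fun a : Z => a ^ p = 1) := by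
    intro x hx
    rw [Finset.mem_filter]
    refine ⟨Finset.mem_univ _, ?_⟩
    rcases Finset.mem_insert.mp hx with h | h
    · rw [h, ← hz, pow_orderOf_eq_one]
    · have hx' : x ∈ Subgroup.zpowers w := by simpa [S] using h
      obtain ⟨k, rfl⟩ := Subgroup.mem_zpowers_iff.mp hx'
      rw [← zpow_natCast, ← zpow_mul, mul_comm, zpow_mul, zpow_natCast, ← hw,
        pow_orderOf_eq_one, one_zpow]
  have h1 := Finset.card_le_card hsub
  rw [Finset.card_insert_of_notMem hzS, hScard] at h1
  have h2 := IsCyclic.card_pow_eq_one_le (α := Z) hp.pos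
  omega

/-- a finite `p`-group with cyclic centre has a faithful irreducible representation -/
theorem exists_faithful_irreducible_of_isCyclic_center (p : ℕ) [Fact p.Prime]
    (hG : IsPGroup p G) (hcyc : IsCyclic (Subgroup.center G)) :
    ∃ (n : ℕ) (ρ : Representation ℂ G (Fin n → ℂ)), ρ.IsIrreducible ∧ Function.Injective ρ := by
  classical
  by_cases htriv : Subsingleton G
  · refine ⟨1, Representation.trivial ℂ G (Fin 1 → ℂ),
      isIrreducible_of_finrank_eq_one _ (by simp), ?_⟩
    intro a b _
    exact Subsingleton.elim a b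
  · have hnt : Nontrivial G := not_subsingleton_iff_nontrivial.mp htriv
    have hZnt : Nontrivial (Subgroup.center G) := hG.center_nontrivial
    have hZp : IsPGroup p (Subgroup.center G) := hG.to_subgroup _
    obtain ⟨k, hk0, hk⟩ := hZp.nontrivial_iff_card.mp hZnt
    have hpdvd : p ∣ Nat.card (Subgroup.center G) := by
      rw [hk]; exact dvd_pow_self p hk0.ne'
    obtain ⟨z0, hz0⟩ := exists_prime_orderOf_dvd_card' p hpdvd
    have hz0ne : (z0 : G) ≠ 1 := by
      intro h
      have : z0 = 1 := Subtype.ext h
      rw [this, orderOf_one] at hz0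
      exact (Fact.out : p.Prime).one_lt.ne hz0
    obtain ⟨n, ρ, hρ, hne⟩ := exists_irreducible_ne_id (z0 : G) hz0ne
    refine ⟨n, ρ, hρ, ?_⟩
    have hker : MonoidHom.ker ρ = ⊥ := by
      by_contra hN
      have hnil : Group.IsNilpotent G := hG.isNilpotent
      have hmeet := Cfsg.Agent.Lib.Helper2.normal_inf_center_ne_bot (MonoidHom.ker ρ) hN
      let K : Subgroup (Subgroup.center G) := (MonoidHom.ker ρ).subgroupOf (Subgroup.center G)
      have hKne : K ≠ ⊥ := by
        intro h
        apply hmeet
        exact disjoint_iff.mp (Subgroup.subgroupOf_eq_bot.mp h)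
      have hKnt : Nontrivial K := (Subgroup.nontrivial_iff_ne_bot K).mpr hKne
      have hKp : IsPGroup p K := hZp.to_subgroup K
      obtain ⟨j, hj0, hj⟩ := hKp.nontrivial_iff_card.mp hKnt
      have hpK : p ∣ Nat.card K := by rw [hj]; exact dvd_pow_self p hj0.ne'
      obtain ⟨w, hw⟩ := exists_prime_orderOf_dvd_card' p hpK
      have hw' : orderOf (w : Subgroup.center G) = p := by
        rw [← hw]; exact Subgroup.orderOf_coe w
      have hmem := mem_of_orderOf_eq_prime_of_isCyclic p z0 (w : Subgroup.center G) hz0 hw'
      have hle : Subgroup.zpowers (w : Subgroup.center G) ≤ K :=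
        (Subgroup.zpowers_le).mpr w.2
      have hz0K : z0 ∈ K := hle hmem
      have hz0ker : (z0 : G) ∈ MonoidHom.ker ρ := Subgroup.mem_subgroupOf.mp hz0K
      exact hne (MonoidHom.mem_ker.mp hz0ker)
    intro a b hab
    have h1 : a * b⁻¹ ∈ MonoidHom.ker ρ := by
      rw [MonoidHom.mem_ker, map_mul, hab, ← map_mul, mul_inv_cancel, map_one]
    rw [hker, Subgroup.mem_bot] at h1
    exact mul_inv_eq_one.mp h1

end Exists

end Cfsg.Agent.Lib.Helper4
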