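import Mathlib
import Cfsg.Prelude.Def_Characters
import Cfsg.Agent.Lib.Helper4.FaithfulIrr

set_option autoImplicit false

namespace Cfsg.Agent.Lib.Helper4

open scoped ComplexConjugate

/-- a rational algebraic integer `a / b` gives divisibility -/
theorem dvd_of_isIntegral_div (a b : ℕ) (hb : b ≠ 0)
    (hint : IsIntegral ℤ ((a : ℂ) / (b : ℂ))) : b ∣ a := by
  have hq : ((a : ℂ) / (b : ℂ)) = algebraMap ℚ ℂ ((a : ℚ) / (b : ℚ)) := by simp
  rw [hq, isIntegral_algebraMap_iff (algebraMap ℚ ℂ).injective] at hint
  obtain ⟨z, hz⟩ := IsIntegrallyClosed.isIntegral_iff.mp hint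
  have hdq : (b : ℚ) ≠ 0 := by exact_mod_cast hb
  have h4 : (a : ℚ) = (b : ℚ) * (z : ℚ) := by
    have : (algebraMap ℤ ℚ z) = (z : ℚ) := rfl
    rw [this] at hz
    rw [hz, mul_div_cancel₀ _ hdq]
  have h5 : (a : ℤ) = (b : ℤ) * z := by exact_mod_cast h4
  exact Int.natCast_dvd_natCast.mp ⟨z, h5⟩

/-- the action of `Z(G) × G` on `G` by `(z, x) • g = z x g x⁻¹` -/
def centerConjAction (G : Type*) [Group G] : MulAction (Subgroup.center G × G) G where
  smul p g := (p.1 : G) * p.2 * g * p.2⁻¹
  one_smul g := by
    show ((1 : Subgroup.center G) : G) * 1 * g * 1⁻¹ = g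
    simp
  mul_smul p q g := by
    show ((p.1 * q.1 : Subgroup.center G) : G) * (p.2 * q.2) * g * (p.2 * q.2)⁻¹ =
      (p.1 : G) * p.2 * ((q.1 : G) * q.2 * g * q.2⁻¹) * p.2⁻¹
    have hq := Subgroup.mem_center_iff.mp q.1.2 p.2
    rw [Subgroup.coe_mul, mul_inv_rev]
    calc (p.1 : G) * (q.1 : G) * (p.2 * q.2) * g * (q.2⁻¹ * p.2⁻¹)
        = (p.1 : G) * ((q.1 : G) * p.2) * q.2 * g * q.2⁻¹ * p.2⁻¹ := by group
      _ = (p.1 : G) * (p.2 * (q.1 : G)) * q.2 * g * q.2⁻¹ * p.2⁻¹ := by rw [hq]
      _ = (p.1 : G) * p.2 * ((q.1 : G) * q.2 * g * q.2⁻¹) * p.2⁻¹ := by group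

section

variable {G : Type*} [Group G] [Fintype G]
variable {V : Type*} [AddCommGroup V] [Module ℂ V] [FiniteDimensional ℂ V]

/-- the degree of a faithful irreducible representation divides the index of the centre -/
theorem degree_dvd_index_center_of_faithful (ρ : Representation ℂ G V) (hirr : ρ.IsIrreducible)
    (hinj : Function.Injective ρ) : Module.finrank ℂ V ∣ (Subgroup.center G).index := by
  classical
  letI act : MulAction (Subgroup.center G × G) G := centerConjAction G
  have hsmul : ∀ (p : Subgroup.center G × G) (g : G), p • g = (p.1 : G) * p.2 * g * p.2⁻¹ :=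
    fun _ _ => rfl
  have hd := finrank_ne_zero_of_irreducible ρ hirr
  have hd' : Module.finrank ℂ V ≠ 0 := by
    intro h; apply hd; rw [h]; simp
  have hnt := nontrivial_of_irreducible ρ hirr
  have hid : (LinearMap.id : V →ₗ[ℂ] V) ≠ 0 := by
    intro h
    obtain ⟨v, hv⟩ := exists_ne (0 : V)
    apply hv
    have := LinearMap.congr_fun h v
    simpa using this
  have hex : ∀ z : Subgroup.center G, ∃ c : ℂ, ρ (z : G) = c • LinearMap.id :=
    fun z => exists_scalar_of_mem_center ρ hirr z z.2
  choose c hc using hex
  have hsmul_inj : ∀ a b : ℂ, a • (LinearMap.id : V →ₗ[ℂ] V) = b • LinearMap.id → a = b := by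
    intro a b h
    have h2 : (a - b) • (LinearMap.id : V →ₗ[ℂ] V) = 0 := by rw [sub_smul, h, sub_self]
    rcases smul_eq_zero.mp h2 with h3 | h3
    · exact sub_eq_zero.mp h3
    · exact absurd h3 hid
  have hcmul : ∀ z : Subgroup.center G, c z * c z⁻¹ = 1 := by
    intro z
    apply hsmul_inj
    rw [one_smul]
    have h1 : ρ ((z : G) * ((z⁻¹ : Subgroup.center G) : G)) = LinearMap.id := by
      rw [Subgroup.coe_inv, mul_inv_cancel, map_one]; rfl
    rw [map_mul, hc z, hc z⁻¹] at h1
    have h2 : (c z • LinearMap.id : V →ₗ[ℂ] V) * (c z⁻¹ • LinearMap.id) =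
        (c z * c z⁻¹) • LinearMap.id := by
      apply LinearMap.ext
      intro v
      simp only [Module.End.mul_apply, LinearMap.smul_apply, LinearMap.id_apply, mul_smul,
        map_smul]
      rw [smul_comm]
    rw [← h2]
    exact h1
  have hχz : ∀ (z : Subgroup.center G) (g : G),
      ρ.character ((z : G) * g) = c z * ρ.character g := by
    intro z g
    unfold Representation.character
    rw [map_mul, hc z, smul_mul_assoc, map_smul, smul_eq_mul]
    rfl
  let F : G → ℂ := fun g => ρ.character g * ρ.character g⁻¹
  have hFinv : ∀ (p : Subgroup.center G × G) (g : G), F (p • g) = F g := by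
    intro p g
    have h1 : p • g = (p.1 : G) * (p.2 * g * p.2⁻¹) := by rw [hsmul]; group
    have hz := Subgroup.mem_center_iff.mp (p.1⁻¹).2
    have h2 : (p • g)⁻¹ = ((p.1⁻¹ : Subgroup.center G) : G) * (p.2 * g⁻¹ * p.2⁻¹) := by
      rw [h1, ← hz, Subgroup.coe_inv]
      group
    show ρ.character (p • g) * ρ.character (p • g)⁻¹ = ρ.character g * ρ.character g⁻¹
    rw [h2, h1, hχz, hχz, Representation.char_conj, Representation.char_conj]
    calc c p.1 * ρ.character g * (c p.1⁻¹ * ρ.character g⁻¹)
        = (c p.1 * c p.1⁻¹) * (ρ.character g * ρ.character g⁻¹) := by ring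
      _ = ρ.character g * ρ.character g⁻¹ := by rw [hcmul, one_mul]
  have hsumF : ∑ g, F g = (Nat.card G : ℂ) := sum_char_mul_char_inv ρ hirr
  -- orbits
  let Ω := MulAction.orbitRel.Quotient (Subgroup.center G × G) G
  have : Fintype Ω := Fintype.ofFinite _
  let mk : G → Ω := fun g => Quotient.mk'' g
  have hfib : ∑ g, F g = ∑ ω : Ω, ∑ g ∈ Finset.univ.filter (fun g => mk g = ω), F g :=
    (Finset.sum_fiberwise Finset.univ mk F).symm
  have hmem : ∀ (ω : Ω) (g : G), mk g = ω ↔ g ∈ MulAction.orbit (Subgroup.center G × G)
      (Quotient.out ω) := by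
    intro ω g
    constructor
    · intro h
      have h1 : mk g = mk (Quotient.out ω) := by rw [h]; exact (Quotient.out_eq' ω).symm
      exact (MulAction.orbitRel_apply).mp (Quotient.exact' h1)
    · intro h
      have h1 : mk g = mk (Quotient.out ω) := Quotient.sound' ((MulAction.orbitRel_apply).mpr h)
      rw [h1]; exact Quotient.out_eq' ω
  have hZne : (Nat.card (Subgroup.center G) : ℂ) ≠ 0 := Nat.cast_ne_zero.mpr Nat.card_pos.ne'
  have hterm : ∀ ω : Ω, ∑ g ∈ Finset.univ.filter (fun g => mk g = ω), F g =
      (Nat.card (Subgroup.center G) : ℂ) * (Module.finrank ℂ V : ℂ) *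
        ((((Subgroup.centralizer ({Quotient.out ω} : Set G)).index : ℂ) *
          ρ.character (Quotient.out ω) / (Module.finrank ℂ V : ℂ)) *
            ρ.character (Quotient.out ω)⁻¹) := by
    intro ω
    set g0 := Quotient.out ω with hg0
    have hconst : ∀ g ∈ Finset.univ.filter (fun g => mk g = ω), F g = F g0 := by
      intro g hg
      rw [Finset.mem_filter] at hg
      obtain ⟨p, hp⟩ := (hmem ω g).mp hg.2
      rw [← hp]
      exact hFinv p g0
    rw [Finset.sum_congr rfl hconst, Finset.sum_const, nsmul_eq_mul]
    by_cases hχ0 : ρ.character g0 = 0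
    · simp only [F, hχ0, zero_mul, mul_zero, zero_div]
    · -- orbit size
      have hcardfilter : (Finset.univ.filter (fun g => mk g = ω)).card =
          Nat.card (MulAction.orbit (Subgroup.center G × G) g0) := by
        rw [← Fintype.card_subtype, ← Nat.card_eq_fintype_card]
        exact Nat.card_congr (Equiv.subtypeEquivRight (hmem ω))
      have hstab : Nat.card (MulAction.stabilizer (Subgroup.center G × G) g0) =
          Nat.card (Subgroup.centralizer ({g0} : Set G)) := by
        refine Nat.card_congr ⟨fun p => ⟨p.1.2, ?_⟩, fun x => ⟨(1, x.1), ?_⟩, ?_, ?_⟩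
        · -- p stabilizes g0 ⇒ p.2 centralizes g0
          have hp : p.1 • g0 = g0 := p.2
          have h1 : p.1 • g0 = ((p.1.1 : Subgroup.center G) : G) * (p.1.2 * g0 * p.1.2⁻¹) := by
            rw [hsmul]; group
          have h2 : ρ.character g0 = c p.1.1 * ρ.character g0 := by
            conv_lhs => rw [← hp, h1, hχz, Representation.char_conj]
          have h3 : c p.1.1 = 1 := by
            have : (c p.1.1 - 1) * ρ.character g0 = 0 := by rw [sub_mul, one_mul, ← h2, sub_self]
            rcases mul_eq_zero.mp this with h | h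
            · exact sub_eq_zero.mp h
            · exact absurd h hχ0
          have h4 : ((p.1.1 : Subgroup.center G) : G) = 1 := by
            apply hinj
            rw [hc, h3, one_smul, map_one]; rfl
          rw [h1, h4, one_mul] at hp
          rw [Subgroup.mem_centralizer_iff]
          intro y hy
          rw [Set.mem_singleton_iff] at hy
          rw [hy]
          have : p.1.2 * g0 * p.1.2⁻¹ * p.1.2 = g0 * p.1.2 := by rw [hp]
          simpa [mul_assoc] using this.symm
        · show ((1 : Subgroup.center G × G).1, x.1) • g0 = g0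
          rw [hsmul]
          have hx := x.2
          rw [Subgroup.mem_centralizer_iff] at hx
          have h1 := hx g0 (Set.mem_singleton g0)
          show ((1 : Subgroup.center G) : G) * x.1 * g0 * x.1⁻¹ = g0
          rw [Subgroup.coe_one, one_mul, ← h1]
          group
        · intro p
          apply Subtype.ext
          have hp : p.1 • g0 = g0 := p.2
          have h1 : p.1 • g0 = ((p.1.1 : Subgroup.center G) : G) * (p.1.2 * g0 * p.1.2⁻¹) := by
            rw [hsmul]; group
          have h2 : ρ.character g0 = c p.1.1 * ρ.character g0 := by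
            conv_lhs => rw [← hp, h1, hχz, Representation.char_conj]
          have h3 : c p.1.1 = 1 := by
            have : (c p.1.1 - 1) * ρ.character g0 = 0 := by rw [sub_mul, one_mul, ← h2, sub_self]
            rcases mul_eq_zero.mp this with h | h
            · exact sub_eq_zero.mp h
            · exact absurd h hχ0
          have h4 : p.1.1 = 1 := by
            apply Subtype.ext
            apply hinj
            rw [hc, h3, one_smul, Subgroup.coe_one, map_one]; rfl
          exact Prod.ext h4.symm rfl
        · intro x
          rfl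
      have horb : Nat.card (MulAction.orbit (Subgroup.center G × G) g0) *
          Nat.card (Subgroup.centralizer ({g0} : Set G)) =
            Nat.card (Subgroup.center G) * Nat.card G := by
        rw [← hstab, ← Nat.card_prod, ← Nat.card_prod]
        exact Nat.card_congr (MulAction.orbitProdStabilizerEquivGroup _ g0)
      have hidx := Subgroup.card_mul_index (Subgroup.centralizer ({g0} : Set G))
      have horb' : Nat.card (MulAction.orbit (Subgroup.center G × G) g0) =
          Nat.card (Subgroup.center G) * (Subgroup.centralizer ({g0} : Set G)).index := by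
        have hpos : 0 < Nat.card (Subgroup.centralizer ({g0} : Set G)) := Nat.card_pos
        apply Nat.eq_of_mul_eq_mul_right hpos
        rw [horb, ← hidx]
        ring
      rw [hcardfilter, horb']
      simp only [F]
      push_cast
      field_simp
  have hmain : (Nat.card G : ℂ) = (Nat.card (Subgroup.center G) : ℂ) * (Module.finrank ℂ V : ℂ) *
      ∑ ω : Ω, ((((Subgroup.centralizer ({Quotient.out ω} : Set G)).index : ℂ) *
          ρ.character (Quotient.out ω) / (Module.finrank ℂ V : ℂ)) *
            ρ.character (Quotient.out ω)⁻¹) := by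
    rw [← hsumF, hfib, Finset.mul_sum]
    exact Finset.sum_congr rfl fun ω _ => hterm ω
  have hint : IsIntegral ℤ (((Subgroup.center G).index : ℂ) / (Module.finrank ℂ V : ℂ)) := by
    have h1 : ((Subgroup.center G).index : ℂ) / (Module.finrank ℂ V : ℂ) =
        ∑ ω : Ω, ((((Subgroup.centralizer ({Quotient.out ω} : Set G)).index : ℂ) *
          ρ.character (Quotient.out ω) / (Module.finrank ℂ V : ℂ)) *
            ρ.character (Quotient.out ω)⁻¹) := by
      have h2 := Subgroup.card_mul_index (Subgroup.center G)
      have h3 : (Nat.card G : ℂ) =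
          (Nat.card (Subgroup.center G) : ℂ) * ((Subgroup.center G).index : ℂ) := by
        exact_mod_cast h2.symm
      rw [h3] at hmain
      have h4 : ((Subgroup.center G).index : ℂ) = (Module.finrank ℂ V : ℂ) *
          ∑ ω : Ω, ((((Subgroup.centralizer ({Quotient.out ω} : Set G)).index : ℂ) *
            ρ.character (Quotient.out ω) / (Module.finrank ℂ V : ℂ)) *
              ρ.character (Quotient.out ω)⁻¹) := by
        apply mul_left_cancel₀ hZne
        rw [← mul_assoc]
        exact hmain
      rw [h4, mul_div_cancel_left₀ _ hd]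
    rw [h1]
    refine IsIntegral.sum _ fun ω _ => ?_
    exact (class_mul_char_div_degree_isIntegral ρ hirr (Quotient.out ω)).mul
      (character_isIntegral ρ (Quotient.out ω)⁻¹)
  exact dvd_of_isIntegral_div _ _ hd' hint

/-- the degree of an irreducible representation divides the index of the centre -/
theorem degree_dvd_index_center (ρ : Representation ℂ G V) (hirr : ρ.IsIrreducible) :
    Module.finrank ℂ V ∣ (Subgroup.center G).index := by
  classical
  have := hirr
  let N : Subgroup G := MonoidHom.ker ρ
  have hN : N.Normal := MonoidHom.normal_ker ρ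
  have : Fintype (G ⧸ N) := Fintype.ofFinite _
  let ρ' : Representation ℂ (G ⧸ N) V := QuotientGroup.lift N ρ (le_refl _)
  have hρ' : ∀ g : G, ρ' (QuotientGroup.mk g) = ρ g := fun g => rfl
  have hirr' : ρ'.IsIrreducible := by
    have hbt : (⊥ : Subrepresentation ρ') ≠ ⊤ := by
      intro h1
      have h2 : (⊥ : Submodule ℂ V) = ⊤ := congrArg Subrepresentation.toSubmodule h1
      have h3 : (⊥ : Subrepresentation ρ) = ⊤ := Subrepresentation.toSubmodule_injective h2
      exact bot_ne_top h3
    exact { exists_pair_ne := ⟨⊥, ⊤, hbt⟩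
            eq_bot_or_eq_top := fun σ => by
              let σ' : Subrepresentation ρ :=
                ⟨σ.toSubmodule, fun g v hv => by
                  rw [← hρ' g]
                  exact σ.apply_mem_toSubmodule _ hv⟩
              rcases eq_bot_or_eq_top σ' with h1 | h1
              · left
                apply Subrepresentation.toSubmodule_injective
                have h2 : σ'.toSubmodule = (⊥ : Subrepresentation ρ).toSubmodule :=
                  congrArg Subrepresentation.toSubmodule h1
                exact h2
              · right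
                apply Subrepresentation.toSubmodule_injective
                have h2 : σ'.toSubmodule = (⊤ : Subrepresentation ρ).toSubmodule :=
                  congrArg Subrepresentation.toSubmodule h1
                exact h2 }
  have hinj' : Function.Injective ρ' := by
    intro a b hab
    obtain ⟨x, rfl⟩ := QuotientGroup.mk_surjective a
    obtain ⟨y, rfl⟩ := QuotientGroup.mk_surjective b
    rw [hρ', hρ'] at hab
    apply QuotientGroup.eq.mpr
    show x⁻¹ * y ∈ MonoidHom.ker ρ
    rw [MonoidHom.mem_ker, map_mul, ← hab, ← map_mul, inv_mul_cancel, map_one]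
  have h1 := degree_dvd_index_center_of_faithful ρ' hirr' hinj'
  have h2 : ((Subgroup.center (G ⧸ N)).comap (QuotientGroup.mk' N)).index =
      (Subgroup.center (G ⧸ N)).index :=
    Subgroup.index_comap_of_surjective _ (QuotientGroup.mk'_surjective N)
  have h3 : Subgroup.center G ≤ (Subgroup.center (G ⧸ N)).comap (QuotientGroup.mk' N) := by
    intro z hz
    rw [Subgroup.mem_comap, Subgroup.mem_center_iff]
    intro y
    obtain ⟨x, rfl⟩ := QuotientGroup.mk'_surjective N y
    rw [← map_mul, ← map_mul, Subgroup.mem_center_iff.mp hz x]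
  have h4 := Subgroup.index_dvd_of_le h3
  rw [h2] at h4
  exact h1.trans h4

end

end Cfsg.Agent.Lib.Helper4
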