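import Mathlib
import Cfsg.Prelude.Def_Characters
import Cfsg.Agent.Lib.Helper4.BurnsideClass

set_option autoImplicit false

namespace Cfsg.Agent.Lib.Helper4

universe u

/-- a simple group of order `p^a q^b` is solvable -/
theorem isSolvable_of_simple_pq {G : Type u} [Group G] [Finite G] [IsSimpleGroup G]
    (p q a b : ℕ) (hp : p.Prime) (hq : q.Prime)
    (hcard : Nat.card G = p ^ a * q ^ b) : Group.IsSolvable G := by
  classical
  have : Fintype G := Fintype.ofFinite G
  have : Fact q.Prime := ⟨hq⟩
  by_cases hqd : q ∣ Nat.card G
  · -- Sylow q-subgroup nontrivial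
    obtain ⟨Q⟩ : Nonempty (Sylow q G) := inferInstance
    have hQne : (Q : Subgroup G) ≠ ⊥ := Sylow.ne_bot_of_dvd_card Q hqd
    have : Nontrivial (Q : Subgroup G) := (Subgroup.nontrivial_iff_ne_bot _).mpr hQne
    have hQp : IsPGroup q (Q : Subgroup G) := Q.isPGroup'
    have : Nontrivial (Subgroup.center (Q : Subgroup G)) := hQp.center_nontrivial
    obtain ⟨z, hz⟩ := exists_ne (1 : Subgroup.center (Q : Subgroup G))
    -- z : center of Q
    set g : G := ((z : (Q : Subgroup G)) : G) with hgdef
    have hg : g ≠ 1 := by
      intro h
      apply hz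
      apply Subtype.ext
      apply Subtype.ext
      exact h
    have hle : (Q : Subgroup G) ≤ Subgroup.centralizer ({g} : Set G) := by
      intro x hx
      rw [Subgroup.mem_centralizer_iff]
      intro y hy
      rw [Set.mem_singleton_iff] at hy
      subst hy
      have hzc := z.2
      rw [Subgroup.mem_center_iff] at hzc
      have := hzc ⟨x, hx⟩
      have h2 := congrArg (fun t : (Q : Subgroup G) => (t : G)) this
      simpa using h2.symm
    have hdvd : (Subgroup.centralizer ({g} : Set G)).index ∣ (Q : Subgroup G).index :=
      Subgroup.index_dvd_of_le hle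
    have hQidx : (Q : Subgroup G).index ∣ p ^ a * q ^ b := by
      rw [← hcard]; exact Subgroup.index_dvd_card _
    have hnq : ¬ q ∣ (Q : Subgroup G).index := Sylow.not_dvd_index Q
    have hidx : (Subgroup.centralizer ({g} : Set G)).index ∣ p ^ a * q ^ b := hdvd.trans hQidx
    obtain ⟨d1, d2, hd1, hd2, hd⟩ := (Nat.dvd_mul).mp hidx
    obtain ⟨k, hk, hk'⟩ := (Nat.dvd_prime_pow hp).mp hd1
    obtain ⟨l, hl, hl'⟩ := (Nat.dvd_prime_pow hq).mp hd2
    have hl0 : l = 0 := by
      by_contra hne
      apply hnq
      refine Dvd.dvd.trans ?_ hdvd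
      rw [← hd, hl']
      exact Dvd.dvd.mul_left (dvd_pow_self q hne) _
    subst hl0
    have hindex : (Subgroup.centralizer ({g} : Set G)).index = p ^ k := by
      rw [← hd, hk', hl']; simp
    have hprime := burnside_class p k hp g hg hindex
    have : Fact (Nat.card G).Prime := ⟨hprime⟩
    have hcyc : IsCyclic G := isCyclic_of_prime_card (p := Nat.card G) rfl
    let inst : CommGroup G := hcyc.commGroup
    exact @Group.isSolvable_of_comm G _ (fun a b => inst.mul_comm a b)
  · -- p-group
    have hb : b = 0 := by
      by_contra hne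
      apply hqd
      rw [hcard]
      exact Dvd.dvd.mul_left (dvd_pow_self q hne) _
    subst hb
    have : Fact p.Prime := ⟨hp⟩
    have hP : IsPGroup p G := IsPGroup.of_card (n := a) (by rw [hcard]; simp)
    have : Group.IsNilpotent G := hP.isNilpotent
    exact IsNilpotent.to_isSolvable

/-- Burnside's `p^a q^b` theorem, induction form -/
theorem isSolvable_of_card_pq_aux (p q : ℕ) (hp : p.Prime) (hq : q.Prime) :
    ∀ n : ℕ, ∀ (G : Type u) [Group G] [Finite G], Nat.card G = n →
      (∃ a b : ℕ, n = p ^ a * q ^ b) → Group.IsSolvable G := by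
  intro n
  induction n using Nat.strong_induction_on with
  | _ n ih =>
    intro G _ _ hn hab
    classical
    by_cases htriv : Subsingleton G
    · infer_instance
    · have : Nontrivial G := not_subsingleton_iff_nontrivial.mp htriv
      by_cases hsimple : IsSimpleGroup G
      · obtain ⟨a, b, hab⟩ := hab
        exact isSolvable_of_simple_pq p q a b hp hq (hn.trans hab)
      · -- there is a proper nontrivial normal subgroup
        have : ∃ N : Subgroup G, N.Normal ∧ N ≠ ⊥ ∧ N ≠ ⊤ := by
          by_contra hcon
          apply hsimple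
          refine { exists_pair_ne := exists_pair_ne G, eq_bot_or_eq_top_of_normal := ?_ }
          intro N hN
          by_contra h
          push Not at h
          exact hcon ⟨N, hN, h.1, h.2⟩
        obtain ⟨N, hN, hNbot, hNtop⟩ := this
        have := hN
        have hcardmul : Nat.card N * N.index = n := by
          rw [← hn]; exact Subgroup.card_mul_index N
        have hnpos : 0 < n := by rw [← hn]; exact Nat.card_pos
        have hNcard_dvd : Nat.card N ∣ n := ⟨_, hcardmul.symm⟩
        have hidx_dvd : N.index ∣ n := ⟨_, by rw [mul_comm]; exact hcardmul.symm⟩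
        have hNlt : Nat.card N < n := by
          have hle : Nat.card N ≤ n := Nat.le_of_dvd hnpos hNcard_dvd
          rcases lt_or_eq_of_le hle with h | h
          · exact h
          · exfalso
            apply hNtop
            rw [← Subgroup.card_eq_iff_eq_top]
            rw [h, hn]
        have hidxlt : N.index < n := by
          have hle : N.index ≤ n := Nat.le_of_dvd hnpos hidx_dvd
          rcases lt_or_eq_of_le hle with h | h
          · exact h
          · exfalso
            apply hNbot
            have h1 : Nat.card N = 1 := by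
              have hh : Nat.card N * n = 1 * n :=
                calc Nat.card N * n = Nat.card N * N.index := by rw [h]
                  _ = n := hcardmul
                  _ = 1 * n := (one_mul n).symm
              exact Nat.eq_of_mul_eq_mul_right hnpos hh
            exact Subgroup.card_eq_one.mp h1
        have hdiv : ∀ m : ℕ, m ∣ n → ∃ a b : ℕ, m = p ^ a * q ^ b := by
          intro m hm
          obtain ⟨a, b, hab⟩ := hab
          rw [hab] at hm
          obtain ⟨d1, d2, hd1, hd2, hd⟩ := (Nat.dvd_mul).mp hm
          obtain ⟨k, _, hk'⟩ := (Nat.dvd_prime_pow hp).mp hd1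
          obtain ⟨l, _, hl'⟩ := (Nat.dvd_prime_pow hq).mp hd2
          exact ⟨k, l, by rw [← hd, hk', hl']⟩
        have hNsol : Group.IsSolvable N := ih (Nat.card N) hNlt N rfl (hdiv _ hNcard_dvd)
        have hQsol : Group.IsSolvable (G ⧸ N) := by
          refine ih N.index hidxlt (G ⧸ N) ?_ (hdiv _ hidx_dvd)
          rw [Subgroup.index_eq_card]
        refine Group.isSolvable_of_ker_le_range N.subtype (QuotientGroup.mk' N) ?_
        rw [QuotientGroup.ker_mk', Subgroup.range_subtype]

/-- Burnside's `p^a q^b` theorem -/
theorem isSolvable_of_card_pq {G : Type u} [Group G] [Finite G] (p q a b : ℕ) (hp : p.Prime)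
    (hq : q.Prime) (hcard : Nat.card G = p ^ a * q ^ b) : Group.IsSolvable G :=
  isSolvable_of_card_pq_aux p q hp hq _ G rfl ⟨a, b, hcard⟩

end Cfsg.Agent.Lib.Helper4
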