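import Mathlib
import Cfsg.Agent.Lib.Helper11.PGroupFrattini

set_option autoImplicit false

/-!
# A `p'`-element acting trivially on `D/D'` centralizes the `p`-group `D` (helper4)

* `commutator_le_coatom`, `eq_top_of_sup_commutator` : for finite `p`-groups.
* `centralizes_of_centralizes_mod_derived`
-/

namespace Cfsg.Agent.Lib.Helper4

open Subgroup

section PGroup

variable {P : Type*} [Group P] [Finite P] {p : ℕ} [Fact p.Prime]

/-- the commutator subgroup of a finite `p`-group lies in every maximal subgroup -/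
theorem commutator_le_coatom (hP : IsPGroup p P) (Mx : Subgroup P) (hM : IsCoatom Mx) :
    commutator P ≤ Mx := by
  haveI : Mx.Normal := Cfsg.Agent.Lib.Helper11.coatom_normal_of_isPGroup hP Mx hM
  have hQ : IsPGroup p (P ⧸ Mx) := hP.to_quotient Mx
  haveI : Nontrivial (P ⧸ Mx) := by
    by_contra h
    rw [not_nontrivial_iff_subsingleton] at h
    apply hM.1
    rw [eq_top_iff]
    intro x _
    have : (QuotientGroup.mk x : P ⧸ Mx) = 1 := Subsingleton.elim _ _
    exact (QuotientGroup.eq_one_iff x).mp this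
  haveI := hQ.center_nontrivial
  -- the preimage of the centre is everything
  have hle : Mx ≤ (Subgroup.center (P ⧸ Mx)).comap (QuotientGroup.mk' Mx) := by
    intro m hm
    rw [Subgroup.mem_comap]
    have : (QuotientGroup.mk' Mx) m = 1 := (QuotientGroup.eq_one_iff m).mpr hm
    rw [this]
    exact Subgroup.one_mem _
  have htop : (Subgroup.center (P ⧸ Mx)).comap (QuotientGroup.mk' Mx) = ⊤ := by
    rcases eq_or_lt_of_le hle with heq | hlt
    · exfalso
      obtain ⟨z, hz⟩ := exists_ne (1 : Subgroup.center (P ⧸ Mx))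
      obtain ⟨y, hy⟩ := QuotientGroup.mk'_surjective Mx (z : P ⧸ Mx)
      have hyM : y ∈ (Subgroup.center (P ⧸ Mx)).comap (QuotientGroup.mk' Mx) := by
        rw [Subgroup.mem_comap, hy]
        exact z.2
      rw [← heq] at hyM
      apply hz
      apply Subtype.ext
      rw [← hy]
      exact (QuotientGroup.eq_one_iff y).mpr hyM
    · exact hM.2 _ hlt
  rw [commutator_def, Subgroup.commutator_le]
  intro a _ b _
  have ha : a ∈ (Subgroup.center (P ⧸ Mx)).comap (QuotientGroup.mk' Mx) := by
    rw [htop]; exact Subgroup.mem_top a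
  rw [Subgroup.mem_comap, Subgroup.mem_center_iff] at ha
  have h1 := ha ((QuotientGroup.mk' Mx) b)
  rw [← QuotientGroup.eq_one_iff]
  show (QuotientGroup.mk' Mx) (a * b * a⁻¹ * b⁻¹) = 1
  rw [map_mul, map_mul, map_mul, map_inv, map_inv, ← h1]
  group

theorem commutator_le_frattini (hP : IsPGroup p P) : commutator P ≤ frattini P := by
  unfold frattini Order.radical
  refine le_iInf fun Mx => le_iInf fun hM => commutator_le_coatom hP Mx hM

theorem eq_top_of_sup_commutator (hP : IsPGroup p P) (H : Subgroup P)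
    (h : H ⊔ commutator P = ⊤) : H = ⊤ := by
  apply frattini_nongenerating
  rw [eq_top_iff, ← h]
  exact sup_le_sup_left (commutator_le_frattini hP) H

end PGroup

section Coprime

variable {G : Type*} [Group G] [Finite G] {p : ℕ} [hp : Fact p.Prime]
  (D : Subgroup G) [hDn : D.Normal]

/-- the elements of `G` acting trivially on `D/D'` -/
def trivModDerived : Subgroup G :=
  (Subgroup.centralizer ((D.map (QuotientGroup.mk' ⁅D, D⁆) : Subgroup (G ⧸ ⁅D, D⁆)) :
    Set (G ⧸ ⁅D, D⁆))).comap (QuotientGroup.mk' ⁅D, D⁆)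

theorem mem_trivModDerived (x : G) :
    x ∈ trivModDerived D ↔ ∀ d ∈ D, x * d * x⁻¹ * d⁻¹ ∈ ⁅D, D⁆ := by
  unfold trivModDerived
  rw [Subgroup.mem_comap, Subgroup.mem_centralizer_iff]
  constructor
  · intro h d hd
    have h1 := h (QuotientGroup.mk' ⁅D, D⁆ d) (Subgroup.mem_map_of_mem _ hd)
    rw [← QuotientGroup.eq_one_iff]
    show (QuotientGroup.mk' ⁅D, D⁆) (x * d * x⁻¹ * d⁻¹) = 1
    rw [map_mul, map_mul, map_mul, map_inv, map_inv, ← h1]
    group
  · intro h y hy
    obtain ⟨d, hd, rfl⟩ := Subgroup.mem_map.mp hy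
    have h1 := (QuotientGroup.eq_one_iff _).mpr (h d hd)
    have h2 : (QuotientGroup.mk' ⁅D, D⁆) (x * d * x⁻¹ * d⁻¹) = 1 := h1
    rw [map_mul, map_mul, map_mul, map_inv, map_inv] at h2
    have h3 : (QuotientGroup.mk' ⁅D, D⁆) x * (QuotientGroup.mk' ⁅D, D⁆) d =
        (QuotientGroup.mk' ⁅D, D⁆) d * (QuotientGroup.mk' ⁅D, D⁆) x := by
      have := congrArg (fun t => t * ((QuotientGroup.mk' ⁅D, D⁆) d * (QuotientGroup.mk' ⁅D, D⁆) x)) h2
      simp only [one_mul] at this
      rw [← this]
      group
    exact h3.symm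

/-- a `q`-subgroup (`q ≠ p`) acting trivially on `D/D'` centralizes the normal `p`-subgroup `D` -/
theorem le_centralizer_of_isPGroup_of_trivModDerived (hD : IsPGroup p D) {q : ℕ} [hq : Fact q.Prime]
    (hqp : q ≠ p) (Q : Subgroup G) (hQ : IsPGroup q Q) (hQT : Q ≤ trivModDerived D) :
    Q ≤ Subgroup.centralizer (D : Set G) := by
  classical
  have hD'n : (⁅D, D⁆ : Subgroup G).Normal := inferInstance
  have hD'le : (⁅D, D⁆ : Subgroup G) ≤ D := Subgroup.commutator_le_right D D
  -- fixed points on each coset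
  have hfix : ∀ d ∈ D, ∃ z : G, z * d⁻¹ ∈ ⁅D, D⁆ ∧ ∀ a ∈ Q, a * z * a⁻¹ = z := by
    intro d hd
    let Ω : Type _ := {z : G // z * d⁻¹ ∈ ⁅D, D⁆}
    let act : MulAction Q Ω :=
      { smul := fun a z => ⟨(a : G) * z.1 * (a : G)⁻¹, by
          have h1 : (a : G) * (z.1 * d⁻¹) * (a : G)⁻¹ ∈ ⁅D, D⁆ := hD'n.conj_mem _ z.2 a
          have h2 := (mem_trivModDerived D (a : G)).mp (hQT a.2) d hd
          have h3 : (a : G) * z.1 * (a : G)⁻¹ * d⁻¹ =
              ((a : G) * (z.1 * d⁻¹) * (a : G)⁻¹) * ((a : G) * d * (a : G)⁻¹ * d⁻¹) := by group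
          rw [h3]
          exact Subgroup.mul_mem _ h1 h2⟩
        one_smul := fun z => by
          apply Subtype.ext
          show ((1 : Q) : G) * z.1 * ((1 : Q) : G)⁻¹ = z.1
          simp
        mul_smul := fun a b z => by
          apply Subtype.ext
          show ((a * b : Q) : G) * z.1 * ((a * b : Q) : G)⁻¹ =
            (a : G) * ((b : G) * z.1 * (b : G)⁻¹) * (a : G)⁻¹
          rw [Subgroup.coe_mul]
          group }
    have hcard : Nat.card Ω = Nat.card (⁅D, D⁆ : Subgroup G) := by
      apply Nat.card_congr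
      exact
        { toFun := fun z => ⟨z.1 * d⁻¹, z.2⟩
          invFun := fun w => ⟨w.1 * d, by
            have : w.1 * d * d⁻¹ = w.1 := by group
            rw [this]; exact w.2⟩
          left_inv := fun z => by
            apply Subtype.ext
            show z.1 * d⁻¹ * d = z.1
            group
          right_inv := fun w => by
            apply Subtype.ext
            show w.1 * d * d⁻¹ = w.1
            group }
    obtain ⟨k, hk⟩ := (hD.to_le hD'le).exists_card_eq
    have hnd : ¬ q ∣ Nat.card Ω := by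
      rw [hcard, hk]
      intro h
      have := (Nat.prime_dvd_prime_iff_eq hq.out hp.out).mp (hq.out.dvd_of_dvd_pow h)
      exact hqp this
    obtain ⟨z, hz⟩ := @IsPGroup.nonempty_fixed_point_of_prime_not_dvd_card q Q _ hQ _ Ω act hnd
    refine ⟨z.1, z.2, fun a ha => ?_⟩
    have := hz ⟨a, ha⟩
    exact congrArg Subtype.val this
  -- the centralizer of `Q` in `D` supplements the derived subgroup
  have htop : (Subgroup.centralizer (Q : Set G)).subgroupOf D = ⊤ := by
    apply eq_top_of_sup_commutator hD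
    rw [eq_top_iff]
    intro d _
    obtain ⟨z, hz1, hz2⟩ := hfix (d : G) d.2
    have hzD : z ∈ D := by
      have : z = (z * (d : G)⁻¹) * d := by group
      rw [this]
      exact D.mul_mem (hD'le hz1) d.2
    have hzc : z ∈ Subgroup.centralizer (Q : Set G) := by
      rw [Subgroup.mem_centralizer_iff]
      intro a ha
      have := hz2 a ha
      calc a * z = a * z * a⁻¹ * a := by group
        _ = z * a := by rw [this]
    -- `d = z * (z⁻¹ d)`
    have hc : z⁻¹ * (d : G) ∈ ⁅D, D⁆ := by
      have h1 : (z * (d : G)⁻¹)⁻¹ ∈ ⁅D, D⁆ := Subgroup.inv_mem _ hz1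
      have h2 := hD'n.conj_mem _ h1 z⁻¹
      have h3 : z⁻¹ * (z * (d : G)⁻¹)⁻¹ * z⁻¹⁻¹ = z⁻¹ * (d : G) := by group
      rwa [h3] at h2
    rw [← Subgroup.map_subtype_commutator] at hc
    obtain ⟨c, hc1, hc2⟩ := Subgroup.mem_map.mp hc
    have hd : d = ⟨z, hzD⟩ * c := by
      apply Subtype.ext
      show (d : G) = z * (c : G)
      have : (c : G) = z⁻¹ * (d : G) := hc2
      rw [this]
      group
    rw [hd]
    apply Subgroup.mul_mem_sup _ hc1
    rw [Subgroup.mem_subgroupOf]
    exact hzc
  intro a ha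
  rw [Subgroup.mem_centralizer_iff]
  intro d hd
  have h1 : (⟨d, hd⟩ : D) ∈ (Subgroup.centralizer (Q : Set G)).subgroupOf D := by
    rw [htop]; exact Subgroup.mem_top _
  rw [Subgroup.mem_subgroupOf, Subgroup.mem_centralizer_iff] at h1
  exact (h1 a ha).symm

/-- **a `p'`-element acting trivially on `D/D'` centralizes the normal `p`-subgroup `D`** -/
theorem centralizes_of_trivModDerived (hD : IsPGroup p D) (x : G) (hx : ¬ p ∣ orderOf x)
    (hxT : x ∈ trivModDerived D) : x ∈ Subgroup.centralizer (D : Set G) := by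
  induction' hn : orderOf x using Nat.strong_induction_on with n ih generalizing x
  by_cases hn1 : n = 1
  · rw [hn1] at hn
    rw [orderOf_eq_one_iff.mp hn]
    exact Subgroup.one_mem _
  · have hnpos : 0 < n := by rw [← hn]; exact orderOf_pos x
    set q := n.minFac with hqdef
    have hqP : q.Prime := Nat.minFac_prime hn1
    haveI : Fact q.Prime := ⟨hqP⟩
    have hqn : q ∣ n := Nat.minFac_dvd n
    have hqp : q ≠ p := by
      intro h
      apply hx
      rw [hn, ← h]
      exact hqn
    obtain ⟨e, m', hm', hnm⟩ := Nat.exists_eq_pow_mul_and_not_dvd hnpos.ne' q hqP.ne_one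
    have he : e ≠ 0 := by
      rintro rfl
      rw [pow_zero, one_mul] at hnm
      rw [hnm] at hqn
      exact hm' hqn
    have hm'pos : 0 < m' := by
      rcases Nat.eq_zero_or_pos m' with h | h
      · rw [h, mul_zero] at hnm; omega
      · exact h
    have hqe : 2 ≤ q ^ e := by
      calc 2 ≤ q := hqP.two_le
        _ = q ^ 1 := (pow_one q).symm
        _ ≤ q ^ e := Nat.pow_le_pow_right hqP.pos (by omega)
    -- `y = x ^ m'` has order `q ^ e`
    have hy : orderOf (x ^ m') = q ^ e := by
      rw [orderOf_pow_of_dvd hm'pos.ne' (by rw [hn, hnm]; exact dvd_mul_left _ _), hn, hnm,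
        Nat.mul_div_cancel _ hm'pos]
    have hw : orderOf (x ^ (q ^ e)) = m' := by
      rw [orderOf_pow_of_dvd (by positivity) (by rw [hn, hnm]; exact dvd_mul_right _ _), hn, hnm,
        Nat.mul_div_cancel_left _ (by positivity)]
    have hwc : x ^ (q ^ e) ∈ Subgroup.centralizer (D : Set G) := by
      apply ih m' _ (x ^ (q ^ e)) _ (Subgroup.pow_mem _ hxT _) hw
      · rw [hnm]
        calc m' = 1 * m' := (one_mul _).symm
          _ < q ^ e * m' := Nat.mul_lt_mul_of_pos_right (by omega) hm'pos
      · intro h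
        apply hx
        rw [hn, hnm]
        rw [hw] at h
        exact h.trans (dvd_mul_left _ _)
    have hyc : x ^ m' ∈ Subgroup.centralizer (D : Set G) := by
      have hQ : IsPGroup q (Subgroup.zpowers (x ^ m')) := by
        apply IsPGroup.of_card (n := e)
        rw [Nat.card_zpowers, hy]
      have hQT : Subgroup.zpowers (x ^ m') ≤ trivModDerived D := by
        rw [Subgroup.zpowers_le]
        exact Subgroup.pow_mem _ hxT _
      exact le_centralizer_of_isPGroup_of_trivModDerived D hD hqp _ hQ hQT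
        (Subgroup.mem_zpowers _)
    -- Bezout
    have hcop : Nat.Coprime m' (q ^ e) :=
      Nat.Coprime.pow_right e (Nat.Coprime.symm ((Nat.Prime.coprime_iff_not_dvd hqP).mpr hm'))
    have hbez := Nat.gcd_eq_gcd_ab m' (q ^ e)
    rw [hcop] at hbez
    have hx1 : x = (x ^ m') ^ (Nat.gcdA m' (q ^ e)) * (x ^ (q ^ e)) ^ (Nat.gcdB m' (q ^ e)) := by
      rw [← zpow_natCast x m', ← zpow_natCast x (q ^ e), ← zpow_mul, ← zpow_mul, ← zpow_add,
        ← hbez]
      simp
    rw [hx1]
    exact Subgroup.mul_mem _ (Subgroup.zpow_mem _ hyc _) (Subgroup.zpow_mem _ hwc _)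

end Coprime

end Cfsg.Agent.Lib.Helper4
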