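import Mathlib
import Cfsg.Prelude.Def_Characters
import Cfsg.Agent.Lib.Helper4.VanishFree
import Cfsg.Agent.Lib.Helper26.IndChar
import Cfsg.Agent.Lib.Helper26.CharInt

set_option autoImplicit false

namespace Cfsg.Agent.Lib.Helper4

open scoped ComplexConjugate

theorem card_centralizer_one (K : Type*) [Group K] :
    Nat.card (Subgroup.centralizer ({1} : Set K)) = Nat.card K := by
  have : Subgroup.centralizer ({1} : Set K) = ⊤ := by
    ext x
    simp [Subgroup.mem_centralizer_iff]
  rw [this]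
  exact Subgroup.card_top

section

variable {G : Type*} [Group G] [Fintype G] {H : Type*} [Group H] [Fintype H]

/-- inner product of product functions on `G × H` -/
theorem classInner_prod (φ φ' : G → ℂ) (ψ ψ' : H → ℂ) :
    Cfsg.classInner (fun x : G × H => φ x.1 * ψ x.2) (fun x : G × H => φ' x.1 * ψ' x.2) =
      Cfsg.classInner φ φ' * Cfsg.classInner ψ ψ' := by
  unfold Cfsg.classInner
  rw [Nat.card_prod, Fintype.sum_prod_type]
  have h1 : ∀ (g : G) (h : H), φ (g, h).1 * ψ (g, h).2 * conj (φ' (g, h).1 * ψ' (g, h).2) =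
      (φ g * conj (φ' g)) * (ψ h * conj (ψ' h)) := by
    intro g h
    rw [map_mul]
    ring
  simp only [h1]
  simp only [← Finset.mul_sum]
  rw [← Finset.sum_mul]
  push_cast
  rw [mul_inv]
  ring

/-- product of characters is a character of the product group -/
theorem isCharacter_prod {φ : G → ℂ} {ψ : H → ℂ} (hφ : Cfsg.IsCharacter G φ)
    (hψ : Cfsg.IsCharacter H ψ) :
    Cfsg.IsCharacter (G × H) (fun x : G × H => φ x.1 * ψ x.2) := by
  obtain ⟨n, ρ, rfl⟩ := hφ
  obtain ⟨m, σ, rfl⟩ := hψ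
  let ρ' : Representation ℂ (G × H) (Fin n → ℂ) := ρ.comp (MonoidHom.fst G H)
  let σ' : Representation ℂ (G × H) (Fin m → ℂ) := σ.comp (MonoidHom.snd G H)
  have h := isCharacter_of_rep (Representation.tprod ρ' σ')
  rw [Representation.char_tensor] at h
  exact h

/-- product of irreducible characters is an irreducible character of the product group -/
theorem isIrrCharacter_prod {φ : G → ℂ} {ψ : H → ℂ} (hφ : Cfsg.IsIrrCharacter G φ)
    (hψ : Cfsg.IsIrrCharacter H ψ) :
    Cfsg.IsIrrCharacter (G × H) (fun x : G × H => φ x.1 * ψ x.2) := by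
  classical
  have hchar := isCharacter_prod (Cfsg.Agent.Lib.Helper26.isCharacter_of_isIrrCharacter hφ)
    (Cfsg.Agent.Lib.Helper26.isCharacter_of_isIrrCharacter hψ)
  apply Cfsg.Agent.Lib.Helper26.isIrrCharacter_of_norm_one
    (Cfsg.Agent.Lib.Helper26.isGeneralizedCharacter_of_isCharacter hchar)
  · rw [classInner_prod, Cfsg.Agent.Lib.Helper26.classInner_irr hφ hφ,
      Cfsg.Agent.Lib.Helper26.classInner_irr hψ hψ, if_pos rfl, if_pos rfl, mul_one]
  · obtain ⟨d, hd, hd1⟩ := Cfsg.Agent.Lib.Helper26.irr_degree hφ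
    obtain ⟨e, he, he1⟩ := Cfsg.Agent.Lib.Helper26.irr_degree hψ
    show 0 < (φ 1 * ψ 1).re
    rw [hd1, he1, ← Nat.cast_mul, Complex.natCast_re]
    exact_mod_cast Nat.mul_pos hd he

/-- every irreducible character of `G × H` is a product of irreducible characters -/
theorem exists_prod_of_isIrrCharacter {θ : G × H → ℂ} (hθ : Cfsg.IsIrrCharacter (G × H) θ) :
    ∃ (φ : G → ℂ) (ψ : H → ℂ), Cfsg.IsIrrCharacter G φ ∧ Cfsg.IsIrrCharacter H ψ ∧
      θ = fun x => φ x.1 * ψ x.2 := by
  classical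
  by_contra hcon
  push Not at hcon
  have : Fintype (Cfsg.IrrCharacter G) := Fintype.ofFinite _
  have : Fintype (Cfsg.IrrCharacter H) := Fintype.ofFinite _
  have : Fintype (Cfsg.IrrCharacter (G × H)) := Fintype.ofFinite _
  let ι : Cfsg.IrrCharacter G × Cfsg.IrrCharacter H → Cfsg.IrrCharacter (G × H) := fun p =>
    ⟨fun x => (p.1 : G → ℂ) x.1 * (p.2 : H → ℂ) x.2, isIrrCharacter_prod p.1.2 p.2.2⟩
  have hι : Function.Injective ι := by
    intro p q hpq
    have h1 : Cfsg.classInner (ι p : G × H → ℂ) (ι q : G × H → ℂ) = 1 := by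
      rw [hpq, Cfsg.Agent.Lib.Helper26.classInner_irr (ι q).2 (ι q).2, if_pos rfl]
    have h2 : Cfsg.classInner (ι p : G × H → ℂ) (ι q : G × H → ℂ) =
        Cfsg.classInner (p.1 : G → ℂ) (q.1 : G → ℂ) *
          Cfsg.classInner (p.2 : H → ℂ) (q.2 : H → ℂ) := classInner_prod _ _ _ _
    rw [h2, classInner_irr, classInner_irr] at h1
    by_cases ha : p.1 = q.1
    · by_cases hb : p.2 = q.2
      · exact Prod.ext ha hb
      · rw [if_neg hb, mul_zero] at h1
        exact absurd h1 zero_ne_one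
    · rw [if_neg ha, zero_mul] at h1
      exact absurd h1 zero_ne_one
  let θ0 : Cfsg.IrrCharacter (G × H) := ⟨θ, hθ⟩
  have hθ0 : θ0 ∉ Finset.univ.image ι := by
    intro hmem
    obtain ⟨p, _, hp⟩ := Finset.mem_image.mp hmem
    exact hcon p.1 p.2 p.1.2 p.2.2 (congrArg Subtype.val hp).symm
  have hsub : insert θ0 (Finset.univ.image ι) ⊆
      (Finset.univ : Finset (Cfsg.IrrCharacter (G × H))) := Finset.subset_univ _
  have hle := Finset.sum_le_sum_of_subset_of_nonneg
    (f := fun χ : Cfsg.IrrCharacter (G × H) => Complex.normSq ((χ : G × H → ℂ) 1)) hsub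
    (fun χ _ _ => Complex.normSq_nonneg _)
  rw [Finset.sum_insert hθ0, Finset.sum_image (fun a _ b _ h => hι h),
    sum_normSq_char (1 : G × H)] at hle
  have h3 : ∑ p : Cfsg.IrrCharacter G × Cfsg.IrrCharacter H,
      Complex.normSq ((ι p : G × H → ℂ) 1) = (Nat.card G : ℝ) * (Nat.card H : ℝ) := by
    have hG := sum_normSq_char (1 : G)
    have hH := sum_normSq_char (1 : H)
    rw [card_centralizer_one G] at hG
    rw [card_centralizer_one H] at hH
    rw [← hG, ← hH, Finset.sum_mul_sum, Fintype.sum_prod_type]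
    refine Finset.sum_congr rfl fun a _ => ?_
    refine Finset.sum_congr rfl fun b _ => ?_
    show Complex.normSq ((a : G → ℂ) 1 * (b : H → ℂ) 1) = _
    rw [map_mul]
  rw [h3, card_centralizer_one (G × H), Nat.card_prod] at hle
  push_cast at hle
  have hz : Complex.normSq (θ 1) ≤ 0 := by
    have : Complex.normSq ((θ0 : G × H → ℂ) 1) = Complex.normSq (θ 1) := rfl
    rw [this] at hle
    linarith
  have hz' : θ 1 = 0 := Complex.normSq_eq_zero.mp (le_antisymm hz (Complex.normSq_nonneg _))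
  obtain ⟨d, hd, hd1⟩ := Cfsg.Agent.Lib.Helper26.irr_degree hθ
  rw [hd1] at hz'
  have : d = 0 := by exact_mod_cast hz'
  omega

end

end Cfsg.Agent.Lib.Helper4
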