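import Mathlib
import Cfsg.Prelude.Def_Characters
import Cfsg.Agent.Lib.Helper7.Gallagher
import Cfsg.Agent.Lib.Helper4.BurnsideClass

set_option autoImplicit false

/-!
# Blichfeldt's divisibility argument

If the values of a character `χ` off the identity lie in a finite set `V` of rational integers, then
`|G|` divides `∏ v ∈ V, (χ 1 - v)`.
-/

namespace Cfsg.Agent.Lib.Helper4

open Cfsg Cfsg.Agent.Lib.Helper26 Cfsg.Agent.Lib.Helper7
open scoped ComplexConjugate

section

variable {G : Type*} [Group G] [Fintype G]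

theorem isGeneralizedCharacter_mul {α β : G → ℂ} (hα : IsGeneralizedCharacter G α)
    (hβ : IsGeneralizedCharacter G β) : IsGeneralizedCharacter G (α * β) := by
  obtain ⟨a, b, ha, hb, rfl⟩ := hα
  obtain ⟨c, d, hc, hd, rfl⟩ := hβ
  refine ⟨a * c + b * d, a * d + b * c,
    isCharacter_add (isCharacter_mul ha hc) (isCharacter_mul hb hd),
    isCharacter_add (isCharacter_mul ha hd) (isCharacter_mul hb hc), ?_⟩
  ring

theorem isGeneralizedCharacter_one : IsGeneralizedCharacter G (1 : G → ℂ) := by
  have h : IsCharacter G (fun _ : G => (1 : ℂ)) := isCharacter_of_isIrrCharacter isIrrCharacter_one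
  refine ⟨(fun _ : G => (1 : ℂ)) + (fun _ : G => (1 : ℂ)), fun _ : G => (1 : ℂ),
    isCharacter_add h h, h, ?_⟩
  funext g
  simp

theorem isGeneralizedCharacter_const_int (z : ℤ) :
    IsGeneralizedCharacter G (fun _ : G => (z : ℂ)) := by
  have h := isGeneralizedCharacter_zsmul (isGeneralizedCharacter_one (G := G)) z
  have h2 : z • (1 : G → ℂ) = fun _ : G => (z : ℂ) := by
    funext g
    simp
  rwa [h2] at h

theorem isGeneralizedCharacter_of_isCharacter' {χ : G → ℂ} (hχ : IsCharacter G χ) :
    IsGeneralizedCharacter G χ := by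
  have h : IsCharacter G (fun _ : G => (1 : ℂ)) := isCharacter_of_isIrrCharacter isIrrCharacter_one
  refine ⟨χ + (fun _ : G => (1 : ℂ)), fun _ : G => (1 : ℂ), isCharacter_add hχ h, h, ?_⟩
  funext g
  simp

theorem isGeneralizedCharacter_finset_prod {ι : Type*} (s : Finset ι) (f : ι → G → ℂ)
    (hf : ∀ i ∈ s, IsGeneralizedCharacter G (f i)) : IsGeneralizedCharacter G (∏ i ∈ s, f i) := by
  classical
  induction s using Finset.induction_on with
  | empty =>
    rw [Finset.prod_empty]
    exact isGeneralizedCharacter_one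
  | insert i s hi ih =>
    rw [Finset.prod_insert hi]
    exact isGeneralizedCharacter_mul (hf i (Finset.mem_insert_self i s))
      (ih fun j hj => hf j (Finset.mem_insert_of_mem hj))

theorem classInner_genChar_int {α β : G → ℂ} (hα : IsGeneralizedCharacter G α)
    (hβ : IsCharacter G β) : ∃ w : ℤ, classInner α β = w := by
  obtain ⟨a, b, ha, hb, rfl⟩ := hα
  obtain ⟨m, hm⟩ := classInner_isCharacter_nat ha hβ
  obtain ⟨k, hk⟩ := classInner_isCharacter_nat hb hβ
  refine ⟨(m : ℤ) - k, ?_⟩
  rw [classInner_sub_left, hm, hk]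
  push_cast
  rfl

/-- a generalized character vanishing off the identity has degree divisible by `|G|` -/
theorem card_dvd_of_vanish (ω : G → ℂ) (hω : IsGeneralizedCharacter G ω)
    (h0 : ∀ g : G, g ≠ 1 → ω g = 0) (N : ℤ) (hN : ω 1 = N) : (Nat.card G : ℤ) ∣ N := by
  classical
  have h1 : IsCharacter G (fun _ : G => (1 : ℂ)) := isCharacter_of_isIrrCharacter isIrrCharacter_one
  obtain ⟨w, hw⟩ := classInner_genChar_int hω h1
  have hG : (Nat.card G : ℂ) ≠ 0 := by
    have : Nat.card G ≠ 0 := Nat.card_pos.ne'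
    exact_mod_cast this
  have h2 : classInner ω (fun _ : G => (1 : ℂ)) = (Nat.card G : ℂ)⁻¹ * ω 1 := by
    unfold classInner
    congr 1
    rw [Finset.sum_eq_single (1 : G)]
    · simp
    · intro g _ hg
      rw [h0 g hg, zero_mul]
    · intro h
      exact absurd (Finset.mem_univ _) h
  rw [h2, hN] at hw
  refine ⟨w, ?_⟩
  have h3 : (N : ℂ) = (Nat.card G : ℂ) * w := by
    rw [← hw]
    field_simp
  exact_mod_cast h3

/-- **Blichfeldt**: if the values of `χ` off the identity lie in the finite set `V` of integers then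
`|G|` divides `∏ v ∈ V, (χ 1 - v)`. -/
theorem card_dvd_prod_sub (χ : G → ℂ) (hχ : IsCharacter G χ) (V : Finset ℤ)
    (hV : ∀ g : G, g ≠ 1 → ∃ v ∈ V, χ g = v) (n : ℤ) (hn : χ 1 = n) :
    (Nat.card G : ℤ) ∣ ∏ v ∈ V, (n - v) := by
  classical
  apply card_dvd_of_vanish (∏ v ∈ V, (χ - fun _ : G => ((v : ℤ) : ℂ)))
  · apply isGeneralizedCharacter_finset_prod
    intro v _
    exact isGeneralizedCharacter_sub (isGeneralizedCharacter_of_isCharacter' hχ)
      (isGeneralizedCharacter_const_int v)
  · intro g hg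
    obtain ⟨v, hv, hgv⟩ := hV g hg
    rw [Finset.prod_apply]
    apply Finset.prod_eq_zero hv
    simp [hgv]
  · rw [Finset.prod_apply]
    push_cast
    refine Finset.prod_congr rfl fun v _ => ?_
    simp [hn]

end

end Cfsg.Agent.Lib.Helper4
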