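import Mathlib
import Cfsg.Agent.S0905
import Cfsg.Agent.Lib.Helper28.GroupAlgPow
import Cfsg.Agent.Lib.Helper28.BlockOsima

set_option autoImplicit false

/-!
# Central characters vanish mod `M` on classes outside the centralizer of a normal `p`-subgroup
(helper4)

* `convPow`, `omegaF_convPow`
* `omegaF_memLocalIdeal_of_nilpotent`
* `centralChar_memLocalIdeal_of_not_centralizer`
-/

namespace Cfsg.Agent.Lib.Helper4

open Cfsg Cfsg.Agent.Lib.Helper28
open scoped Classical

section

variable {G : Type*} [Group G] [Fintype G] {M : Ideal AlgInt}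

/-- iterated convolution power -/
noncomputable def convPow (a : G → ℂ) : ℕ → G → ℂ
  | 0 => deltaF 1
  | (n + 1) => conv a (convPow a n)

theorem toMA_deltaF_one : toMA (deltaF (1 : G)) = 1 := by
  apply MonoidAlgebra.coeff_injective
  ext y
  rw [toMA_coeff, MonoidAlgebra.one_def, MonoidAlgebra.coeff_single, Finsupp.single_apply]
  unfold deltaF
  by_cases h : y = 1
  · rw [if_pos h, if_pos h.symm]
  · rw [if_neg h, if_neg (fun h' => h h'.symm)]

theorem toMA_convPow (a : G → ℂ) (n : ℕ) : toMA (convPow a n) = (toMA a) ^ n := by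
  induction n with
  | zero => rw [pow_zero]; exact toMA_deltaF_one
  | succ n ih =>
    show toMA (conv a (convPow a n)) = _
    rw [toMA_conv, ih, pow_succ']

theorem isClassFunction_convPow {a : G → ℂ} (ha : IsClassFunction G a) (n : ℕ) :
    IsClassFunction G (convPow a n) := by
  induction n with
  | zero => exact isClassFunction_deltaF_one
  | succ n ih => exact isClassFunction_conv ha ih

theorem omegaF_convPow {χ : G → ℂ} (hχ : IsIrrCharacter G χ) {a : G → ℂ}
    (ha : IsClassFunction G a) (n : ℕ) : omegaF χ (convPow a n) = (omegaF χ a) ^ n := by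
  induction n with
  | zero =>
    rw [pow_zero]
    exact omegaF_deltaF_one (irr_one_ne_zero hχ)
  | succ n ih =>
    show omegaF χ (conv a (convPow a n)) = _
    rw [omegaF_conv hχ a _ ha (isClassFunction_convPow ha n), ih, pow_succ']

theorem toMA_map {R S : Type*} [CommRing R] [CommRing S] (f : R →+* S) (a : G → R) :
    MonoidAlgebra.mapRingHom G f (toMA a) = toMA (fun g => f (a g)) := by
  unfold toMA
  rw [map_sum]
  refine Finset.sum_congr rfl fun g _ => ?_
  rw [MonoidAlgebra.mapRingHom_single]

/-- if an integral class function is nilpotent in the group algebra over `𝔽_p`, then the central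
characters take values in the local ideal on it -/
theorem omegaF_memLocalIdeal_of_nilpotent {p : ℕ} (hM : IsPModular p M)
    {χ : G → ℂ} (hχ : IsIrrCharacter G χ) (a : G → ℤ) (ha : ∀ g k : G, a (k * g * k⁻¹) = a g)
    (hnil : IsNilpotent (toMA (fun g => ((a g : ℤ) : ZMod p)))) :
    MemLocalIdeal M (omegaF χ (fun g => (a g : ℂ))) := by
  have hMprime : M.IsPrime := hM.2.1.isPrime
  have hMtop : M ≠ ⊤ := Ideal.IsPrime.ne_top hMprime
  have : Fintype (ConjClasses G) := Fintype.ofFinite _
  obtain ⟨n, hn⟩ := hnil
  have haC : IsClassFunction G (fun g => (a g : ℂ)) := by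
    intro g k
    show ((a (k * g * k⁻¹) : ℤ) : ℂ) = a g
    rw [ha]
  -- divisibility of the coefficients of the `n`-th power
  have hdiv : ∀ y : G, (p : ℤ) ∣ ((toMA a) ^ n).coeff y := by
    intro y
    have h1 : MonoidAlgebra.mapRingHom G (Int.castRingHom (ZMod p)) ((toMA a) ^ n) = 0 := by
      rw [map_pow, toMA_map]
      exact hn
    have h2 := congrArg (fun z => MonoidAlgebra.coeff z y) h1
    simp only [MonoidAlgebra.coeff_mapRingHom, MonoidAlgebra.coeff_zero, Finsupp.coe_zero,
      Pi.zero_apply, eq_intCast] at h2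
    exact (ZMod.intCast_zmod_eq_zero_iff_dvd _ p).mp h2
  have hval : ∀ y : G, convPow (fun g => (a g : ℂ)) n y = ((((toMA a) ^ n).coeff y : ℤ) : ℂ) := by
    intro y
    rw [← toMA_coeff (convPow (fun g => (a g : ℂ)) n) y, toMA_convPow]
    have h1 : toMA (fun g => (a g : ℂ)) =
        MonoidAlgebra.mapRingHom G (Int.castRingHom ℂ) (toMA a) := by
      rw [toMA_map]
      rfl
    rw [h1, ← map_pow, MonoidAlgebra.coeff_mapRingHom]
    rfl
  have hpow : MemLocalIdeal M ((omegaF χ (fun g => (a g : ℂ))) ^ n) := by
    rw [← omegaF_convPow hχ haC n,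
      omegaF_eq_sum_classes (Cfsg.Agent.Lib.Helper4.isClassFunction_of_isIrrCharacter hχ) _
        (isClassFunction_convPow haC n)]
    apply memLocalIdeal_sum
    intro C _
    rw [hval]
    obtain ⟨k, hk⟩ := hdiv (Quotient.out C)
    rw [hk]
    push_cast
    rw [mul_assoc]
    apply memLocalIdeal_mul_right (memLocalIdeal_natCast_p hM)
    apply memLocalRing_of_isIntegral hMtop
    exact (isIntegral_algebraMap (R := ℤ) (A := ℂ) (x := k)).mul (isIntegral_centralChar hχ _)
  by_contra hnot
  have hloc : MemLocalRing M (omegaF χ (fun g => (a g : ℂ))) := by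
    apply memLocalRing_of_isIntegral hMtop
    apply omegaF_isIntegral hχ _ haC
    intro g
    exact isIntegral_algebraMap (R := ℤ) (A := ℂ) (x := a g)
  have := not_memLocalIdeal_prod (M := M) (Finset.range n)
    (fun _ => omegaF χ (fun g => (a g : ℂ))) (fun _ _ => hloc) (fun _ _ => hnot)
  rw [Finset.prod_const, Finset.card_range] at this
  exact this hpow

/-- **vanishing of central characters off the centralizer of a normal `p`-subgroup**: if `Q` is a
normal `p`-subgroup and `g` does not centralize `Q`, then `ω_χ(g)` lies in the local ideal. -/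
theorem centralChar_memLocalIdeal_of_not_centralizer {p : ℕ} [Fact p.Prime]
    (hM : IsPModular p M) (Q : Subgroup G) [hQn : Q.Normal] (hQ : IsPGroup p Q)
    {χ : G → ℂ} (hχ : IsIrrCharacter G χ) (g : G)
    (hg : g ∉ Subgroup.centralizer (Q : Set G)) : MemLocalIdeal M (centralChar χ g) := by
  have hχcf := Cfsg.Agent.Lib.Helper4.isClassFunction_of_isIrrCharacter hχ
  rw [← omegaF_classInd hχcf g]
  have hiff : ∀ x k : G, IsConj g (k * x * k⁻¹) ↔ IsConj g x := by
    intro x k
    have hx : IsConj x (k * x * k⁻¹) := isConj_iff.mpr ⟨k, rfl⟩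
    exact ⟨fun h1 => h1.trans hx.symm, fun h1 => h1.trans hx⟩
  have hcast : classInd g = fun x => (((if IsConj g x then (1 : ℤ) else 0) : ℤ) : ℂ) := by
    funext x
    unfold classInd
    split_ifs <;> simp
  rw [hcast]
  apply omegaF_memLocalIdeal_of_nilpotent hM hχ (fun x => if IsConj g x then (1 : ℤ) else 0)
  · intro x k
    simp only [hiff]
  · -- nilpotency from S0905
    let K : Finset G := Finset.univ.filter (fun x => IsConj g x)
    have hK : ∀ x ∈ K, ∀ y ∈ Q, y * x * y⁻¹ ∈ K := by
      intro x hx y _
      rw [Finset.mem_filter] at hx ⊢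
      exact ⟨Finset.mem_univ _, (hiff x y).mpr hx.2⟩
    have hfix : ∀ x ∈ K, ∃ y ∈ Q, y * x * y⁻¹ ≠ x := by
      intro x hx
      rw [Finset.mem_filter] at hx
      by_contra hcon
      push Not at hcon
      have hxc : x ∈ Subgroup.centralizer (Q : Set G) := by
        rw [Subgroup.mem_centralizer_iff]
        intro y hy
        have := hcon y hy
        calc y * x = y * x * y⁻¹ * y := by group
          _ = x * y := by rw [this]
      have hnc : (Subgroup.centralizer (Q : Set G)).Normal := inferInstance
      obtain ⟨c, hc⟩ := isConj_iff.mp hx.2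
      apply hg
      have := hnc.conj_mem x hxc c⁻¹
      rw [← hc] at this
      convert this using 1
      group
    have hnil := Cfsg.Agent.S0905.classSum_nilpotent (F := ZMod p) p Q hQ K hK hfix
    have heq : toMA (fun x => (((if IsConj g x then (1 : ℤ) else 0) : ℤ) : ZMod p)) =
        ∑ x ∈ K, MonoidAlgebra.of (ZMod p) G x := by
      unfold toMA
      rw [Finset.sum_filter]
      refine Finset.sum_congr rfl fun x _ => ?_
      beta_reduce
      by_cases hx : IsConj g x
      · rw [if_pos hx, if_pos hx, Int.cast_one, MonoidAlgebra.of_apply]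
      · rw [if_neg hx, if_neg hx, Int.cast_zero, MonoidAlgebra.single_zero]
    rw [heq]
    exact hnil

end

end Cfsg.Agent.Lib.Helper4
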