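import Mathlib
import Cfsg.Prelude.Def_Blocks
import Cfsg.Agent.Lib.Helper28.BlockOsima
import Cfsg.Agent.Lib.Helper26.Clifford

set_option autoImplicit false

/-!
# Blocks of a normal subgroup covered by a block (helper4)

* `osima_union`: the idempotent coefficients of a union of blocks are local integers.
* `sameBlock_conjFunN`: conjugation by `G` preserves blocks of a normal subgroup.
* `extZero`, `sum_extZero_blockCoeff`
* `covering_key`
-/

namespace Cfsg.Agent.Lib.Helper4

open Cfsg Cfsg.Agent.Lib.Helper28 Cfsg.Agent.Lib.Helper26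
open scoped ComplexConjugate Classical

section Union

variable {G : Type*} [Group G] [Fintype G] {M : Ideal AlgInt}

theorem blockCoeff_empty (g : G) : blockCoeff (∅ : Set (IrrCharacter G)) g = 0 := by
  have : Fintype (IrrCharacter G) := Fintype.ofFinite _
  rw [blockCoeff_eq_sum]
  simp

theorem blockCoeff_union_disjoint (S T : Set (IrrCharacter G)) (hST : Disjoint S T) (g : G) :
    blockCoeff (S ∪ T) g = blockCoeff S g + blockCoeff T g := by
  have : Fintype (IrrCharacter G) := Fintype.ofFinite _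
  rw [blockCoeff_eq_sum, blockCoeff_eq_sum, blockCoeff_eq_sum, ← mul_add, ← Finset.sum_add_distrib]
  congr 1
  refine Finset.sum_congr rfl fun χ _ => ?_
  by_cases h1 : χ ∈ S
  · have h2 : χ ∉ T := fun h2 => (Set.disjoint_left.mp hST) h1 h2
    simp [h1, h2]
  · by_cases h2 : χ ∈ T
    · simp [h1, h2]
    · simp [h1, h2]

/-- the idempotent coefficients of a union of blocks are local integers -/
theorem osima_union [M.IsPrime] (S : Set (IrrCharacter G))
    (hS : ∀ φ ∈ S, ∀ φ' : IrrCharacter G, SameBlock M (φ : G → ℂ) (φ' : G → ℂ) → φ' ∈ S) (g : G) :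
    MemLocalRing M (blockCoeff S g) := by
  have hMtop : M ≠ ⊤ := Ideal.IsPrime.ne_top ‹_›
  have hfin : Finite (IrrCharacter G) := inferInstance
  induction' hn : S.ncard using Nat.strong_induction_on with n ih generalizing S
  by_cases hne : S = ∅
  · rw [hne, blockCoeff_empty]
    exact memLocalRing_zero hMtop
  · obtain ⟨φ, hφ⟩ := Set.nonempty_iff_ne_empty.mpr hne
    set b : Set (IrrCharacter G) := blockOf M (φ : G → ℂ) with hb
    have hbB : IsPBlock M b := ⟨φ, rfl⟩
    have hφb : φ ∈ b := sameBlock_refl hMtop _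
    have hbS : b ⊆ S := fun φ' h => hS φ hφ φ' h
    have hS' : ∀ φ1 ∈ S \ b, ∀ φ2 : IrrCharacter G,
        SameBlock M (φ1 : G → ℂ) (φ2 : G → ℂ) → φ2 ∈ S \ b := by
      intro φ1 h1 φ2 h12
      refine ⟨hS φ1 h1.1 φ2 h12, fun h2 => h1.2 ?_⟩
      exact sameBlock_trans (h2 : SameBlock M (φ : G → ℂ) (φ2 : G → ℂ)) (sameBlock_symm h12)
    have hlt : (S \ b).ncard < n := by
      rw [← hn]
      apply Set.ncard_lt_ncard _ (Set.toFinite S)
      refine ⟨Set.sdiff_subset, fun h => ?_⟩
      exact (h hφ).2 hφb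
    have h1 := ih _ hlt (S \ b) hS' rfl
    have h2 : S = b ∪ (S \ b) := by
      rw [Set.union_sdiff_cancel hbS]
    rw [h2, blockCoeff_union_disjoint _ _ Set.disjoint_sdiff_right]
    exact memLocalRing_add (osima hbB g) h1

end Union

section Conj

variable {G : Type*} [Group G] [Fintype G] {M : Ideal AlgInt} (N : Subgroup G) [hN : N.Normal]

theorem centralizer_index_conj (x : G) (n : N) :
    (Subgroup.centralizer ({(MulAut.conjNormal x : N ≃* N) n} : Set N)).index =
      (Subgroup.centralizer ({n} : Set N)).index := by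
  set e : N ≃* N := MulAut.conjNormal x with he
  have h : (Subgroup.centralizer ({e n} : Set N)).comap e.toMonoidHom =
      Subgroup.centralizer ({n} : Set N) := by
    ext k
    simp only [Subgroup.mem_comap, Subgroup.mem_centralizer_iff, Set.mem_singleton_iff,
      forall_eq, MulEquiv.coe_toMonoidHom]
    rw [← map_mul, ← map_mul]
    exact e.injective.eq_iff
  have h2 := Subgroup.index_comap_of_surjective (Subgroup.centralizer ({e n} : Set N))
    (f := e.toMonoidHom) e.surjective
  rw [h] at h2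
  exact h2.symm

theorem conjFunN_eq (φ : N → ℂ) (x : G) (n : N) :
    conjFunN N φ x n = φ ((MulAut.conjNormal x : N ≃* N) n) := by
  unfold conjFunN
  congr 1

theorem centralChar_conjFunN (φ : N → ℂ) (x : G) (n : N) :
    centralChar (conjFunN N φ x) n = centralChar φ ((MulAut.conjNormal x : N ≃* N) n) := by
  unfold centralChar
  rw [centralizer_index_conj, conjFunN_eq, conjFunN_eq, map_one]

theorem sameBlock_conjFunN {φ φ' : N → ℂ} (h : SameBlock M φ φ') (x : G) :
    SameBlock M (conjFunN N φ x) (conjFunN N φ' x) := by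
  intro n
  rw [centralChar_conjFunN, centralChar_conjFunN]
  exact h _

theorem conjFunN_inv_conjFunN (φ : N → ℂ) (x : G) :
    conjFunN N (conjFunN N φ x⁻¹) x = φ := by
  funext n
  unfold conjFunN
  refine congrArg φ (Subtype.ext ?_)
  show x⁻¹ * (x * (n : G) * x⁻¹) * x⁻¹⁻¹ = n
  group

theorem conjFunN_conjFunN_inv (φ : N → ℂ) (x : G) :
    conjFunN N (conjFunN N φ x) x⁻¹ = φ := by
  funext n
  unfold conjFunN
  refine congrArg φ (Subtype.ext ?_)
  show x * (x⁻¹ * (n : G) * x⁻¹⁻¹) * x⁻¹ = n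
  group

theorem conjFunN_mul (φ : N → ℂ) (x y : G) :
    conjFunN N (conjFunN N φ x) y = conjFunN N φ (x * y) := by
  funext n
  unfold conjFunN
  refine congrArg φ (Subtype.ext ?_)
  show x * (y * (n : G) * y⁻¹) * x⁻¹ = x * y * (n : G) * (x * y)⁻¹
  group

/-- the union of the `G`-conjugates of a set `b` of irreducible characters of `N` -/
def conjOrbit (b : Set (IrrCharacter N)) : Set (IrrCharacter N) :=
  {φ | ∃ g : G, ∃ θ' ∈ b, (φ : N → ℂ) = conjFunN N (θ' : N → ℂ) g}

theorem conjOrbit_closed [M.IsPrime] {b : Set (IrrCharacter N)} (hb : IsPBlock M b)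
    (φ : IrrCharacter N) (hφ : φ ∈ conjOrbit N b) (φ' : IrrCharacter N)
    (h : SameBlock M (φ : N → ℂ) (φ' : N → ℂ)) : φ' ∈ conjOrbit N b := by
  obtain ⟨g, θ', hθ', he⟩ := hφ
  refine ⟨g, ⟨conjFunN N (φ' : N → ℂ) g⁻¹, isIrrCharacter_conjFunN N φ'.2 g⁻¹⟩, ?_, ?_⟩
  · rw [mem_block_iff hb hθ']
    show SameBlock M (θ' : N → ℂ) (conjFunN N (φ' : N → ℂ) g⁻¹)
    have h1 := sameBlock_conjFunN (M := M) N h g⁻¹
    rw [he, conjFunN_conjFunN_inv] at h1
    exact h1
  · show (φ' : N → ℂ) = conjFunN N (conjFunN N (φ' : N → ℂ) g⁻¹) g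
    rw [conjFunN_inv_conjFunN]

theorem conjOrbit_stable {b : Set (IrrCharacter N)} (φ : IrrCharacter N) (x : G)
    (hφ : φ ∈ conjOrbit N b) (φ' : IrrCharacter N)
    (h : (φ' : N → ℂ) = conjFunN N (φ : N → ℂ) x) : φ' ∈ conjOrbit N b := by
  obtain ⟨g, θ', hθ', he⟩ := hφ
  refine ⟨g * x, θ', hθ', ?_⟩
  rw [h, he, conjFunN_mul]

theorem mem_conjOrbit_self {b : Set (IrrCharacter N)} (φ : IrrCharacter N) (hφ : φ ∈ b) :
    φ ∈ conjOrbit N b := by
  refine ⟨1, φ, hφ, ?_⟩
  funext n
  unfold conjFunN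
  refine congrArg (φ : N → ℂ) (Subtype.ext ?_)
  show (n : G) = 1 * (n : G) * 1⁻¹
  group

end Conj

section Cover

variable {G : Type*} [Group G] [Fintype G] {M : Ideal AlgInt} (N : Subgroup G) [hN : N.Normal]

/-- extension by zero of a function on a subgroup -/
noncomputable def extZero (f : N → ℂ) : G → ℂ := fun g => if h : g ∈ N then f ⟨g, h⟩ else 0

theorem extZero_mem (f : N → ℂ) (n : N) : extZero N f (n : G) = f n := by
  unfold extZero
  rw [dif_pos n.2]

theorem extZero_not_mem (f : N → ℂ) {g : G} (h : g ∉ N) : extZero N f g = 0 := by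
  unfold extZero
  rw [dif_neg h]

variable [Fintype N]

theorem sum_extZero_mul (f : N → ℂ) (χ : G → ℂ) :
    ∑ g, extZero N f g * χ g = ∑ n : N, f n * χ n := by
  have h1 : ∑ n : N, f n * χ n = ∑ n : N, (fun g : G => extZero N f g * χ g) n := by
    refine Finset.sum_congr rfl fun n _ => ?_
    show f n * χ n = extZero N f (n : G) * χ n
    rw [extZero_mem]
  rw [h1, ← Finset.sum_subtype (Finset.univ.filter (fun g : G => g ∈ N)) (by simp)
    (fun g : G => extZero N f g * χ g), Finset.sum_filter]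
  refine Finset.sum_congr rfl fun g _ => ?_
  by_cases hg : g ∈ N
  · rw [if_pos hg]
  · rw [if_neg hg, extZero_not_mem N f hg, zero_mul]

theorem sum_extZero_blockCoeff [Fintype (IrrCharacter N)] (S : Set (IrrCharacter N)) (χ : G → ℂ) :
    ∑ g, extZero N (blockCoeff S) g * χ g =
      ∑ φ : IrrCharacter N, if φ ∈ S then
        (φ : N → ℂ) 1 * classInner (χ ∘ N.subtype) (φ : N → ℂ) else 0 := by
  rw [sum_extZero_mul]
  simp only [blockCoeff_eq_sum, Finset.mul_sum, Finset.sum_mul]
  rw [Finset.sum_comm]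
  refine Finset.sum_congr rfl fun φ _ => ?_
  by_cases hφ : φ ∈ S
  · simp only [if_pos hφ]
    unfold classInner
    rw [Finset.mul_sum, Finset.mul_sum]
    refine Finset.sum_congr rfl fun n _ => ?_
    show _ = (φ : N → ℂ) 1 * ((Nat.card N : ℂ)⁻¹ * (χ (n : G) * conj ((φ : N → ℂ) n)))
    ring
  · simp only [if_neg hφ, mul_zero, zero_mul, Finset.sum_const_zero]

/-- the extension by zero of the idempotent of a `G`-stable set of characters of `N` is a class
function on `G` -/
theorem isClassFunction_extZero_blockCoeff (S : Set (IrrCharacter N))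
    (hS : ∀ φ ∈ S, ∀ x : G, ∀ φ' : IrrCharacter N,
      (φ' : N → ℂ) = conjFunN N (φ : N → ℂ) x → φ' ∈ S) :
    IsClassFunction G (extZero N (blockCoeff S)) := by
  have : Fintype (IrrCharacter N) := Fintype.ofFinite _
  intro g x
  by_cases hg : g ∈ N
  · have hg' : x * g * x⁻¹ ∈ N := hN.conj_mem g hg x
    have e1 := extZero_mem N (blockCoeff S) ⟨g, hg⟩
    have e2 := extZero_mem N (blockCoeff S) ⟨x * g * x⁻¹, hg'⟩
    simp only at e1 e2
    rw [e1, e2, blockCoeff_eq_sum, blockCoeff_eq_sum]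
    congr 1
    -- reindex by conjugation
    let σ : IrrCharacter N → IrrCharacter N := fun φ =>
      ⟨conjFunN N (φ : N → ℂ) x, isIrrCharacter_conjFunN N φ.2 x⟩
    let τ : IrrCharacter N → IrrCharacter N := fun φ =>
      ⟨conjFunN N (φ : N → ℂ) x⁻¹, isIrrCharacter_conjFunN N φ.2 x⁻¹⟩
    have hστ : ∀ φ, σ (τ φ) = φ := fun φ => Subtype.ext (conjFunN_inv_conjFunN N _ x)
    have hτσ : ∀ φ, τ (σ φ) = φ := fun φ => Subtype.ext (conjFunN_conjFunN_inv N _ x)
    let e : IrrCharacter N ≃ IrrCharacter N := ⟨σ, τ, hτσ, hστ⟩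
    refine Fintype.sum_equiv e _ _ (fun φ => ?_)
    have hmem : φ ∈ S ↔ e φ ∈ S := by
      constructor
      · intro h
        exact hS φ h x (σ φ) rfl
      · intro h
        have := hS (σ φ) h x⁻¹ φ (by
          show (φ : N → ℂ) = conjFunN N (conjFunN N (φ : N → ℂ) x) x⁻¹
          rw [conjFunN_conjFunN_inv])
        exact this
    by_cases h : φ ∈ S
    · rw [if_pos h, if_pos (hmem.mp h)]
      show _ = conjFunN N (φ : N → ℂ) x 1 * conj (conjFunN N (φ : N → ℂ) x ⟨g, hg⟩)
      rw [conjFunN_eq, conjFunN_eq, map_one]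
      congr 3
    · rw [if_neg h, if_neg (fun h' => h (hmem.mpr h'))]
  · have hg' : x * g * x⁻¹ ∉ N := by
      intro h
      apply hg
      have := hN.conj_mem _ h x⁻¹
      simpa [mul_assoc] using this
    rw [extZero_not_mem N _ hg, extZero_not_mem N _ hg']

/-- **Covering key lemma.** `χ, χ'` in the same block of `G`, `S` a `G`-stable union of blocks
of `N` containing all constituents of `χ_N`.  Then some constituent of `χ'_N` lies in `S`. -/
theorem covering_key [M.IsPrime] {χ χ' : G → ℂ} (hχ : IsIrrCharacter G χ)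
    (hχ' : IsIrrCharacter G χ') (hBl : SameBlock M χ χ')
    (S : Set (IrrCharacter N))
    (hS1 : ∀ φ ∈ S, ∀ φ' : IrrCharacter N, SameBlock M (φ : N → ℂ) (φ' : N → ℂ) → φ' ∈ S)
    (hS2 : ∀ φ ∈ S, ∀ x : G, ∀ φ' : IrrCharacter N,
      (φ' : N → ℂ) = conjFunN N (φ : N → ℂ) x → φ' ∈ S)
    (hS3 : ∀ φ : IrrCharacter N, classInner (χ ∘ N.subtype) (φ : N → ℂ) ≠ 0 → φ ∈ S) :
    ∃ φ ∈ S, classInner (χ' ∘ N.subtype) (φ : N → ℂ) ≠ 0 := by
  have : Fintype (IrrCharacter N) := Fintype.ofFinite _
  have hMtop : M ≠ ⊤ := Ideal.IsPrime.ne_top ‹_›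
  by_contra hcon
  push Not at hcon
  set F : G → ℂ := extZero N (blockCoeff S) with hF
  have hFcf : IsClassFunction G F := isClassFunction_extZero_blockCoeff N S hS2
  have hFloc : ∀ g, MemLocalRing M (F g) := by
    intro g
    by_cases hg : g ∈ N
    · have := extZero_mem N (blockCoeff S) ⟨g, hg⟩
      simp only at this
      rw [hF, this]
      exact osima_union S hS1 _
    · rw [hF, extZero_not_mem N _ hg]
      exact memLocalRing_zero hMtop
  have hkey := omegaF_sub_memLocalIdeal (Cfsg.Agent.Lib.Helper26.isClassFunction_of_isIrrCharacter hχ)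
    (Cfsg.Agent.Lib.Helper26.isClassFunction_of_isIrrCharacter hχ') hBl F hFcf hFloc
  have h1 : omegaF χ F = 1 := by
    unfold omegaF
    rw [hF, sum_extZero_blockCoeff]
    have hrescf : IsClassFunction N (χ ∘ N.subtype) :=
      Cfsg.Agent.Lib.Helper26.isClassFunction_of_isCharacter
        (isCharacter_restrict N (isCharacter_of_isIrrCharacter hχ))
    have hexp := congrFun (classFunction_expansion (χ ∘ N.subtype) hrescf) 1
    simp only [Finset.sum_apply, Pi.smul_apply, smul_eq_mul] at hexp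
    have : ∑ φ : IrrCharacter N, (if φ ∈ S then
        (φ : N → ℂ) 1 * classInner (χ ∘ N.subtype) (φ : N → ℂ) else 0) = χ 1 := by
      have h2 : (χ ∘ N.subtype) 1 = χ 1 := by simp
      rw [← h2, hexp]
      refine Finset.sum_congr rfl fun φ _ => ?_
      by_cases hφ : φ ∈ S
      · rw [if_pos hφ, mul_comm]
      · rw [if_neg hφ]
        have : classInner (χ ∘ N.subtype) (φ : N → ℂ) = 0 := by
          by_contra h
          exact hφ (hS3 φ h)
        rw [this, zero_mul]
    rw [this]
    exact div_self (irr_one_ne_zero hχ)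
  have h2 : omegaF χ' F = 0 := by
    unfold omegaF
    rw [hF, sum_extZero_blockCoeff]
    have : ∑ φ : IrrCharacter N, (if φ ∈ S then
        (φ : N → ℂ) 1 * classInner (χ' ∘ N.subtype) (φ : N → ℂ) else 0) = 0 := by
      apply Finset.sum_eq_zero
      intro φ _
      by_cases hφ : φ ∈ S
      · rw [if_pos hφ, hcon φ hφ, mul_zero]
      · rw [if_neg hφ]
    rw [this, zero_div]
  rw [h1, h2, sub_zero] at hkey
  exact not_memLocalIdeal_one hMtop hkey

end Cover

end Cfsg.Agent.Lib.Helper4
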