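import Mathlib
import Cfsg.Prelude.Def_Characters
import Cfsg.Agent.Lib.Helper7.Gallagher
import Cfsg.Agent.Lib.Helper4.BurnsideClass

set_option autoImplicit false

/-!
# Counting linear twists fixing a character

If irreducible characters `lam ∈ S`, all trivial on the subgroup `N`, satisfy `lam * χ₁ = y` for a
fixed irreducible `y`, then `|S| ≤ ⟨χ₁|_N, χ₁|_N⟩`.
-/

namespace Cfsg.Agent.Lib.Helper4

open Cfsg Cfsg.Agent.Lib.Helper26 Cfsg.Agent.Lib.Helper7
open scoped ComplexConjugate

section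

variable {G : Type*} [Group G] [Fintype G]

theorem card_twist_le (N : Subgroup G) [Fintype N]
    (χ₁ : G → ℂ) (hχ₁ : IsCharacter G χ₁) (y : G → ℂ) (hy : IsIrrCharacter G y)
    (S : Finset (IrrCharacter G))
    (hS : ∀ lam ∈ S, (∀ n : N, (lam : G → ℂ) n = 1) ∧ (fun g => (lam : G → ℂ) g * χ₁ g) = y)
    (k : ℕ) (hk : classInner (χ₁ ∘ N.subtype) (χ₁ ∘ N.subtype) = k) : S.card ≤ k := by
  classical
  have : Fintype (IrrCharacter G) := Fintype.ofFinite _
  rcases S.eq_empty_or_nonempty with hSe | ⟨lam₀, hlam₀⟩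
  · rw [hSe]; simp
  have hycf := Cfsg.Agent.Lib.Helper26.isClassFunction_of_isIrrCharacter hy
  have hχ₁cf := Cfsg.Agent.Lib.Helper26.isClassFunction_of_isCharacter hχ₁
  have hyc := isCharacter_of_isIrrCharacter hy
  -- `y` and `χ₁` agree on `N`
  have hyN : y ∘ N.subtype = χ₁ ∘ N.subtype := by
    funext n
    obtain ⟨h1, h2⟩ := hS lam₀ hlam₀
    show y (n : G) = χ₁ (n : G)
    rw [← h2]
    show (lam₀ : G → ℂ) (n : G) * χ₁ (n : G) = χ₁ (n : G)
    rw [h1 n, one_mul]
  let ρ : G → ℂ := indFun N (fun _ : N => (1 : ℂ))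
  have hρ : IsCharacter G ρ :=
    isCharacter_indFun N (isCharacter_of_isIrrCharacter isIrrCharacter_one)
  have hρcf := Cfsg.Agent.Lib.Helper26.isClassFunction_of_isCharacter hρ
  have hind : indFun N (χ₁ ∘ N.subtype) = ρ * χ₁ := by
    have h := indFun_mul_restrict N (fun _ : N => (1 : ℂ)) χ₁ hχ₁cf
    rw [← h]
    congr 1
    funext n
    simp
  have hk2 : classInner y (ρ * χ₁) = k := by
    rw [← hind, classInner_indFun_right' N y hycf, hyN, hk]
  -- expand ρ
  have hm : ∀ β : IrrCharacter G, ∃ m : ℕ, classInner ρ (β : G → ℂ) = m := fun β =>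
    classInner_isCharacter_nat hρ (isCharacter_of_isIrrCharacter β.2)
  choose m hm using hm
  have hn : ∀ β : IrrCharacter G, ∃ n : ℕ, classInner y ((β : G → ℂ) * χ₁) = n := fun β =>
    classInner_isCharacter_nat hyc (isCharacter_mul (isCharacter_of_isIrrCharacter β.2) hχ₁)
  choose n hn using hn
  have hexp := classFunction_expansion ρ hρcf
  have hρχ : ρ * χ₁ = ∑ β : IrrCharacter G, (m β : ℂ) • ((β : G → ℂ) * χ₁) := by
    conv_lhs => rw [hexp]
    rw [Finset.sum_mul]
    refine Finset.sum_congr rfl fun β _ => ?_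
    rw [hm β, smul_mul_assoc]
  have hk3 : (k : ℂ) = ∑ β : IrrCharacter G, ((m β * n β : ℕ) : ℂ) := by
    rw [← hk2, hρχ, classInner_sum_right]
    refine Finset.sum_congr rfl fun β _ => ?_
    rw [classInner_smul_right, hn β, Complex.conj_natCast, Nat.cast_mul]
  have hk4 : k = ∑ β : IrrCharacter G, m β * n β := by
    rw [← Nat.cast_sum] at hk3
    exact_mod_cast hk3
  -- for β ∈ S, m β = 1 and n β = 1
  have hmS : ∀ β ∈ S, m β = 1 := by
    intro β hβ
    have h1 : classInner ρ (β : G → ℂ) = 1 := by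
      show classInner (indFun N (fun _ : N => (1 : ℂ))) (β : G → ℂ) = 1
      rw [classInner_indFun_left' N _ _ (Cfsg.Agent.Lib.Helper26.isClassFunction_of_isIrrCharacter β.2)]
      have h2 : (β : G → ℂ) ∘ N.subtype = fun _ : N => (1 : ℂ) := by
        funext n
        exact (hS β hβ).1 n
      rw [h2]
      have h3 := Cfsg.Agent.Lib.Helper26.classInner_irr (isIrrCharacter_one (G := N))
        (isIrrCharacter_one (G := N))
      rw [if_pos rfl] at h3
      exact h3
    rw [hm β] at h1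
    exact_mod_cast h1
  have hnS : ∀ β ∈ S, n β = 1 := by
    intro β hβ
    have h1 : classInner y ((β : G → ℂ) * χ₁) = 1 := by
      have h2 : (β : G → ℂ) * χ₁ = y := (hS β hβ).2
      rw [h2]
      have h3 := Cfsg.Agent.Lib.Helper26.classInner_irr hy hy
      rw [if_pos rfl] at h3
      exact h3
    rw [hn β] at h1
    exact_mod_cast h1
  rw [hk4]
  calc S.card = ∑ β ∈ S, 1 := by simp
    _ = ∑ β ∈ S, m β * n β := Finset.sum_congr rfl fun β hβ => by rw [hmS β hβ, hnS β hβ]
    _ ≤ ∑ β : IrrCharacter G, m β * n β :=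
        Finset.sum_le_sum_of_subset (Finset.subset_univ S)

end

end Cfsg.Agent.Lib.Helper4
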