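import Mathlib
import Cfsg.Prelude.Def_Characters
import Cfsg.Agent.Lib.Helper4.RepEigen

set_option autoImplicit false

namespace Cfsg.Agent.Lib.Helper4

open scoped IntermediateField ComplexConjugate

/-- the standard primitive `N`-th root of unity in `ℂ` -/
noncomputable def zetaN (N : ℕ) : ℂ := Complex.exp (2 * Real.pi * Complex.I / N)

theorem zetaN_isPrimitiveRoot (N : ℕ) (hN : N ≠ 0) : IsPrimitiveRoot (zetaN N) N :=
  Complex.isPrimitiveRoot_exp N hN

/-- the cyclotomic field `ℚ(ζ_N)` inside `ℂ` -/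
noncomputable abbrev cycK (N : ℕ) : IntermediateField ℚ ℂ := ℚ⟮zetaN N⟯

theorem zetaN_mem (N : ℕ) : zetaN N ∈ cycK N := IntermediateField.mem_adjoin_simple_self ℚ _

theorem zetaN_isIntegral (N : ℕ) (hN : 0 < N) : IsIntegral ℚ (zetaN N) :=
  ((zetaN_isPrimitiveRoot N hN.ne').isIntegral hN).tower_top

instance cycK_finiteDimensional (N : ℕ) [NeZero N] : FiniteDimensional ℚ (cycK N) :=
  IntermediateField.adjoin.finiteDimensional (zetaN_isIntegral N (Nat.pos_of_ne_zero (NeZero.ne N)))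

theorem root_mem_cycK (N : ℕ) (hN : 0 < N) (μ : ℂ) (hμ : μ ^ N = 1) : μ ∈ cycK N := by
  have : NeZero N := ⟨hN.ne'⟩
  obtain ⟨i, _, rfl⟩ := (zetaN_isPrimitiveRoot N hN.ne').eq_pow_of_pow_eq_one hμ
  exact pow_mem (zetaN_mem N) i

/-- every embedding of `ℚ(ζ_N)` into `ℂ` raises all `N`-th roots of unity to a fixed power
coprime to `N` -/
theorem embedding_pow (N : ℕ) (hN : 0 < N) (σ : cycK N →ₐ[ℚ] ℂ) :
    ∃ m : ℕ, m.Coprime N ∧ ∀ μ : cycK N, (μ : ℂ) ^ N = 1 → σ μ = (μ : ℂ) ^ m := by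
  have : NeZero N := ⟨hN.ne'⟩
  have hζ := zetaN_isPrimitiveRoot N hN.ne'
  let ζ' : cycK N := ⟨zetaN N, zetaN_mem N⟩
  have hζ' : IsPrimitiveRoot ζ' N := by
    apply IsPrimitiveRoot.of_map_of_injective (f := algebraMap (cycK N) ℂ) (M := cycK N)
    · exact hζ
    · exact (algebraMap (cycK N) ℂ).injective
  have hσζ : IsPrimitiveRoot (σ ζ') N := hζ'.map_of_injective σ.injective
  obtain ⟨m, _, hm⟩ := hζ.eq_pow_of_pow_eq_one hσζ.pow_eq_one
  have hcop : m.Coprime N := by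
    rw [← hζ.pow_iff_coprime hN m, hm]
    exact hσζ
  refine ⟨m, hcop, ?_⟩
  intro μ hμ
  obtain ⟨j, _, hj⟩ := hζ.eq_pow_of_pow_eq_one hμ
  have hμ' : μ = ζ' ^ j := by
    apply Subtype.ext
    rw [← hj]
    rfl
  rw [hμ', map_pow, ← hm]
  show (zetaN N ^ m) ^ j = ((zetaN N) ^ j) ^ m
  rw [← pow_mul, ← pow_mul, mul_comm]

/-- for `m` coprime to `N` there is an embedding raising `ζ_N` to the `m`-th power -/
theorem exists_embedding_pow (N : ℕ) (hN : 0 < N) (m : ℕ) (hm : m.Coprime N) :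
    ∃ σ : cycK N →ₐ[ℚ] ℂ, ∀ μ : cycK N, (μ : ℂ) ^ N = 1 → σ μ = (μ : ℂ) ^ m := by
  have : NeZero N := ⟨hN.ne'⟩
  have hζ := zetaN_isPrimitiveRoot N hN.ne'
  have hint := zetaN_isIntegral N hN
  have hroot : (zetaN N) ^ m ∈ (minpoly ℚ (zetaN N)).aroots ℂ := by
    rw [Polynomial.mem_aroots]
    refine ⟨minpoly.ne_zero hint, ?_⟩
    rw [← Polynomial.cyclotomic_eq_minpoly_rat hζ hN]
    have h1 : IsPrimitiveRoot ((zetaN N) ^ m) N := (hζ.pow_iff_coprime hN m).mpr hm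
    have h2 : (Polynomial.cyclotomic N ℂ).IsRoot ((zetaN N) ^ m) :=
      Polynomial.isRoot_cyclotomic_iff.mpr h1
    rw [Polynomial.aeval_def, ← Polynomial.eval_map, Polynomial.map_cyclotomic]
    exact h2
  let σ : cycK N →ₐ[ℚ] ℂ := (IntermediateField.algHomAdjoinIntegralEquiv ℚ hint).symm
    ⟨(zetaN N) ^ m, hroot⟩
  have hσ : σ ⟨zetaN N, zetaN_mem N⟩ = (zetaN N) ^ m := by
    have := IntermediateField.algHomAdjoinIntegralEquiv_symm_apply_gen ℚ hint
      (⟨(zetaN N) ^ m, hroot⟩ : {x // x ∈ (minpoly ℚ (zetaN N)).aroots ℂ})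
    exact this
  refine ⟨σ, ?_⟩
  intro μ hμ
  obtain ⟨j, _, hj⟩ := hζ.eq_pow_of_pow_eq_one hμ
  have hμ' : μ = (⟨zetaN N, zetaN_mem N⟩ : cycK N) ^ j := by
    apply Subtype.ext
    rw [← hj]
    rfl
  rw [hμ', map_pow, hσ]
  show (zetaN N ^ m) ^ j = ((zetaN N) ^ j) ^ m
  rw [← pow_mul, ← pow_mul, mul_comm]

/-- an element of `ℚ(ζ_N)` fixed by all embeddings into `ℂ` is rational -/
theorem rational_of_fixed (N : ℕ) (hN : 0 < N) (x : cycK N)
    (h : ∀ σ : cycK N →ₐ[ℚ] ℂ, σ x = (x : ℂ)) : ∃ q : ℚ, (x : ℂ) = (q : ℂ) := by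
  have : NeZero N := ⟨hN.ne'⟩
  have h1 := trace_eq_sum_embeddings (K := ℚ) (L := cycK N) ℂ (x := x)
  simp only [h] at h1
  rw [Finset.sum_const, Finset.card_univ, AlgHom.card ℚ (cycK N) ℂ, nsmul_eq_mul] at h1
  have hpos : (Module.finrank ℚ (cycK N) : ℂ) ≠ 0 := by
    have : 0 < Module.finrank ℚ (cycK N) := Module.finrank_pos
    exact_mod_cast this.ne'
  refine ⟨Algebra.trace ℚ (cycK N) x / (Module.finrank ℚ (cycK N) : ℚ), ?_⟩
  push_cast
  rw [eq_div_iff hpos, mul_comm]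
  rw [← h1]
  rfl

/-- a nonzero algebraic integer of `ℚ(ζ_N)`: the sum of `|σ x|²` over all embeddings is at
least the number of embeddings (AM-GM) -/
theorem sum_normSq_embeddings_ge (N : ℕ) [NeZero N] (x : cycK N) (hx : x ≠ 0)
    (hint : IsIntegral ℤ x) :
    (Fintype.card (cycK N →ₐ[ℚ] ℂ) : ℝ) ≤ ∑ σ : cycK N →ₐ[ℚ] ℂ, Complex.normSq (σ x) := by
  have hnint : IsIntegral ℤ (Algebra.norm ℚ x) := Algebra.isIntegral_norm ℚ hint
  obtain ⟨z, hz⟩ := IsIntegrallyClosed.isIntegral_iff.mp hnint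
  have hn0 : Algebra.norm ℚ x ≠ 0 := Algebra.norm_ne_zero_iff.mpr hx
  have hz0 : z ≠ 0 := by
    intro h
    apply hn0
    rw [← hz, h, map_zero]
  have hprod := Algebra.norm_eq_prod_embeddings ℚ ℂ x
  have hnorm1 : (1 : ℝ) ≤ Complex.normSq (∏ σ : cycK N →ₐ[ℚ] ℂ, σ x) := by
    rw [← hprod, ← hz]
    have h1 : (algebraMap ℚ ℂ) ((algebraMap ℤ ℚ) z) = (z : ℂ) := by simp
    rw [h1, Complex.normSq_intCast]
    have h2 : (1 : ℤ) ≤ z * z := by
      have := Int.one_le_abs hz0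
      nlinarith [abs_mul_abs_self z]
    exact_mod_cast h2
  rw [map_prod] at hnorm1
  -- AM-GM
  set k := Fintype.card (cycK N →ₐ[ℚ] ℂ) with hk
  have hkpos : 0 < k := by
    rw [hk, AlgHom.card ℚ (cycK N) ℂ]
    exact Module.finrank_pos
  have hamgm := Real.geom_mean_le_arith_mean (Finset.univ : Finset (cycK N →ₐ[ℚ] ℂ))
    (fun _ => (1 : ℝ)) (fun σ => Complex.normSq (σ x)) (fun _ _ => zero_le_one)
    (by rw [Finset.sum_const, Finset.card_univ, nsmul_eq_mul, mul_one]; exact_mod_cast hkpos)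
    (fun σ _ => Complex.normSq_nonneg _)
  simp only [Real.rpow_one, one_mul, Finset.sum_const, Finset.card_univ, nsmul_eq_mul,
    mul_one] at hamgm
  have h1 : (1 : ℝ) ≤ (∏ σ : cycK N →ₐ[ℚ] ℂ, Complex.normSq (σ x)) ^ ((k : ℝ))⁻¹ :=
    Real.one_le_rpow hnorm1 (inv_nonneg.mpr (Nat.cast_nonneg k))
  have h2 := h1.trans hamgm
  have hkR : (0 : ℝ) < k := by exact_mod_cast hkpos
  rwa [le_div_iff₀ hkR, one_mul] at h2

section Char

variable {G : Type*} [Group G] [Fintype G]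
variable {V : Type*} [AddCommGroup V] [Module ℂ V] [FiniteDimensional ℂ V]

/-- the character of a power in terms of the eigenvalues -/
theorem character_pow_eq_sum (ρ : Representation ℂ G V) (g : G) (m : ℕ) :
    ρ.character (g ^ m) = ∑ μ ∈ eigvals ρ g, μ ^ m * (eigmult ρ g μ : ℂ) := by
  have := trace_eq_sum_of_eigen (ρ g) (ρ (g ^ m)) (rho_iSup_eigenspace ρ g) (fun μ => μ ^ m) ?_
  · exact this
  · intro μ v hv
    by_cases hv0 : v = 0
    · simp [hv0]
    · have hev : Module.End.HasEigenvector (ρ g) μ v := ⟨hv, hv0⟩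
      rw [map_pow]
      exact hev.pow_apply m

theorem eigval_pow_card (ρ : Representation ℂ G V) (g : G) {μ : ℂ} (hμ : μ ∈ eigvals ρ g) :
    μ ^ Nat.card G = 1 := by
  have h1 := eigenvalue_pow_orderOf ρ g μ ((mem_eigvals ρ g).mp hμ)
  obtain ⟨k, hk⟩ := orderOf_dvd_natCard g
  rw [hk, pow_mul, h1, one_pow]

theorem character_mem_cycK (ρ : Representation ℂ G V) (g : G) :
    ρ.character g ∈ cycK (Nat.card G) := by
  rw [character_eq_sum]
  refine sum_mem fun μ hμ => ?_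
  refine mul_mem (root_mem_cycK _ Nat.card_pos μ (eigval_pow_card ρ g hμ)) ?_
  exact natCast_mem _ _

/-- the character value as an element of the cyclotomic field -/
noncomputable def charK (ρ : Representation ℂ G V) (g : G) : cycK (Nat.card G) :=
  ⟨ρ.character g, character_mem_cycK ρ g⟩

@[simp] theorem coe_charK (ρ : Representation ℂ G V) (g : G) :
    ((charK ρ g : cycK (Nat.card G)) : ℂ) = ρ.character g := rfl

theorem charK_isIntegral (ρ : Representation ℂ G V) (g : G) : IsIntegral ℤ (charK ρ g) := by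
  have : IsIntegral ℤ (algebraMap (cycK (Nat.card G)) ℂ (charK ρ g)) := character_isIntegral ρ g
  exact (isIntegral_algebraMap_iff (algebraMap (cycK (Nat.card G)) ℂ).injective).mp this

/-- if `σ` raises roots of unity to the `m`-th power then `σ(χ(g)) = χ(g^m)` -/
theorem embedding_charK (ρ : Representation ℂ G V) (σ : cycK (Nat.card G) →ₐ[ℚ] ℂ) (m : ℕ)
    (hσ : ∀ μ : cycK (Nat.card G), (μ : ℂ) ^ Nat.card G = 1 → σ μ = (μ : ℂ) ^ m) (g : G) :
    σ (charK ρ g) = ρ.character (g ^ m) := by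
  classical
  have hx : charK ρ g = ∑ μ ∈ (eigvals ρ g).attach,
      (⟨μ.1, root_mem_cycK _ Nat.card_pos μ.1 (eigval_pow_card ρ g μ.2)⟩ : cycK (Nat.card G)) *
        ((eigmult ρ g μ.1 : ℕ) : cycK (Nat.card G)) := by
    apply Subtype.ext
    rw [coe_charK, character_eq_sum]
    push_cast
    exact (Finset.sum_attach (eigvals ρ g) (fun μ => μ * (eigmult ρ g μ : ℂ))).symm
  rw [hx, map_sum, character_pow_eq_sum]
  rw [← Finset.sum_attach (eigvals ρ g) (fun μ => μ ^ m * (eigmult ρ g μ : ℂ))]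
  refine Finset.sum_congr rfl fun μ _ => ?_
  rw [map_mul, map_natCast, hσ _ (eigval_pow_card ρ g μ.2)]

end Char

end Cfsg.Agent.Lib.Helper4
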