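import Cfsg.Prelude
import Cfsg.Agent.Lib.Helper4.GaloisChar
import Cfsg.Agent.Lib.Helper4.CharIntegral
import Cfsg.Agent.Lib.Helper26.IndChar
import Cfsg.Agent.Lib.Helper26.CharBasic

set_option autoImplicit false
open Cfsg

namespace Cfsg.Agent.Lib.Helper4

/-- powers coprime to the group order generate the same cyclic subgroup -/
theorem zpowers_pow_of_coprime {A : Type*} [Group A] [Finite A] (a : A) (m : ℕ)
    (hm : (orderOf a).Coprime m) : Subgroup.zpowers (a ^ m) = Subgroup.zpowers a := by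
  have h1 : Subgroup.zpowers (a ^ m) ≤ Subgroup.zpowers a :=
    Subgroup.zpowers_le.mpr (Subgroup.pow_mem _ (Subgroup.mem_zpowers a) m)
  apply Subgroup.eq_of_le_of_card_ge h1
  rw [Nat.card_zpowers, Nat.card_zpowers, Nat.Coprime.orderOf_pow hm]

section Z

variable {A : Type*} [Group A] [Fintype A]
variable {V : Type*} [AddCommGroup V] [Module ℂ V] [FiniteDimensional ℂ V]

/-- a sum of character values over a set stable under coprime powers is a rational integer -/
theorem sum_character_galois_stable (ρ : Representation ℂ A V) (S : Finset A)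
    (hS : ∀ m : ℕ, m.Coprime (Nat.card A) → ∀ a, a ^ m ∈ S ↔ a ∈ S) :
    ∃ z : ℤ, ∑ a ∈ S, ρ.character a = (z : ℂ) := by
  classical
  have hN : 0 < Nat.card A := Nat.card_pos
  set x : cycK (Nat.card A) := ∑ a ∈ S, charK ρ a with hx
  have hxc : ((x : cycK (Nat.card A)) : ℂ) = ∑ a ∈ S, ρ.character a := by
    rw [hx]
    rw [AddSubmonoidClass.coe_finsetSum]
    rfl
  have hfix : ∀ σ : cycK (Nat.card A) →ₐ[ℚ] ℂ, σ x = ((x : cycK (Nat.card A)) : ℂ) := by
    intro σ
    obtain ⟨m, hm, hσ⟩ := embedding_pow (Nat.card A) hN σ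
    rw [hxc, hx, map_sum]
    simp only [embedding_charK ρ σ m hσ]
    refine Finset.sum_equiv (powCoprime hm.symm) ?_ ?_
    · intro a
      rw [powCoprime_apply]
      exact (hS m hm a).symm
    · intro a _
      rw [powCoprime_apply]
  obtain ⟨q, hq⟩ := rational_of_fixed (Nat.card A) hN x hfix
  have hint : IsIntegral ℤ x := IsIntegral.sum _ (fun a _ => charK_isIntegral ρ a)
  have hint2 : IsIntegral ℤ (algebraMap (cycK (Nat.card A)) ℂ x) := hint.map
    (IsScalarTower.toAlgHom ℤ (cycK (Nat.card A)) ℂ)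
  have hint3 : IsIntegral ℤ (algebraMap ℚ ℂ q) := by
    have : algebraMap (cycK (Nat.card A)) ℂ x = algebraMap ℚ ℂ q := by
      show ((x : cycK (Nat.card A)) : ℂ) = _
      rw [hq]
      rfl
    rwa [this] at hint2
  rw [isIntegral_algebraMap_iff (algebraMap ℚ ℂ).injective] at hint3
  obtain ⟨z, hz⟩ := IsIntegrallyClosed.isIntegral_iff.mp hint3
  refine ⟨z, ?_⟩
  rw [← hxc, hq, ← hz]
  simp

/-- twisting a representation by the inverse of a linear character -/
noncomputable def twistRep (ρ : Representation ℂ A V) (lam : A →* ℂˣ) : Representation ℂ A V where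
  toFun a := ((lam a)⁻¹ : ℂˣ) • ρ a
  map_one' := by simp
  map_mul' a b := by
    rw [map_mul, map_mul, mul_inv, smul_mul_smul_comm]

theorem twistRep_character (ρ : Representation ℂ A V) (lam : A →* ℂˣ) (a : A) :
    (twistRep ρ lam).character a = ((lam a)⁻¹ : ℂˣ) * ρ.character a := by
  unfold Representation.character twistRep
  show LinearMap.trace ℂ V (((lam a)⁻¹ : ℂˣ) • ρ a) = _
  rw [Units.smul_def, map_smul, smul_eq_mul]

end Z

section Dual

variable {A : Type*} [CommGroup A] [Finite A]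

theorem finite_monoidHom_units : Finite (A →* ℂˣ) := by
  have : NeZero ((Monoid.exponent A : ℕ) : ℂ) :=
    ⟨Nat.cast_ne_zero.mpr Monoid.exponent_ne_zero_of_finite⟩
  apply Nat.finite_of_card_ne_zero
  rw [CommGroup.card_monoidHom_of_hasEnoughRootsOfUnity A ℂ]
  exact Nat.card_pos.ne'

/-- column orthogonality for the dual of a finite abelian group -/
theorem sum_monoidHom_apply [Fintype (A →* ℂˣ)] [DecidableEq A] (x : A) :
    ∑ lam : A →* ℂˣ, ((lam x : ℂˣ) : ℂ) = if x = 1 then (Nat.card A : ℂ) else 0 := by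
  have : NeZero ((Monoid.exponent A : ℕ) : ℂ) :=
    ⟨Nat.cast_ne_zero.mpr Monoid.exponent_ne_zero_of_finite⟩
  split_ifs with hx
  · subst hx
    simp only [map_one, Units.val_one, Finset.sum_const, Finset.card_univ, nsmul_eq_mul, mul_one]
    rw [← Nat.card_eq_fintype_card, CommGroup.card_monoidHom_of_hasEnoughRootsOfUnity A ℂ]
  · obtain ⟨φ, hφ⟩ := CommGroup.exists_apply_ne_one_of_hasEnoughRootsOfUnity A ℂ hx
    have h1 : ∑ lam : A →* ℂˣ, ((lam x : ℂˣ) : ℂ) =
        ((φ x : ℂˣ) : ℂ) * ∑ lam : A →* ℂˣ, ((lam x : ℂˣ) : ℂ) := by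
      rw [Finset.mul_sum]
      have := Equiv.sum_comp (Equiv.mulLeft φ) (fun lam : A →* ℂˣ => ((lam x : ℂˣ) : ℂ))
      rw [← this]
      refine Finset.sum_congr rfl fun lam _ => ?_
      simp
    have h2 : (((φ x : ℂˣ) : ℂ) - 1) * ∑ lam : A →* ℂˣ, ((lam x : ℂˣ) : ℂ) = 0 := by
      rw [sub_mul, one_mul, ← h1, sub_self]
    rcases mul_eq_zero.mp h2 with h3 | h3
    · exfalso
      apply hφ
      apply Units.ext
      rw [sub_eq_zero] at h3
      simpa using h3
    · exact h3

/-- every complex function on a finite abelian group is a combination of linear characters -/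
theorem eq_sum_monoidHom [Fintype A] [Fintype (A →* ℂˣ)] (φ : A → ℂ) :
    φ = ∑ lam : A →* ℂˣ,
      ((Nat.card A : ℂ)⁻¹ * ∑ a : A, φ a * (((lam a)⁻¹ : ℂˣ) : ℂ)) •
        (fun b : A => ((lam b : ℂˣ) : ℂ)) := by
  classical
  funext b
  rw [Finset.sum_apply]
  simp only [Pi.smul_apply, smul_eq_mul]
  have hA : (Nat.card A : ℂ) ≠ 0 := Nat.cast_ne_zero.mpr Nat.card_pos.ne'
  have h1 : ∀ lam : A →* ℂˣ, ((Nat.card A : ℂ)⁻¹ * ∑ a : A, φ a * (((lam a)⁻¹ : ℂˣ) : ℂ)) *
      ((lam b : ℂˣ) : ℂ) = (Nat.card A : ℂ)⁻¹ * ∑ a : A, φ a * ((lam (b * a⁻¹) : ℂˣ) : ℂ) := by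
    intro lam
    rw [mul_assoc, Finset.sum_mul]
    congr 1
    refine Finset.sum_congr rfl fun a _ => ?_
    rw [map_mul, map_inv]
    push_cast
    ring
  simp only [h1]
  rw [← Finset.mul_sum, Finset.sum_comm]
  simp only [← Finset.mul_sum, sum_monoidHom_apply]
  have h2 : ∀ a : A, φ a * (if b * a⁻¹ = 1 then (Nat.card A : ℂ) else 0) =
      if a = b then φ b * (Nat.card A : ℂ) else 0 := by
    intro a
    by_cases hab : a = b
    · subst hab; simp
    · have : ¬ b * a⁻¹ = 1 := by
        intro h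
        apply hab
        rw [mul_inv_eq_one] at h
        exact h.symm
      simp [hab, this]
  simp only [h2, Finset.sum_ite_eq', Finset.mem_univ, if_true]
  field_simp

end Dual

section Dual'

variable {A : Type*} [Group A] [Finite A]

theorem finite_monoidHom_units' (hcomm : ∀ a b : A, a * b = b * a) : Finite (A →* ℂˣ) := by
  let _ : CommGroup A := { (inferInstance : Group A) with mul_comm := hcomm }
  exact finite_monoidHom_units

theorem eq_sum_monoidHom' (hcomm : ∀ a b : A, a * b = b * a) [Fintype A] [Fintype (A →* ℂˣ)]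
    (φ : A → ℂ) :
    φ = ∑ lam : A →* ℂˣ,
      ((Nat.card A : ℂ)⁻¹ * ∑ a : A, φ a * (((lam a)⁻¹ : ℂˣ) : ℂ)) •
        (fun b : A => ((lam b : ℂˣ) : ℂ)) := by
  let _ : CommGroup A := { (inferInstance : Group A) with mul_comm := hcomm }
  exact eq_sum_monoidHom φ

end Dual'

section Artin

open scoped Classical

variable {G : Type*} [Group G] [Fintype G]

theorem indFun_zero (H : Subgroup G) : indFun H (0 : H → ℂ) = 0 := by
  have := Cfsg.Agent.Lib.Helper26.indFun_smul H 0 (0 : H → ℂ)
  simpa using this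

theorem indFun_finset_sum {ι : Type*} (H : Subgroup G) (s : Finset ι) (f : ι → H → ℂ) :
    indFun H (∑ i ∈ s, f i) = ∑ i ∈ s, indFun H (f i) := by
  classical
  induction s using Finset.induction_on with
  | empty => simp [indFun_zero]
  | insert i s hi ih =>
    rw [Finset.sum_insert hi, Finset.sum_insert hi, Cfsg.Agent.Lib.Helper26.indFun_add, ih]

/-- the function `|A| · 1_{generators of A} · f` on a subgroup `A` -/
noncomputable def genFun (A : Subgroup G) (f : G → ℂ) : A → ℂ :=
  fun a => if Subgroup.zpowers (a : G) = A then (Nat.card A : ℂ) * f a else 0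

theorem extendByZero_genFun (A : Subgroup G) (f : G → ℂ) (y : G) :
    extendByZero A (genFun A f) y =
      if Subgroup.zpowers y = A then (Nat.card A : ℂ) * f y else 0 := by
  by_cases hy : y ∈ A
  · rw [Cfsg.Agent.Lib.Helper26.extendByZero_apply_mem A _ y hy]
    rfl
  · rw [Cfsg.Agent.Lib.Helper26.extendByZero_apply_not_mem A _ y hy]
    have : Subgroup.zpowers y ≠ A := by
      intro h
      apply hy
      rw [← h]
      exact Subgroup.mem_zpowers y
    rw [if_neg this]

/-- Artin's identity: `|G| f = Σ_A Ind_A^G (|A| 1_{gen A} f|_A)` over cyclic subgroups `A` -/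
theorem sum_indFun_genFun [Fintype (Subgroup G)] (f : G → ℂ) (hf : IsClassFunction G f) :
    ∑ A ∈ Finset.univ.filter (fun A : Subgroup G => IsCyclic A), indFun A (genFun A f) =
      (Nat.card G : ℂ) • f := by
  classical
  funext g
  rw [Finset.sum_apply]
  simp only [indFun, extendByZero_genFun]
  have h1 : ∀ A : Subgroup G, (Nat.card A : ℂ)⁻¹ * ∑ x : G,
      (if Subgroup.zpowers (x⁻¹ * g * x) = A then (Nat.card A : ℂ) * f (x⁻¹ * g * x) else 0) =
        ∑ x : G, if Subgroup.zpowers (x⁻¹ * g * x) = A then f g else 0 := by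
    intro A
    rw [Finset.mul_sum]
    refine Finset.sum_congr rfl fun x _ => ?_
    have hx : f (x⁻¹ * g * x) = f g := by
      have := hf g x⁻¹
      simpa using this
    have hA : (Nat.card A : ℂ) ≠ 0 := Nat.cast_ne_zero.mpr Nat.card_pos.ne'
    split_ifs
    · rw [hx]
      field_simp
    · simp
  simp only [h1]
  rw [Finset.sum_comm]
  have h2 : ∀ x : G, ∑ A ∈ Finset.univ.filter (fun A : Subgroup G => IsCyclic A),
      (if Subgroup.zpowers (x⁻¹ * g * x) = A then f g else 0) = f g := by
    intro x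
    rw [Finset.sum_ite_eq]
    rw [if_pos]
    simp only [Finset.mem_filter, Finset.mem_univ, true_and]
    infer_instance
  simp only [h2]
  simp [Finset.sum_const, Finset.card_univ, Nat.card_eq_fintype_card]

variable {V : Type*} [AddCommGroup V] [Module ℂ V] [FiniteDimensional ℂ V]

/-- the coefficients of `|A| 1_{gen A} χ|_A` with respect to linear characters are integers -/
theorem genFun_coeff_int (ρ : Representation ℂ G V) (A : Subgroup G) [Fintype A]
    (lam : A →* ℂˣ) :
    ∃ z : ℤ, (Nat.card A : ℂ)⁻¹ * ∑ a : A, genFun A ρ.character a * (((lam a)⁻¹ : ℂˣ) : ℂ) =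
      (z : ℂ) := by
  classical
  let ρA : Representation ℂ A V := ρ.comp A.subtype
  let S : Finset A := Finset.univ.filter (fun a : A => Subgroup.zpowers (a : G) = A)
  have hS : ∀ m : ℕ, m.Coprime (Nat.card A) → ∀ a, a ^ m ∈ S ↔ a ∈ S := by
    intro m hm a
    simp only [S, Finset.mem_filter, Finset.mem_univ, true_and]
    have h1 : (orderOf (a : G)).Coprime m := by
      rw [Subgroup.orderOf_coe]
      exact Nat.Coprime.coprime_dvd_left (orderOf_dvd_natCard a) hm.symm
    rw [Subgroup.coe_pow, zpowers_pow_of_coprime (a : G) m h1]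
  obtain ⟨z, hz⟩ := sum_character_galois_stable (twistRep ρA lam) S hS
  refine ⟨z, ?_⟩
  rw [← hz, Finset.mul_sum]
  simp only [S]
  rw [Finset.sum_filter]
  refine Finset.sum_congr rfl fun a _ => ?_
  have hA : (Nat.card A : ℂ) ≠ 0 := Nat.cast_ne_zero.mpr Nat.card_pos.ne'
  rw [twistRep_character]
  unfold genFun
  split_ifs
  · have : ρA.character a = ρ.character (a : G) := rfl
    rw [this]
    field_simp
  · simp

end Artin

end Cfsg.Agent.Lib.Helper4
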