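import Mathlib
import Cfsg.Prelude.Def_Characters
import Cfsg.Agent.Lib.Helper4.Decomp

set_option autoImplicit false

namespace Cfsg.Agent.Lib.Helper4

open scoped ComplexConjugate

/-- endomorphisms of a one-dimensional space commute -/
theorem end_comm_of_finrank_eq_one {W : Type*} [AddCommGroup W] [Module ℂ W]
    (h : Module.finrank ℂ W = 1) (f g : W →ₗ[ℂ] W) : f * g = g * f := by
  obtain ⟨e, he0, hspan⟩ := finrank_eq_one_iff'.mp h
  obtain ⟨α, hα⟩ := hspan (f e)
  obtain ⟨β, hβ⟩ := hspan (g e)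
  apply LinearMap.ext
  intro w
  obtain ⟨c, rfl⟩ := hspan w
  simp only [Module.End.mul_apply, map_smul, ← hα, ← hβ]
  rw [smul_comm α β]

section

variable {G : Type*} [Group G]

/-- a representation of degree one is trivial on commutators -/
theorem rho_commutator_of_finrank_eq_one {W : Type*} [AddCommGroup W] [Module ℂ W]
    (τ : Representation ℂ G W) (h : Module.finrank ℂ W = 1) (a b : G) :
    τ (a * b * a⁻¹ * b⁻¹) = 1 := by
  rw [map_mul, map_mul, map_mul]
  have h1 : τ a * τ b = τ b * τ a := end_comm_of_finrank_eq_one h _ _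
  have h2 : τ a * τ b * τ a⁻¹ * τ b⁻¹ = τ b * (τ a * τ a⁻¹) * τ b⁻¹ := by
    rw [h1]; simp only [mul_assoc]
  rw [h2, ← map_mul, mul_inv_cancel, map_one, mul_one, ← map_mul, mul_inv_cancel, map_one]

/-- an irreducible character of degree one is trivial on commutators -/
theorem irrChar_commutator_of_degree_one {χ : G → ℂ} (hχ : Cfsg.IsIrrCharacter G χ)
    (h1 : χ 1 = 1) (a b : G) : χ (a * b * a⁻¹ * b⁻¹) = 1 := by
  obtain ⟨n, τ, hτ, rfl⟩ := hχ
  rw [Representation.char_one] at h1
  have h2 : Module.finrank ℂ (Fin n → ℂ) = 1 := by exact_mod_cast h1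
  unfold Representation.character
  rw [rho_commutator_of_finrank_eq_one τ h2 a b]
  show LinearMap.trace ℂ (Fin n → ℂ) LinearMap.id = 1
  rw [LinearMap.trace_id, h2, Nat.cast_one]

variable [Fintype G]
variable {V : Type*} [AddCommGroup V] [Module ℂ V] [FiniteDimensional ℂ V]

/-- an irreducible constituent of `ρ` has degree at most that of `ρ` and dividing `|G|` -/
theorem constituent_degree (ρ : Representation ℂ G V) (χ : Cfsg.IrrCharacter G)
    (hne : Cfsg.classInner ρ.character (χ : G → ℂ) ≠ 0) :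
    ∃ n : ℕ, (χ : G → ℂ) 1 = (n : ℂ) ∧ 0 < n ∧ n ≤ Module.finrank ℂ V ∧ n ∣ Nat.card G := by
  obtain ⟨n, τ, hτ, hτχ⟩ := χ.2
  rw [← hτχ] at hne
  obtain ⟨f, hf⟩ := exists_injective_of_classInner_ne_zero τ ρ hτ hne
  have h1 : Module.finrank ℂ (Fin n → ℂ) ≤ Module.finrank ℂ V :=
    LinearMap.finrank_le_finrank_of_injective (f := f.toLinearMap) hf
  have h2 := degree_dvd_card τ hτ
  have h3 := finrank_ne_zero_of_irreducible τ hτ
  refine ⟨Module.finrank ℂ (Fin n → ℂ), ?_, ?_, h1, h2⟩
  · rw [← hτχ, Representation.char_one]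
  · exact Nat.pos_of_ne_zero (by exact_mod_cast h3)

/-- if all irreducible constituents of `ρ` are linear then `ρ` is trivial on commutators -/
theorem rho_commutator_of_linear_constituents (ρ : Representation ℂ G V)
    (hlin : ∀ χ : Cfsg.IrrCharacter G, Cfsg.classInner ρ.character (χ : G → ℂ) ≠ 0 →
      (χ : G → ℂ) 1 = 1) (a b : G) : ρ (a * b * a⁻¹ * b⁻¹) = LinearMap.id := by
  classical
  have : Fintype (Cfsg.IrrCharacter G) := Fintype.ofFinite _
  rw [← character_eq_finrank_iff]
  have hcf : Cfsg.IsClassFunction G ρ.character := fun g h => Representation.char_conj ρ g h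
  have hexp := classFunction_expansion ρ.character hcf
  have h1 := congrFun hexp (a * b * a⁻¹ * b⁻¹)
  have h2 := congrFun hexp 1
  rw [Representation.char_one] at h2
  rw [h1, h2]
  simp only [Finset.sum_apply, Pi.smul_apply, smul_eq_mul]
  refine Finset.sum_congr rfl fun χ _ => ?_
  by_cases hne : Cfsg.classInner ρ.character (χ : G → ℂ) = 0
  · rw [hne, zero_mul, zero_mul]
  · rw [irrChar_commutator_of_degree_one χ.2 (hlin χ hne) a b, hlin χ hne]

end

end Cfsg.Agent.Lib.Helper4
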