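import Mathlib
import Cfsg.Prelude.Def_Characters
import Cfsg.Agent.Lib.Helper4.CharIntegral

set_option autoImplicit false

namespace Cfsg.Agent.Lib.Helper4

open scoped ComplexConjugate

section

variable {G : Type*} [Group G] [Fintype G]
variable {V : Type*} [AddCommGroup V] [Module ℂ V] [FiniteDimensional ℂ V]

/-- generalized orthogonality, abstract form: for a class function `F` and an irreducible
representation, `∑ g, F g χ(x g) = ω(F) χ(x)` -/
theorem sum_mul_char_mul (ρ : Representation ℂ G V) (hirr : ρ.IsIrreducible)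
    (F : G → ℂ) (hF : Cfsg.IsClassFunction G F) (x : G) :
    ∑ g, F g * ρ.character (x * g) =
      (∑ g, F g * ρ.character g) / (Module.finrank ℂ V : ℂ) * ρ.character x := by
  have h := opSum_eq_omegaC_smul ρ hirr F hF
  have h2 : LinearMap.trace ℂ V (ρ x * opSum ρ F) = ∑ g, F g * ρ.character (x * g) := by
    unfold opSum
    rw [Finset.mul_sum, map_sum]
    refine Finset.sum_congr rfl fun g _ => ?_
    rw [mul_smul_comm, map_smul, smul_eq_mul, ← map_mul]
    rfl
  rw [← h2, h]
  rw [mul_smul_comm, map_smul, smul_eq_mul,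
    show ρ x * (LinearMap.id : V →ₗ[ℂ] V) = ρ x from mul_one (ρ x)]
  rfl

/-- `∑ a, χ(a⁻¹) χ(x a) = |G| χ(x) / χ(1)` -/
theorem sum_char_inv_mul_char (ρ : Representation ℂ G V) (hirr : ρ.IsIrreducible) (x : G) :
    ∑ a, ρ.character a⁻¹ * ρ.character (x * a) =
      (Nat.card G : ℂ) / (Module.finrank ℂ V : ℂ) * ρ.character x := by
  have hF : Cfsg.IsClassFunction G (fun a => ρ.character a⁻¹) := by
    intro g k
    show ρ.character (k * g * k⁻¹)⁻¹ = ρ.character g⁻¹
    have : (k * g * k⁻¹)⁻¹ = k * g⁻¹ * k⁻¹ := by group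
    rw [this, Representation.char_conj]
  rw [sum_mul_char_mul ρ hirr _ hF x]
  congr 2
  rw [← sum_char_mul_char_inv ρ hirr]
  refine Finset.sum_congr rfl fun g _ => ?_
  ring

open scoped Classical in
/-- the number of `b` conjugating `y` to `z` -/
theorem card_conjugators (y z : G) :
    ((Finset.univ.filter (fun b : G => b * y * b⁻¹ = z)).card : ℂ) =
      if IsConj y z then (Nat.card (Subgroup.centralizer ({y} : Set G)) : ℂ) else 0 := by
  by_cases h : IsConj y z
  · rw [if_pos h]
    obtain ⟨c, hc⟩ := isConj_iff.mp h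
    rw [Nat.card_eq_fintype_card, ← Finset.card_univ]
    congr 1
    -- bijection b ↦ c⁻¹ b from the filter to the centralizer
    refine Finset.card_bij' (fun b hb => ⟨c⁻¹ * b, ?_⟩) (fun k _ => c * (k : G)) ?_ ?_ ?_ ?_
    · rw [Finset.mem_filter] at hb
      rw [Subgroup.mem_centralizer_iff]
      intro w hw
      rw [Set.mem_singleton_iff] at hw
      subst hw
      have h1 : b * w * b⁻¹ = c * w * c⁻¹ := by rw [hb.2, hc]
      have h2 : c⁻¹ * b * w = w * (c⁻¹ * b) := by
        have : c⁻¹ * (b * w * b⁻¹) * b = c⁻¹ * (c * w * c⁻¹) * b := by rw [h1]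
        simpa [mul_assoc] using this
      exact h2.symm
    · intro b _
      exact Finset.mem_univ _
    · intro k _
      rw [Finset.mem_filter]
      refine ⟨Finset.mem_univ _, ?_⟩
      have hk := k.2
      rw [Subgroup.mem_centralizer_iff] at hk
      have h1 := hk y (Set.mem_singleton y)
      rw [← hc]
      have : (c * (k : G)) * y * (c * (k : G))⁻¹ = c * ((k : G) * y * (k : G)⁻¹) * c⁻¹ := by group
      rw [this, ← h1]
      group
    · intro b _
      simp
    · intro k _
      apply Subtype.ext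
      simp
  · rw [if_neg h]
    rw [Nat.cast_eq_zero, Finset.card_eq_zero, Finset.filter_eq_empty_iff]
    intro b _ hb
    exact h (isConj_iff.mpr ⟨b, hb⟩)

open scoped Classical in
/-- Frobenius' formula for the number of ways to write `g` as a commutator -/
theorem card_commutator_pairs [Fintype (Cfsg.IrrCharacter G)] (g : G) :
    ((Finset.univ.filter (fun p : G × G => p.1 * p.2 * p.1⁻¹ * p.2⁻¹ = g)).card : ℂ) =
      (Nat.card G : ℂ) * ∑ χ : Cfsg.IrrCharacter G, (χ : G → ℂ) g⁻¹ / (χ : G → ℂ) 1 := by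
  -- count by fibres over `a`
  have h1 : ((Finset.univ.filter (fun p : G × G => p.1 * p.2 * p.1⁻¹ * p.2⁻¹ = g)).card : ℂ) =
      ∑ a : G, ((Finset.univ.filter (fun b : G => b * a⁻¹ * b⁻¹ = a⁻¹ * g)).card : ℂ) := by
    rw [Finset.card_filter, Nat.cast_sum, Fintype.sum_prod_type]
    refine Finset.sum_congr rfl fun a _ => ?_
    rw [Finset.card_filter, Nat.cast_sum]
    refine Finset.sum_congr rfl fun b _ => ?_
    have : (a * b * a⁻¹ * b⁻¹ = g) ↔ (b * a⁻¹ * b⁻¹ = a⁻¹ * g) := by
      constructor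
      · intro h
        rw [← h]; group
      · intro h
        have : a * (b * a⁻¹ * b⁻¹) = a * (a⁻¹ * g) := by rw [h]
        simpa [mul_assoc] using this
    simp only [this]
  rw [h1]
  have h2 : ∀ a : G, ((Finset.univ.filter (fun b : G => b * a⁻¹ * b⁻¹ = a⁻¹ * g)).card : ℂ) =
      ∑ χ : Cfsg.IrrCharacter G, (χ : G → ℂ) a⁻¹ * (χ : G → ℂ) (g⁻¹ * a) := by
    intro a
    rw [card_conjugators, ← column_orthogonality]
    refine Finset.sum_congr rfl fun χ _ => ?_
    obtain ⟨n, ρ, hρ, hχ⟩ := χ.2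
    rw [← hχ, ← character_inv]
    congr 2
    group
  simp only [h2]
  rw [Finset.sum_comm, Finset.mul_sum]
  refine Finset.sum_congr rfl fun χ _ => ?_
  obtain ⟨n, ρ, hρ, hχ⟩ := χ.2
  rw [← hχ, sum_char_inv_mul_char ρ hρ g⁻¹, Representation.char_one]
  ring

end

end Cfsg.Agent.Lib.Helper4
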