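import Mathlib
import Cfsg.Prelude.Def_Characters
import Cfsg.Agent.Lib.Helper4.CharOrtho
import Cfsg.Agent.Lib.Helper4.VanishFree
import Cfsg.Agent.Lib.Helper4.CommCount

set_option autoImplicit false

namespace Cfsg.Agent.Lib.Helper4

open scoped ComplexConjugate

section

variable {G : Type*} [Group G] [Fintype G]

/-- irreducible characters separate conjugacy classes -/
theorem isConj_of_forall_irr_eq (z w : G)
    (h : ∀ χ : Cfsg.IrrCharacter G, (χ : G → ℂ) z = (χ : G → ℂ) w) : IsConj z w := by
  classical
  have : Fintype (Cfsg.IrrCharacter G) := Fintype.ofFinite _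
  by_contra hcon
  have h1 := column_orthogonality z w
  rw [if_neg hcon] at h1
  have h2 := column_orthogonality z z
  rw [if_pos (IsConj.refl z)] at h2
  have h3 : ∑ χ : Cfsg.IrrCharacter G, (χ : G → ℂ) z * conj ((χ : G → ℂ) z) =
      ∑ χ : Cfsg.IrrCharacter G, (χ : G → ℂ) z * conj ((χ : G → ℂ) w) :=
    Finset.sum_congr rfl fun χ _ => by rw [h χ]
  rw [h3, h1] at h2
  have : (Nat.card (Subgroup.centralizer ({z} : Set G)) : ℂ) ≠ 0 :=
    Nat.cast_ne_zero.mpr Nat.card_pos.ne'
  exact this h2.symm

open scoped Classical in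
/-- class size times centralizer order -/
theorem card_class_mul_card_centralizer (y : G) :
    (Finset.univ.filter (fun z : G => IsConj y z)).card *
      Nat.card (Subgroup.centralizer ({y} : Set G)) = Nat.card G := by
  have h1 : (Finset.univ : Finset G).card =
      ∑ z : G, (Finset.univ.filter (fun b : G => b * y * b⁻¹ = z)).card :=
    Finset.card_eq_sum_card_fiberwise (f := fun b : G => b * y * b⁻¹) (fun _ _ => Finset.mem_univ _)
  have h2 : ((Finset.univ : Finset G).card : ℂ) =
      ∑ z : G, ((Finset.univ.filter (fun b : G => b * y * b⁻¹ = z)).card : ℂ) := by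
    rw [h1]; push_cast; rfl
  simp only [card_conjugators] at h2
  rw [← Finset.sum_filter, Finset.sum_const, nsmul_eq_mul, Finset.card_univ,
    ← Nat.card_eq_fintype_card] at h2
  exact_mod_cast h2.symm

end

end Cfsg.Agent.Lib.Helper4
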