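import Mathlib
import Cfsg.Prelude.Def_Characters
import Cfsg.Prelude.Def_Blocks
import Cfsg.Agent.Lib.Helper4.PermLemma
import Cfsg.Agent.Lib.Helper4.CharIntegral
import Cfsg.Agent.Lib.Helper4.RepEigen
import Cfsg.Agent.S0134

set_option autoImplicit false

namespace Cfsg.Agent.Lib.Helper4

section Defl

variable {G : Type*} [Group G]
variable {V : Type*} [AddCommGroup V] [Module ℂ V]

/-- deflation of a representation to a quotient by a normal subgroup of its kernel -/
noncomputable def deflate (ρ : Representation ℂ G V) (N : Subgroup G) [N.Normal]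
    (hN : N ≤ MonoidHom.ker ρ) : Representation ℂ (G ⧸ N) V :=
  QuotientGroup.lift N ρ hN

theorem deflate_mk (ρ : Representation ℂ G V) (N : Subgroup G) [N.Normal]
    (hN : N ≤ MonoidHom.ker ρ) (g : G) : deflate ρ N hN (QuotientGroup.mk g) = ρ g := rfl

theorem deflate_character [FiniteDimensional ℂ V] (ρ : Representation ℂ G V) (N : Subgroup G)
    [N.Normal] (hN : N ≤ MonoidHom.ker ρ) (g : G) :
    (deflate ρ N hN).character (QuotientGroup.mk g) = ρ.character g := rfl

theorem deflate_isIrreducible (ρ : Representation ℂ G V) (N : Subgroup G) [N.Normal]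
    (hN : N ≤ MonoidHom.ker ρ) (hirr : ρ.IsIrreducible) : (deflate ρ N hN).IsIrreducible := by
  have := hirr
  have hρ' : ∀ g : G, deflate ρ N hN (QuotientGroup.mk g) = ρ g := fun g => rfl
  have hbt : (⊥ : Subrepresentation (deflate ρ N hN)) ≠ ⊤ := by
    intro h1
    have h2 : (⊥ : Submodule ℂ V) = ⊤ := congrArg Subrepresentation.toSubmodule h1
    have h3 : (⊥ : Subrepresentation ρ) = ⊤ := Subrepresentation.toSubmodule_injective h2
    exact bot_ne_top h3
  exact { exists_pair_ne := ⟨⊥, ⊤, hbt⟩
          eq_bot_or_eq_top := fun σ => by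
            let σ' : Subrepresentation ρ :=
              ⟨σ.toSubmodule, fun g v hv => by
                rw [← hρ' g]
                exact σ.apply_mem_toSubmodule _ hv⟩
            rcases eq_bot_or_eq_top σ' with h1 | h1
            · left
              apply Subrepresentation.toSubmodule_injective
              have h2 : σ'.toSubmodule = (⊥ : Subrepresentation ρ).toSubmodule :=
                congrArg Subrepresentation.toSubmodule h1
              exact h2
            · right
              apply Subrepresentation.toSubmodule_injective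
              have h2 : σ'.toSubmodule = (⊤ : Subrepresentation ρ).toSubmodule :=
                congrArg Subrepresentation.toSubmodule h1
              exact h2 }

end Defl

section Fin

variable {G : Type*} [Group G] [Fintype G]
variable {V : Type*} [AddCommGroup V] [Module ℂ V] [FiniteDimensional ℂ V]

/-- the character kernel is the kernel of the representation -/
theorem character_eq_one_iff_mem_ker (ρ : Representation ℂ G V) (g : G) :
    ρ.character g = ρ.character 1 ↔ g ∈ MonoidHom.ker ρ := by
  rw [Representation.char_one, character_eq_finrank_iff, MonoidHom.mem_ker]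
  rfl

theorem card_charKernel (ρ : Representation ℂ G V) :
    Nat.card {g : G // ρ.character g = ρ.character 1} = Nat.card (MonoidHom.ker ρ) := by
  apply Nat.card_congr
  exact Equiv.subtypeEquivRight (fun g => character_eq_one_iff_mem_ker ρ g)

theorem charDegree_character (ρ : Representation ℂ G V) :
    Cfsg.charDegree ρ.character = Module.finrank ℂ V := by
  unfold Cfsg.charDegree
  rw [Representation.char_one]
  simp

/-- the degree of an irreducible representation divides the index of its kernel -/
theorem degree_dvd_index_ker (ρ : Representation ℂ G V) (hirr : ρ.IsIrreducible) :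
    Module.finrank ℂ V ∣ (MonoidHom.ker ρ).index := by
  classical
  have : Fintype (G ⧸ MonoidHom.ker ρ) := Fintype.ofFinite _
  have h := degree_dvd_card (deflate ρ (MonoidHom.ker ρ) le_rfl)
    (deflate_isIrreducible ρ _ le_rfl hirr)
  rwa [← Subgroup.index_eq_card] at h

/-- `|ker χ| · χ(1)` divides `|G|` -/
theorem card_ker_mul_degree_dvd (ρ : Representation ℂ G V) (hirr : ρ.IsIrreducible) :
    Nat.card {g : G // ρ.character g = ρ.character 1} * Cfsg.charDegree ρ.character ∣
      Nat.card G := by
  rw [card_charKernel, charDegree_character, ← Subgroup.card_mul_index (MonoidHom.ker ρ)]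
  exact Nat.mul_dvd_mul_left _ (degree_dvd_index_ker ρ hirr)

/-- the codegree: `|G| / (|ker χ| χ(1)) = |G : ker χ| / χ(1)` -/
theorem codegree_eq (ρ : Representation ℂ G V) (hirr : ρ.IsIrreducible) :
    Nat.card G / (Nat.card {g : G // ρ.character g = ρ.character 1} *
      Cfsg.charDegree ρ.character) = (MonoidHom.ker ρ).index / Module.finrank ℂ V := by
  rw [card_charKernel, charDegree_character, ← Subgroup.card_mul_index (MonoidHom.ker ρ)]
  rw [Nat.mul_div_mul_left _ _ Nat.card_pos]

end Fin

section Irr

variable {G : Type*} [Group G] [Fintype G]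

/-- an irreducible character with `N` in its kernel is inflated from `G ⧸ N` -/
theorem exists_deflate_irr (N : Subgroup G) [N.Normal] (χ : Cfsg.IrrCharacter G)
    (hN : ∀ n ∈ N, (χ : G → ℂ) n = (χ : G → ℂ) 1) :
    ∃ ψ : Cfsg.IrrCharacter (G ⧸ N), ∀ g : G, (ψ : G ⧸ N → ℂ) (QuotientGroup.mk g) =
      (χ : G → ℂ) g := by
  obtain ⟨n, ρ, hρ, hχ⟩ := χ.2
  have hle : N ≤ MonoidHom.ker ρ := by
    intro x hx
    rw [← character_eq_one_iff_mem_ker, hχ]
    exact hN x hx
  refine ⟨⟨(deflate ρ N hle).character, n, deflate ρ N hle,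
    deflate_isIrreducible ρ N hle hρ, rfl⟩, ?_⟩
  intro g
  rw [← hχ]
  rfl

open scoped Classical in
/-- the sum of squares of the degrees of the irreducible characters with `N` in the kernel -/
theorem sum_sq_degree_ker (N : Subgroup G) [N.Normal] [Fintype (Cfsg.IrrCharacter G)] :
    ∑ χ ∈ Finset.univ.filter (fun χ : Cfsg.IrrCharacter G =>
      ∀ n ∈ N, (χ : G → ℂ) n = (χ : G → ℂ) 1), (χ : G → ℂ) 1 ^ 2 = (N.index : ℂ) := by
  have : Fintype (G ⧸ N) := Fintype.ofFinite _
  have : Fintype (Cfsg.IrrCharacter (G ⧸ N)) := Fintype.ofFinite _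
  let π : G →* G ⧸ N := QuotientGroup.mk' N
  have hπ : Function.Surjective π := QuotientGroup.mk'_surjective N
  let ι : Cfsg.IrrCharacter (G ⧸ N) → Cfsg.IrrCharacter G := fun ψ =>
    ⟨(ψ : G ⧸ N → ℂ) ∘ π, isIrrCharacter_comp_of_surjective ψ.2 π hπ⟩
  have hι : Function.Injective ι := by
    intro χ ψ h
    apply Subtype.ext
    funext y
    obtain ⟨x, rfl⟩ := hπ y
    exact congrFun (congrArg Subtype.val h) x
  have himg : Finset.univ.filter (fun χ : Cfsg.IrrCharacter G =>
      ∀ n ∈ N, (χ : G → ℂ) n = (χ : G → ℂ) 1) = Finset.univ.image ι := by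
    ext χ
    simp only [Finset.mem_filter, Finset.mem_univ, true_and, Finset.mem_image]
    constructor
    · intro h
      obtain ⟨ψ, hψ⟩ := exists_deflate_irr N χ h
      refine ⟨ψ, ?_⟩
      apply Subtype.ext
      funext g
      exact hψ g
    · rintro ⟨ψ, rfl⟩ n hn
      show (ψ : G ⧸ N → ℂ) (π n) = (ψ : G ⧸ N → ℂ) (π 1)
      have : π n = π 1 := by
        rw [map_one]
        exact (QuotientGroup.eq_one_iff n).mpr hn
      rw [this]
  rw [himg, Finset.sum_image (fun a _ b _ h => hι h)]
  have h1 := Cfsg.Agent.S0134.result (G := G ⧸ N)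
  rw [finsum_eq_sum_of_fintype] at h1
  rw [Subgroup.index_eq_card, ← h1]
  refine Finset.sum_congr rfl fun ψ _ => ?_
  show (ψ : G ⧸ N → ℂ) (π 1) ^ 2 = _
  rw [map_one]

end Irr

end Cfsg.Agent.Lib.Helper4
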