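import Mathlib
import Cfsg.Prelude.Def_Characters
import Cfsg.Agent.Lib.Helper4.Deflate
import Cfsg.Agent.Lib.Helper4.CharOrtho
import Cfsg.Agent.Lib.Helper4.ClassSep
import Cfsg.Agent.Lib.Helper4.BurnsideClass
import Cfsg.Agent.Lib.Helper26.CharBasic

set_option autoImplicit false

/-! Irreducible characters which are nonzero on exactly two conjugacy classes (Gagola). -/

namespace Cfsg.Agent.Lib.Helper4

open scoped ComplexConjugate

section Ker

variable {G : Type*} [Group G] [Fintype G]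

/-- the kernel of an irreducible character as a subgroup -/
def charKer (ψ : Cfsg.IrrCharacter G) : Subgroup G where
  carrier := {x | (ψ : G → ℂ) x = (ψ : G → ℂ) 1}
  one_mem' := rfl
  mul_mem' := by
    intro a b ha hb
    obtain ⟨n, ρ, hρ, hψ⟩ := ψ.2
    simp only [Set.mem_ofPred_eq, ← hψ] at ha hb ⊢
    rw [character_eq_one_iff_mem_ker] at ha hb ⊢
    exact mul_mem ha hb
  inv_mem' := by
    intro a ha
    obtain ⟨n, ρ, hρ, hψ⟩ := ψ.2
    simp only [Set.mem_ofPred_eq, ← hψ] at ha ⊢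
    rw [character_eq_one_iff_mem_ker] at ha ⊢
    exact inv_mem ha

theorem mem_charKer (ψ : Cfsg.IrrCharacter G) (x : G) :
    x ∈ charKer ψ ↔ (ψ : G → ℂ) x = (ψ : G → ℂ) 1 := Iff.rfl

instance charKer_normal (ψ : Cfsg.IrrCharacter G) : (charKer ψ).Normal := by
  constructor
  intro a ha c
  rw [mem_charKer] at ha ⊢
  rw [Cfsg.Agent.Lib.Helper26.isClassFunction_of_isIrrCharacter ψ.2 a c, ha]

end Ker

section Two

variable {G : Type*} [Group G] [Fintype G]

/-- there is a representative `g ≠ 1` of the second class -/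
theorem two_classes_rep (χ : Cfsg.IrrCharacter G)
    (hχ : Nat.card {C : ConjClasses G // ∃ g ∈ C.carrier, (χ : G → ℂ) g ≠ 0} = 2) :
    ∃ g : G, g ≠ 1 ∧ (χ : G → ℂ) g ≠ 0 ∧ ∀ x : G, (χ : G → ℂ) x ≠ 0 → x = 1 ∨ IsConj g x := by
  have h1 : (χ : G → ℂ) 1 ≠ 0 := by
    obtain ⟨n, hn, h⟩ := Cfsg.Agent.Lib.Helper26.irr_degree χ.2
    rw [h]
    exact Nat.cast_ne_zero.mpr hn.ne'
  set x₀ : {C : ConjClasses G // ∃ g ∈ C.carrier, (χ : G → ℂ) g ≠ 0} :=
    ⟨ConjClasses.mk 1, 1, ConjClasses.mem_carrier_mk, h1⟩ with hx₀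
  obtain ⟨⟨C, g, hgC, hg⟩, hy, hyu⟩ := (Nat.card_eq_two_iff' x₀).mp hχ
  rw [ConjClasses.mem_carrier_iff_mk_eq] at hgC
  subst hgC
  refine ⟨g, ?_, hg, ?_⟩
  · rintro rfl
    exact hy rfl
  · intro x hx
    set z : {C : ConjClasses G // ∃ g ∈ C.carrier, (χ : G → ℂ) g ≠ 0} :=
      ⟨ConjClasses.mk x, x, ConjClasses.mem_carrier_mk, hx⟩ with hz
    by_cases hzx : z = x₀
    · left
      have h2 : ConjClasses.mk x = ConjClasses.mk 1 := congrArg Subtype.val hzx
      rw [ConjClasses.mk_eq_mk_iff_isConj] at h2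
      exact isConj_one_left.mp h2
    · right
      have h3 := hyu z hzx
      have h2 : ConjClasses.mk x = ConjClasses.mk g := congrArg Subtype.val h3
      rw [ConjClasses.mk_eq_mk_iff_isConj] at h2
      exact h2.symm

open scoped Classical in
/-- splitting a sum against `χ` over the two classes -/
theorem two_classes_sum (χ : Cfsg.IrrCharacter G) (g : G) (hg1 : g ≠ 1)
    (hsupp : ∀ x : G, (χ : G → ℂ) x ≠ 0 → x = 1 ∨ IsConj g x)
    (F : G → ℂ) (hF : ∀ x, IsConj g x → F x = F g) :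
    ∑ x : G, (χ : G → ℂ) x * F x = (χ : G → ℂ) 1 * F 1 +
      ((Finset.univ.filter (fun x : G => IsConj g x)).card : ℂ) * ((χ : G → ℂ) g * F g) := by
  have hcf := Cfsg.Agent.Lib.Helper26.isClassFunction_of_isIrrCharacter χ.2
  have hpt : ∀ x : G, (χ : G → ℂ) x * F x = (if x = 1 then (χ : G → ℂ) 1 * F 1 else 0) +
      (if IsConj g x then (χ : G → ℂ) g * F g else 0) := by
    intro x
    by_cases hx1 : x = 1
    · subst hx1
      rw [if_pos rfl, if_neg, add_zero]
      intro h
      exact hg1 (isConj_one_left.mp h)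
    · rw [if_neg hx1, zero_add]
      by_cases hx : IsConj g x
      · rw [if_pos hx, hF x hx]
        obtain ⟨c, hc⟩ := isConj_iff.mp hx
        rw [← hc, hcf g c]
      · rw [if_neg hx]
        have : (χ : G → ℂ) x = 0 := by
          by_contra h
          rcases hsupp x h with h' | h'
          · exact hx1 h'
          · exact hx h'
        rw [this, zero_mul]
  rw [Finset.sum_congr rfl (fun x _ => hpt x)]
  rw [Finset.sum_add_distrib, Finset.sum_ite_eq' Finset.univ (1 : G), if_pos (Finset.mem_univ _),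
    ← Finset.sum_filter, Finset.sum_const, nsmul_eq_mul]

open scoped Classical in
/-- `χ` is not the trivial character -/
theorem two_classes_ne_one (hG : 2 < Nat.card G) (χ : Cfsg.IrrCharacter G) (g : G)
    (hsupp : ∀ x : G, (χ : G → ℂ) x ≠ 0 → x = 1 ∨ IsConj g x) :
    (χ : G → ℂ) ≠ fun _ => (1 : ℂ) := by
  intro h
  have hall : ∀ x : G, x = 1 ∨ IsConj g x := by
    intro x
    apply hsupp
    rw [h]
    exact one_ne_zero
  have hcard : Nat.card G = 1 + (Finset.univ.filter (fun x : G => IsConj g x)).card := by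
    rw [Nat.card_eq_fintype_card, ← Finset.card_univ]
    have : (Finset.univ : Finset G) = insert 1 (Finset.univ.filter (fun x : G => IsConj g x)) := by
      ext x
      simp only [Finset.mem_univ, Finset.mem_insert, Finset.mem_filter, true_and, true_iff]
      exact hall x
    have hu : (Finset.univ : Finset G).card =
        (insert 1 (Finset.univ.filter (fun x : G => IsConj g x))).card := congrArg Finset.card this
    rw [hu]
    by_cases hg1 : g = 1
    · subst hg1
      have h2 : ∀ x : G, x = 1 := by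
        intro x
        rcases hall x with h' | h'
        · exact h'
        · exact isConj_one_right.mp h'
      have : Nat.card G = 1 := by
        rw [Nat.card_eq_one_iff_unique]
        exact ⟨⟨fun a b => (h2 a).trans (h2 b).symm⟩, ⟨1⟩⟩
      omega
    · have hnot : (1 : G) ∉ Finset.univ.filter (fun x : G => IsConj g x) := by
        rw [Finset.mem_filter]
        rintro ⟨_, h'⟩
        exact hg1 (isConj_one_left.mp h')
      rw [Finset.card_insert_of_notMem hnot, add_comm]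
  have hdvd := card_class_mul_card_centralizer g
  set c := (Finset.univ.filter (fun x : G => IsConj g x)).card with hc
  have h1 : c ∣ Nat.card G := Dvd.intro _ hdvd
  rw [hcard] at h1
  have h2 : c ∣ 1 := (Nat.dvd_add_left (dvd_refl c)).mp h1
  have h3 : c = 1 := Nat.dvd_one.mp h2
  omega

open scoped Classical in
/-- `|C| χ(g) = -χ(1)` -/
theorem two_classes_value (hG : 2 < Nat.card G) (χ : Cfsg.IrrCharacter G) (g : G) (hg1 : g ≠ 1)
    (hsupp : ∀ x : G, (χ : G → ℂ) x ≠ 0 → x = 1 ∨ IsConj g x) :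
    ((Finset.univ.filter (fun x : G => IsConj g x)).card : ℂ) * (χ : G → ℂ) g =
      - (χ : G → ℂ) 1 := by
  have h0 := Cfsg.Agent.Lib.Helper26.classInner_irr χ.2 (isIrrCharacter_one (G := G))
  rw [if_neg (two_classes_ne_one hG χ g hsupp)] at h0
  unfold Cfsg.classInner at h0
  have hne : (Nat.card G : ℂ)⁻¹ ≠ 0 := inv_ne_zero (Nat.cast_ne_zero.mpr Nat.card_pos.ne')
  have h1 := (mul_eq_zero.mp h0).resolve_left hne
  rw [two_classes_sum χ g hg1 hsupp (fun _ => conj (1 : ℂ)) (fun _ _ => rfl)] at h1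
  simp only [map_one, mul_one] at h1
  linear_combination h1

theorem char_one_ne_zero' (χ : Cfsg.IrrCharacter G) : (χ : G → ℂ) 1 ≠ 0 := by
  obtain ⟨n, hn, h⟩ := Cfsg.Agent.Lib.Helper26.irr_degree χ.2
  rw [h]
  exact Nat.cast_ne_zero.mpr hn.ne'

theorem char_one_conj (χ : Cfsg.IrrCharacter G) : conj ((χ : G → ℂ) 1) = (χ : G → ℂ) 1 := by
  obtain ⟨n, hn, h⟩ := Cfsg.Agent.Lib.Helper26.irr_degree χ.2
  rw [h]
  exact Complex.conj_natCast n

/-- every other irreducible character has `g` in its kernel -/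
theorem two_classes_other (hG : 2 < Nat.card G) (χ : Cfsg.IrrCharacter G) (g : G) (hg1 : g ≠ 1)
    (hsupp : ∀ x : G, (χ : G → ℂ) x ≠ 0 → x = 1 ∨ IsConj g x)
    (ψ : Cfsg.IrrCharacter G) (hψ : ψ ≠ χ) : (ψ : G → ℂ) g = (ψ : G → ℂ) 1 := by
  classical
  have h0 := Cfsg.Agent.Lib.Helper26.classInner_irr χ.2 ψ.2
  have hne' : (χ : G → ℂ) ≠ (ψ : G → ℂ) := fun h => hψ (Subtype.ext h.symm)
  rw [if_neg hne'] at h0
  unfold Cfsg.classInner at h0
  have hne : (Nat.card G : ℂ)⁻¹ ≠ 0 := inv_ne_zero (Nat.cast_ne_zero.mpr Nat.card_pos.ne')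
  have h1 := (mul_eq_zero.mp h0).resolve_left hne
  have hcf := Cfsg.Agent.Lib.Helper26.isClassFunction_of_isIrrCharacter ψ.2
  rw [two_classes_sum χ g hg1 hsupp (fun x => conj ((ψ : G → ℂ) x)) (by
    intro x hx
    obtain ⟨c, hc⟩ := isConj_iff.mp hx
    rw [← hc, hcf g c])] at h1
  have h2 := two_classes_value hG χ g hg1 hsupp
  have h3 : (χ : G → ℂ) 1 * (conj ((ψ : G → ℂ) 1) - conj ((ψ : G → ℂ) g)) = 0 := by
    linear_combination h1 - conj ((ψ : G → ℂ) g) * h2
  have h4 := (mul_eq_zero.mp h3).resolve_left (char_one_ne_zero' χ)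
  have h5 : conj ((ψ : G → ℂ) g) = conj ((ψ : G → ℂ) 1) := (sub_eq_zero.mp h4).symm
  exact (starRingEnd ℂ).injective h5

/-- `χ` is faithful -/
theorem two_classes_faithful (hG : 2 < Nat.card G) (χ : Cfsg.IrrCharacter G) (g : G) (hg1 : g ≠ 1)
    (hsupp : ∀ x : G, (χ : G → ℂ) x ≠ 0 → x = 1 ∨ IsConj g x)
    (x : G) (hx : (χ : G → ℂ) x = (χ : G → ℂ) 1) : x = 1 := by
  classical
  have h1 := char_one_ne_zero' χ
  rcases hsupp x (by rw [hx]; exact h1) with h | h
  · exact h
  · exfalso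
    obtain ⟨c, hc⟩ := isConj_iff.mp h
    have hcf := Cfsg.Agent.Lib.Helper26.isClassFunction_of_isIrrCharacter χ.2
    have hxg : (χ : G → ℂ) g = (χ : G → ℂ) 1 := by
      rw [← hx, ← hc, hcf g c]
    have h2 := two_classes_value hG χ g hg1 hsupp
    rw [hxg] at h2
    have h3 : (((Finset.univ.filter (fun x : G => IsConj g x)).card : ℂ) + 1) *
        (χ : G → ℂ) 1 = 0 := by linear_combination h2
    rcases mul_eq_zero.mp h3 with h4 | h4
    · exact Nat.cast_add_one_ne_zero _ h4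
    · exact h1 h4

/-- `χ` does not vanish on the nonidentity elements of the normal closure of `g` -/
theorem two_classes_closure (hG : 2 < Nat.card G) (χ : Cfsg.IrrCharacter G) (g : G) (hg1 : g ≠ 1)
    (hsupp : ∀ x : G, (χ : G → ℂ) x ≠ 0 → x = 1 ∨ IsConj g x)
    (x : G) (hx : x ∈ Subgroup.normalClosure ({g} : Set G)) (hx1 : x ≠ 1) :
    (χ : G → ℂ) x ≠ 0 := by
  classical
  have : Fintype (Cfsg.IrrCharacter G) := Fintype.ofFinite _
  intro hzero
  have hker : ∀ ψ : Cfsg.IrrCharacter G, ψ ≠ χ → (ψ : G → ℂ) x = (ψ : G → ℂ) 1 := by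
    intro ψ hψ
    have hle : Subgroup.normalClosure ({g} : Set G) ≤ charKer ψ := by
      apply Subgroup.normalClosure_le_normal
      intro y hy
      rw [Set.mem_singleton_iff] at hy
      subst hy
      exact two_classes_other hG χ y hg1 hsupp ψ hψ
    exact hle hx
  have h1 := column_orthogonality x (1 : G)
  rw [if_neg (fun h => hx1 (isConj_one_left.mp h))] at h1
  rw [← Finset.add_sum_erase Finset.univ _ (Finset.mem_univ χ), hzero, zero_mul, zero_add] at h1
  have h2 : ∑ ψ ∈ Finset.univ.erase χ, (((Complex.normSq ((ψ : G → ℂ) 1) : ℝ)) : ℂ) = 0 := by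
    rw [← h1]
    refine Finset.sum_congr rfl fun ψ hψ => ?_
    rw [hker ψ (Finset.ne_of_mem_erase hψ), Complex.mul_conj]
  have h3 : ∑ ψ ∈ Finset.univ.erase χ, Complex.normSq ((ψ : G → ℂ) 1) = 0 := by
    exact_mod_cast h2
  have h4 := (Finset.sum_eq_zero_iff_of_nonneg (fun ψ _ => Complex.normSq_nonneg _)).mp h3
  let τ : Cfsg.IrrCharacter G := ⟨fun _ => 1, isIrrCharacter_one⟩
  have hτ : τ ≠ χ := by
    intro h
    apply two_classes_ne_one hG χ g hsupp
    rw [← h]
  have h5 := h4 τ (Finset.mem_erase.mpr ⟨hτ, Finset.mem_univ _⟩)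
  simp [τ] at h5

end Two

end Cfsg.Agent.Lib.Helper4
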