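import Mathlib
import Cfsg.Prelude.Def_Blocks
import Cfsg.Agent.Lib.Helper28.LocalIdeal
import Cfsg.Agent.Lib.Helper4.CharIntegral
import Cfsg.Agent.Lib.Helper26.Clifford
import Cfsg.Agent.Lib.Helper26.CharInt
import Cfsg.Agent.S4870
import Cfsg.Agent.S0868

set_option autoImplicit false

/-!
# Central elements with local-integer coefficients separate blocks

If `χ`, `ψ` lie in the same block relative to `M` and `c` is a class function whose values are
algebraic integers divided by a natural number prime to `p`, then the values of the central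
characters of `χ` and `ψ` at `∑ c(g) g` differ by an element of the local ideal.
-/

namespace Cfsg.Agent.Lib.Helper4

open Cfsg Cfsg.Agent.Lib.Helper28
open scoped ComplexConjugate

section

variable {M : Ideal AlgInt}

theorem natCast_not_mem_of_coprime {p : ℕ} (hM : IsPModular p M) {n : ℕ} (hn : n.Coprime p) :
    (n : AlgInt) ∉ M := by
  intro h
  apply not_memLocalIdeal_natCast hM hn
  have := memLocalIdeal_of_mem hM.2.1.ne_top h
  simpa using this

/-- the local ideal is stable under division by natural numbers prime to `p` -/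
theorem memLocalIdeal_div_nat {p : ℕ} (hM : IsPModular p M) {n : ℕ} (hn : n.Coprime p) {z : ℂ}
    (hz : MemLocalIdeal M z) : MemLocalIdeal M (z / (n : ℂ)) := by
  have hprime : M.IsPrime := hM.2.1.isPrime
  obtain ⟨a, b, ha, hb, rfl⟩ := hz
  refine ⟨a, b * (n : AlgInt), ha, ?_, ?_⟩
  · intro h
    rcases Ideal.IsPrime.mem_or_mem hprime h with h1 | h1
    · exact hb h1
    · exact natCast_not_mem_of_coprime hM hn h1
  · push_cast
    rw [div_div]

theorem one_not_memLocalIdeal {p : ℕ} (hM : IsPModular p M) : ¬ MemLocalIdeal M 1 := by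
  have := not_memLocalIdeal_natCast hM (Nat.coprime_one_left p)
  simpa using this

end

section

variable {G : Type*} [Group G] [Fintype G]

/-- central elements with local-integer coefficients take congruent values on characters of the
same block -/
theorem sameBlock_weighted (p : ℕ) (M : Ideal AlgInt) (hM : IsPModular p M)
    (χ ψ : G → ℂ) (hχ : IsClassFunction G χ) (hψ : IsClassFunction G ψ)
    (h : SameBlock M χ ψ) (c : G → ℂ) (hc : IsClassFunction G c) (m : ℕ) (hm : m.Coprime p)
    (hint : ∀ g, IsIntegral ℤ ((m : ℂ) * c g)) :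
    MemLocalIdeal M (∑ g, c g * (χ g / χ 1) - ∑ g, c g * (ψ g / ψ 1)) := by
  classical
  have hprime : M.IsPrime := hM.2.1.isPrime
  have : Fintype (ConjClasses G) := Fintype.ofFinite _
  have hm0 : (m : ℂ) ≠ 0 := by
    intro h0
    have h1 : m = 0 := by exact_mod_cast h0
    rw [h1, Nat.coprime_zero_left] at hm
    exact hM.1.one_lt.ne' hm
  have hF : ∀ φ : G → ℂ, IsClassFunction G φ →
      IsClassFunction G (fun g => c g * (φ g / φ 1)) := by
    intro φ hφ g k
    show c (k * g * k⁻¹) * (φ (k * g * k⁻¹) / φ 1) = c g * (φ g / φ 1)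
    rw [hc g k, hφ g k]
  rw [sum_eq_sum_classes _ (hF χ hχ), sum_eq_sum_classes _ (hF ψ hψ), ← Finset.sum_sub_distrib]
  apply memLocalIdeal_sum
  intro C _
  set g := Quotient.out C with hg
  have h1 : ((Subgroup.centralizer ({g} : Set G)).index : ℂ) * (c g * (χ g / χ 1)) -
      ((Subgroup.centralizer ({g} : Set G)).index : ℂ) * (c g * (ψ g / ψ 1)) =
      ((m : ℂ) * c g) * (centralChar χ g - centralChar ψ g) / (m : ℂ) := by
    unfold centralChar
    field_simp
  rw [h1]
  exact memLocalIdeal_div_nat hM hm (memLocalIdeal_isIntegral_mul (hint g) (h g))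

end

section Constituent

open Cfsg.Agent.Lib.Helper26

variable {G : Type*} [Group G] [Fintype G]

theorem sameBlock_symm {M : Ideal AlgInt} {χ ψ : G → ℂ} (h : SameBlock M χ ψ) :
    SameBlock M ψ χ := by
  intro g
  have := memLocalIdeal_neg (h g)
  rwa [neg_sub] at this

theorem isIntegral_of_isIrrCharacter {H : Type*} [Group H] [Finite H] {φ : H → ℂ}
    (hφ : IsIrrCharacter H φ) (x : H) : IsIntegral ℤ (φ x) := by
  obtain ⟨n, ρ, _, rfl⟩ := hφ
  exact character_isIntegral ρ x

/-- characters in the same block have the same constituents on a normal subgroup of order prime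
to `p` -/
theorem constituent_of_sameBlock (p : ℕ) (M : Ideal AlgInt) (hM : IsPModular p M)
    (N : Subgroup G) [hNn : N.Normal] [Fintype N] (hN : (Nat.card N).Coprime p)
    (χ ψ : G → ℂ) (hχ : IsIrrCharacter G χ) (hψ : IsIrrCharacter G ψ) (h : SameBlock M χ ψ)
    (θ : N → ℂ) (hθ : IsIrrCharacter N θ) (hχθ : classInner (χ ∘ N.subtype) θ ≠ 0) :
    classInner (ψ ∘ N.subtype) θ ≠ 0 := by
  classical
  intro hψθ
  have hχcf := Cfsg.Agent.Lib.Helper26.isClassFunction_of_isIrrCharacter hχ
  have hψcf := Cfsg.Agent.Lib.Helper26.isClassFunction_of_isIrrCharacter hψ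
  have hN0 : (Nat.card N : ℂ) ≠ 0 := Nat.cast_ne_zero.mpr Nat.card_pos.ne'
  -- the multiplicity is a natural number
  obtain ⟨e, he⟩ := classInner_isCharacter_nat
    (isCharacter_restrict N (isCharacter_of_isIrrCharacter hχ)) (isCharacter_of_isIrrCharacter hθ)
  have he0 : (e : ℂ) ≠ 0 := by
    rw [← he]
    exact hχθ
  set Img : Finset (N → ℂ) := Finset.univ.image (conjFunN N θ) with hImg
  have hcl : χ ∘ N.subtype = (e : ℂ) • ∑ φ ∈ Img, φ := by
    have := clifford_restrict N hχ hθ hχθ
    rw [he] at this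
    exact this
  have hImgirr : ∀ φ ∈ Img, IsIrrCharacter N φ := by
    intro φ hφ
    rw [hImg, Finset.mem_image] at hφ
    obtain ⟨g, _, rfl⟩ := hφ
    exact isIrrCharacter_conjFunN N hθ g
  have hImgne : Img.Nonempty := ⟨conjFunN N θ 1, Finset.mem_image_of_mem _ (Finset.mem_univ _)⟩
  have ht0 : (Img.card : ℂ) ≠ 0 := Nat.cast_ne_zero.mpr (Finset.card_pos.mpr hImgne).ne'
  obtain ⟨d, hd0, hd⟩ := irr_degree hθ
  have hd0' : (θ 1 : ℂ) ≠ 0 := by
    rw [hd]
    exact_mod_cast hd0.ne'
  have hdeg : ∀ φ ∈ Img, φ 1 = θ 1 := by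
    intro φ hφ
    rw [hImg, Finset.mem_image] at hφ
    obtain ⟨g, _, rfl⟩ := hφ
    unfold conjFunN
    refine congrArg θ (Subtype.ext ?_)
    show g * ((1 : N) : G) * g⁻¹ = ((1 : N) : G)
    simp
  have hχ1 : χ 1 = (e : ℂ) * ((Img.card : ℂ) * θ 1) := by
    have h1 := congrFun hcl 1
    simp only [Function.comp_apply, Pi.smul_apply, smul_eq_mul, Finset.sum_apply] at h1
    rw [Finset.sum_congr rfl hdeg, Finset.sum_const, nsmul_eq_mul] at h1
    exact h1
  have hχ10 : χ 1 ≠ 0 := by
    rw [hχ1]
    exact mul_ne_zero he0 (mul_ne_zero ht0 hd0')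
  obtain ⟨dψ, hdψ0, hdψ⟩ := irr_degree hψ
  -- the weight function
  set c : G → ℂ := fun g => if g ∈ N then (θ 1 / ((e : ℂ) * (Nat.card N : ℂ))) * conj (χ g) else 0
    with hc
  have hccf : IsClassFunction G c := by
    intro g k
    show (if k * g * k⁻¹ ∈ N then _ else 0) = if g ∈ N then _ else 0
    have hiff : k * g * k⁻¹ ∈ N ↔ g ∈ N := by
      constructor
      · intro hmem
        have := hNn.conj_mem _ hmem k⁻¹
        have h2 : k⁻¹ * (k * g * k⁻¹) * k⁻¹⁻¹ = g := by group
        rwa [h2] at this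
      · intro hmem
        exact hNn.conj_mem _ hmem k
    by_cases hg : g ∈ N
    · rw [if_pos hg, if_pos (hiff.mpr hg), hχcf g k]
    · rw [if_neg hg, if_neg (fun h => hg (hiff.mp h))]
  have hcint : ∀ g, IsIntegral ℤ ((Nat.card N : ℂ) * c g) := by
    intro g
    show IsIntegral ℤ ((Nat.card N : ℂ) * (if g ∈ N then _ else 0))
    by_cases hg : g ∈ N
    · rw [if_pos hg]
      have h1 := congrFun hcl ⟨g, hg⟩
      simp only [Function.comp_apply, Pi.smul_apply, smul_eq_mul, Finset.sum_apply] at h1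
      have h2 : χ g = (e : ℂ) * ∑ φ ∈ Img, φ ⟨g, hg⟩ := h1
      have h3 : (Nat.card N : ℂ) * (θ 1 / ((e : ℂ) * (Nat.card N : ℂ)) * conj (χ g)) =
          θ 1 * ∑ φ ∈ Img, conj (φ ⟨g, hg⟩) := by
        rw [h2, map_mul, Complex.conj_natCast, map_sum]
        field_simp
      rw [h3, hd]
      apply IsIntegral.mul
      · exact isIntegral_algebraMap (R := ℤ) (A := ℂ) (x := (d : ℤ)) |> fun h => by simpa using h
      · apply IsIntegral.sum
        intro φ hφ
        exact map_isIntegral_int (starRingEnd ℂ) (isIntegral_of_isIrrCharacter (hImgirr φ hφ) _)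
    · rw [if_neg hg, mul_zero]
      exact isIntegral_zero
  have hkey := sameBlock_weighted p M hM χ ψ hχcf hψcf h c hccf (Nat.card N) hN hcint
  -- reduce sums over G to inner products on N
  have hsum : ∀ α : G → ℂ, ∑ g, c g * (α g / α 1) =
      (θ 1 / ((e : ℂ) * α 1)) * classInner (α ∘ N.subtype) (χ ∘ N.subtype) := by
    intro α
    unfold classInner
    have h5 : ∑ n : N, (α ∘ N.subtype) n * conj ((χ ∘ N.subtype) n) =
        ∑ g : G, if g ∈ N then α g * conj (χ g) else 0 :=
      Cfsg.Agent.S0868.sum_subtype_eq_sum_ite N (fun g => α g * conj (χ g))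
    rw [h5, Finset.mul_sum, Finset.mul_sum]
    refine Finset.sum_congr rfl fun g _ => ?_
    show (if g ∈ N then _ else 0) * (α g / α 1) = _
    by_cases hg : g ∈ N
    · rw [if_pos hg, if_pos hg]
      by_cases hα1 : α 1 = 0
      · rw [hα1]
        simp
      · field_simp
    · rw [if_neg hg, if_neg hg, zero_mul, mul_zero, mul_zero]
  rw [hsum χ, hsum ψ] at hkey
  -- the norm of the restriction of χ
  have hnorm : classInner (χ ∘ N.subtype) (χ ∘ N.subtype) = (e : ℂ) * (e : ℂ) * (Img.card : ℂ) := by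
    rw [hcl, classInner_smul_left, classInner_smul_right, Complex.conj_natCast,
      Cfsg.Agent.S4870.classInner_sum_irr Img hImgirr]
    ring
  have hzero : classInner (ψ ∘ N.subtype) (χ ∘ N.subtype) = 0 := by
    rw [hcl, classInner_smul_right, classInner_sum_right]
    have : ∀ φ ∈ Img, classInner (ψ ∘ N.subtype) φ = 0 := by
      intro φ hφ
      rw [hImg, Finset.mem_image] at hφ
      obtain ⟨g, _, rfl⟩ := hφ
      rw [classInner_restrict_conjFunN N hψcf θ g]
      exact hψθ
    rw [Finset.sum_congr rfl this, Finset.sum_const_zero, mul_zero]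
  rw [hnorm, hzero, mul_zero, sub_zero] at hkey
  have hone : θ 1 / ((e : ℂ) * χ 1) * ((e : ℂ) * (e : ℂ) * (Img.card : ℂ)) = 1 := by
    rw [hχ1]
    field_simp
  rw [hone] at hkey
  exact one_not_memLocalIdeal hM hkey

end Constituent

end Cfsg.Agent.Lib.Helper4
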