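import Mathlib
import Cfsg.Agent.Lib.Helper4.BlockCover
import Cfsg.Agent.Lib.Helper4.BlockIdem
import Cfsg.Agent.Lib.Helper2.CharConj
import Cfsg.Agent.S0933

set_option autoImplicit false

/-!
# Passman's covering criterion, forward direction (helper4)

* `restrict_eq_mul_indFun`: on `N`, an irreducible `χ` of `G` is proportional to `ind θ`.
* `centralChar_eq_inducedCentralChar`
* `inducedCentralChar_sameBlock`
* `passman_forward`
-/

namespace Cfsg.Agent.Lib.Helper4

open Cfsg Cfsg.Agent.Lib.Helper28 Cfsg.Agent.Lib.Helper26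
open scoped ComplexConjugate Classical

section

variable {G : Type*} [Group G] [Fintype G] {M : Ideal AlgInt} (N : Subgroup G) [hN : N.Normal]
  [Fintype N]

/-- a nonzero character of `G` has an irreducible constituent on `N` -/
theorem exists_constituent_restrict {χ : G → ℂ} (hχ : IsIrrCharacter G χ) :
    ∃ φ : IrrCharacter N, classInner (χ ∘ N.subtype) (φ : N → ℂ) ≠ 0 := by
  have : Fintype (IrrCharacter N) := Fintype.ofFinite _
  by_contra hcon
  push Not at hcon
  have hrescf : IsClassFunction N (χ ∘ N.subtype) :=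
    Cfsg.Agent.Lib.Helper26.isClassFunction_of_isCharacter
      (isCharacter_restrict N (isCharacter_of_isIrrCharacter hχ))
  have hexp := congrFun (classFunction_expansion (χ ∘ N.subtype) hrescf) 1
  simp only [Finset.sum_apply, Pi.smul_apply, smul_eq_mul, hcon, zero_mul,
    Finset.sum_const_zero] at hexp
  have h2 : (χ ∘ N.subtype) 1 = χ 1 := by simp
  rw [h2] at hexp
  exact irr_one_ne_zero hχ hexp

/-- Clifford: on `N`, an irreducible character `χ` of `G` is proportional to `ind θ` for any
irreducible constituent `θ` of `χ_N` -/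
theorem restrict_eq_mul_indFun {χ : G → ℂ} (hχ : IsIrrCharacter G χ) {θ : N → ℂ}
    (hθ : IsIrrCharacter N θ) (hcon : classInner (χ ∘ N.subtype) θ ≠ 0) :
    ∃ c : ℂ, ∀ n : N, χ n = c * indFun N θ n := by
  have : Fintype (IrrCharacter N) := Fintype.ofFinite _
  have hχcf := Cfsg.Agent.Lib.Helper26.isClassFunction_of_isIrrCharacter hχ
  have hrescf : IsClassFunction N (χ ∘ N.subtype) :=
    Cfsg.Agent.Lib.Helper26.isClassFunction_of_isCharacter
      (isCharacter_restrict N (isCharacter_of_isIrrCharacter hχ))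
  have hexp := classFunction_expansion (χ ∘ N.subtype) hrescf
  have hG0 : (Nat.card G : ℂ) ≠ 0 := Nat.cast_ne_zero.mpr Nat.card_pos.ne'
  have hN0 : (Nat.card N : ℂ) ≠ 0 := Nat.cast_ne_zero.mpr Nat.card_pos.ne'
  refine ⟨(Nat.card N : ℂ) / (Nat.card G : ℂ) *
    ∑ φ : IrrCharacter N, classInner (χ ∘ N.subtype) (φ : N → ℂ), fun n => ?_⟩
  -- average over G
  have h1 : (Nat.card G : ℂ) * χ n =
      ∑ x : G, χ ((⟨x * (n : G) * x⁻¹, hN.conj_mem n n.2 x⟩ : N) : G) := by
    have : ∀ x : G, χ ((⟨x * (n : G) * x⁻¹, hN.conj_mem n n.2 x⟩ : N) : G) = χ n :=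
      fun x => hχcf n x
    simp only [this, Finset.sum_const, Finset.card_univ, nsmul_eq_mul, Nat.card_eq_fintype_card]
  have h2 : ∀ m : N, χ (m : G) =
      ∑ φ : IrrCharacter N, classInner (χ ∘ N.subtype) (φ : N → ℂ) * (φ : N → ℂ) m := by
    intro m
    have := congrFun hexp m
    simp only [Finset.sum_apply, Pi.smul_apply, smul_eq_mul] at this
    exact this
  have h3 : ∑ x : G, χ ((⟨x * (n : G) * x⁻¹, hN.conj_mem n n.2 x⟩ : N) : G) =
      ∑ φ : IrrCharacter N, classInner (χ ∘ N.subtype) (φ : N → ℂ) *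
        ((Nat.card N : ℂ) * indFun N θ n) := by
    rw [Finset.sum_congr rfl (fun x _ => h2 ⟨x * (n : G) * x⁻¹, hN.conj_mem n n.2 x⟩)]
    rw [Finset.sum_comm]
    refine Finset.sum_congr rfl fun φ _ => ?_
    rw [← Finset.mul_sum]
    by_cases hφ : classInner (χ ∘ N.subtype) (φ : N → ℂ) = 0
    · rw [hφ, zero_mul, zero_mul]
    · congr 1
      have hconj : ∃ g : G, (φ : N → ℂ) = conjFunN N θ g := by
        by_contra hnot
        push Not at hnot
        exact hφ (classInner_restrict_eq_zero N hχ hθ φ.2 hcon hnot)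
      obtain ⟨g, hg⟩ := hconj
      have h4 : indFun N (φ : N → ℂ) = indFun N θ := by
        rw [hg]
        exact Cfsg.Agent.Lib.Helper2.indFun_conj_of_normal N θ g
      rw [← h4, Cfsg.Agent.Lib.Helper2.indFun_coe_of_normal N (φ : N → ℂ) n, ← mul_assoc,
        mul_inv_cancel₀ hN0, one_mul]
  rw [h3, ← Finset.sum_mul] at h1
  field_simp
  linear_combination h1

/-- if `θ` is a constituent of `χ_N`, the central character of `χ` on `N` is the induced central
character of `θ` -/
theorem centralChar_eq_inducedCentralChar {χ : G → ℂ} (hχ : IsIrrCharacter G χ) {θ : N → ℂ}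
    (hθ : IsIrrCharacter N θ) (hcon : classInner (χ ∘ N.subtype) θ ≠ 0) (n : N) :
    centralChar χ (n : G) = inducedCentralChar N θ (n : G) := by
  obtain ⟨c, hc⟩ := restrict_eq_mul_indFun N hχ hθ hcon
  rw [Cfsg.Agent.S0932.result N θ (isCharacter_of_isIrrCharacter hθ) (n : G)]
  unfold centralChar
  have h1 : χ 1 = c * indFun N θ 1 := hc 1
  have hχ1 := irr_one_ne_zero hχ
  have hc0 : c ≠ 0 := by
    rintro rfl
    rw [zero_mul] at h1
    exact hχ1 h1
  rw [hc n, h1, mul_left_comm, mul_div_mul_left _ _ hc0]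

/-- induced central characters of characters in the same block of `N` are congruent -/
theorem inducedCentralChar_sameBlock {p : ℕ} (hM : IsPModular p M) {θ θ' : N → ℂ}
    (hθ : IsClassFunction N θ) (hθ' : IsClassFunction N θ') (h : SameBlock M θ θ') (g : G) :
    MemLocalIdeal M (inducedCentralChar N θ g - inducedCentralChar N θ' g) := by
  rw [Cfsg.Agent.S0933.inducedCentralChar_eq_sum N θ g,
    Cfsg.Agent.S0933.inducedCentralChar_eq_sum N θ' g]
  apply sameBlock_weighted p M hM θ θ' hθ hθ' h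
    (fun k : N => if IsConj g (k : G) then (1 : ℂ) else 0) _ 1 (Nat.coprime_one_left p)
  · intro k
    split_ifs
    · simpa using isIntegral_one
    · simpa using isIntegral_zero
  · intro k l
    have : IsConj g ((l * k * l⁻¹ : N) : G) ↔ IsConj g (k : G) := by
      have h1 : IsConj (k : G) ((l * k * l⁻¹ : N) : G) := by
        rw [isConj_iff]
        exact ⟨(l : G), by simp⟩
      exact ⟨fun h2 => h2.trans h1.symm, fun h2 => h2.trans h1⟩
    simp only [this]

/-- **Passman's criterion, forward direction**: if `B` covers `b` then the central character of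
every `χ ∈ B` on `N` is congruent to the induced central character of every `θ ∈ b`. -/
theorem passman_forward {p : ℕ} (hM : IsPModular p M) [M.IsPrime]
    {B : Set (IrrCharacter G)} (hB : IsPBlock M B)
    {b : Set (IrrCharacter N)} (hb : IsPBlock M b) (χ0 : IrrCharacter G) (hχ0 : χ0 ∈ B)
    (θ0 : IrrCharacter N) (hθ0 : θ0 ∈ b)
    (hcon : classInner ((χ0 : G → ℂ) ∘ N.subtype) (θ0 : N → ℂ) ≠ 0)
    (χ : IrrCharacter G) (hχ : χ ∈ B) (θ : IrrCharacter N) (hθ : θ ∈ b) (n : N) :
    MemLocalIdeal M (centralChar (χ : G → ℂ) (n : G) - inducedCentralChar N (θ : N → ℂ) (n : G)) := by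
  have h1 : SameBlock M (χ : G → ℂ) (χ0 : G → ℂ) :=
    (Cfsg.Agent.Lib.Helper28.mem_block_iff hB hχ χ0).mp hχ0
  have h2 : SameBlock M (θ0 : N → ℂ) (θ : N → ℂ) :=
    (Cfsg.Agent.Lib.Helper28.mem_block_iff hb hθ0 θ).mp hθ
  have h3 := centralChar_eq_inducedCentralChar N χ0.2 θ0.2 hcon n
  have h4 := inducedCentralChar_sameBlock N hM
    (Cfsg.Agent.Lib.Helper26.isClassFunction_of_isIrrCharacter θ0.2)
    (Cfsg.Agent.Lib.Helper26.isClassFunction_of_isIrrCharacter θ.2) h2 (n : G)
  have h5 := memLocalIdeal_add (h1 (n : G)) h4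
  rw [h3] at h5
  rwa [sub_add_sub_cancel] at h5

/-- a sum over `N` against a `G`-class function, grouped by the classes of `G` -/
theorem sum_mul_div_eq_sum_classes (F : G → ℂ) (hF : IsClassFunction G F) (φ : N → ℂ)
    [Fintype (ConjClasses G)] :
    ∑ n : N, F n * (φ n / φ 1) =
      ∑ C : ConjClasses G, F (Quotient.out C) * inducedCentralChar N φ (Quotient.out C) := by
  simp only [Cfsg.Agent.S0933.inducedCentralChar_eq_sum N φ, Finset.mul_sum]
  rw [Finset.sum_comm]
  refine Finset.sum_congr rfl fun n _ => ?_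
  rw [Finset.sum_eq_single (ConjClasses.mk (n : G))]
  · have h1 : IsConj (Quotient.out (ConjClasses.mk (n : G))) (n : G) := by
      rw [← ConjClasses.mk_eq_mk_iff_isConj]
      exact Quotient.out_eq _
    rw [if_pos h1, one_mul, char_eq_of_isConj hF h1]
  · intro C _ hC
    have h1 : ¬ IsConj (Quotient.out C) (n : G) := by
      intro h
      apply hC
      rw [← ConjClasses.mk_eq_mk_iff_isConj] at h
      rw [← h]
      exact (Quotient.out_eq C).symm
    rw [if_neg h1, zero_mul, mul_zero]
  · intro h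
    exact absurd (Finset.mem_univ _) h

end

end Cfsg.Agent.Lib.Helper4
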