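import Mathlib
import Cfsg.Agent.Lib.Helper4.BlockNilp
import Cfsg.Agent.Lib.Helper4.BlockPassman
import Cfsg.Agent.Lib.Helper2.CharConj

set_option autoImplicit false

/-!
# Block idempotents are supported on the centralizer of a normal `p`-subgroup (helper4)

* `sameBlock_of_common_constituent_of_vanish` : if `N ⊴ G` and all central characters lie in the
  local ideal off `N`, then two irreducible characters of `G` with a common irreducible constituent
  on `N` lie in the same block.
* `blockCoeff_eq_zero_of_vanish` : under the same hypothesis, block idempotents vanish off `N`.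
* `blockCoeff_eq_zero_of_not_mem_centralizer` : the case `N = C_G(P)`, `P` a normal `p`-subgroup.
-/

namespace Cfsg.Agent.Lib.Helper4

open Cfsg Cfsg.Agent.Lib.Helper28 Cfsg.Agent.Lib.Helper26
open scoped ComplexConjugate Classical

section

variable {G : Type*} [Group G] [Fintype G] {M : Ideal AlgInt} (N : Subgroup G) [hN : N.Normal]
  [Fintype N]

theorem sameBlock_of_common_constituent_of_vanish [M.IsPrime]
    (hvan : ∀ χ : G → ℂ, IsIrrCharacter G χ → ∀ g : G, g ∉ N → MemLocalIdeal M (centralChar χ g))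
    {χ χ' : G → ℂ} (hχ : IsIrrCharacter G χ) (hχ' : IsIrrCharacter G χ') {θ : N → ℂ}
    (hθ : IsIrrCharacter N θ) (h1 : classInner (χ ∘ N.subtype) θ ≠ 0)
    (h2 : classInner (χ' ∘ N.subtype) θ ≠ 0) : SameBlock M χ χ' := by
  have hMtop : M ≠ ⊤ := Ideal.IsPrime.ne_top inferInstance
  intro g
  by_cases hg : g ∈ N
  · have e1 := centralChar_eq_inducedCentralChar N hχ hθ h1 ⟨g, hg⟩
    have e2 := centralChar_eq_inducedCentralChar N hχ' hθ h2 ⟨g, hg⟩
    simp only at e1 e2
    rw [e1, e2, sub_self]
    exact memLocalIdeal_zero hMtop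
  · exact memLocalIdeal_sub (hvan χ hχ g hg) (hvan χ' hχ' g hg)

theorem blockCoeff_eq_zero_of_vanish [M.IsPrime]
    (hvan : ∀ χ : G → ℂ, IsIrrCharacter G χ → ∀ g : G, g ∉ N → MemLocalIdeal M (centralChar χ g))
    {B : Set (IrrCharacter G)} (hB : IsPBlock M B) (g : G) (hg : g ∉ N) :
    blockCoeff B g = 0 := by
  have : Fintype (IrrCharacter G) := Fintype.ofFinite _
  have : Fintype (IrrCharacter N) := Fintype.ofFinite _
  rw [blockCoeff_eq_sum]
  -- expand degrees
  have hdeg : ∀ χ : IrrCharacter G, (χ : G → ℂ) 1 =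
      ∑ θ : IrrCharacter N, classInner ((χ : G → ℂ) ∘ N.subtype) (θ : N → ℂ) * (θ : N → ℂ) 1 := by
    intro χ
    have hrescf : IsClassFunction N ((χ : G → ℂ) ∘ N.subtype) :=
      Cfsg.Agent.Lib.Helper26.isClassFunction_of_isCharacter
        (isCharacter_restrict N (isCharacter_of_isIrrCharacter χ.2))
    have hexp := congrFun (classFunction_expansion ((χ : G → ℂ) ∘ N.subtype) hrescf) 1
    simp only [Finset.sum_apply, Pi.smul_apply, smul_eq_mul] at hexp
    have h2 : ((χ : G → ℂ) ∘ N.subtype) 1 = (χ : G → ℂ) 1 := by simp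
    rw [h2] at hexp
    exact hexp
  have key : ∀ θ : IrrCharacter N,
      ∑ χ : IrrCharacter G, (if χ ∈ B then
        classInner ((χ : G → ℂ) ∘ N.subtype) (θ : N → ℂ) * conj ((χ : G → ℂ) g) else 0) = 0 := by
    intro θ
    by_cases hex : ∃ χ0 : IrrCharacter G, χ0 ∈ B ∧
        classInner ((χ0 : G → ℂ) ∘ N.subtype) (θ : N → ℂ) ≠ 0
    · obtain ⟨χ0, hχ0B, hχ0⟩ := hex
      have hall : ∀ χ : IrrCharacter G, (if χ ∈ B then
          classInner ((χ : G → ℂ) ∘ N.subtype) (θ : N → ℂ) * conj ((χ : G → ℂ) g) else 0) =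
          conj (classInner (indFun N (θ : N → ℂ)) (χ : G → ℂ) * (χ : G → ℂ) g) := by
        intro χ
        rw [classInner_indFun_left' N _ _
          (Cfsg.Agent.Lib.Helper26.isClassFunction_of_isIrrCharacter χ.2), map_mul,
          classInner_conj_symm]
        by_cases hχB : χ ∈ B
        · rw [if_pos hχB]
        · rw [if_neg hχB]
          have : classInner ((χ : G → ℂ) ∘ N.subtype) (θ : N → ℂ) = 0 := by
            by_contra hne
            apply hχB
            rw [mem_block_iff hB hχ0B]
            exact sameBlock_of_common_constituent_of_vanish N hvan χ0.2 χ.2 θ.2 hχ0 hne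
          rw [this, zero_mul]
      rw [Finset.sum_congr rfl (fun χ _ => hall χ), ← map_sum]
      have hind : IsClassFunction G (indFun N (θ : N → ℂ)) :=
        Cfsg.Agent.Lib.Helper26.isClassFunction_of_isCharacter
          (isCharacter_indFun N (isCharacter_of_isIrrCharacter θ.2))
      have hexp := congrFun (classFunction_expansion (indFun N (θ : N → ℂ)) hind) g
      simp only [Finset.sum_apply, Pi.smul_apply, smul_eq_mul] at hexp
      rw [← hexp, Cfsg.Agent.Lib.Helper2.indFun_of_not_mem_of_normal N _ g hg, map_zero]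
    · push Not at hex
      apply Finset.sum_eq_zero
      intro χ _
      by_cases hχB : χ ∈ B
      · rw [if_pos hχB, hex χ hχB, zero_mul]
      · rw [if_neg hχB]
  have hsum : ∑ χ : IrrCharacter G,
      (if χ ∈ B then (χ : G → ℂ) 1 * conj ((χ : G → ℂ) g) else 0) =
      ∑ θ : IrrCharacter N, (θ : N → ℂ) 1 * ∑ χ : IrrCharacter G, (if χ ∈ B then
        classInner ((χ : G → ℂ) ∘ N.subtype) (θ : N → ℂ) * conj ((χ : G → ℂ) g) else 0) := by
    simp only [Finset.mul_sum]
    rw [Finset.sum_comm]
    refine Finset.sum_congr rfl fun χ _ => ?_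
    by_cases hχB : χ ∈ B
    · simp only [if_pos hχB]
      rw [hdeg χ, Finset.sum_mul]
      refine Finset.sum_congr rfl fun θ _ => ?_
      ring
    · simp only [if_neg hχB, mul_zero, Finset.sum_const_zero]
  rw [hsum]
  simp only [key, mul_zero, Finset.sum_const_zero]

end

section

variable {G : Type*} [Group G] [Fintype G] {M : Ideal AlgInt}

/-- **block idempotents are supported on `C_G(P)`** for a normal `p`-subgroup `P`. -/
theorem blockCoeff_eq_zero_of_not_mem_centralizer {p : ℕ} [Fact p.Prime]
    (hM : IsPModular p M) (P : Subgroup G) [P.Normal] (hP : IsPGroup p P)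
    {B : Set (IrrCharacter G)} (hB : IsPBlock M B) (g : G)
    (hg : g ∉ Subgroup.centralizer (P : Set G)) : blockCoeff B g = 0 := by
  have hMprime : M.IsPrime := hM.2.1.isPrime
  have : Fintype (Subgroup.centralizer (P : Set G)) := Fintype.ofFinite _
  exact blockCoeff_eq_zero_of_vanish (Subgroup.centralizer (P : Set G))
    (fun χ hχ x hx => centralChar_memLocalIdeal_of_not_centralizer hM P hP hχ x hx) hB g hg

end

end Cfsg.Agent.Lib.Helper4
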