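import Mathlib
import Cfsg.Agent.Lib.Helper28.BlockWeakOrth
import Cfsg.Agent.Lib.Helper28.BlockOsima

set_option autoImplicit false

/-!
# Blocks are determined by the central characters on `p`-regular classes (helper4)

* `blockCoeff_eq_zero_of_pSingular`
* `sameBlock_of_pRegular`
-/

namespace Cfsg.Agent.Lib.Helper4

open Cfsg Cfsg.Agent.Lib.Helper28
open scoped Classical

section

variable {G : Type*} [Group G] [Fintype G] {M : Ideal AlgInt}

/-- block idempotents are supported on `p`-regular elements -/
theorem blockCoeff_eq_zero_of_pSingular {p : ℕ} (hM : IsPModular p M)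
    {B : Set (IrrCharacter G)} (hB : IsPBlock M B) (g : G) (hg : p ∣ orderOf g) :
    blockCoeff B g = 0 := by
  have hMprime : M.IsPrime := hM.2.1.isPrime
  have : Fintype (IrrCharacter G) := Fintype.ofFinite _
  have h1 := weak_orthogonality_of_memLocalRing hM B (fun g => osima hB g) 1 g
    (by rw [orderOf_one]; exact hM.1.not_dvd_one) hg
  rw [blockCoeff_eq_sum, h1, mul_zero]

/-- two irreducible characters whose central characters agree modulo the local ideal on all
`p`-regular elements lie in the same block -/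
theorem sameBlock_of_pRegular {p : ℕ} (hM : IsPModular p M) (χ ψ : IrrCharacter G)
    (h : ∀ g : G, ¬ p ∣ orderOf g →
      MemLocalIdeal M (centralChar (ψ : G → ℂ) g - centralChar (χ : G → ℂ) g)) :
    SameBlock M (χ : G → ℂ) (ψ : G → ℂ) := by
  have hMprime : M.IsPrime := hM.2.1.isPrime
  have hMtop : M ≠ ⊤ := Ideal.IsPrime.ne_top hMprime
  have : Fintype (ConjClasses G) := Fintype.ofFinite _
  set B : Set (IrrCharacter G) := blockOf M (χ : G → ℂ) with hBdef
  have hB : IsPBlock M B := ⟨χ, rfl⟩
  have hχB : χ ∈ B := sameBlock_refl hMtop _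
  have hFcf : IsClassFunction G (blockCoeff B) := isClassFunction_blockCoeff B
  have hFloc : ∀ g, MemLocalRing M (blockCoeff B g) := fun g => osima hB g
  have hχcf := Cfsg.Agent.Lib.Helper4.isClassFunction_of_isIrrCharacter χ.2
  have hψcf := Cfsg.Agent.Lib.Helper4.isClassFunction_of_isIrrCharacter ψ.2
  have hdiff : MemLocalIdeal M (omegaF (ψ : G → ℂ) (blockCoeff B) -
      omegaF (χ : G → ℂ) (blockCoeff B)) := by
    rw [omegaF_eq_sum_classes hψcf _ hFcf, omegaF_eq_sum_classes hχcf _ hFcf,
      ← Finset.sum_sub_distrib]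
    apply memLocalIdeal_sum
    intro C _
    rw [← mul_sub]
    by_cases hC : p ∣ orderOf (Quotient.out C)
    · rw [blockCoeff_eq_zero_of_pSingular hM hB _ hC, zero_mul]
      exact memLocalIdeal_zero hMtop
    · exact memLocalIdeal_mul_left (hFloc _) (h _ hC)
  rw [omegaF_blockCoeff, omegaF_blockCoeff, if_pos hχB] at hdiff
  by_contra hnot
  have hψB : ψ ∉ B := hnot
  rw [if_neg hψB, zero_sub] at hdiff
  have := memLocalIdeal_neg hdiff
  rw [neg_neg] at this
  exact not_memLocalIdeal_one hMtop this

theorem centralChar_one {χ : G → ℂ} (hχ : χ 1 ≠ 0) : centralChar χ 1 = 1 := by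
  unfold centralChar
  have : Subgroup.centralizer ({1} : Set G) = ⊤ := by
    ext x
    simp [Subgroup.mem_centralizer_iff]
  rw [this, Subgroup.index_top, Nat.cast_one, one_mul, div_self hχ]

end

end Cfsg.Agent.Lib.Helper4
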