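import Mathlib
import Cfsg.Agent.Lib.Helper4.BlockRegular
import Cfsg.Agent.Lib.Helper4.Deflate
import Cfsg.Agent.S0939

set_option autoImplicit false

/-!
# Blocks of a quotient by a normal `p`-subgroup (helper4)

* `centralChar_inflate`, `sameBlock_inflate`
* `comap_centralizer_mk_eq` : for `p`-regular `g` centralizing the normal `p`-subgroup `P`
* `exists_pRegular_lift`
* `exists_mem_block_trivial_on`
-/

namespace Cfsg.Agent.Lib.Helper4

open Cfsg Cfsg.Agent.Lib.Helper28
open scoped Classical ComplexConjugate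

section

variable {G : Type*} [Group G] {M : Ideal AlgInt} (P : Subgroup G) [hPn : P.Normal]

theorem centralizer_le_comap_mk (g : G) :
    Subgroup.centralizer ({g} : Set G) ≤
      (Subgroup.centralizer ({(QuotientGroup.mk g : G ⧸ P)} : Set (G ⧸ P))).comap
        (QuotientGroup.mk' P) := by
  intro x hx
  rw [Subgroup.mem_comap, Subgroup.mem_centralizer_iff]
  rw [Subgroup.mem_centralizer_iff] at hx
  intro y hy
  rw [Set.mem_singleton_iff] at hy
  subst hy
  have := hx g rfl
  show (QuotientGroup.mk g : G ⧸ P) * QuotientGroup.mk x = QuotientGroup.mk x * QuotientGroup.mk g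
  rw [← QuotientGroup.mk_mul, ← QuotientGroup.mk_mul, this]

variable [Finite G]

theorem centralizer_index_mk (g : G) :
    (Subgroup.centralizer ({g} : Set G)).index =
      (Subgroup.centralizer ({g} : Set G)).relIndex
        ((Subgroup.centralizer ({(QuotientGroup.mk g : G ⧸ P)} : Set (G ⧸ P))).comap
          (QuotientGroup.mk' P)) *
      (Subgroup.centralizer ({(QuotientGroup.mk g : G ⧸ P)} : Set (G ⧸ P))).index := by
  rw [← Subgroup.index_comap_of_surjective _ (QuotientGroup.mk'_surjective P)]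
  exact (Subgroup.relIndex_mul_index (centralizer_le_comap_mk P g)).symm

theorem centralChar_inflate (χ : G ⧸ P → ℂ) (g : G) :
    centralChar (χ ∘ (QuotientGroup.mk : G → G ⧸ P)) g =
      ((Subgroup.centralizer ({g} : Set G)).relIndex
        ((Subgroup.centralizer ({(QuotientGroup.mk g : G ⧸ P)} : Set (G ⧸ P))).comap
          (QuotientGroup.mk' P)) : ℂ) * centralChar χ (QuotientGroup.mk g) := by
  unfold centralChar
  rw [centralizer_index_mk P g]
  simp only [Function.comp_apply, QuotientGroup.mk_one]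
  push_cast
  ring

theorem sameBlock_inflate [M.IsPrime] {χ ψ : G ⧸ P → ℂ} (h : SameBlock M χ ψ) :
    SameBlock M (χ ∘ (QuotientGroup.mk : G → G ⧸ P)) (ψ ∘ (QuotientGroup.mk : G → G ⧸ P)) := by
  intro g
  rw [centralChar_inflate, centralChar_inflate, ← mul_sub]
  apply memLocalIdeal_mul_left _ (h _)
  exact memLocalRing_natCast (Ideal.IsPrime.ne_top ‹_›) _

/-- for a `p'`-element `g` centralizing the normal `p`-subgroup `P`, the centralizer of the image
of `g` in `G ⧸ P` is the image of the centralizer of `g` -/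
theorem comap_centralizer_mk_eq {p : ℕ} [Fact p.Prime] (hP : IsPGroup p P) (g : G)
    (hg : ¬ p ∣ orderOf g) (hgc : g ∈ Subgroup.centralizer (P : Set G)) :
    (Subgroup.centralizer ({(QuotientGroup.mk g : G ⧸ P)} : Set (G ⧸ P))).comap
        (QuotientGroup.mk' P) = Subgroup.centralizer ({g} : Set G) := by
  apply le_antisymm _ (centralizer_le_comap_mk P g)
  intro x hx
  rw [Subgroup.mem_comap, Subgroup.mem_centralizer_iff] at hx
  have h1 := hx _ rfl
  -- `z = x g x⁻¹ g⁻¹ ∈ P`
  have h2 : (QuotientGroup.mk (x * g * x⁻¹ * g⁻¹) : G ⧸ P) = 1 := by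
    have h3 : (QuotientGroup.mk' P) x = (QuotientGroup.mk x : G ⧸ P) := rfl
    rw [h3] at h1
    rw [QuotientGroup.mk_mul, QuotientGroup.mk_mul, QuotientGroup.mk_mul, ← h1,
      QuotientGroup.mk_inv, QuotientGroup.mk_inv]
    group
  have hz : x * g * x⁻¹ * g⁻¹ ∈ P := (QuotientGroup.eq_one_iff _).mp h2
  set z := x * g * x⁻¹ * g⁻¹ with hzdef
  have hzg : Commute z g := by
    rw [Subgroup.mem_centralizer_iff] at hgc
    exact (hgc z hz)
  have hxg : x * g * x⁻¹ = z * g := by rw [hzdef]; group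
  set n := orderOf g with hn
  have h4 : (z * g) ^ n = 1 := by
    rw [← hxg, conj_pow, pow_orderOf_eq_one]
    group
  rw [hzg.mul_pow, pow_orderOf_eq_one, mul_one] at h4
  -- `z` is a `p`-element of order dividing `n`
  obtain ⟨k, hk⟩ := hP ⟨z, hz⟩
  have hk' : z ^ (p ^ k) = 1 := by
    have := congrArg Subtype.val hk
    simpa using this
  have hcop : Nat.Coprime n (p ^ k) :=
    Nat.Coprime.pow_right k (Nat.Coprime.symm ((Nat.Prime.coprime_iff_not_dvd Fact.out).mpr hg))
  have hz1 : z = 1 := by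
    have h5 : orderOf z ∣ n := orderOf_dvd_of_pow_eq_one h4
    have h6 : orderOf z ∣ p ^ k := orderOf_dvd_of_pow_eq_one hk'
    have h7 : orderOf z ∣ Nat.gcd n (p ^ k) := Nat.dvd_gcd h5 h6
    rw [hcop] at h7
    exact orderOf_eq_one_iff.mp (Nat.dvd_one.mp h7)
  rw [Subgroup.mem_centralizer_iff]
  intro y hy
  rw [Set.mem_singleton_iff] at hy
  subst hy
  rw [hz1, one_mul] at hxg
  calc y * x = (x * y * x⁻¹)⁻¹⁻¹ * x := by rw [hxg]; group
    _ = x * y := by group

theorem centralChar_inflate_eq {p : ℕ} [Fact p.Prime] (hP : IsPGroup p P) (g : G)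
    (hg : ¬ p ∣ orderOf g) (hgc : g ∈ Subgroup.centralizer (P : Set G)) (χ : G ⧸ P → ℂ) :
    centralChar (χ ∘ (QuotientGroup.mk : G → G ⧸ P)) g = centralChar χ (QuotientGroup.mk g) := by
  rw [centralChar_inflate, comap_centralizer_mk_eq P hP g hg hgc, Subgroup.relIndex_self,
    Nat.cast_one, one_mul]

/-- a `p`-regular element of `G ⧸ P` (`P` a `p`-group) has a `p`-regular lift -/
theorem exists_pRegular_lift {p : ℕ} [Fact p.Prime] (hP : IsPGroup p P) (x : G ⧸ P)
    (hx : ¬ p ∣ orderOf x) : ∃ g : G, (QuotientGroup.mk g : G ⧸ P) = x ∧ ¬ p ∣ orderOf g := by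
  obtain ⟨g0, rfl⟩ := QuotientGroup.mk_surjective x
  set m := orderOf (QuotientGroup.mk g0 : G ⧸ P) with hm
  have hm0 : 0 < m := orderOf_pos _
  obtain ⟨a, ha⟩ := hP.exists_card_eq
  have hg0m : g0 ^ m ∈ P := by
    rw [← QuotientGroup.eq_one_iff, QuotientGroup.mk_pow, hm, pow_orderOf_eq_one]
  have hpow : (g0 ^ m) ^ (p ^ a) = 1 := by
    have h1 : (⟨g0 ^ m, hg0m⟩ : P) ^ (Nat.card P) = 1 := pow_card_eq_one'
    rw [ha] at h1
    have := congrArg Subtype.val h1
    simpa using this
  have hcop : Nat.Coprime (p ^ a) m :=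
    Nat.Coprime.pow_left a ((Nat.Prime.coprime_iff_not_dvd Fact.out).mpr hx)
  by_cases hm1 : m = 1
  · refine ⟨1, ?_, ?_⟩
    · rw [QuotientGroup.mk_one]
      exact (orderOf_eq_one_iff.mp hm1).symm
    · rw [orderOf_one]
      exact (Fact.out : p.Prime).not_dvd_one
  · have hm2 : 1 < m := by omega
    obtain ⟨u, -, hu⟩ := Nat.exists_mul_mod_eq_one_of_coprime hcop hm2
    refine ⟨g0 ^ (p ^ a * u), ?_, ?_⟩
    · rw [QuotientGroup.mk_pow, ← pow_mod_orderOf, ← hm, hu, pow_one]
    · have h2 : (g0 ^ (p ^ a * u)) ^ m = 1 := by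
        rw [← pow_mul, mul_comm (p ^ a * u) m, pow_mul, pow_mul, hpow, one_pow]
      have h3 : orderOf (g0 ^ (p ^ a * u)) ∣ m := orderOf_dvd_of_pow_eq_one h2
      intro h4
      exact hx (h4.trans h3)

end

section

variable {G : Type*} [Group G] [Fintype G] {M : Ideal AlgInt} (P : Subgroup G) [hPn : P.Normal]
  [Fintype P]

/-- every block contains a character that is trivial on a given normal `p`-subgroup -/
theorem exists_mem_block_trivial_on {p : ℕ} (hM : IsPModular p M) (hP : IsPGroup p P)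
    {B : Set (IrrCharacter G)} (hB : IsPBlock M B) :
    ∃ θ ∈ B, ∀ y ∈ P, (θ : G → ℂ) y = (θ : G → ℂ) 1 := by
  have hMprime : M.IsPrime := hM.2.1.isPrime
  have : Fintype (IrrCharacter G) := Fintype.ofFinite _
  have hp : p.Prime := hM.1
  by_contra hcon
  push Not at hcon
  -- for `θ ∈ B` the sum of `θ` over `P` vanishes
  have hzero : ∀ θ ∈ B, ∑ y : P, conj ((θ : G → ℂ) y) = 0 := by
    intro θ hθ
    have h1 : ¬ (classInner ((θ : G → ℂ) ∘ P.subtype) (fun _ : P => (1 : ℂ)) ≠ 0) := by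
      intro h
      obtain ⟨y, hy, hne⟩ := hcon θ hθ
      exact hne ((Cfsg.Agent.S0939.triv_constituent_iff P θ).mp h y hy)
    push Not at h1
    unfold classInner at h1
    have hN0 : (Nat.card P : ℂ) ≠ 0 := Nat.cast_ne_zero.mpr Nat.card_pos.ne'
    rcases mul_eq_zero.mp h1 with h | h
    · exact absurd h (inv_ne_zero hN0)
    · have h2 : ∑ y : P, conj ((θ : G → ℂ) y) = conj (∑ y : P,
          ((θ : G → ℂ) ∘ P.subtype) y * conj ((fun _ : P => (1 : ℂ)) y)) := by
        rw [map_sum]
        refine Finset.sum_congr rfl fun y _ => ?_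
        simp
      rw [h2, h, map_zero]
  -- weak orthogonality, summed over `P`
  have hF := fun y : P => blockCoeff_eq_sum B (y : G)
  have hsum : ∑ y : P, blockCoeff B (y : G) = 0 := by
    simp only [hF]
    rw [← Finset.mul_sum, Finset.sum_comm]
    have : ∀ θ : IrrCharacter G, ∑ y : P, (if θ ∈ B then
        (θ : G → ℂ) 1 * conj ((θ : G → ℂ) (y : G)) else 0) = 0 := by
      intro θ
      by_cases hθ : θ ∈ B
      · simp only [if_pos hθ]
        rw [← Finset.mul_sum, hzero θ hθ, mul_zero]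
      · simp only [if_neg hθ, Finset.sum_const_zero]
    simp only [this, Finset.sum_const_zero, mul_zero]
  have hsum2 : ∑ y : P, blockCoeff B (y : G) = blockCoeff B 1 := by
    rw [Finset.sum_eq_single (1 : P)]
    · rfl
    · intro y _ hy
      apply blockCoeff_eq_zero_of_pSingular hM hB
      obtain ⟨k, hk⟩ := hP y
      have hk' : (y : G) ^ (p ^ k) = 1 := by
        have := congrArg Subtype.val hk
        simpa using this
      have hdvd : orderOf (y : G) ∣ p ^ k := orderOf_dvd_of_pow_eq_one hk'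
      obtain ⟨j, _, hj⟩ := (Nat.dvd_prime_pow hp).mp hdvd
      rcases Nat.eq_zero_or_pos j with h0 | hpos
      · rw [h0, pow_zero] at hj
        exfalso
        apply hy
        apply Subtype.ext
        exact orderOf_eq_one_iff.mp hj
      · rw [hj]
        exact dvd_pow_self p hpos.ne'
    · intro h
      exact absurd (Finset.mem_univ _) h
  rw [hsum2] at hsum
  -- but `blockCoeff B 1 ≠ 0`
  obtain ⟨χ, hχ⟩ := block_nonempty hB
  have hdeg : ∀ ψ : IrrCharacter G, ∃ d : ℕ, 0 < d ∧ (ψ : G → ℂ) 1 = d :=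
    fun ψ => Cfsg.Agent.Lib.Helper26.irr_degree ψ.2
  choose d hdpos hd using hdeg
  rw [blockCoeff_eq_sum] at hsum
  have hG0 : (Nat.card G : ℂ) ≠ 0 := Nat.cast_ne_zero.mpr Nat.card_pos.ne'
  rcases mul_eq_zero.mp hsum with h | h
  · exact absurd h (inv_ne_zero hG0)
  · have h2 : ∑ ψ : IrrCharacter G, (if ψ ∈ B then (ψ : G → ℂ) 1 * conj ((ψ : G → ℂ) 1)
        else 0) = ((∑ ψ : IrrCharacter G, (if ψ ∈ B then d ψ * d ψ else 0) : ℕ) : ℂ) := by
      push_cast
      refine Finset.sum_congr rfl fun ψ _ => ?_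
      by_cases hψ : ψ ∈ B
      · rw [if_pos hψ, if_pos hψ, hd ψ, Complex.conj_natCast]
      · rw [if_neg hψ, if_neg hψ]
    rw [h2] at h
    have h3 : (∑ ψ : IrrCharacter G, (if ψ ∈ B then d ψ * d ψ else 0)) = 0 := by
      exact_mod_cast h
    have h4 := (Finset.sum_eq_zero_iff.mp h3) χ (Finset.mem_univ _)
    rw [if_pos hχ] at h4
    have := hdpos χ
    rcases Nat.mul_eq_zero.mp h4 with h | h <;> omega

end

end Cfsg.Agent.Lib.Helper4
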