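import Mathlib
import Cfsg.Prelude.Def_BrauerPairs
import Cfsg.Agent.Lib.Helper4.CharIntegral
import Cfsg.Agent.Lib.Helper28.BlockOsima
import Cfsg.Agent.Lib.Helper28.LocalRingB
import Cfsg.Agent.Lib.Helper28.BlockPReg
import Cfsg.Agent.Lib.Helper4.BlockCover
import Cfsg.Agent.Lib.Helper28.BlockDefectE

set_option autoImplicit false

/-!
# The Brauer map is multiplicative modulo `p` (helper4)

* `MemPLocal M p z` : `z ∈ p R`, `R` the local ring at `M`.
* `sum_sub_sum_fixed_memPLocal` : for a `p`-group acting on a finite set and an invariant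
  `R`-valued function, the sum over all points is congruent mod `pR` to the sum over the fixed
  points.
* `sum_sub_sum_centralizer_memPLocal`, `conv_sub_memPLocal` : the case of conjugation.
-/

namespace Cfsg.Agent.Lib.Helper4

open Cfsg Cfsg.Agent.Lib.Helper28
open scoped Classical

section PLocal

variable {M : Ideal AlgInt}

/-- `z` lies in `p R`, where `R` is the local ring at `M` -/
def MemPLocal (M : Ideal AlgInt) (p : ℕ) (z : ℂ) : Prop :=
  ∃ r : ℂ, MemLocalRing M r ∧ z = (p : ℂ) * r

theorem memPLocal_zero (hM : M ≠ ⊤) (p : ℕ) : MemPLocal M p 0 :=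
  ⟨0, memLocalRing_zero hM, by simp⟩

theorem memPLocal_add [M.IsPrime] {p : ℕ} {z w : ℂ} (hz : MemPLocal M p z)
    (hw : MemPLocal M p w) : MemPLocal M p (z + w) := by
  obtain ⟨r, hr, rfl⟩ := hz
  obtain ⟨s, hs, rfl⟩ := hw
  exact ⟨r + s, memLocalRing_add hr hs, by ring⟩

theorem memPLocal_neg {p : ℕ} {z : ℂ} (hz : MemPLocal M p z) : MemPLocal M p (-z) := by
  obtain ⟨r, hr, rfl⟩ := hz
  exact ⟨-r, memLocalRing_neg hr, by ring⟩

theorem memPLocal_sub [M.IsPrime] {p : ℕ} {z w : ℂ} (hz : MemPLocal M p z)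
    (hw : MemPLocal M p w) : MemPLocal M p (z - w) := by
  rw [sub_eq_add_neg]
  exact memPLocal_add hz (memPLocal_neg hw)

theorem memPLocal_mul_left [M.IsPrime] {p : ℕ} {z w : ℂ} (hz : MemLocalRing M z)
    (hw : MemPLocal M p w) : MemPLocal M p (z * w) := by
  obtain ⟨s, hs, rfl⟩ := hw
  exact ⟨z * s, memLocalRing_mul hz hs, by ring⟩

theorem memPLocal_mul_right [M.IsPrime] {p : ℕ} {z w : ℂ} (hz : MemPLocal M p z)
    (hw : MemLocalRing M w) : MemPLocal M p (z * w) := by
  rw [mul_comm]
  exact memPLocal_mul_left hw hz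

theorem memPLocal_sum [M.IsPrime] {p : ℕ} {ι : Type*} (s : Finset ι) (f : ι → ℂ)
    (h : ∀ i ∈ s, MemPLocal M p (f i)) : MemPLocal M p (∑ i ∈ s, f i) := by
  induction s using Finset.induction_on with
  | empty =>
    rw [Finset.sum_empty]
    exact memPLocal_zero (Ideal.IsPrime.ne_top inferInstance) p
  | insert a s ha ih =>
    rw [Finset.sum_insert ha]
    exact memPLocal_add (h a (Finset.mem_insert_self a s))
      (ih fun i hi => h i (Finset.mem_insert_of_mem hi))

theorem memPLocal_p_mul {p : ℕ} {z : ℂ} (hz : MemLocalRing M z) :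
    MemPLocal M p ((p : ℂ) * z) := ⟨z, hz, rfl⟩

theorem MemPLocal.memLocalIdeal [M.IsPrime] {p : ℕ} (hM : IsPModular p M) {z : ℂ}
    (hz : MemPLocal M p z) : MemLocalIdeal M z := by
  obtain ⟨r, hr, rfl⟩ := hz
  exact memLocalIdeal_mul_right (memLocalIdeal_natCast_p hM) hr

theorem MemPLocal.memLocalRing [M.IsPrime] {p : ℕ} {z : ℂ}
    (hz : MemPLocal M p z) : MemLocalRing M z := by
  obtain ⟨r, hr, rfl⟩ := hz
  exact memLocalRing_mul (memLocalRing_natCast (Ideal.IsPrime.ne_top inferInstance) p) hr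

end PLocal

section Action

variable {M : Ideal AlgInt}

/-- **orbit counting**: for a `p`-group `P` acting on a finite set `X` and a `P`-invariant function
`F` on `X` with values in the local ring, the sum of `F` over the non-fixed points lies in `pR`. -/
theorem sum_not_fixed_memPLocal {P X : Type*} [Group P] [Fintype X] [MulAction P X] [M.IsPrime]
    {p : ℕ} [Fact p.Prime] (hP : IsPGroup p P) (F : X → ℂ)
    (hinv : ∀ (g : P) (x : X), F (g • x) = F x) (hR : ∀ x, MemLocalRing M (F x)) :
    MemPLocal M p (∑ x ∈ Finset.univ.filter (fun x => x ∉ MulAction.fixedPoints P X), F x) := by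
  set Y : Finset X := Finset.univ.filter (fun x => x ∉ MulAction.fixedPoints P X) with hY
  have hcomp := Finset.sum_comp (s := Y) (fun b : ℂ => b) F
  rw [hcomp]
  apply memPLocal_sum
  intro b hb
  obtain ⟨a0, _, rfl⟩ := Finset.mem_image.mp hb
  -- the level set is `P`-invariant without fixed points
  let S : SubMulAction P X :=
    { carrier := {a | a ∉ MulAction.fixedPoints P X ∧ F a = F a0}
      smul_mem' := by
        intro g a ha
        refine ⟨?_, by rw [hinv]; exact ha.2⟩
        intro hfix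
        apply ha.1
        have h1 : g⁻¹ • (g • a) = g • a := hfix g⁻¹
        rw [inv_smul_smul] at h1
        rw [h1]
        exact hfix }
  have hmod := hP.card_modEq_card_fixedPoints (α := S)
  have hempty : IsEmpty (MulAction.fixedPoints P S) := by
    constructor
    rintro ⟨s, hs⟩
    apply s.2.1
    intro g
    have := hs g
    exact congrArg Subtype.val this
  have h0 : Nat.card (MulAction.fixedPoints P S) = 0 := Nat.card_of_isEmpty
  rw [h0] at hmod
  have hdvd : p ∣ Nat.card S := (Nat.modEq_zero_iff_dvd).mp hmod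
  have hcard : Nat.card S = (Y.filter (fun a => F a = F a0)).card := by
    apply Nat.subtype_card
    intro x
    simp only [Finset.mem_filter, Finset.mem_univ, true_and, hY]
    rfl
  rw [hcard] at hdvd
  obtain ⟨k, hk⟩ := hdvd
  rw [hk, nsmul_eq_mul]
  push_cast
  rw [mul_assoc]
  exact memPLocal_p_mul (memLocalRing_mul
    (memLocalRing_natCast (Ideal.IsPrime.ne_top inferInstance) k) (hR a0))

theorem sum_sub_sum_fixed_memPLocal {P X : Type*} [Group P] [Fintype X] [MulAction P X]
    [M.IsPrime] {p : ℕ} [Fact p.Prime] (hP : IsPGroup p P) (F : X → ℂ)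
    (hinv : ∀ (g : P) (x : X), F (g • x) = F x) (hR : ∀ x, MemLocalRing M (F x)) :
    MemPLocal M p (∑ x, F x -
      ∑ x ∈ Finset.univ.filter (fun x => x ∈ MulAction.fixedPoints P X), F x) := by
  have h := sum_not_fixed_memPLocal (M := M) hP F hinv hR
  have hsplit := Finset.sum_filter_add_sum_filter_not Finset.univ
    (fun x => x ∈ MulAction.fixedPoints P X) F
  rw [← hsplit, add_sub_cancel_left]
  exact h

end Action

section Conj

variable {G : Type*} [Group G] [Fintype G] {M : Ideal AlgInt}

/-- invariance of a function on `G` under conjugation by the elements of a subgroup -/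
def InvUnder (S : Subgroup G) (β : G → ℂ) : Prop := ∀ x ∈ S, ∀ g : G, β (x * g * x⁻¹) = β g

omit [Fintype G] in
theorem invUnder_of_isClassFunction {β : G → ℂ} (h : IsClassFunction G β) (S : Subgroup G) :
    InvUnder S β := fun x _ g => h g x

/-- for a `p`-subgroup `P` and a `P`-invariant function with values in the local ring, the sum over
`G` is congruent modulo `pR` to the sum over `C_G(P)` -/
theorem sum_sub_sum_centralizer_memPLocal [M.IsPrime] {p : ℕ} [Fact p.Prime] (P : Subgroup G)
    (hP : IsPGroup p P) (F : G → ℂ) (hF : InvUnder P F) (hR : ∀ g, MemLocalRing M (F g)) :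
    MemPLocal M p (∑ g, F g - ∑ c : Subgroup.centralizer (P : Set G), F c) := by
  let act : MulAction P G := MulAction.compHom G ((MulAut.conj).comp P.subtype)
  have hsmul : ∀ (x : P) (g : G), x • g = (x : G) * g * (x : G)⁻¹ := fun x g => rfl
  have h := sum_sub_sum_fixed_memPLocal (M := M) hP F
    (fun x g => by rw [hsmul]; exact hF x x.2 g) hR
  have hfix : ∀ g : G, g ∈ MulAction.fixedPoints P G ↔ g ∈ Subgroup.centralizer (P : Set G) := by
    intro g
    rw [MulAction.mem_fixedPoints, Subgroup.mem_centralizer_iff]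
    constructor
    · intro h1 y hy
      have := h1 ⟨y, hy⟩
      rw [hsmul] at this
      simp only at this
      calc y * g = y * g * y⁻¹ * y := by group
        _ = g * y := by rw [this]
    · intro h1 x
      rw [hsmul, h1 x x.2]
      group
  have hsum : ∑ x ∈ Finset.univ.filter (fun x => x ∈ MulAction.fixedPoints P G), F x =
      ∑ c : Subgroup.centralizer (P : Set G), F c := by
    rw [Finset.sum_subtype (p := fun g => g ∈ Subgroup.centralizer (P : Set G))]
    intro x
    simp only [Finset.mem_filter, Finset.mem_univ, true_and]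
    exact hfix x
  rw [hsum] at h
  exact h

/-- **the Brauer map is multiplicative modulo `p`** -/
theorem conv_sub_memPLocal [M.IsPrime] {p : ℕ} [Fact p.Prime] (P : Subgroup G)
    (hP : IsPGroup p P) (β γ : G → ℂ) (hβ : InvUnder P β) (hγ : InvUnder P γ)
    (hβR : ∀ g, MemLocalRing M (β g)) (hγR : ∀ g, MemLocalRing M (γ g)) (z : G)
    (hz : z ∈ Subgroup.centralizer (P : Set G)) :
    MemPLocal M p (conv β γ z -
      ∑ c : Subgroup.centralizer (P : Set G), β c * γ ((c : G)⁻¹ * z)) := by
  apply sum_sub_sum_centralizer_memPLocal P hP (fun g => β g * γ (g⁻¹ * z))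
  · intro x hx g
    beta_reduce
    rw [hβ x hx g]
    congr 1
    have hxz : x * z = z * x := (Subgroup.mem_centralizer_iff.mp hz x hx)
    have : (x * g * x⁻¹)⁻¹ * z = x * (g⁻¹ * z) * x⁻¹ := by
      have : z = x * z * x⁻¹ := by rw [hxz]; group
      conv_lhs => rw [this]
      group
    rw [this, hγ x hx]
  · intro g
    exact memLocalRing_mul (hβR g) (hγR _)

end Conj

section Omega

variable {G : Type*} [Group G] [Fintype G] {M : Ideal AlgInt}

omit [Fintype G] in
theorem invUnder_conv' [Fintype G] {S : Subgroup G} {β γ : G → ℂ} (hβ : InvUnder S β)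
    (hγ : InvUnder S γ) : InvUnder S (conv β γ) := by
  intro x hx g
  unfold conv
  rw [← Equiv.sum_comp (MulAut.conj x).toEquiv]
  refine Finset.sum_congr rfl fun y _ => ?_
  show β (x * y * x⁻¹) * γ ((x * y * x⁻¹)⁻¹ * (x * g * x⁻¹)) = _
  rw [hβ x hx]
  have : (x * y * x⁻¹)⁻¹ * (x * g * x⁻¹) = x * (y⁻¹ * g) * x⁻¹ := by group
  rw [this, hγ x hx]

/-- restriction of a function on `G` to a subgroup -/
def resTo (H : Subgroup G) (β : G → ℂ) : H → ℂ := fun h => β h

omit [Fintype G] in
theorem isClassFunction_resTo {H : Subgroup G} {β : G → ℂ} (hβ : InvUnder H β) :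
    IsClassFunction H (resTo H β) := by
  intro g k
  show β ((k * g * k⁻¹ : H) : G) = β g
  have : ((k * g * k⁻¹ : H) : G) = (k : G) * g * (k : G)⁻¹ := by simp
  rw [this, hβ k k.2]

omit [Fintype G] in
theorem brauerOmega_eq_omegaF (P : Subgroup G) [Fintype (Subgroup.centralizer (P : Set G))]
    (β : G → ℂ) (ξ : Subgroup.centralizer (P : Set G) → ℂ) :
    brauerOmega P β ξ = omegaF ξ (resTo (Subgroup.centralizer (P : Set G)) β) := by
  unfold brauerOmega omegaF resTo
  rw [finsum_eq_sum_of_fintype, Finset.sum_div]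

/-- central characters of a `pR`-valued class function lie in `pR` -/
theorem omegaF_memPLocal [M.IsPrime] {p : ℕ} (hp : p ≠ 0) {χ : G → ℂ} (hχ : IsIrrCharacter G χ)
    (ρ : G → ℂ) (hρ : IsClassFunction G ρ) (hρp : ∀ g, MemPLocal M p (ρ g)) :
    MemPLocal M p (omegaF χ ρ) := by
  have hp' : (p : ℂ) ≠ 0 := Nat.cast_ne_zero.mpr hp
  let ρ' : G → ℂ := fun g => ρ g / p
  have hρ' : ρ = (p : ℂ) • ρ' := by
    funext g
    show ρ g = (p : ℂ) * (ρ g / p)
    field_simp
  have hcf : IsClassFunction G ρ' := by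
    intro g k
    show ρ (k * g * k⁻¹) / p = ρ g / p
    rw [hρ g k]
  have hR : ∀ g, MemLocalRing M (ρ' g) := by
    intro g
    obtain ⟨r, hr, he⟩ := hρp g
    show MemLocalRing M (ρ g / p)
    rw [he, mul_div_cancel_left₀ _ hp']
    exact hr
  rw [hρ', omegaF_smul]
  exact memPLocal_p_mul (omegaF_memLocalRing hχ ρ' hcf hR)

variable (P : Subgroup G)

/-- **`ω_ξ ∘ Br_P` is multiplicative modulo the local ideal** -/
theorem brauerOmega_conv [M.IsPrime] {p : ℕ} [Fact p.Prime] (hM : IsPModular p M)
    (hP : IsPGroup p P) (β γ : G → ℂ) (hβ : InvUnder P β) (hγ : InvUnder P γ)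
    (hβC : InvUnder (Subgroup.centralizer (P : Set G)) β)
    (hγC : InvUnder (Subgroup.centralizer (P : Set G)) γ)
    (hβR : ∀ g, MemLocalRing M (β g)) (hγR : ∀ g, MemLocalRing M (γ g))
    {ξ : Subgroup.centralizer (P : Set G) → ℂ}
    (hξ : IsIrrCharacter (Subgroup.centralizer (P : Set G)) ξ) :
    MemLocalIdeal M (brauerOmega P (conv β γ) ξ - brauerOmega P β ξ * brauerOmega P γ ξ) := by
  have hp : p ≠ 0 := (Fact.out : p.Prime).ne_zero
  rw [brauerOmega_eq_omegaF, brauerOmega_eq_omegaF, brauerOmega_eq_omegaF]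
  have h1 := isClassFunction_resTo hβC
  have h2 := isClassFunction_resTo hγC
  have h3 := isClassFunction_resTo (invUnder_conv' hβC hγC)
  rw [← omegaF_conv hξ _ _ h1 h2, ← omegaF_sub]
  apply MemPLocal.memLocalIdeal hM
  apply omegaF_memPLocal hp hξ _ (isClassFunction_sub h3 (isClassFunction_conv h1 h2))
  intro z
  have := conv_sub_memPLocal (M := M) P hP β γ hβ hγ hβR hγR (z : G) z.2
  have e : (resTo (Subgroup.centralizer (P : Set G)) (conv β γ) -
      conv (resTo (Subgroup.centralizer (P : Set G)) β)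
        (resTo (Subgroup.centralizer (P : Set G)) γ)) z =
      conv β γ (z : G) - ∑ c : Subgroup.centralizer (P : Set G), β c * γ ((c : G)⁻¹ * z) := by
    show conv β γ (z : G) - conv (resTo (Subgroup.centralizer (P : Set G)) β)
        (resTo (Subgroup.centralizer (P : Set G)) γ) z = _
    congr 1
  rw [e]
  exact this

/-- the values of `ω_ξ ∘ Br_P` on `R`-valued functions are in `R` -/
theorem brauerOmega_memLocalRing [M.IsPrime] (β : G → ℂ)
    (hβC : InvUnder (Subgroup.centralizer (P : Set G)) β) (hβR : ∀ g, MemLocalRing M (β g))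
    {ξ : Subgroup.centralizer (P : Set G) → ℂ}
    (hξ : IsIrrCharacter (Subgroup.centralizer (P : Set G)) ξ) :
    MemLocalRing M (brauerOmega P β ξ) := by
  rw [brauerOmega_eq_omegaF]
  exact omegaF_memLocalRing hξ _ (isClassFunction_resTo hβC) (fun g => hβR _)

/-- `ω_ξ ∘ Br_P` only depends on the block of `ξ`, modulo the local ideal -/
theorem brauerOmega_sameBlock [M.IsPrime] (β : G → ℂ)
    (hβC : InvUnder (Subgroup.centralizer (P : Set G)) β) (hβR : ∀ g, MemLocalRing M (β g))
    {ξ ξ' : Subgroup.centralizer (P : Set G) → ℂ}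
    (hξ : IsClassFunction (Subgroup.centralizer (P : Set G)) ξ)
    (hξ' : IsClassFunction (Subgroup.centralizer (P : Set G)) ξ') (h : SameBlock M ξ ξ') :
    MemLocalIdeal M (brauerOmega P β ξ - brauerOmega P β ξ') := by
  rw [brauerOmega_eq_omegaF, brauerOmega_eq_omegaF]
  exact omegaF_sub_memLocalIdeal hξ hξ' h _ (isClassFunction_resTo hβC) (fun g => hβR _)

theorem brauerOmega_deltaF_one {ξ : Subgroup.centralizer (P : Set G) → ℂ} (hξ : ξ 1 ≠ 0) :
    brauerOmega P (deltaF 1) ξ = 1 := by
  rw [brauerOmega_eq_omegaF]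
  have : resTo (Subgroup.centralizer (P : Set G)) (deltaF (1 : G)) =
      deltaF (1 : Subgroup.centralizer (P : Set G)) := by
    funext c
    unfold resTo deltaF
    by_cases h : c = 1
    · rw [if_pos h, if_pos (by rw [h]; rfl)]
    · have h2 : (c : G) ≠ 1 := fun h' => h (Subtype.ext h')
      rw [if_neg h, if_neg h2]
  rw [this]
  exact omegaF_deltaF_one hξ

theorem brauerOmega_add (β γ : G → ℂ) (ξ : Subgroup.centralizer (P : Set G) → ℂ) :
    brauerOmega P (β + γ) ξ = brauerOmega P β ξ + brauerOmega P γ ξ := by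
  rw [brauerOmega_eq_omegaF, brauerOmega_eq_omegaF, brauerOmega_eq_omegaF]
  have : resTo (Subgroup.centralizer (P : Set G)) (β + γ) =
      resTo (Subgroup.centralizer (P : Set G)) β + resTo (Subgroup.centralizer (P : Set G)) γ := rfl
  rw [this, omegaF_add]

theorem brauerOmega_zero (ξ : Subgroup.centralizer (P : Set G) → ℂ) :
    brauerOmega P 0 ξ = 0 := by
  rw [brauerOmega_eq_omegaF]
  have : resTo (Subgroup.centralizer (P : Set G)) (0 : G → ℂ) = 0 := rfl
  rw [this, omegaF_zero]

/-- for the trivial character, `ω ∘ Br_P` is congruent to the total sum -/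
theorem brauerOmega_one_sub_sum [M.IsPrime] {p : ℕ} [Fact p.Prime]
    (hP : IsPGroup p P) (β : G → ℂ) (hβ : InvUnder P β) (hβR : ∀ g, MemLocalRing M (β g)) :
    MemPLocal M p (∑ g, β g - brauerOmega P β (fun _ => (1 : ℂ))) := by
  have h := sum_sub_sum_centralizer_memPLocal (M := M) P hP β hβ hβR
  have : brauerOmega P β (fun _ => (1 : ℂ)) = ∑ c : Subgroup.centralizer (P : Set G), β c := by
    unfold brauerOmega
    rw [finsum_eq_sum_of_fintype]
    simp
  rw [this]
  exact h

end Omega

section Blocks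

variable {G : Type*} [Group G] [Fintype G] {M : Ideal AlgInt}

theorem conv_blockCoeff_inter (A A' : Set (IrrCharacter G)) :
    conv (blockCoeff A) (blockCoeff A') = blockCoeff (A ∩ A') := by
  apply eq_of_omegaF_eq _ _
    (isClassFunction_conv (isClassFunction_blockCoeff A) (isClassFunction_blockCoeff A'))
    (isClassFunction_blockCoeff _)
  intro χ
  rw [omegaF_conv χ.2 _ _ (isClassFunction_blockCoeff A) (isClassFunction_blockCoeff A'),
    omegaF_blockCoeff, omegaF_blockCoeff, omegaF_blockCoeff]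
  by_cases h1 : χ ∈ A <;> by_cases h2 : χ ∈ A' <;> simp [h1, h2]

theorem blockCoeff_univ : blockCoeff (Set.univ : Set (IrrCharacter G)) = deltaF 1 := by
  apply eq_of_omegaF_eq _ _ (isClassFunction_blockCoeff _) isClassFunction_deltaF_one
  intro χ
  rw [omegaF_blockCoeff, if_pos (Set.mem_univ _), omegaF_deltaF_one (irr_one_ne_zero χ.2)]

theorem blockCoeff_empty_fun : blockCoeff (∅ : Set (IrrCharacter G)) = 0 := by
  funext g
  exact blockCoeff_empty g

theorem block_eq_of_mem [M.IsPrime] {B B' : Set (IrrCharacter G)} (hB : IsPBlock M B)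
    (hB' : IsPBlock M B') {ψ : IrrCharacter G} (h1 : ψ ∈ B) (h2 : ψ ∈ B') : B = B' := by
  ext φ
  rw [mem_block_iff hB h1, mem_block_iff hB' h2]

theorem block_inter_eq_empty [M.IsPrime] {B B' : Set (IrrCharacter G)} (hB : IsPBlock M B)
    (hB' : IsPBlock M B') (hne : B ≠ B') : B ∩ B' = ∅ := by
  by_contra h
  obtain ⟨ψ, h1, h2⟩ := Set.nonempty_iff_ne_empty.mpr h
  exact hne (block_eq_of_mem hB hB' h1 h2)

/-- in the local ring, `x² ≡ x` forces `x ≡ 0` or `x ≡ 1` -/
theorem memLocalIdeal_or_of_idem [M.IsPrime] {x : ℂ} (hx : MemLocalRing M x)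
    (h : MemLocalIdeal M (x * x - x)) : MemLocalIdeal M x ∨ MemLocalIdeal M (x - 1) := by
  by_contra hcon
  push Not at hcon
  have hMtop : M ≠ ⊤ := Ideal.IsPrime.ne_top inferInstance
  have h1 : MemLocalRing M (x - 1) := memLocalRing_sub hx (memLocalRing_one hMtop)
  have := not_memLocalIdeal_mul hx h1 hcon.1 hcon.2
  apply this
  have e : x * (x - 1) = x * x - x := by ring
  rw [e]
  exact h

end Blocks

section BrauerPairs

variable {G : Type*} [Group G] [Fintype G] {M : Ideal AlgInt} (P : Subgroup G)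

theorem blockCoeff_union_disjoint_fun (S T : Set (IrrCharacter G)) (hST : Disjoint S T) :
    blockCoeff (S ∪ T) = blockCoeff S + blockCoeff T := by
  funext g
  exact blockCoeff_union_disjoint S T hST g

/-- for a union `S` of blocks, `ω_ξ(Br_P(e_S))` is `0` or `1` modulo the local ideal -/
theorem brauerOmega_blockCoeff_dichotomy [M.IsPrime] {p : ℕ} [Fact p.Prime]
    (hM : IsPModular p M) (hP : IsPGroup p P) (S : Set (IrrCharacter G))
    (hS : ∀ φ ∈ S, ∀ φ' : IrrCharacter G, SameBlock M (φ : G → ℂ) (φ' : G → ℂ) → φ' ∈ S)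
    {ξ : Subgroup.centralizer (P : Set G) → ℂ}
    (hξ : IsIrrCharacter (Subgroup.centralizer (P : Set G)) ξ) :
    MemLocalIdeal M (brauerOmega P (blockCoeff S) ξ) ∨
      MemLocalIdeal M (brauerOmega P (blockCoeff S) ξ - 1) := by
  have hcf := isClassFunction_blockCoeff S
  have hR := osima_union (M := M) S hS
  apply memLocalIdeal_or_of_idem
    (brauerOmega_memLocalRing P _ (invUnder_of_isClassFunction hcf _) hR hξ)
  have := brauerOmega_conv P hM hP (blockCoeff S) (blockCoeff S)
    (invUnder_of_isClassFunction hcf _) (invUnder_of_isClassFunction hcf _)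
    (invUnder_of_isClassFunction hcf _) (invUnder_of_isClassFunction hcf _) hR hR hξ
  rw [conv_blockCoeff_self] at this
  have h2 := memLocalIdeal_neg this
  rw [neg_sub] at h2
  exact h2

theorem blockOf_closed [M.IsPrime] {B : Set (IrrCharacter G)} (hB : IsPBlock M B) :
    ∀ φ ∈ B, ∀ φ' : IrrCharacter G, SameBlock M (φ : G → ℂ) (φ' : G → ℂ) → φ' ∈ B := by
  intro φ hφ φ' h
  rw [mem_block_iff hB hφ]
  exact h

/-- a union of blocks not killed by `ω_ξ ∘ Br_P` contains a block not killed by it -/
theorem exists_block_subset_not_memLocalIdeal [M.IsPrime]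
    {ξ : Subgroup.centralizer (P : Set G) → ℂ} (S : Set (IrrCharacter G))
    (hS : ∀ φ ∈ S, ∀ φ' : IrrCharacter G, SameBlock M (φ : G → ℂ) (φ' : G → ℂ) → φ' ∈ S)
    (hnot : ¬ MemLocalIdeal M (brauerOmega P (blockCoeff S) ξ)) :
    ∃ B : Set (IrrCharacter G), B ⊆ S ∧ IsPBlock M B ∧
      ¬ MemLocalIdeal M (brauerOmega P (blockCoeff B) ξ) := by
  have hMtop : M ≠ ⊤ := Ideal.IsPrime.ne_top ‹_›
  have hfin : Finite (IrrCharacter G) := inferInstance
  induction' hn : S.ncard using Nat.strong_induction_on with n ih generalizing S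
  by_cases hne : S = ∅
  · exfalso
    apply hnot
    rw [hne, blockCoeff_empty_fun, brauerOmega_zero]
    exact memLocalIdeal_zero hMtop
  · obtain ⟨φ, hφ⟩ := Set.nonempty_iff_ne_empty.mpr hne
    set b : Set (IrrCharacter G) := blockOf M (φ : G → ℂ) with hb
    have hbB : IsPBlock M b := ⟨φ, rfl⟩
    have hφb : φ ∈ b := sameBlock_refl hMtop _
    have hbS : b ⊆ S := fun φ' h => hS φ hφ φ' h
    by_cases hb1 : MemLocalIdeal M (brauerOmega P (blockCoeff b) ξ)
    · have hS' : ∀ φ1 ∈ S \ b, ∀ φ2 : IrrCharacter G,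
          SameBlock M (φ1 : G → ℂ) (φ2 : G → ℂ) → φ2 ∈ S \ b := by
        intro φ1 h1 φ2 h12
        refine ⟨hS φ1 h1.1 φ2 h12, fun h2 => h1.2 ?_⟩
        exact sameBlock_trans (h2 : SameBlock M (φ : G → ℂ) (φ2 : G → ℂ)) (sameBlock_symm h12)
      have hlt : (S \ b).ncard < n := by
        rw [← hn]
        apply Set.ncard_lt_ncard _ (Set.toFinite S)
        refine ⟨Set.sdiff_subset, fun h => ?_⟩
        exact (h hφ).2 hφb
      have h2 : S = b ∪ (S \ b) := by
        rw [Set.union_sdiff_cancel hbS]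
      have hnot' : ¬ MemLocalIdeal M (brauerOmega P (blockCoeff (S \ b)) ξ) := by
        intro h3
        apply hnot
        rw [h2, blockCoeff_union_disjoint_fun _ _ Set.disjoint_sdiff_right, brauerOmega_add]
        exact memLocalIdeal_add hb1 h3
      obtain ⟨B, hBS, hB, hBn⟩ := ih _ hlt (S \ b) hS' hnot' rfl
      exact ⟨B, hBS.trans Set.sdiff_subset, hB, hBn⟩
    · exact ⟨b, hbS, hbB, hb1⟩

/-- **every Brauer pair belongs to a unique block** -/
theorem existsUnique_isBrauerPairOf {p : ℕ} [Fact p.Prime] (hM : IsPModular p M)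
    (e : Set (IrrCharacter (Subgroup.centralizer (P : Set G)))) (hPe : IsBrauerPair p M P e) :
    ∃! B : Set (IrrCharacter G), IsBrauerPairOf p M B P e := by
  have hMprime : M.IsPrime := hM.2.1.isPrime
  have hMtop : M ≠ ⊤ := Ideal.IsPrime.ne_top hMprime
  obtain ⟨hP, he⟩ := hPe
  obtain ⟨ξ0, hξ0⟩ := block_nonempty he
  -- reduction to one character
  have hred : ∀ B : Set (IrrCharacter G), IsPBlock M B →
      MemLocalIdeal M (brauerOmega P (blockCoeff B) (ξ0 : Subgroup.centralizer (P : Set G) → ℂ) - 1) →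
      IsBrauerPairOf p M B P e := by
    intro B hB h1
    refine ⟨⟨hP, he⟩, hB, ?_⟩
    intro ξ hξ
    have hsb : SameBlock M (ξ : Subgroup.centralizer (P : Set G) → ℂ) (ξ0 : Subgroup.centralizer (P : Set G) → ℂ) := by
      have := (mem_block_iff he hξ ξ0).mp hξ0
      exact this
    have h2 := brauerOmega_sameBlock P (blockCoeff B)
      (invUnder_of_isClassFunction (isClassFunction_blockCoeff B) _) (fun g => osima hB g)
      (Cfsg.Agent.Lib.Helper4.isClassFunction_of_isIrrCharacter ξ.2)
      (Cfsg.Agent.Lib.Helper4.isClassFunction_of_isIrrCharacter ξ0.2) hsb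
    have := memLocalIdeal_add h2 h1
    rwa [sub_add_sub_cancel] at this
  have hex : ∃ B : Set (IrrCharacter G), IsPBlock M B ∧
      MemLocalIdeal M (brauerOmega P (blockCoeff B) (ξ0 : Subgroup.centralizer (P : Set G) → ℂ) - 1) := by
    have hnot : ¬ MemLocalIdeal M (brauerOmega P (blockCoeff (Set.univ : Set (IrrCharacter G)))
        (ξ0 : Subgroup.centralizer (P : Set G) → ℂ)) := by
      rw [blockCoeff_univ, brauerOmega_deltaF_one P (irr_one_ne_zero ξ0.2)]
      exact not_memLocalIdeal_one hMtop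
    obtain ⟨B, -, hB, hBn⟩ := exists_block_subset_not_memLocalIdeal P Set.univ
      (fun _ _ _ _ => Set.mem_univ _) hnot
    refine ⟨B, hB, ?_⟩
    rcases brauerOmega_blockCoeff_dichotomy P hM hP B (blockOf_closed hB) ξ0.2 with h | h
    · exact absurd h hBn
    · exact h
  obtain ⟨B, hB, hB1⟩ := hex
  refine ⟨B, hred B hB hB1, ?_⟩
  intro B' hB'
  by_contra hne
  have hB'b : IsPBlock M B' := hB'.2.1
  have h1 := hB'.2.2 ξ0 hξ0
  have hinter := block_inter_eq_empty hB'b hB hne
  have hconv := brauerOmega_conv P hM hP (blockCoeff B') (blockCoeff B)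
    (invUnder_of_isClassFunction (isClassFunction_blockCoeff _) _)
    (invUnder_of_isClassFunction (isClassFunction_blockCoeff _) _)
    (invUnder_of_isClassFunction (isClassFunction_blockCoeff _) _)
    (invUnder_of_isClassFunction (isClassFunction_blockCoeff _) _)
    (fun g => osima hB'b g) (fun g => osima hB g) ξ0.2
  rw [conv_blockCoeff_inter, hinter, blockCoeff_empty_fun, brauerOmega_zero, zero_sub] at hconv
  have hprod := memLocalIdeal_neg hconv
  rw [neg_neg] at hprod
  -- both factors are ≡ 1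
  have hR1 := brauerOmega_memLocalRing P (blockCoeff B')
    (invUnder_of_isClassFunction (isClassFunction_blockCoeff _) _) (fun g => osima hB'b g) ξ0.2
  have hR2 := brauerOmega_memLocalRing P (blockCoeff B)
    (invUnder_of_isClassFunction (isClassFunction_blockCoeff _) _) (fun g => osima hB g) ξ0.2
  have hn1 : ¬ MemLocalIdeal M (brauerOmega P (blockCoeff B') (ξ0 : Subgroup.centralizer (P : Set G) → ℂ)) := by
    intro h
    apply not_memLocalIdeal_one (M := M) hMtop
    have := memLocalIdeal_sub h h1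
    rwa [sub_sub_cancel] at this
  have hn2 : ¬ MemLocalIdeal M (brauerOmega P (blockCoeff B) (ξ0 : Subgroup.centralizer (P : Set G) → ℂ)) := by
    intro h
    apply not_memLocalIdeal_one (M := M) hMtop
    have := memLocalIdeal_sub h hB1
    rwa [sub_sub_cancel] at this
  exact not_memLocalIdeal_mul hR1 hR2 hn1 hn2 hprod

end BrauerPairs

section Third

variable {G : Type*} [Group G] [Fintype G] {M : Ideal AlgInt}

/-- the easy half of Brauer's third main theorem for Brauer pairs: `(Q, B₀(C_G(Q)))` is a Brauer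
pair of the principal block of `G` -/
theorem isBrauerPairOf_principal {p : ℕ} [Fact p.Prime] (hM : IsPModular p M) (Q : Subgroup G)
    (hQ : IsPGroup p Q) :
    IsBrauerPairOf p M (principalBlock M G) Q
      (principalBlock M (Subgroup.centralizer (Q : Set G))) := by
  have hMprime : M.IsPrime := hM.2.1.isPrime
  have hMtop : M ≠ ⊤ := Ideal.IsPrime.ne_top hMprime
  refine ⟨⟨hQ, isPBlock_principalBlock⟩, isPBlock_principalBlock, fun ξ hξ => ?_⟩
  have hB : IsPBlock M (principalBlock M G) := isPBlock_principalBlock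
  set β := blockCoeff (principalBlock M G) with hβ
  have hcf : IsClassFunction G β := isClassFunction_blockCoeff _
  have hR : ∀ g, MemLocalRing M (β g) := fun g => osima hB g
  have h1 : SameBlock M (fun _ : Subgroup.centralizer (Q : Set G) => (1 : ℂ))
      (ξ : Subgroup.centralizer (Q : Set G) → ℂ) := hξ
  have hone_cf : IsClassFunction (Subgroup.centralizer (Q : Set G)) (fun _ => (1 : ℂ)) :=
    fun _ _ => rfl
  have h2 := brauerOmega_sameBlock Q β (invUnder_of_isClassFunction hcf _) hR
    (Cfsg.Agent.Lib.Helper4.isClassFunction_of_isIrrCharacter ξ.2) hone_cf (sameBlock_symm h1)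
  have h3 := (brauerOmega_one_sub_sum (M := M) Q hQ β (invUnder_of_isClassFunction hcf _)
    hR).memLocalIdeal hM
  have hsum : ∑ g, β g = 1 := by
    have := omegaF_blockCoeff (principalBlock M G) (trivIrr G)
    rw [if_pos (trivIrr_mem_principalBlock hMtop)] at this
    unfold omegaF at this
    simpa [trivIrr] using this
  rw [hsum] at h3
  have h4 := memLocalIdeal_sub h2 h3
  have e : brauerOmega Q β (ξ : Subgroup.centralizer (Q : Set G) → ℂ) -
      brauerOmega Q β (fun _ => (1 : ℂ)) - (1 - brauerOmega Q β (fun _ => (1 : ℂ))) =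
      brauerOmega Q β (ξ : Subgroup.centralizer (Q : Set G) → ℂ) - 1 := by ring
  rw [e] at h4
  exact h4

end Third

end Cfsg.Agent.Lib.Helper4
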