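import Mathlib
import Cfsg.Agent.Lib.Helper4.BrauerHom
import Cfsg.Agent.Lib.Helper4.BlockIdem

set_option autoImplicit false

/-!
# Idempotents modulo `p` in the radical vanish modulo `p` (helper4)

`memPLocal_of_idem_mod_p` : a class function `η` with values in the local ring `R`, idempotent
modulo `pR` under convolution, all of whose central character values lie in the local ideal, has
values in `pR`.
-/

namespace Cfsg.Agent.Lib.Helper4

open Cfsg Cfsg.Agent.Lib.Helper28
open scoped ComplexConjugate Classical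

section

variable {K : Type*} [Group K] [Fintype K] {M : Ideal AlgInt}

theorem conv_sub_right (a b c : K → ℂ) : conv a (b - c) = conv a b - conv a c := by
  funext x
  show ∑ g, a g * (b (g⁻¹ * x) - c (g⁻¹ * x)) = ∑ g, a g * b (g⁻¹ * x) - ∑ g, a g * c (g⁻¹ * x)
  rw [← Finset.sum_sub_distrib]
  refine Finset.sum_congr rfl fun g _ => by ring

theorem conv_sub_left (a b c : K → ℂ) : conv (a - b) c = conv a c - conv b c := by
  funext x
  show ∑ g, (a g - b g) * c (g⁻¹ * x) = ∑ g, a g * c (g⁻¹ * x) - ∑ g, b g * c (g⁻¹ * x)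
  rw [← Finset.sum_sub_distrib]
  refine Finset.sum_congr rfl fun g _ => by ring

theorem conv_add_right (a b c : K → ℂ) : conv a (b + c) = conv a b + conv a c := by
  funext x
  show ∑ g, a g * (b (g⁻¹ * x) + c (g⁻¹ * x)) = ∑ g, a g * b (g⁻¹ * x) + ∑ g, a g * c (g⁻¹ * x)
  rw [← Finset.sum_add_distrib]
  refine Finset.sum_congr rfl fun g _ => by ring

theorem conv_memLocalRing [M.IsPrime] {a b : K → ℂ} (ha : ∀ x, MemLocalRing M (a x))
    (hb : ∀ x, MemLocalRing M (b x)) (x : K) : MemLocalRing M (conv a b x) := by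
  apply memLocalRing_sum
  intro g _
  exact memLocalRing_mul (ha g) (hb _)

theorem conv_memPLocal_right [M.IsPrime] {p : ℕ} {a b : K → ℂ} (ha : ∀ x, MemLocalRing M (a x))
    (hb : ∀ x, MemPLocal M p (b x)) (x : K) : MemPLocal M p (conv a b x) := by
  apply memPLocal_sum
  intro g _
  exact memPLocal_mul_left (ha g) (hb _)

theorem conv_memPLocal_left [M.IsPrime] {p : ℕ} {a b : K → ℂ} (ha : ∀ x, MemPLocal M p (a x))
    (hb : ∀ x, MemLocalRing M (b x)) (x : K) : MemPLocal M p (conv a b x) := by
  apply memPLocal_sum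
  intro g _
  exact memPLocal_mul_right (ha g) (hb _)

/-- shifted convolution powers: `cp η n = η^{*(n+1)}` -/
noncomputable def cp (η : K → ℂ) : ℕ → K → ℂ
  | 0 => η
  | (n + 1) => conv η (cp η n)

theorem isClassFunction_cp {η : K → ℂ} (h : IsClassFunction K η) (n : ℕ) :
    IsClassFunction K (cp η n) := by
  induction n with
  | zero => exact h
  | succ n ih => exact isClassFunction_conv h ih

theorem omegaF_cp {φ : K → ℂ} (hφ : IsIrrCharacter K φ) {η : K → ℂ}
    (h : IsClassFunction K η) (n : ℕ) : omegaF φ (cp η n) = (omegaF φ η) ^ (n + 1) := by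
  induction n with
  | zero => rw [pow_one]; rfl
  | succ n ih =>
    show omegaF φ (conv η (cp η n)) = _
    rw [omegaF_conv hφ _ _ h (isClassFunction_cp h n), ih, pow_succ' _ (n + 1)]

theorem cp_sub_memPLocal [M.IsPrime] {p : ℕ} {η : K → ℂ} (hR : ∀ x, MemLocalRing M (η x))
    (hidem : ∀ x, MemPLocal M p (conv η η x - η x)) (n : ℕ) :
    ∀ x, MemPLocal M p (cp η n x - η x) := by
  have hMtop : M ≠ ⊤ := Ideal.IsPrime.ne_top inferInstance
  induction n with
  | zero =>
    intro x
    show MemPLocal M p (η x - η x)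
    rw [sub_self]
    exact memPLocal_zero hMtop p
  | succ n ih =>
    intro x
    have e : cp η (n + 1) x - η x = conv η (cp η n - η) x + (conv η η x - η x) := by
      show conv η (cp η n) x - η x = _
      rw [conv_sub_right]
      show _ = conv η (cp η n) x - conv η η x + _
      ring
    rw [e]
    exact memPLocal_add (conv_memPLocal_right hR (fun y => ih y) x) (hidem x)

/-- **an idempotent modulo `p` lying in the radical is zero modulo `p`** -/
theorem memPLocal_of_idem_mod_p [M.IsPrime] {p : ℕ} [Fact p.Prime] (hM : IsPModular p M)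
    (η : K → ℂ) (hcf : IsClassFunction K η) (hR : ∀ x, MemLocalRing M (η x))
    (hidem : ∀ x, MemPLocal M p (conv η η x - η x))
    (hω : ∀ φ : IrrCharacter K, MemLocalIdeal M (omegaF (φ : K → ℂ) η)) :
    ∀ x, MemPLocal M p (η x) := by
  have hMtop : M ≠ ⊤ := Ideal.IsPrime.ne_top inferInstance
  have hp : p.Prime := Fact.out
  have : Fintype (IrrCharacter K) := Fintype.ofFinite _
  -- (a) the central character values are in `pR`
  have ha : ∀ φ : IrrCharacter K, MemPLocal M p (omegaF (φ : K → ℂ) η) := by
    intro φ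
    set t := omegaF (φ : K → ℂ) η with ht
    have htR : MemLocalRing M t := omegaF_memLocalRing φ.2 η hcf hR
    have h1 : MemPLocal M p (t * t - t) := by
      have := omegaF_memPLocal (M := M) hp.ne_zero φ.2 (conv η η - η)
        (isClassFunction_sub (isClassFunction_conv hcf hcf) hcf) hidem
      rw [omegaF_sub, omegaF_conv φ.2 _ _ hcf hcf] at this
      exact this
    have h2 : ¬ MemLocalIdeal M (t - 1) := by
      intro h
      apply not_memLocalIdeal_one (M := M) hMtop
      have := memLocalIdeal_sub (hω φ) h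
      rwa [sub_sub_cancel] at this
    have h3 : MemLocalRing M (t - 1)⁻¹ :=
      memLocalRing_inv (memLocalRing_sub htR (memLocalRing_one hMtop)) h2
    have hne : t - 1 ≠ 0 := by
      intro h
      apply h2
      rw [h]
      exact memLocalIdeal_zero hMtop
    have e : t = (t * t - t) * (t - 1)⁻¹ := by
      field_simp
    rw [e]
    exact memPLocal_mul_right h1 h3
  choose s hsR hs using ha
  -- (c) a high power is in `pR`
  set a := (Nat.card K).factorization p with ha_def
  have hcard : Nat.card K ≠ 0 := Nat.card_pos.ne'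
  obtain ⟨m, hm⟩ : p ^ a ∣ Nat.card K := Nat.ordProj_dvd _ _
  have hmcop : m.Coprime p := by
    have h1 : m = Nat.card K / p ^ a := by
      rw [hm, Nat.mul_div_cancel_left _ (pow_pos hp.pos a)]
    rw [h1]
    exact (Nat.coprime_ordCompl hp hcard).symm
  have hminv := memLocalRing_inv_natCast hM hmcop
  have hm0 : (m : ℂ) ≠ 0 := by
    intro h
    have : m = 0 := by exact_mod_cast h
    rw [this, mul_zero] at hm
    exact hcard hm
  have hp0 : (p : ℂ) ≠ 0 := Nat.cast_ne_zero.mpr hp.ne_zero
  have hc : ∀ x, MemPLocal M p (cp η a x) := by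
    intro x
    rw [fourier_inversion (cp η a) (isClassFunction_cp hcf a) x]
    have hpow : ∀ φ : IrrCharacter K, omegaF (φ : K → ℂ) (cp η a) = ((p : ℂ) * s φ) ^ (a + 1) := by
      intro φ
      rw [omegaF_cp φ.2 hcf, hs φ]
    simp only [hpow]
    have hcast : (Nat.card K : ℂ) = (p : ℂ) ^ a * m := by
      rw [hm]; push_cast; ring
    have e : (Nat.card K : ℂ)⁻¹ * ∑ φ : IrrCharacter K,
        ((p : ℂ) * s φ) ^ (a + 1) * ((φ : K → ℂ) 1 * conj ((φ : K → ℂ) x)) =
        (p : ℂ) * ((m : ℂ)⁻¹ * ∑ φ : IrrCharacter K,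
          (s φ) ^ (a + 1) * ((φ : K → ℂ) 1 * conj ((φ : K → ℂ) x))) := by
      rw [hcast, Finset.mul_sum, Finset.mul_sum, Finset.mul_sum]
      refine Finset.sum_congr rfl fun φ _ => ?_
      rw [mul_pow, pow_succ]
      field_simp
    rw [e]
    apply memPLocal_p_mul
    apply memLocalRing_mul hminv
    apply memLocalRing_sum
    intro φ _
    apply memLocalRing_mul (memLocalRing_pow (hsR φ) _)
    apply memLocalRing_of_isIntegral hMtop
    exact (isIntegral_of_isIrrCharacter φ.2 1).mul
      (map_isIntegral_int (starRingEnd ℂ) (isIntegral_of_isIrrCharacter φ.2 x))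
  intro x
  have h1 := cp_sub_memPLocal hR hidem a x
  have := memPLocal_sub (hc x) h1
  rwa [sub_sub_cancel] at this

end

end Cfsg.Agent.Lib.Helper4
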