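import Mathlib
import Cfsg.Prelude.Def_BrauerPairs
import Cfsg.Agent.Lib.Helper2.CharConj
import Cfsg.Agent.Lib.Helper4.CharOrtho
import Cfsg.Agent.Lib.Helper28.BlockOsima
import Cfsg.Agent.Lib.Helper28.BlockDefectE

set_option autoImplicit false

/-!
# Conjugation of characters of a subgroup by elements normalizing it; block stabilizers (helper4)

* `centralChar_comp_mulEquiv`, `sameBlock_comp_mulEquiv`
* `conjK K g hg : K ≃* K`, `conjIrr K g hg χ : IrrCharacter K` (the conjugate `χ^g`, with
  `IsConjCharOf K g χ (conjIrr K g hg χ)`), uniqueness `isConjCharOf_iff`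
* `stabilizesBlock_iff`, `stabilizesBlock_principalBlock`
* `blockCoeff_conj_of_stabilizes`
-/

namespace Cfsg.Agent.Lib.Helper4

open Cfsg Cfsg.Agent.Lib.Helper28
open scoped ComplexConjugate Classical

section Equiv

variable {K K' : Type*} [Group K] [Group K'] {M : Ideal AlgInt}

theorem centralizer_index_mulEquiv (e : K' ≃* K) (n : K') :
    (Subgroup.centralizer ({e n} : Set K)).index =
      (Subgroup.centralizer ({n} : Set K')).index := by
  have h : (Subgroup.centralizer ({e n} : Set K)).comap e.toMonoidHom =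
      Subgroup.centralizer ({n} : Set K') := by
    ext k
    simp only [Subgroup.mem_comap, Subgroup.mem_centralizer_iff, Set.mem_singleton_iff,
      forall_eq, MulEquiv.coe_toMonoidHom]
    rw [← map_mul, ← map_mul]
    exact e.injective.eq_iff
  have h2 := Subgroup.index_comap_of_surjective (Subgroup.centralizer ({e n} : Set K))
    (f := e.toMonoidHom) e.surjective
  rw [h] at h2
  exact h2.symm

theorem centralChar_comp_mulEquiv (e : K' ≃* K) (χ : K → ℂ) (n : K') :
    centralChar (χ ∘ e) n = centralChar χ (e n) := by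
  unfold centralChar
  rw [centralizer_index_mulEquiv e n]
  simp only [Function.comp_apply, map_one]

theorem sameBlock_comp_mulEquiv (e : K' ≃* K) {χ ψ : K → ℂ} (h : SameBlock M χ ψ) :
    SameBlock M (χ ∘ e) (ψ ∘ e) := by
  intro n
  rw [centralChar_comp_mulEquiv, centralChar_comp_mulEquiv]
  exact h _

end Equiv

section Conj

variable {G : Type*} [Group G] {M : Ideal AlgInt} (K : Subgroup G)

/-- conjugation by an element normalizing `K`, as an automorphism of `K` -/
def conjK (g : G) (hg : g ∈ Subgroup.normalizer (K : Set G)) : K ≃* K where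
  toFun k := ⟨g * k * g⁻¹, (Subgroup.mem_normalizer_iff.mp hg k).mp k.2⟩
  invFun k := ⟨g⁻¹ * k * g, by
    have := (Subgroup.mem_normalizer_iff.mp hg (g⁻¹ * k * g)).mpr (by
      have e : g * (g⁻¹ * (k : G) * g) * g⁻¹ = k := by group
      rw [e]; exact k.2)
    exact this⟩
  left_inv k := by
    apply Subtype.ext
    show g⁻¹ * (g * (k : G) * g⁻¹) * g = k
    group
  right_inv k := by
    apply Subtype.ext
    show g * (g⁻¹ * (k : G) * g) * g⁻¹ = k
    group
  map_mul' a b := by
    apply Subtype.ext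
    show g * ((a : G) * b) * g⁻¹ = (g * a * g⁻¹) * (g * b * g⁻¹)
    group

theorem conjK_apply (g : G) (hg : g ∈ Subgroup.normalizer (K : Set G)) (k : K) :
    ((conjK K g hg k : K) : G) = g * k * g⁻¹ := rfl

theorem conjK_symm_apply (g : G) (hg : g ∈ Subgroup.normalizer (K : Set G)) (k : K) :
    (((conjK K g hg).symm k : K) : G) = g⁻¹ * k * g := rfl

/-- the conjugate `χ^g` of an irreducible character of `K`: `χ^g (g k g⁻¹) = χ k` -/
noncomputable def conjIrr (g : G) (hg : g ∈ Subgroup.normalizer (K : Set G))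
    (χ : IrrCharacter K) : IrrCharacter K :=
  ⟨(χ : K → ℂ) ∘ (conjK K g hg).symm,
    Cfsg.Agent.Lib.Helper2.isIrrCharacter_comp_mulEquiv χ.2 (conjK K g hg).symm⟩

theorem conjIrr_apply (g : G) (hg : g ∈ Subgroup.normalizer (K : Set G))
    (χ : IrrCharacter K) (k : K) :
    (conjIrr K g hg χ : K → ℂ) k = (χ : K → ℂ) ((conjK K g hg).symm k) := rfl

theorem isConjCharOf_conjIrr (g : G) (hg : g ∈ Subgroup.normalizer (K : Set G))
    (χ : IrrCharacter K) : IsConjCharOf K g (χ : K → ℂ) (conjIrr K g hg χ : K → ℂ) := by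
  intro k k' h
  rw [conjIrr_apply]
  refine congrArg _ (Subtype.ext ?_)
  rw [conjK_symm_apply, h]
  group

theorem isConjCharOf_iff (g : G) (hg : g ∈ Subgroup.normalizer (K : Set G))
    (χ χ' : IrrCharacter K) :
    IsConjCharOf K g (χ : K → ℂ) (χ' : K → ℂ) ↔ χ' = conjIrr K g hg χ := by
  constructor
  · intro h
    apply Subtype.ext
    funext k'
    rw [conjIrr_apply]
    apply h
    rw [conjK_symm_apply]
    group
  · rintro rfl
    exact isConjCharOf_conjIrr K g hg χ

theorem conjIrr_injective (g : G) (hg : g ∈ Subgroup.normalizer (K : Set G)) :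
    Function.Injective (conjIrr K g hg) := by
  intro χ ψ h
  apply Subtype.ext
  funext k
  have := congrArg (fun φ : IrrCharacter K => (φ : K → ℂ) (conjK K g hg k)) h
  simp only [conjIrr_apply, MulEquiv.symm_apply_apply] at this
  exact this

theorem sameBlock_conjIrr (g : G) (hg : g ∈ Subgroup.normalizer (K : Set G))
    {χ ψ : IrrCharacter K} (h : SameBlock M (χ : K → ℂ) (ψ : K → ℂ)) :
    SameBlock M (conjIrr K g hg χ : K → ℂ) (conjIrr K g hg ψ : K → ℂ) :=
  sameBlock_comp_mulEquiv _ h

theorem stabilizesBlock_iff (e : Set (IrrCharacter K)) (g : G) :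
    StabilizesBlock K e g ↔ ∃ hg : g ∈ Subgroup.normalizer (K : Set G),
      ∀ χ ∈ e, conjIrr K g hg χ ∈ e := by
  constructor
  · rintro ⟨hg, h⟩
    refine ⟨hg, fun χ hχ => ?_⟩
    obtain ⟨χ', hχ', hc⟩ := h χ hχ
    rw [(isConjCharOf_iff K g hg χ χ').mp hc] at hχ'
    exact hχ'
  · rintro ⟨hg, h⟩
    exact ⟨hg, fun χ hχ => ⟨conjIrr K g hg χ, h χ hχ, isConjCharOf_conjIrr K g hg χ⟩⟩

/-- the principal block is stabilized by every element normalizing the subgroup -/
theorem stabilizesBlock_principalBlock (g : G)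
    (hg : g ∈ Subgroup.normalizer (K : Set G)) :
    StabilizesBlock K (principalBlock M K) g := by
  rw [stabilizesBlock_iff]
  refine ⟨hg, fun χ hχ => ?_⟩
  have h1 : SameBlock M (fun _ : K => (1 : ℂ)) (χ : K → ℂ) := hχ
  have h2 := sameBlock_comp_mulEquiv (M := M) (conjK K g hg).symm h1
  exact h2

/-- a block stabilized by `g` is mapped onto itself by conjugation by `g` -/
theorem conjIrr_surjOn [Fintype K] (e : Set (IrrCharacter K)) (g : G)
    (hg : g ∈ Subgroup.normalizer (K : Set G)) (h : ∀ χ ∈ e, conjIrr K g hg χ ∈ e) :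
    ∀ ψ ∈ e, ∃ χ ∈ e, conjIrr K g hg χ = ψ := by
  have hfin : Finite (IrrCharacter K) := inferInstance
  have hsub : conjIrr K g hg '' e ⊆ e := by
    rintro _ ⟨χ, hχ, rfl⟩
    exact h χ hχ
  have hcard : (conjIrr K g hg '' e).ncard = e.ncard :=
    Set.ncard_image_of_injective e (conjIrr_injective K g hg)
  have heq : conjIrr K g hg '' e = e :=
    Set.eq_of_subset_of_ncard_le hsub (le_of_eq hcard.symm) (Set.toFinite e)
  intro ψ hψ
  rw [← heq] at hψ
  obtain ⟨χ, hχ, he⟩ := hψ
  exact ⟨χ, hχ, he⟩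

/-- the idempotent coefficients of a set of characters stabilized by `g` are invariant under
conjugation by `g` -/
theorem blockCoeff_conj_of_stabilizes [Fintype K] (e : Set (IrrCharacter K)) (g : G)
    (hst : StabilizesBlock K e g) (k : K) (k' : K) (hk : (k' : G) = g * k * g⁻¹) :
    blockCoeff e k' = blockCoeff e k := by
  have : Fintype (IrrCharacter K) := Fintype.ofFinite _
  obtain ⟨hg, h⟩ := (stabilizesBlock_iff K e g).mp hst
  have hk' : (conjK K g hg).symm k' = k := by
    apply Subtype.ext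
    rw [conjK_symm_apply, hk]
    group
  rw [blockCoeff_eq_sum, blockCoeff_eq_sum]
  congr 1
  -- reindex by χ ↦ χ^g
  have hbij : Function.Bijective (conjIrr K g hg) :=
    Finite.injective_iff_bijective.mp (conjIrr_injective K g hg)
  rw [← (Equiv.ofBijective _ hbij).sum_comp]
  refine Finset.sum_congr rfl fun χ _ => ?_
  simp only [Equiv.ofBijective_apply]
  have hiff : conjIrr K g hg χ ∈ e ↔ χ ∈ e := by
    constructor
    · intro h1
      obtain ⟨χ0, hχ0, he⟩ := conjIrr_surjOn K e g hg h _ h1
      rw [← conjIrr_injective K g hg he]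
      exact hχ0
    · exact h χ
  by_cases hχ : χ ∈ e
  · rw [if_pos hχ, if_pos (hiff.mpr hχ), conjIrr_apply, conjIrr_apply, hk', map_one]
  · rw [if_neg hχ, if_neg (fun h1 => hχ (hiff.mp h1))]

end Conj

end Cfsg.Agent.Lib.Helper4
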