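import Mathlib
import Cfsg.Agent.Lib.Helper4.BrauerHom
import Cfsg.Agent.Lib.Helper4.BlockStab

set_option autoImplicit false

/-!
# Brauer pairs: normal subpairs (helper4)

* `conv_extZero`, `subgroupBlockCoeff` lemmas
* `conjIrr_one`, `conjIrr_mul`, `blockCoeff_image_conjIrr`
* the action of a subgroup normalizing `K` on the blocks of `K`
* `existsUnique_isNormalSubpair`
-/

namespace Cfsg.Agent.Lib.Helper4

open Cfsg Cfsg.Agent.Lib.Helper28
open scoped ComplexConjugate Classical

section ExtZero0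

variable {G : Type*} [Group G] (K : Subgroup G)

theorem extZero_mem' (f : K → ℂ) (n : K) : extZero K f (n : G) = f n := by
  unfold extZero
  rw [dif_pos n.2]

theorem extZero_not_mem' (f : K → ℂ) {g : G} (h : g ∉ K) : extZero K f g = 0 := by
  unfold extZero
  rw [dif_neg h]

end ExtZero0

section ExtZero

variable {G : Type*} [Group G] [Fintype G] {M : Ideal AlgInt} (K : Subgroup G)

theorem sum_extZero_mul' (f : K → ℂ) (χ : G → ℂ) :
    ∑ g, extZero K f g * χ g = ∑ n : K, f n * χ n := by
  have h1 : ∑ n : K, f n * χ n = ∑ n : K, (fun g : G => extZero K f g * χ g) n := by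
    refine Finset.sum_congr rfl fun n _ => ?_
    show f n * χ n = extZero K f (n : G) * χ n
    rw [extZero_mem']
  rw [h1, ← Finset.sum_subtype (Finset.univ.filter (fun g : G => g ∈ K)) (by simp)
    (fun g : G => extZero K f g * χ g), Finset.sum_filter]
  refine Finset.sum_congr rfl fun g _ => ?_
  by_cases hg : g ∈ K
  · rw [if_pos hg]
  · rw [if_neg hg, extZero_not_mem' K f hg, zero_mul]

theorem conv_extZero (a b : K → ℂ) :
    conv (extZero K a) (extZero K b) = extZero K (conv a b) := by
  funext z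
  unfold conv
  rw [sum_extZero_mul' K a (fun g => extZero K b (g⁻¹ * z))]
  by_cases hz : z ∈ K
  · have : extZero K (fun x => ∑ g, a g * b (g⁻¹ * x)) z = ∑ g, a g * b (g⁻¹ * ⟨z, hz⟩) :=
      extZero_mem' K _ ⟨z, hz⟩
    rw [this]
    refine Finset.sum_congr rfl fun n _ => ?_
    have : ((n : G)⁻¹ * z) = ((n⁻¹ * ⟨z, hz⟩ : K) : G) := rfl
    rw [this, extZero_mem']
  · rw [extZero_not_mem' K _ hz]
    apply Finset.sum_eq_zero
    intro n _
    have : (n : G)⁻¹ * z ∉ K := by
      intro h
      apply hz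
      have := K.mul_mem n.2 h
      simpa using this
    rw [extZero_not_mem' K _ this, mul_zero]

omit [Fintype G] in
theorem extZero_add (a b : K → ℂ) : extZero K (a + b) = extZero K a + extZero K b := by
  funext g
  show extZero K (a + b) g = extZero K a g + extZero K b g
  by_cases hg : g ∈ K
  · have e1 := extZero_mem' K (a + b) ⟨g, hg⟩
    have e2 := extZero_mem' K a ⟨g, hg⟩
    have e3 := extZero_mem' K b ⟨g, hg⟩
    simp only at e1 e2 e3
    rw [e1, e2, e3]
    rfl
  · rw [extZero_not_mem' K _ hg, extZero_not_mem' K _ hg, extZero_not_mem' K _ hg, add_zero]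

omit [Fintype G] in
theorem extZero_zero : extZero K (0 : K → ℂ) = 0 := by
  funext g
  by_cases hg : g ∈ K
  · have e1 := extZero_mem' K (0 : K → ℂ) ⟨g, hg⟩
    simp only at e1
    rw [e1]
    rfl
  · rw [extZero_not_mem' K _ hg]
    rfl

omit [Fintype G] in
theorem extZero_deltaF_one : extZero K (deltaF (1 : K)) = deltaF (1 : G) := by
  funext g
  by_cases hg : g ∈ K
  · have e1 := extZero_mem' K (deltaF (1 : K)) ⟨g, hg⟩
    simp only at e1
    rw [e1]
    unfold deltaF
    by_cases h : (⟨g, hg⟩ : K) = 1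
    · rw [if_pos h, if_pos (by have := congrArg Subtype.val h; simpa using this)]
    · have h2 : g ≠ 1 := fun h' => h (Subtype.ext h')
      rw [if_neg h, if_neg h2]
  · rw [extZero_not_mem' K _ hg]
    unfold deltaF
    rw [if_neg (fun h' => hg (by rw [h']; exact K.one_mem))]

omit [Fintype G] in
/-- a class function of `K` extended by zero is invariant under conjugation by `K` -/
theorem invUnder_extZero_self {a : K → ℂ} (ha : IsClassFunction K a) :
    InvUnder K (extZero K a) := by
  intro x hx g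
  by_cases hg : g ∈ K
  · have e1 := extZero_mem' K a ((⟨x, hx⟩ : K) * ⟨g, hg⟩ * (⟨x, hx⟩ : K)⁻¹)
    have e2 := extZero_mem' K a ⟨g, hg⟩
    simp only [Subgroup.coe_mul, Subgroup.coe_inv] at e1 e2
    rw [e1, e2]
    exact ha _ _
  · have : x * g * x⁻¹ ∉ K := by
      intro h
      apply hg
      have := K.mul_mem (K.mul_mem (K.inv_mem hx) h) hx
      have e : x⁻¹ * (x * g * x⁻¹) * x = g := by group
      rwa [e] at this
    rw [extZero_not_mem' K _ hg, extZero_not_mem' K _ this]

omit [Fintype G] in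
theorem invUnder_mono {S T : Subgroup G} (h : S ≤ T) {β : G → ℂ} (hβ : InvUnder T β) :
    InvUnder S β := fun x hx g => hβ x (h hx) g

end ExtZero

section ConjIrr

variable {G : Type*} [Group G] {M : Ideal AlgInt} (K : Subgroup G)

theorem conjIrr_one (h1 : (1 : G) ∈ Subgroup.normalizer (K : Set G)) (χ : IrrCharacter K) :
    conjIrr K 1 h1 χ = χ := by
  apply Subtype.ext
  funext k
  rw [conjIrr_apply]
  refine congrArg _ (Subtype.ext ?_)
  rw [conjK_symm_apply]
  group

theorem conjIrr_mul (x y : G) (hx : x ∈ Subgroup.normalizer (K : Set G))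
    (hy : y ∈ Subgroup.normalizer (K : Set G))
    (hxy : x * y ∈ Subgroup.normalizer (K : Set G)) (χ : IrrCharacter K) :
    conjIrr K (x * y) hxy χ = conjIrr K x hx (conjIrr K y hy χ) := by
  apply Subtype.ext
  funext k
  rw [conjIrr_apply, conjIrr_apply, conjIrr_apply]
  refine congrArg _ (Subtype.ext ?_)
  rw [conjK_symm_apply, conjK_symm_apply, conjK_symm_apply]
  group

theorem conjIrr_inv_conjIrr (x : G) (hx : x ∈ Subgroup.normalizer (K : Set G))
    (hx' : x⁻¹ ∈ Subgroup.normalizer (K : Set G)) (χ : IrrCharacter K) :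
    conjIrr K x⁻¹ hx' (conjIrr K x hx χ) = χ := by
  rw [← conjIrr_mul K x⁻¹ x hx' hx (by rw [inv_mul_cancel]; exact Subgroup.one_mem _)]
  have : ∀ (g : G) (hg : g ∈ Subgroup.normalizer (K : Set G)), g = 1 → conjIrr K g hg χ = χ := by
    intro g hg h
    subst h
    exact conjIrr_one K hg χ
  exact this _ _ (inv_mul_cancel x)

theorem conjIrr_conjIrr_inv (x : G) (hx : x ∈ Subgroup.normalizer (K : Set G))
    (hx' : x⁻¹ ∈ Subgroup.normalizer (K : Set G)) (χ : IrrCharacter K) :
    conjIrr K x hx (conjIrr K x⁻¹ hx' χ) = χ := by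
  rw [← conjIrr_mul K x x⁻¹ hx hx' (by rw [mul_inv_cancel]; exact Subgroup.one_mem _)]
  have : ∀ (g : G) (hg : g ∈ Subgroup.normalizer (K : Set G)), g = 1 → conjIrr K g hg χ = χ := by
    intro g hg h
    subst h
    exact conjIrr_one K hg χ
  exact this _ _ (mul_inv_cancel x)

/-- the image of a block under conjugation is a block -/
theorem isPBlock_image_conjIrr [M.IsPrime] (x : G) (hx : x ∈ Subgroup.normalizer (K : Set G))
    {b : Set (IrrCharacter K)} (hb : IsPBlock M b) : IsPBlock M (conjIrr K x hx '' b) := by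
  obtain ⟨χ, rfl⟩ := hb
  refine ⟨conjIrr K x hx χ, ?_⟩
  have hx' : x⁻¹ ∈ Subgroup.normalizer (K : Set G) := Subgroup.inv_mem _ hx
  ext φ
  constructor
  · rintro ⟨ψ, hψ, rfl⟩
    exact sameBlock_conjIrr K x hx (χ := χ) (ψ := ψ) hψ
  · intro hφ
    refine ⟨conjIrr K x⁻¹ hx' φ, ?_, conjIrr_conjIrr_inv K x hx hx' φ⟩
    have h1 : SameBlock M (conjIrr K x hx χ : K → ℂ) (φ : K → ℂ) := hφ
    have h2 := sameBlock_conjIrr (M := M) K x⁻¹ hx' h1
    rw [conjIrr_inv_conjIrr] at h2
    exact h2

/-- the idempotent coefficients of a conjugated set of characters -/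
theorem blockCoeff_image_conjIrr [Fintype K] (x : G) (hx : x ∈ Subgroup.normalizer (K : Set G))
    (b : Set (IrrCharacter K)) (k : K) :
    blockCoeff (conjIrr K x hx '' b) k = blockCoeff b ((conjK K x hx).symm k) := by
  have : Fintype (IrrCharacter K) := Fintype.ofFinite _
  rw [blockCoeff_eq_sum, blockCoeff_eq_sum]
  congr 1
  have hbij : Function.Bijective (conjIrr K x hx) :=
    Finite.injective_iff_bijective.mp (conjIrr_injective K x hx)
  rw [← (Equiv.ofBijective _ hbij).sum_comp]
  refine Finset.sum_congr rfl fun χ _ => ?_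
  simp only [Equiv.ofBijective_apply]
  have hiff : conjIrr K x hx χ ∈ conjIrr K x hx '' b ↔ χ ∈ b :=
    (conjIrr_injective K x hx).mem_set_image
  by_cases hχ : χ ∈ b
  · rw [if_pos hχ, if_pos (hiff.mpr hχ), conjIrr_apply, conjIrr_apply, map_one]
  · rw [if_neg hχ, if_neg (fun h1 => hχ (hiff.mp h1))]

end ConjIrr

section BlkAction

variable {G : Type*} [Group G] [Fintype G] {M : Ideal AlgInt} (K P : Subgroup G)

/-- the normalizer of `Q` normalizes the centralizer of `Q` -/
theorem normalizer_le_normalizer_centralizer {G : Type*} [Group G] (Q : Subgroup G) :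
    Subgroup.normalizer (Q : Set G) ≤
      Subgroup.normalizer ((Subgroup.centralizer (Q : Set G) : Subgroup G) : Set G) := by
  intro g hg
  rw [Subgroup.mem_normalizer_iff]
  have hg' := Subgroup.mem_normalizer_iff.mp hg
  have hginv : g⁻¹ ∈ Subgroup.normalizer (Q : Set G) :=
    (Subgroup.normalizer (Q : Set G)).inv_mem hg
  have hginv' := Subgroup.mem_normalizer_iff.mp hginv
  intro h
  simp only [Subgroup.mem_centralizer_iff]
  constructor
  · intro hh q hq
    have hq' : g⁻¹ * q * g⁻¹⁻¹ ∈ Q := (hginv' q).mp hq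
    have := hh _ hq'
    have e1 : q * (g * h * g⁻¹) = g * ((g⁻¹ * q * g⁻¹⁻¹) * h) * g⁻¹ := by group
    have e2 : g * h * g⁻¹ * q = g * (h * (g⁻¹ * q * g⁻¹⁻¹)) * g⁻¹ := by group
    rw [e1, e2, this]
  · intro hh q hq
    have hq' : g * q * g⁻¹ ∈ Q := (hg' q).mp hq
    have := hh _ hq'
    have e1 : q * h = g⁻¹ * ((g * q * g⁻¹) * (g * h * g⁻¹)) * g := by group
    have e2 : h * q = g⁻¹ * ((g * h * g⁻¹) * (g * q * g⁻¹)) * g := by group
    rw [e1, e2, this]

/-- the type of blocks of `K` -/
abbrev Blk (M : Ideal AlgInt) (K : Subgroup G) : Type _ :=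
  {b : Set (IrrCharacter K) // IsPBlock M b}

noncomputable instance instFintypeBlk : Fintype (Blk M K) := Fintype.ofFinite _

omit [Fintype G] in
theorem conjIrr_congr {g g' : G} (h : g = g') (hg : g ∈ Subgroup.normalizer (K : Set G))
    (hg' : g' ∈ Subgroup.normalizer (K : Set G)) (χ : IrrCharacter K) :
    conjIrr K g hg χ = conjIrr K g' hg' χ := by
  subst h
  rfl

/-- the action of a subgroup normalizing `K` on the blocks of `K` -/
@[reducible] noncomputable def blkAction [M.IsPrime] (hPK : P ≤ Subgroup.normalizer (K : Set G)) :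
    MulAction P (Blk M K) where
  smul x b := ⟨conjIrr K x (hPK x.2) '' b.1, isPBlock_image_conjIrr K x _ b.2⟩
  one_smul b := by
    apply Subtype.ext
    show conjIrr K ((1 : P) : G) _ '' b.1 = b.1
    have : ∀ χ : IrrCharacter K, conjIrr K ((1 : P) : G) (hPK (1 : P).2) χ = χ := by
      intro χ
      rw [conjIrr_congr K (Subgroup.coe_one P) _ (Subgroup.one_mem _)]
      exact conjIrr_one K _ χ
    ext φ
    constructor
    · rintro ⟨χ, hχ, rfl⟩
      rw [this]; exact hχ
    · intro hφ
      exact ⟨φ, hφ, this φ⟩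
  mul_smul x y b := by
    apply Subtype.ext
    show conjIrr K ((x * y : P) : G) _ '' b.1 =
      conjIrr K x _ '' (conjIrr K y _ '' b.1)
    have : ∀ χ : IrrCharacter K, conjIrr K ((x * y : P) : G) (hPK (x * y).2) χ =
        conjIrr K x (hPK x.2) (conjIrr K y (hPK y.2) χ) := by
      intro χ
      rw [conjIrr_congr K (Subgroup.coe_mul P x y) _
        (Subgroup.mul_mem _ (hPK x.2) (hPK y.2))]
      exact conjIrr_mul K x y _ _ _ χ
    ext φ
    constructor
    · rintro ⟨χ, hχ, rfl⟩
      exact ⟨conjIrr K y (hPK y.2) χ, ⟨χ, hχ, rfl⟩, (this χ).symm⟩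
    · rintro ⟨_, ⟨χ, hχ, rfl⟩, rfl⟩
      exact ⟨χ, hχ, this χ⟩

theorem sum_blk_blockCoeff [M.IsPrime] [Fintype K] (k : K) :
    ∑ b : Blk M K, blockCoeff b.1 k = deltaF (1 : K) k := by
  have : Fintype (IrrCharacter K) := Fintype.ofFinite _
  have hMtop : M ≠ ⊤ := Ideal.IsPrime.ne_top inferInstance
  rw [← blockCoeff_univ, blockCoeff_eq_sum]
  simp only [blockCoeff_eq_sum, ← Finset.mul_sum]
  congr 1
  rw [Finset.sum_comm]
  refine Finset.sum_congr rfl fun χ _ => ?_
  rw [if_pos (Set.mem_univ _)]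
  have hχb : IsPBlock M (blockOf M (χ : K → ℂ)) := ⟨χ, rfl⟩
  rw [Finset.sum_eq_single (⟨blockOf M (χ : K → ℂ), hχb⟩ : Blk M K)]
  · rw [if_pos]
    exact sameBlock_refl hMtop _
  · intro b _ hb
    rw [if_neg]
    intro hχ
    apply hb
    apply Subtype.ext
    exact block_eq_of_mem b.2 hχb hχ (sameBlock_refl hMtop _)
  · intro h
    exact absurd (Finset.mem_univ _) h

omit [Fintype G] in
theorem brauerOmega_congr (β β' : G → ℂ)
    (h : ∀ c ∈ Subgroup.centralizer (P : Set G), β c = β' c)
    (ξ : Subgroup.centralizer (P : Set G) → ℂ) : brauerOmega P β ξ = brauerOmega P β' ξ := by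
  unfold brauerOmega
  refine finsum_congr fun c => ?_
  rw [h c c.2]

theorem brauerOmega_sum {ι : Type*} (s : Finset ι) (β : ι → G → ℂ)
    (ξ : Subgroup.centralizer (P : Set G) → ℂ) :
    brauerOmega P (∑ i ∈ s, β i) ξ = ∑ i ∈ s, brauerOmega P (β i) ξ := by
  induction s using Finset.induction_on with
  | empty => rw [Finset.sum_empty, Finset.sum_empty, brauerOmega_zero]
  | insert a s ha ih => rw [Finset.sum_insert ha, Finset.sum_insert ha, brauerOmega_add, ih]

/-- invariance of the extended idempotent under a subgroup stabilizing the set of characters -/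
theorem invUnder_extZero_of_stabilizes (S : Subgroup G) (b : Set (IrrCharacter K))
    (h : ∀ x ∈ S, StabilizesBlock K b x) : InvUnder S (extZero K (blockCoeff b)) := by
  intro x hx g
  have hxK : x ∈ Subgroup.normalizer (K : Set G) := (h x hx).1
  by_cases hg : g ∈ K
  · have hg' : x * g * x⁻¹ ∈ K := (Subgroup.mem_normalizer_iff.mp hxK g).mp hg
    have e1 := extZero_mem' K (blockCoeff b) ⟨x * g * x⁻¹, hg'⟩
    have e2 := extZero_mem' K (blockCoeff b) ⟨g, hg⟩
    simp only at e1 e2
    rw [e1, e2]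
    exact blockCoeff_conj_of_stabilizes K b x (h x hx) ⟨g, hg⟩ ⟨x * g * x⁻¹, hg'⟩ rfl
  · have hg' : x * g * x⁻¹ ∉ K := fun h' => hg ((Subgroup.mem_normalizer_iff.mp hxK g).mpr h')
    rw [extZero_not_mem' K _ hg, extZero_not_mem' K _ hg']

variable {K P}

/-- **existence of a `P`-stable block of `K` on which `ω_ξ ∘ Br_P` is `1`** -/
theorem exists_stable_block [M.IsPrime] {p : ℕ} [Fact p.Prime] (hM : IsPModular p M)
    (hP : IsPGroup p P) (hPK : P ≤ Subgroup.normalizer (K : Set G))
    (hCK : Subgroup.centralizer (P : Set G) ≤ K)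
    {ξ0 : Subgroup.centralizer (P : Set G) → ℂ}
    (hξ0 : IsIrrCharacter (Subgroup.centralizer (P : Set G)) ξ0) :
    ∃ f : Set (IrrCharacter K), IsPBlock M f ∧ (∀ x ∈ P, StabilizesBlock K f x) ∧
      MemLocalIdeal M (brauerOmega P (subgroupBlockCoeff K f) ξ0 - 1) := by
  have hMtop : M ≠ ⊤ := Ideal.IsPrime.ne_top inferInstance
  let act : MulAction P (Blk M K) := blkAction K P hPK
  let F : Blk M K → ℂ := fun b => brauerOmega P (extZero K (blockCoeff b.1)) ξ0
  have hsmul : ∀ (x : P) (b : Blk M K), (x • b).1 = conjIrr K x (hPK x.2) '' b.1 := fun x b => rfl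
  have hinvK : ∀ b : Blk M K, InvUnder (Subgroup.centralizer (P : Set G))
      (extZero K (blockCoeff b.1)) := fun b =>
    invUnder_mono hCK (invUnder_extZero_self K (isClassFunction_blockCoeff b.1))
  have hRb : ∀ (b : Blk M K) (g : G), MemLocalRing M (extZero K (blockCoeff b.1) g) := by
    intro b g
    by_cases hg : g ∈ K
    · have e1 := extZero_mem' K (blockCoeff b.1) ⟨g, hg⟩
      simp only at e1
      rw [e1]
      exact osima b.2 _
    · rw [extZero_not_mem' K _ hg]
      exact memLocalRing_zero hMtop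
  have hinv : ∀ (x : P) (b : Blk M K), F (x • b) = F b := by
    intro x b
    apply brauerOmega_congr
    intro c hc
    have hcK : c ∈ K := hCK hc
    have e1 := extZero_mem' K (blockCoeff (x • b).1) ⟨c, hcK⟩
    have e2 := extZero_mem' K (blockCoeff b.1) ⟨c, hcK⟩
    simp only at e1 e2
    rw [e1, e2, hsmul, blockCoeff_image_conjIrr]
    congr 1
    apply Subtype.ext
    rw [conjK_symm_apply]
    have := Subgroup.mem_centralizer_iff.mp hc x x.2
    show (x : G)⁻¹ * c * x = c
    rw [mul_assoc, ← this]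
    group
  have hR : ∀ b : Blk M K, MemLocalRing M (F b) := fun b =>
    brauerOmega_memLocalRing P _ (hinvK b) (hRb b) hξ0
  have h := sum_sub_sum_fixed_memPLocal (M := M) hP F hinv hR
  have hsum : ∑ b : Blk M K, F b = 1 := by
    show ∑ b : Blk M K, brauerOmega P (extZero K (blockCoeff b.1)) ξ0 = 1
    rw [← brauerOmega_sum]
    have : ∑ b : Blk M K, extZero K (blockCoeff b.1) = deltaF (1 : G) := by
      rw [← extZero_deltaF_one K]
      funext g
      rw [Finset.sum_apply]
      by_cases hg : g ∈ K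
      · have e1 := extZero_mem' K (deltaF (1 : K)) ⟨g, hg⟩
        simp only at e1
        rw [e1, ← sum_blk_blockCoeff (M := M)]
        refine Finset.sum_congr rfl fun b _ => ?_
        exact extZero_mem' K (blockCoeff b.1) ⟨g, hg⟩
      · rw [extZero_not_mem' K _ hg]
        apply Finset.sum_eq_zero
        intro b _
        exact extZero_not_mem' K _ hg
    rw [this, brauerOmega_deltaF_one P (irr_one_ne_zero hξ0)]
  rw [hsum] at h
  -- some fixed block is not killed
  have hex : ∃ b : Blk M K, b ∈ MulAction.fixedPoints P (Blk M K) ∧ ¬ MemLocalIdeal M (F b) := by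
    by_contra hcon
    push Not at hcon
    have h1 : MemLocalIdeal M
        (∑ b ∈ Finset.univ.filter (fun b => b ∈ MulAction.fixedPoints P (Blk M K)), F b) := by
      apply memLocalIdeal_sum
      intro b hb
      exact hcon b (Finset.mem_filter.mp hb).2
    have h2 := memLocalIdeal_add (h.memLocalIdeal hM) h1
    rw [sub_add_cancel] at h2
    exact not_memLocalIdeal_one hMtop h2
  obtain ⟨b, hbfix, hbn⟩ := hex
  have hstab : ∀ x ∈ P, StabilizesBlock K b.1 x := by
    intro x hx
    rw [stabilizesBlock_iff]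
    refine ⟨hPK hx, fun χ hχ => ?_⟩
    have := congrArg Subtype.val (hbfix ⟨x, hx⟩)
    rw [hsmul] at this
    rw [← this]
    exact ⟨χ, hχ, rfl⟩
  refine ⟨b.1, b.2, hstab, ?_⟩
  have hinvP := invUnder_extZero_of_stabilizes K P b.1 hstab
  have hconv := brauerOmega_conv P hM hP _ _ hinvP hinvP (hinvK b) (hinvK b) (hRb b) (hRb b) hξ0
  rw [conv_extZero, conv_blockCoeff_self] at hconv
  have h2 := memLocalIdeal_neg hconv
  rw [neg_sub] at h2
  rcases memLocalIdeal_or_of_idem (hR b) h2 with h3 | h3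
  · exact absurd h3 hbn
  · exact h3

/-- uniqueness of the `P`-stable block of `K` on which `ω_ξ ∘ Br_P` is `1` -/
theorem stable_block_unique [M.IsPrime] {p : ℕ} [Fact p.Prime] (hM : IsPModular p M)
    (hP : IsPGroup p P) (hCK : Subgroup.centralizer (P : Set G) ≤ K)
    {ξ0 : Subgroup.centralizer (P : Set G) → ℂ}
    (hξ0 : IsIrrCharacter (Subgroup.centralizer (P : Set G)) ξ0)
    {f f' : Set (IrrCharacter K)} (hf : IsPBlock M f) (hf' : IsPBlock M f')
    (hst : ∀ x ∈ P, StabilizesBlock K f x) (hst' : ∀ x ∈ P, StabilizesBlock K f' x)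
    (h1 : MemLocalIdeal M (brauerOmega P (subgroupBlockCoeff K f) ξ0 - 1))
    (h1' : MemLocalIdeal M (brauerOmega P (subgroupBlockCoeff K f') ξ0 - 1)) : f = f' := by
  have hMtop : M ≠ ⊤ := Ideal.IsPrime.ne_top inferInstance
  by_contra hne
  have hinvK : ∀ b : Set (IrrCharacter K), InvUnder (Subgroup.centralizer (P : Set G))
      (extZero K (blockCoeff b)) := fun b =>
    invUnder_mono hCK (invUnder_extZero_self K (isClassFunction_blockCoeff b))
  have hRb : ∀ (b : Set (IrrCharacter K)), IsPBlock M b →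
      ∀ (g : G), MemLocalRing M (extZero K (blockCoeff b) g) := by
    intro b hb g
    by_cases hg : g ∈ K
    · have e1 := extZero_mem' K (blockCoeff b) ⟨g, hg⟩
      simp only at e1
      rw [e1]
      exact osima hb _
    · rw [extZero_not_mem' K _ hg]
      exact memLocalRing_zero hMtop
  have hconv := brauerOmega_conv P hM hP _ _ (invUnder_extZero_of_stabilizes K P f hst)
    (invUnder_extZero_of_stabilizes K P f' hst') (hinvK f) (hinvK f') (hRb f hf) (hRb f' hf') hξ0
  rw [conv_extZero, conv_blockCoeff_inter, block_inter_eq_empty hf hf' hne, blockCoeff_empty_fun,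
    extZero_zero, brauerOmega_zero, zero_sub] at hconv
  have hprod := memLocalIdeal_neg hconv
  rw [neg_neg] at hprod
  have hR1 := brauerOmega_memLocalRing P _ (hinvK f) (hRb f hf) hξ0
  have hR2 := brauerOmega_memLocalRing P _ (hinvK f') (hRb f' hf') hξ0
  have hn1 : ¬ MemLocalIdeal M (brauerOmega P (extZero K (blockCoeff f)) ξ0) := by
    intro h
    apply not_memLocalIdeal_one (M := M) hMtop
    have h1a : MemLocalIdeal M (brauerOmega P (extZero K (blockCoeff f)) ξ0 - 1) := h1
    have := memLocalIdeal_sub h h1a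
    rwa [sub_sub_cancel] at this
  have hn2 : ¬ MemLocalIdeal M (brauerOmega P (extZero K (blockCoeff f')) ξ0) := by
    intro h
    apply not_memLocalIdeal_one (M := M) hMtop
    have h1a : MemLocalIdeal M (brauerOmega P (extZero K (blockCoeff f')) ξ0 - 1) := h1'
    have := memLocalIdeal_sub h h1a
    rwa [sub_sub_cancel] at this
  exact not_memLocalIdeal_mul hR1 hR2 hn1 hn2 hprod

end BlkAction

end Cfsg.Agent.Lib.Helper4
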