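import Mathlib
import Cfsg.Prelude.Def_Characters
import Cfsg.Agent.Lib.Helper4.CommCount

set_option autoImplicit false

namespace Cfsg.Agent.Lib.Helper4

open scoped ComplexConjugate

section

variable {G : Type*} [Group G] [Fintype G]
variable {V : Type*} [AddCommGroup V] [Module ℂ V] [FiniteDimensional ℂ V]

open scoped Classical in
/-- generalized orthogonality: `∑ k, χ(x · k y k⁻¹) = |G| χ(x) χ(y) / χ(1)` -/
theorem sum_char_mul_conj (ρ : Representation ℂ G V) (hirr : ρ.IsIrreducible) (x y : G) :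
    ∑ k, ρ.character (x * (k * y * k⁻¹)) =
      (Nat.card G : ℂ) * ρ.character x * ρ.character y / (Module.finrank ℂ V : ℂ) := by
  let F : G → ℂ := fun g => ∑ k : G, if k * y * k⁻¹ = g then (1 : ℂ) else 0
  have hF : Cfsg.IsClassFunction G F := by
    intro g h
    show ∑ k : G, (if k * y * k⁻¹ = h * g * h⁻¹ then (1 : ℂ) else 0) =
      ∑ k : G, if k * y * k⁻¹ = g then (1 : ℂ) else 0
    rw [← Equiv.sum_comp (Equiv.mulLeft h)]
    refine Finset.sum_congr rfl fun k _ => ?_
    have : (Equiv.mulLeft h k) * y * (Equiv.mulLeft h k)⁻¹ = h * g * h⁻¹ ↔ k * y * k⁻¹ = g := by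
      simp only [Equiv.coe_mulLeft, mul_inv_rev]
      constructor
      · intro h1
        have h2 : h⁻¹ * (h * k * y * (k⁻¹ * h⁻¹)) * h = h⁻¹ * (h * g * h⁻¹) * h := by rw [h1]
        have h3 : h⁻¹ * (h * k * y * (k⁻¹ * h⁻¹)) * h = k * y * k⁻¹ := by group
        have h4 : h⁻¹ * (h * g * h⁻¹) * h = g := by group
        rw [h3, h4] at h2
        exact h2
      · intro h1
        rw [← h1]; group
    simp only [this]
  have h1 := sum_mul_char_mul ρ hirr F hF x
  have h2 : ∑ g, F g * ρ.character (x * g) = ∑ k, ρ.character (x * (k * y * k⁻¹)) := by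
    simp only [F, Finset.sum_mul]
    rw [Finset.sum_comm]
    refine Finset.sum_congr rfl fun k _ => ?_
    simp only [ite_mul, one_mul, zero_mul]
    rw [Finset.sum_ite_eq]
    simp
  have h3 : ∑ g, F g * ρ.character g = (Nat.card G : ℂ) * ρ.character y := by
    simp only [F, Finset.sum_mul]
    rw [Finset.sum_comm]
    have : ∀ k : G, ∑ g : G, (if k * y * k⁻¹ = g then (1 : ℂ) else 0) * ρ.character g =
        ρ.character y := by
      intro k
      simp only [ite_mul, one_mul, zero_mul]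
      rw [Finset.sum_ite_eq]
      simp
    simp only [this]
    rw [Finset.sum_const, Finset.card_univ, nsmul_eq_mul, Nat.card_eq_fintype_card]
  rw [← h2, h1, h3]
  ring

open scoped Classical in
/-- class multiplication coefficients from the character table -/
theorem card_class_mult [Fintype (Cfsg.IrrCharacter G)] (a b c : G) :
    ((Finset.univ.filter (fun p : G × G => IsConj a p.1 ∧ IsConj b p.2 ∧ p.1 * p.2 = c)).card : ℂ)
      = (Nat.card G : ℂ) / ((Nat.card (Subgroup.centralizer ({a} : Set G)) : ℂ) *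
          (Nat.card (Subgroup.centralizer ({b} : Set G)) : ℂ)) *
        ∑ χ : Cfsg.IrrCharacter G,
          (χ : G → ℂ) a * (χ : G → ℂ) b * conj ((χ : G → ℂ) c) / (χ : G → ℂ) 1 := by
  have hCa : (Nat.card (Subgroup.centralizer ({a} : Set G)) : ℂ) ≠ 0 :=
    Nat.cast_ne_zero.mpr Nat.card_pos.ne'
  have hCb : (Nat.card (Subgroup.centralizer ({b} : Set G)) : ℂ) ≠ 0 :=
    Nat.cast_ne_zero.mpr Nat.card_pos.ne'
  -- count over x
  have h1 : ((Finset.univ.filter
      (fun p : G × G => IsConj a p.1 ∧ IsConj b p.2 ∧ p.1 * p.2 = c)).card : ℂ) =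
      ∑ x : G, (if IsConj a x then (1 : ℂ) else 0) * (if IsConj b (x⁻¹ * c) then (1 : ℂ) else 0) := by
    rw [Finset.card_filter, Nat.cast_sum, Fintype.sum_prod_type]
    refine Finset.sum_congr rfl fun x _ => ?_
    rw [Finset.sum_eq_single (x⁻¹ * c)]
    · have hxc : x * (x⁻¹ * c) = c := by group
      by_cases h1 : IsConj a x
      · by_cases h2 : IsConj b (x⁻¹ * c)
        · rw [if_pos ⟨h1, h2, hxc⟩, if_pos h1, if_pos h2]; simp
        · rw [if_neg (fun h => h2 h.2.1), if_neg h2]; simp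
      · rw [if_neg (fun h => h1 h.1), if_neg h1]; simp
    · intro y _ hy
      have : ¬ (x * y = c) := by
        intro h
        apply hy
        rw [← h]; group
      simp [this]
    · intro h
      exact absurd (Finset.mem_univ _) h
  have h2 : ∀ x : G, (if IsConj a x then (1 : ℂ) else 0) =
      (Nat.card (Subgroup.centralizer ({a} : Set G)) : ℂ)⁻¹ *
        ∑ k : G, if k * a * k⁻¹ = x then (1 : ℂ) else 0 := by
    intro x
    rw [Finset.sum_boole, card_conjugators]
    by_cases h : IsConj a x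
    · rw [if_pos h, if_pos h, inv_mul_cancel₀ hCa]
    · rw [if_neg h, if_neg h, mul_zero]
  have h3 : ∀ z : G, (if IsConj b z then (1 : ℂ) else 0) =
      (Nat.card (Subgroup.centralizer ({b} : Set G)) : ℂ)⁻¹ *
        ∑ χ : Cfsg.IrrCharacter G, (χ : G → ℂ) b * conj ((χ : G → ℂ) z) := by
    intro z
    rw [column_orthogonality]
    by_cases h : IsConj b z
    · rw [if_pos h, if_pos h, inv_mul_cancel₀ hCb]
    · rw [if_neg h, if_neg h, mul_zero]
  rw [h1]
  simp only [h2]
  have h4 : ∑ x : G, ((Nat.card (Subgroup.centralizer ({a} : Set G)) : ℂ)⁻¹ *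
      ∑ k : G, if k * a * k⁻¹ = x then (1 : ℂ) else 0) *
        (if IsConj b (x⁻¹ * c) then (1 : ℂ) else 0) =
      (Nat.card (Subgroup.centralizer ({a} : Set G)) : ℂ)⁻¹ *
        ∑ k : G, if IsConj b ((k * a * k⁻¹)⁻¹ * c) then (1 : ℂ) else 0 := by
    have : ∀ x : G, ((Nat.card (Subgroup.centralizer ({a} : Set G)) : ℂ)⁻¹ *
        ∑ k : G, if k * a * k⁻¹ = x then (1 : ℂ) else 0) *
          (if IsConj b (x⁻¹ * c) then (1 : ℂ) else 0) =
        (Nat.card (Subgroup.centralizer ({a} : Set G)) : ℂ)⁻¹ *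
          ∑ k : G, (if k * a * k⁻¹ = x then
            (if IsConj b (x⁻¹ * c) then (1 : ℂ) else 0) else 0) := by
      intro x
      rw [mul_assoc, Finset.sum_mul]
      congr 1
      refine Finset.sum_congr rfl fun k _ => ?_
      by_cases h : k * a * k⁻¹ = x
      · rw [if_pos h, if_pos h, one_mul]
      · rw [if_neg h, if_neg h, zero_mul]
    simp only [this]
    rw [← Finset.mul_sum, Finset.sum_comm]
    congr 1
    refine Finset.sum_congr rfl fun k _ => ?_
    rw [Finset.sum_ite_eq]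
    simp
  rw [h4]
  simp only [h3]
  rw [← Finset.mul_sum, Finset.sum_comm]
  have h5 : ∀ χ : Cfsg.IrrCharacter G,
      ∑ k : G, (χ : G → ℂ) b * conj ((χ : G → ℂ) ((k * a * k⁻¹)⁻¹ * c)) =
        (Nat.card G : ℂ) * ((χ : G → ℂ) a * (χ : G → ℂ) b * conj ((χ : G → ℂ) c) /
          (χ : G → ℂ) 1) := by
    intro χ
    obtain ⟨n, ρ, hρ, hχ⟩ := χ.2
    rw [← hχ]
    have h6 : ∀ k : G, ρ.character ((k * a * k⁻¹)⁻¹ * c) = ρ.character (c * (k * a⁻¹ * k⁻¹)) := by
      intro k
      have : (k * a * k⁻¹)⁻¹ = k * a⁻¹ * k⁻¹ := by group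
      rw [this, Representation.char_mul_comm]
    simp only [h6]
    rw [← Finset.mul_sum, ← map_sum, sum_char_mul_conj ρ hρ c a⁻¹, Representation.char_one]
    rw [map_div₀, map_mul, map_mul, Complex.conj_natCast, Complex.conj_natCast,
      ← character_inv ρ a⁻¹, inv_inv]
    ring
  simp only [h5]
  rw [← Finset.mul_sum]
  field_simp

end

end Cfsg.Agent.Lib.Helper4
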