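import Mathlib
import Cfsg.Agent.Lib.Helper4.BrauerSub
import Cfsg.Agent.Lib.Helper4.BrauerIdem

set_option autoImplicit false

/-!
# Brauer pairs: a subpair belongs to the same block (helper4)

* `isBrauerPairOf_iff_one`
* `brauerOmega_descend`
* `isBrauerPairOf_iff_of_isNormalSubpair`, `isBrauerPairOf_iff_of_subpairLE`
-/

namespace Cfsg.Agent.Lib.Helper4

open Cfsg Cfsg.Agent.Lib.Helper28
open scoped ComplexConjugate Classical

section

variable {G : Type*} [Group G] [Fintype G] {M : Ideal AlgInt}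

/-- membership of a Brauer pair in a block can be tested on a single character -/
theorem isBrauerPairOf_iff_one [M.IsPrime] {p : ℕ} {P : Subgroup G}
    {e : Set (IrrCharacter (Subgroup.centralizer (P : Set G)))} (hPe : IsBrauerPair p M P e)
    {B : Set (IrrCharacter G)} (hB : IsPBlock M B)
    {ξ0 : IrrCharacter (Subgroup.centralizer (P : Set G))} (hξ0 : ξ0 ∈ e) :
    IsBrauerPairOf p M B P e ↔
      MemLocalIdeal M (brauerOmega P (blockCoeff B)
        (ξ0 : Subgroup.centralizer (P : Set G) → ℂ) - 1) := by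
  constructor
  · intro h
    exact h.2.2 ξ0 hξ0
  · intro h1
    refine ⟨hPe, hB, ?_⟩
    intro ξ hξ
    have hsb : SameBlock M (ξ : Subgroup.centralizer (P : Set G) → ℂ)
        (ξ0 : Subgroup.centralizer (P : Set G) → ℂ) :=
      (mem_block_iff hPe.2 hξ ξ0).mp hξ0
    have h2 := brauerOmega_sameBlock P (blockCoeff B)
      (invUnder_of_isClassFunction (isClassFunction_blockCoeff B) _) (fun g => osima hB g)
      (Cfsg.Agent.Lib.Helper4.isClassFunction_of_isIrrCharacter ξ.2)
      (Cfsg.Agent.Lib.Helper4.isClassFunction_of_isIrrCharacter ξ0.2) hsb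
    have := memLocalIdeal_add h2 h1
    rwa [sub_add_sub_cancel] at this

/-- **descent**: if `(Q, f) ⊴ (P, e)` is a normal subpair and `ω_φ(Br_Q(e_S)) ≡ 0` for `φ ∈ f`
(`S` a union of blocks of `G`), then `ω_ξ(Br_P(e_S)) ≡ 0` for `ξ ∈ e`. -/
theorem brauerOmega_descend {p : ℕ} [Fact p.Prime] (hM : IsPModular p M) {P Q : Subgroup G}
    {e : Set (IrrCharacter (Subgroup.centralizer (P : Set G)))}
    {f : Set (IrrCharacter (Subgroup.centralizer (Q : Set G)))}
    (h : IsNormalSubpair p M Q f P e) (S : Set (IrrCharacter G))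
    (hS : ∀ φ ∈ S, ∀ φ' : IrrCharacter G, SameBlock M (φ : G → ℂ) (φ' : G → ℂ) → φ' ∈ S)
    {φ0 : IrrCharacter (Subgroup.centralizer (Q : Set G))} (hφ0 : φ0 ∈ f)
    {ξ0 : IrrCharacter (Subgroup.centralizer (P : Set G))} (hξ0 : ξ0 ∈ e)
    (h0 : MemLocalIdeal M (brauerOmega Q (blockCoeff S)
      (φ0 : Subgroup.centralizer (Q : Set G) → ℂ))) :
    MemLocalIdeal M (brauerOmega P (blockCoeff S)
      (ξ0 : Subgroup.centralizer (P : Set G) → ℂ)) := by
  have hMprime : M.IsPrime := hM.2.1.isPrime
  have hMtop : M ≠ ⊤ := Ideal.IsPrime.ne_top hMprime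
  have hp : p.Prime := Fact.out
  obtain ⟨⟨hQ, hf⟩, ⟨hP, he⟩, hQP, hPN, hst, hone⟩ := h
  have hPK : P ≤ Subgroup.normalizer ((Subgroup.centralizer (Q : Set G)) : Set G) :=
    hPN.trans (normalizer_le_normalizer_centralizer Q)
  have hCK : Subgroup.centralizer (P : Set G) ≤ (Subgroup.centralizer (Q : Set G)) := Subgroup.centralizer_le hQP
  set β := blockCoeff S with hβ
  have hβcf : IsClassFunction G β := isClassFunction_blockCoeff S
  have hβR : ∀ g, MemLocalRing M (β g) := osima_union S hS
  set γ : (Subgroup.centralizer (Q : Set G)) → ℂ := resTo (Subgroup.centralizer (Q : Set G)) β with hγ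
  have hγcf : IsClassFunction (Subgroup.centralizer (Q : Set G)) γ := isClassFunction_resTo (invUnder_of_isClassFunction hβcf (Subgroup.centralizer (Q : Set G)))
  have hγR : ∀ x, MemLocalRing M (γ x) := fun x => hβR _
  -- `γ` is idempotent modulo `p`
  have hγidem : ∀ x, MemPLocal M p (conv γ γ x - γ x) := by
    intro z
    have := conv_sub_memPLocal (M := M) Q hQ β β (invUnder_of_isClassFunction hβcf _)
      (invUnder_of_isClassFunction hβcf _) hβR hβR (z : G) z.2
    rw [conv_blockCoeff_self] at this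
    have h2 := memPLocal_neg this
    rw [neg_sub] at h2
    exact h2
  -- the product with the idempotent of `f`
  set ef : (Subgroup.centralizer (Q : Set G)) → ℂ := blockCoeff f with hef
  have hefcf : IsClassFunction (Subgroup.centralizer (Q : Set G)) ef := isClassFunction_blockCoeff f
  have hefR : ∀ x, MemLocalRing M (ef x) := fun x => osima hf x
  set η : (Subgroup.centralizer (Q : Set G)) → ℂ := conv ef γ with hη
  have hηcf : IsClassFunction (Subgroup.centralizer (Q : Set G)) η := isClassFunction_conv hefcf hγcf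
  have hηR : ∀ x, MemLocalRing M (η x) := conv_memLocalRing hefR hγR
  have hηidem : ∀ x, MemPLocal M p (conv η η x - η x) := by
    have e1 : conv η η = conv ef (conv γ γ) := by
      apply eq_of_omegaF_eq _ _ (isClassFunction_conv hηcf hηcf)
        (isClassFunction_conv hefcf (isClassFunction_conv hγcf hγcf))
      intro φ
      rw [omegaF_conv φ.2 _ _ hηcf hηcf, omegaF_conv φ.2 _ _ hefcf hγcf,
        omegaF_conv φ.2 _ _ hefcf (isClassFunction_conv hγcf hγcf),
        omegaF_conv φ.2 _ _ hγcf hγcf, omegaF_blockCoeff]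
      split_ifs <;> ring
    intro x
    have e2 : conv η η x - η x = conv ef (conv γ γ - γ) x := by
      rw [e1, conv_sub_right]
      rfl
    rw [e2]
    exact conv_memPLocal_right hefR hγidem x
  have hηω : ∀ φ : IrrCharacter (Subgroup.centralizer (Q : Set G)), MemLocalIdeal M (omegaF (φ : (Subgroup.centralizer (Q : Set G)) → ℂ) η) := by
    intro φ
    rw [omegaF_conv φ.2 _ _ hefcf hγcf, omegaF_blockCoeff]
    by_cases hφ : φ ∈ f
    · rw [if_pos hφ, one_mul]
      have hsb : SameBlock M (φ : (Subgroup.centralizer (Q : Set G)) → ℂ) (φ0 : (Subgroup.centralizer (Q : Set G)) → ℂ) := (mem_block_iff hf hφ φ0).mp hφ0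
      have h1 := omegaF_sub_memLocalIdeal
        (Cfsg.Agent.Lib.Helper4.isClassFunction_of_isIrrCharacter φ.2)
        (Cfsg.Agent.Lib.Helper4.isClassFunction_of_isIrrCharacter φ0.2) hsb γ hγcf hγR
      have h2 : MemLocalIdeal M (omegaF (φ0 : (Subgroup.centralizer (Q : Set G)) → ℂ) γ) := by
        rw [← brauerOmega_eq_omegaF]
        exact h0
      have := memLocalIdeal_add h1 h2
      rwa [sub_add_cancel] at this
    · rw [if_neg hφ, zero_mul]
      exact memLocalIdeal_zero hMtop
  have hηp := memPLocal_of_idem_mod_p hM η hηcf hηR hηidem hηω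
  -- apply `ω_ξ ∘ Br_P`
  have hinvC : ∀ a : (Subgroup.centralizer (Q : Set G)) → ℂ, IsClassFunction (Subgroup.centralizer (Q : Set G)) a →
      InvUnder (Subgroup.centralizer (P : Set G)) (extZero (Subgroup.centralizer (Q : Set G)) a) := fun a ha =>
    invUnder_mono hCK (invUnder_extZero_self (Subgroup.centralizer (Q : Set G)) ha)
  have hextR : ∀ a : (Subgroup.centralizer (Q : Set G)) → ℂ, (∀ x, MemLocalRing M (a x)) → ∀ g, MemLocalRing M (extZero (Subgroup.centralizer (Q : Set G)) a g) := by
    intro a ha g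
    by_cases hg : g ∈ (Subgroup.centralizer (Q : Set G))
    · have e1 := extZero_mem' (Subgroup.centralizer (Q : Set G)) a ⟨g, hg⟩
      simp only at e1
      rw [e1]
      exact ha _
    · rw [extZero_not_mem' (Subgroup.centralizer (Q : Set G)) _ hg]
      exact memLocalRing_zero hMtop
  have h1 : MemLocalIdeal M (brauerOmega P (extZero (Subgroup.centralizer (Q : Set G)) η)
      (ξ0 : Subgroup.centralizer (P : Set G) → ℂ)) := by
    rw [brauerOmega_eq_omegaF]
    apply MemPLocal.memLocalIdeal hM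
    apply omegaF_memPLocal hp.ne_zero ξ0.2 _ (isClassFunction_resTo (hinvC η hηcf))
    intro c
    show MemPLocal M p (extZero (Subgroup.centralizer (Q : Set G)) η (c : G))
    have e1 := extZero_mem' (Subgroup.centralizer (Q : Set G)) η ⟨c, hCK c.2⟩
    simp only at e1
    rw [e1]
    exact hηp _
  have hinvPγ : InvUnder P (extZero (Subgroup.centralizer (Q : Set G)) γ) := by
    intro x hx g
    have hxK := hPK hx
    by_cases hg : g ∈ (Subgroup.centralizer (Q : Set G))
    · have hg' : x * g * x⁻¹ ∈ (Subgroup.centralizer (Q : Set G)) := (Subgroup.mem_normalizer_iff.mp hxK g).mp hg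
      have e1 := extZero_mem' (Subgroup.centralizer (Q : Set G)) γ ⟨x * g * x⁻¹, hg'⟩
      have e2 := extZero_mem' (Subgroup.centralizer (Q : Set G)) γ ⟨g, hg⟩
      simp only at e1 e2
      rw [e1, e2]
      exact hβcf g x
    · have hg' : x * g * x⁻¹ ∉ (Subgroup.centralizer (Q : Set G)) := fun h' => hg ((Subgroup.mem_normalizer_iff.mp hxK g).mpr h')
      rw [extZero_not_mem' (Subgroup.centralizer (Q : Set G)) _ hg, extZero_not_mem' (Subgroup.centralizer (Q : Set G)) _ hg']
  have hconv := brauerOmega_conv P hM hP (extZero (Subgroup.centralizer (Q : Set G)) ef) (extZero (Subgroup.centralizer (Q : Set G)) γ)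
    (invUnder_extZero_of_stabilizes (Subgroup.centralizer (Q : Set G)) P f hst) hinvPγ (hinvC ef hefcf) (hinvC γ hγcf)
    (hextR ef hefR) (hextR γ hγR) ξ0.2
  rw [conv_extZero] at hconv
  -- first factor is ≡ 1
  have ha : MemLocalIdeal M (brauerOmega P (extZero (Subgroup.centralizer (Q : Set G)) ef)
      (ξ0 : Subgroup.centralizer (P : Set G) → ℂ) - 1) := hone ξ0 hξ0
  have hbeq : brauerOmega P (extZero (Subgroup.centralizer (Q : Set G)) γ) (ξ0 : Subgroup.centralizer (P : Set G) → ℂ) =
      brauerOmega P β (ξ0 : Subgroup.centralizer (P : Set G) → ℂ) := by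
    apply brauerOmega_congr
    intro c hc
    have e1 := extZero_mem' (Subgroup.centralizer (Q : Set G)) γ ⟨c, hCK hc⟩
    simp only at e1
    rw [e1]
    rfl
  have hbR : MemLocalRing M (brauerOmega P (extZero (Subgroup.centralizer (Q : Set G)) γ)
      (ξ0 : Subgroup.centralizer (P : Set G) → ℂ)) :=
    brauerOmega_memLocalRing P _ (hinvC γ hγcf) (hextR γ hγR) ξ0.2
  rw [← hbeq]
  set a := brauerOmega P (extZero (Subgroup.centralizer (Q : Set G)) ef) (ξ0 : Subgroup.centralizer (P : Set G) → ℂ) with ha_def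
  set b := brauerOmega P (extZero (Subgroup.centralizer (Q : Set G)) γ) (ξ0 : Subgroup.centralizer (P : Set G) → ℂ) with hb_def
  -- `ab ∈ J`, `a ≡ 1` so `b ∈ J`
  have hab : MemLocalIdeal M (a * b) := by
    have := memLocalIdeal_sub h1 hconv
    rwa [sub_sub_cancel] at this
  have h3 : MemLocalIdeal M ((a - 1) * b) := memLocalIdeal_mul_right ha hbR
  have := memLocalIdeal_sub hab h3
  have e : a * b - (a - 1) * b = b := by ring
  rwa [e] at this

theorem blockCoeff_compl_add (B : Set (IrrCharacter G)) :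
    blockCoeff B + blockCoeff Bᶜ = deltaF 1 := by
  rw [← blockCoeff_union_disjoint_fun B Bᶜ disjoint_compl_right, Set.union_compl_self,
    blockCoeff_univ]

theorem compl_closed [M.IsPrime] {B : Set (IrrCharacter G)} (hB : IsPBlock M B) :
    ∀ φ ∈ Bᶜ, ∀ φ' : IrrCharacter G, SameBlock M (φ : G → ℂ) (φ' : G → ℂ) → φ' ∈ Bᶜ := by
  intro φ hφ φ' h hφ'
  apply hφ
  exact blockOf_closed hB φ' hφ' φ (sameBlock_symm h)

/-- a normal subpair belongs to the same blocks -/
theorem isBrauerPairOf_iff_of_isNormalSubpair {p : ℕ} [Fact p.Prime] (hM : IsPModular p M)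
    {P Q : Subgroup G} {e : Set (IrrCharacter (Subgroup.centralizer (P : Set G)))}
    {f : Set (IrrCharacter (Subgroup.centralizer (Q : Set G)))}
    (h : IsNormalSubpair p M Q f P e) {B : Set (IrrCharacter G)} (hB : IsPBlock M B) :
    IsBrauerPairOf p M B P e ↔ IsBrauerPairOf p M B Q f := by
  have hMprime : M.IsPrime := hM.2.1.isPrime
  have hMtop : M ≠ ⊤ := Ideal.IsPrime.ne_top hMprime
  have hQf : IsBrauerPair p M Q f := h.1
  have hPe : IsBrauerPair p M P e := h.2.1
  obtain ⟨φ0, hφ0⟩ := block_nonempty hQf.2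
  obtain ⟨ξ0, hξ0⟩ := block_nonempty hPe.2
  rw [isBrauerPairOf_iff_one hPe hB hξ0, isBrauerPairOf_iff_one hQf hB hφ0]
  have hsumP : brauerOmega P (blockCoeff B) (ξ0 : Subgroup.centralizer (P : Set G) → ℂ) +
      brauerOmega P (blockCoeff Bᶜ) (ξ0 : Subgroup.centralizer (P : Set G) → ℂ) = 1 := by
    rw [← brauerOmega_add, blockCoeff_compl_add, brauerOmega_deltaF_one P (irr_one_ne_zero ξ0.2)]
  have hsumQ : brauerOmega Q (blockCoeff B) (φ0 : Subgroup.centralizer (Q : Set G) → ℂ) +
      brauerOmega Q (blockCoeff Bᶜ) (φ0 : Subgroup.centralizer (Q : Set G) → ℂ) = 1 := by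
    rw [← brauerOmega_add, blockCoeff_compl_add, brauerOmega_deltaF_one Q (irr_one_ne_zero φ0.2)]
  constructor
  · intro h1
    rcases brauerOmega_blockCoeff_dichotomy Q hM hQf.1 B (blockOf_closed hB) φ0.2 with h2 | h2
    · exfalso
      have h3 := brauerOmega_descend hM h B (blockOf_closed hB) hφ0 hξ0 h2
      apply not_memLocalIdeal_one (M := M) hMtop
      have := memLocalIdeal_sub h3 h1
      rwa [sub_sub_cancel] at this
    · exact h2
  · intro h1
    have h2 : MemLocalIdeal M (brauerOmega Q (blockCoeff Bᶜ)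
        (φ0 : Subgroup.centralizer (Q : Set G) → ℂ)) := by
      have := memLocalIdeal_neg h1
      rw [neg_sub, ← hsumQ, add_sub_cancel_left] at this
      exact this
    have h3 := brauerOmega_descend hM h Bᶜ (compl_closed hB) hφ0 hξ0 h2
    have e : brauerOmega P (blockCoeff B) (ξ0 : Subgroup.centralizer (P : Set G) → ℂ) - 1 =
        - brauerOmega P (blockCoeff Bᶜ) (ξ0 : Subgroup.centralizer (P : Set G) → ℂ) := by
      rw [← hsumP]; ring
    rw [e]
    exact memLocalIdeal_neg h3

/-- a subpair belongs to the same blocks -/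
theorem isBrauerPairOf_iff_of_subpairLE {p : ℕ} [Fact p.Prime] (hM : IsPModular p M)
    {P Q : Subgroup G} {e : Set (IrrCharacter (Subgroup.centralizer (P : Set G)))}
    {f : Set (IrrCharacter (Subgroup.centralizer (Q : Set G)))}
    (h : SubpairLE p M Q f P e) {B : Set (IrrCharacter G)} (hB : IsPBlock M B) :
    IsBrauerPairOf p M B P e ↔ IsBrauerPairOf p M B Q f := by
  have key : ∀ a b : BrauerPairIdx G, Relation.ReflTransGen (NormalSubpairRel p M) a b →
      (IsBrauerPairOf p M B b.1 b.2 ↔ IsBrauerPairOf p M B a.1 a.2) := by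
    intro a b hab
    induction hab with
    | refl => exact Iff.rfl
    | tail _ hbc ih =>
      exact (isBrauerPairOf_iff_of_isNormalSubpair hM hbc hB).trans ih
  exact key ⟨Q, f⟩ ⟨P, e⟩ h

end

end Cfsg.Agent.Lib.Helper4
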