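import Mathlib
import Cfsg.Prelude.Def_Blocks
import Cfsg.Agent.Lib.Helper28.LocalIdeal
import Cfsg.Agent.Lib.Helper28.LocalRingB
import Cfsg.Agent.Lib.Helper4.BrauerHom

set_option autoImplicit false

/-! Elements of the local ideal are nilpotent modulo `p` (helper4). -/

namespace Cfsg.Agent.Lib.Helper4

open Cfsg Cfsg.Agent.Lib.Helper28

variable {M : Ideal AlgInt}

/-- an integer not divisible by `p` is not in `M` -/
theorem intCast_not_mem {p : ℕ} (hM : IsPModular p M) {c : ℤ} (hc : ¬ (p : ℤ) ∣ c) :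
    (c : AlgInt) ∉ M := by
  obtain ⟨hp, hmax, hpM⟩ := hM
  intro h
  have hcop : IsCoprime (p : ℤ) c :=
    (Prime.coprime_iff_not_dvd (Nat.prime_iff_prime_int.mp hp)).mpr hc
  obtain ⟨u, v, huv⟩ := hcop
  have h2 : (1 : AlgInt) ∈ M := by
    have h3 : ((u : AlgInt) * (p : AlgInt) + (v : AlgInt) * (c : AlgInt)) = 1 := by
      have := congrArg (Int.cast : ℤ → AlgInt) huv
      push_cast at this
      exact this
    rw [← h3]
    exact M.add_mem (M.mul_mem_left _ hpM) (M.mul_mem_left _ h)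
  exact hmax.ne_top ((Ideal.eq_top_iff_one M).mpr h2)

/-- for `a ∈ M` some power of `a` is, up to a unit of the local ring, a multiple of `p` -/
theorem exists_pow_mul_eq {p : ℕ} (hM : IsPModular p M) {a : AlgInt} (ha : a ∈ M) :
    ∃ (k : ℕ) (r s : AlgInt), s ∉ M ∧ s * a ^ k = (p : AlgInt) * r := by
  have hp : p.Prime := hM.1
  have hint : IsIntegral ℤ a := Algebra.IsIntegral.isIntegral a
  obtain ⟨f, hfm, hfa⟩ := hint
  set d := f.natDegree with hd
  have hex : ∃ j, ¬ (p : ℤ) ∣ f.coeff j := by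
    refine ⟨d, ?_⟩
    have : f.coeff d = 1 := hfm.coeff_natDegree
    rw [this]
    intro h
    have := Int.natAbs_dvd_natAbs.mpr h
    simp at this
    exact hp.one_lt.ne' this
  classical
  set j := Nat.find hex with hj
  have hjn : ¬ (p : ℤ) ∣ f.coeff j := Nat.find_spec hex
  have hlt : ∀ i < j, (p : ℤ) ∣ f.coeff i := fun i hi => by
    by_contra h
    exact Nat.find_min hex hi h
  have hjd : j ≤ d := by
    apply Nat.find_min' hex
    have : f.coeff d = 1 := hfm.coeff_natDegree
    rw [this]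
    intro h
    have := Int.natAbs_dvd_natAbs.mpr h
    simp at this
    exact hp.one_lt.ne' this
  rw [Polynomial.eval₂_eq_sum_range] at hfa
  rw [← Finset.sum_range_add_sum_Ico _ (show j ≤ d + 1 by omega)] at hfa
  set r0 : AlgInt := ∑ i ∈ Finset.range j, ((f.coeff i / (p : ℤ) : ℤ) : AlgInt) * a ^ i with hr0
  set s : AlgInt := ∑ i ∈ Finset.Ico j (d + 1), ((f.coeff i : ℤ) : AlgInt) * a ^ (i - j) with hs
  have h1 : ∑ i ∈ Finset.range j, (algebraMap ℤ AlgInt) (f.coeff i) * a ^ i = (p : AlgInt) * r0 := by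
    rw [hr0, Finset.mul_sum]
    refine Finset.sum_congr rfl fun i hi => ?_
    have hi' : i < j := Finset.mem_range.mp hi
    have hdiv := hlt i hi'
    have : f.coeff i = (p : ℤ) * (f.coeff i / (p : ℤ)) := (Int.mul_ediv_cancel' hdiv).symm
    rw [← mul_assoc]
    congr 1
    rw [eq_intCast]
    conv_lhs => rw [this]
    push_cast
    rfl
  have h2 : ∑ i ∈ Finset.Ico j (d + 1), (algebraMap ℤ AlgInt) (f.coeff i) * a ^ i = s * a ^ j := by
    rw [hs, Finset.sum_mul]
    refine Finset.sum_congr rfl fun i hi => ?_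
    have hi' : j ≤ i := (Finset.mem_Ico.mp hi).1
    rw [eq_intCast, mul_assoc, ← pow_add, Nat.sub_add_cancel hi']
  rw [h1, h2] at hfa
  refine ⟨j, -r0, s, ?_, ?_⟩
  · intro hsM
    have hsplit : s = ((f.coeff j : ℤ) : AlgInt) +
        ∑ i ∈ Finset.Ico (j + 1) (d + 1), ((f.coeff i : ℤ) : AlgInt) * a ^ (i - j) := by
      rw [hs, Finset.sum_eq_sum_Ico_succ_bot (show j < d + 1 by omega)]
      simp
    have htail : ∑ i ∈ Finset.Ico (j + 1) (d + 1), ((f.coeff i : ℤ) : AlgInt) * a ^ (i - j) ∈ M := by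
      apply Ideal.sum_mem
      intro i hi
      have hi' : j + 1 ≤ i := (Finset.mem_Ico.mp hi).1
      apply M.mul_mem_left
      exact Ideal.pow_mem_of_mem M ha _ (by omega)
    have hc : ((f.coeff j : ℤ) : AlgInt) ∈ M := by
      have : ((f.coeff j : ℤ) : AlgInt) = s -
          ∑ i ∈ Finset.Ico (j + 1) (d + 1), ((f.coeff i : ℤ) : AlgInt) * a ^ (i - j) := by
        rw [hsplit]; ring
      rw [this]
      exact M.sub_mem hsM htail
    exact intCast_not_mem hM hjn hc
  · have : s * a ^ j = -((p : AlgInt) * r0) := by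
      rw [eq_neg_iff_add_eq_zero, add_comm]
      exact hfa
    rw [this]
    ring

/-- **elements of the local ideal are nilpotent modulo `p`** -/
theorem exists_pow_memPLocal {p : ℕ} (hM : IsPModular p M) {t : ℂ} (ht : MemLocalIdeal M t) :
    ∃ k, MemPLocal M p (t ^ k) := by
  have hMprime : M.IsPrime := hM.2.1.isPrime
  obtain ⟨a, b, ha, hb, rfl⟩ := ht
  obtain ⟨k, r, s, hs, h⟩ := exists_pow_mul_eq hM ha
  have hbk : b ^ k ∉ M := fun h => hb (Ideal.IsPrime.mem_of_pow_mem hMprime k h)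
  have hsb : s * b ^ k ∉ M := fun h => (Ideal.IsPrime.mem_or_mem hMprime h).elim hs hbk
  refine ⟨k, (r : ℂ) / ((s * b ^ k : AlgInt) : ℂ), ⟨r, s * b ^ k, hsb, rfl⟩, ?_⟩
  have hb0 := algInt_coe_ne_zero_of_not_mem hb
  have hs0 := algInt_coe_ne_zero_of_not_mem hs
  have h' : (s : ℂ) * (a : ℂ) ^ k = (p : ℂ) * (r : ℂ) := by
    have := congrArg (fun x : AlgInt => (x : ℂ)) h
    simpa using this
  push_cast
  rw [div_pow]
  field_simp
  linear_combination h'

/-- a uniform exponent -/
theorem exists_pow_memPLocal_finset [M.IsPrime] {p : ℕ} (hM : IsPModular p M) {ι : Type*}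
    (s : Finset ι) (t : ι → ℂ) (ht : ∀ i ∈ s, MemLocalIdeal M (t i)) :
    ∃ k, ∀ i ∈ s, MemPLocal M p (t i ^ k) := by
  classical
  induction s using Finset.induction_on with
  | empty => exact ⟨0, fun i hi => absurd hi (Finset.notMem_empty i)⟩
  | insert a s has ih =>
    obtain ⟨k1, hk1⟩ := ih (fun i hi => ht i (Finset.mem_insert_of_mem hi))
    obtain ⟨k2, hk2⟩ := exists_pow_memPLocal hM (ht a (Finset.mem_insert_self a s))
    refine ⟨k1 + k2, fun i hi => ?_⟩
    rw [Finset.mem_insert] at hi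
    rcases hi with rfl | hi
    · rw [pow_add, mul_comm]
      exact memPLocal_mul_right hk2
        (memLocalRing_pow (memLocalRing_of_memLocalIdeal (ht i (Finset.mem_insert_self i s))) _)
    · rw [pow_add]
      exact memPLocal_mul_right (hk1 i hi)
        (memLocalRing_pow (memLocalRing_of_memLocalIdeal (ht i (Finset.mem_insert_of_mem hi))) _)

end Cfsg.Agent.Lib.Helper4
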