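import Mathlib
import Cfsg.Agent.Lib.Helper4.LocalPow
import Cfsg.Agent.Lib.Helper4.BrauerIdem
import Cfsg.Agent.Lib.Helper4.BrauerHom
import Cfsg.Agent.Lib.Helper28.BlockPReg

set_option autoImplicit false

/-!
# Nilpotency of the radical of the centre of the group algebra, and the min-max lemma (helper4)

* `exists_cp_memPLocal` : a class function with values in the local ring all of whose central
  character values lie in the local ideal has a convolution power with values in `pR`.
* `exists_conv_approx` : if `ω_χ(v) ∉ J` for `χ ∈ B` then `e_B ≡ v * y (mod pR)` for some `y`.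
* `minmax` : if moreover `a_B(h) ∉ J` and `S` is a `p`-subgroup centralizing `h` then
  `v(k) ∉ J` for some `k ∈ C_G(S)`.
-/

namespace Cfsg.Agent.Lib.Helper4

open Cfsg Cfsg.Agent.Lib.Helper28
open scoped ComplexConjugate Classical

section

variable {G : Type*} [Group G] [Fintype G] {M : Ideal AlgInt}

/-- a class function with coefficients in the local ideal has central character values in the
local ideal -/
theorem omegaF_memLocalIdeal_of_coeff [M.IsPrime] {χ : G → ℂ} (hχ : IsIrrCharacter G χ)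
    (ρ : G → ℂ) (hρ : IsClassFunction G ρ) (hρJ : ∀ g, MemLocalIdeal M (ρ g)) :
    MemLocalIdeal M (omegaF χ ρ) := by
  have : Fintype (ConjClasses G) := Fintype.ofFinite _
  rw [omegaF_eq_sum_classes (Cfsg.Agent.Lib.Helper4.isClassFunction_of_isIrrCharacter hχ) ρ hρ]
  apply memLocalIdeal_sum
  intro C _
  exact memLocalIdeal_mul_right (hρJ _)
    (memLocalRing_of_isIntegral (Ideal.IsPrime.ne_top ‹_›) (isIntegral_centralChar hχ _))

theorem cp_memLocalRing [M.IsPrime] {η : G → ℂ} (hR : ∀ x, MemLocalRing M (η x)) (n : ℕ) :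
    ∀ x, MemLocalRing M (cp η n x) := by
  induction n with
  | zero => exact hR
  | succ n ih => exact fun x => conv_memLocalRing hR ih x

/-- **nilpotency of the radical modulo `p`** -/
theorem exists_cp_memPLocal [M.IsPrime] {p : ℕ} [Fact p.Prime] (hM : IsPModular p M)
    (η : G → ℂ) (hcf : IsClassFunction G η) (hR : ∀ x, MemLocalRing M (η x))
    (hω : ∀ φ : IrrCharacter G, MemLocalIdeal M (omegaF (φ : G → ℂ) η)) :
    ∃ n : ℕ, ∀ x, MemPLocal M p (cp η n x) := by
  have hMtop : M ≠ ⊤ := Ideal.IsPrime.ne_top inferInstance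
  have hp : p.Prime := Fact.out
  have : Fintype (IrrCharacter G) := Fintype.ofFinite _
  obtain ⟨k, hk⟩ := exists_pow_memPLocal_finset hM (Finset.univ : Finset (IrrCharacter G))
    (fun φ => omegaF (φ : G → ℂ) η) (fun φ _ => hω φ)
  have hk' : ∀ φ : IrrCharacter G, MemPLocal M p (omegaF (φ : G → ℂ) η ^ k) :=
    fun φ => hk φ (Finset.mem_univ φ)
  choose s hsR hs using hk'
  set a := (Nat.card G).factorization p with ha_def
  have hcard : Nat.card G ≠ 0 := Nat.card_pos.ne'
  obtain ⟨m, hm⟩ : p ^ a ∣ Nat.card G := Nat.ordProj_dvd _ _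
  have hmcop : m.Coprime p := by
    have h1 : m = Nat.card G / p ^ a := by
      rw [hm, Nat.mul_div_cancel_left _ (pow_pos hp.pos a)]
    rw [h1]
    exact (Nat.coprime_ordCompl hp hcard).symm
  have hminv := memLocalRing_inv_natCast hM hmcop
  have hm0 : (m : ℂ) ≠ 0 := by
    intro h
    have : m = 0 := by exact_mod_cast h
    rw [this, mul_zero] at hm
    exact hcard hm
  have hp0 : (p : ℂ) ≠ 0 := Nat.cast_ne_zero.mpr hp.ne_zero
  -- the exponent `k (a+1) + k (a+1)`, written as `(n+1)` with `n = k (a+1) + (k (a+1) ...)`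
  refine ⟨k * (a + 1) + k * (a + 1), fun x => ?_⟩
  rw [fourier_inversion (cp η _) (isClassFunction_cp hcf _) x]
  have hpow : ∀ φ : IrrCharacter G, omegaF (φ : G → ℂ) (cp η (k * (a + 1) + k * (a + 1))) =
      ((p : ℂ) * s φ) ^ (a + 1) * (omegaF (φ : G → ℂ) η) ^ (k * (a + 1) + 1) := by
    intro φ
    rw [omegaF_cp φ.2 hcf, ← hs φ, ← pow_mul, ← pow_add, add_assoc]
  simp only [hpow]
  have hcast : (Nat.card G : ℂ) = (p : ℂ) ^ a * m := by
    rw [hm]; push_cast; ring
  have e : (Nat.card G : ℂ)⁻¹ * ∑ φ : IrrCharacter G,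
      (((p : ℂ) * s φ) ^ (a + 1) * (omegaF (φ : G → ℂ) η) ^ (k * (a + 1) + 1)) *
        ((φ : G → ℂ) 1 * conj ((φ : G → ℂ) x)) =
      (p : ℂ) * ((m : ℂ)⁻¹ * ∑ φ : IrrCharacter G,
        ((s φ) ^ (a + 1) * (omegaF (φ : G → ℂ) η) ^ (k * (a + 1) + 1)) *
          ((φ : G → ℂ) 1 * conj ((φ : G → ℂ) x))) := by
    rw [hcast, Finset.mul_sum, Finset.mul_sum, Finset.mul_sum]
    refine Finset.sum_congr rfl fun φ _ => ?_
    rw [mul_pow, pow_succ]
    field_simp
  rw [e]
  apply memPLocal_p_mul
  apply memLocalRing_mul hminv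
  apply memLocalRing_sum
  intro φ _
  apply memLocalRing_mul
  · exact memLocalRing_mul (memLocalRing_pow (hsR φ) _)
      (memLocalRing_pow (omegaF_memLocalRing φ.2 η hcf hR) _)
  · apply memLocalRing_of_isIntegral hMtop
    exact (isIntegral_of_isIrrCharacter φ.2 1).mul
      (map_isIntegral_int (starRingEnd ℂ) (isIntegral_of_isIrrCharacter φ.2 x))

theorem omegaF_finset_sum {ι : Type*} (χ : G → ℂ) (s : Finset ι) (F : ι → G → ℂ) :
    omegaF χ (∑ i ∈ s, F i) = ∑ i ∈ s, omegaF χ (F i) := by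
  induction s using Finset.induction_on with
  | empty => simp [omegaF_zero]
  | insert a s has ih => rw [Finset.sum_insert has, Finset.sum_insert has, omegaF_add, ih]

theorem isClassFunction_finset_sum {ι : Type*} (s : Finset ι) (F : ι → G → ℂ)
    (h : ∀ i ∈ s, IsClassFunction G (F i)) : IsClassFunction G (∑ i ∈ s, F i) := by
  intro g k
  simp only [Finset.sum_apply]
  exact Finset.sum_congr rfl fun i hi => h i hi g k

/-- the powers `w^{*j}` of `w`, starting with `e_B` for `j = 0` -/
noncomputable def cpFrom (e w : G → ℂ) : ℕ → G → ℂ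
  | 0 => e
  | (j + 1) => cp w j

/-- **Lemma N**: if `ω_χ(v) ∉ J` for `χ ∈ B` then `e_B ≡ v * y` modulo `pR` for some central `y`
with local coefficients. -/
theorem exists_conv_approx [M.IsPrime] {p : ℕ} [Fact p.Prime] (hM : IsPModular p M)
    {B : Set (IrrCharacter G)} (hB : IsPBlock M B) {χ0 : IrrCharacter G} (hχ0 : χ0 ∈ B)
    (v : G → ℂ) (hv : IsClassFunction G v) (hvR : ∀ g, MemLocalRing M (v g))
    (hu : ¬ MemLocalIdeal M (omegaF (χ0 : G → ℂ) v)) :
    ∃ y : G → ℂ, IsClassFunction G y ∧ (∀ g, MemLocalRing M (y g)) ∧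
      ∀ g, MemPLocal M p (blockCoeff B g - conv v y g) := by
  have hMtop : M ≠ ⊤ := Ideal.IsPrime.ne_top inferInstance
  set u := omegaF (χ0 : G → ℂ) v with hu_def
  have huR : MemLocalRing M u := omegaF_memLocalRing χ0.2 v hv hvR
  have huinv : MemLocalRing M u⁻¹ := memLocalRing_inv huR hu
  have hu0 : u ≠ 0 := by
    intro h
    apply hu
    rw [h]
    exact memLocalIdeal_zero hMtop
  have hBcf : IsClassFunction G (blockCoeff B) := isClassFunction_blockCoeff B
  have hBR : ∀ g, MemLocalRing M (blockCoeff B g) := fun g => osima hB g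
  set y1 : G → ℂ := u⁻¹ • blockCoeff B with hy1
  have hy1cf : IsClassFunction G y1 := isClassFunction_smul _ hBcf
  have hy1R : ∀ g, MemLocalRing M (y1 g) := fun g => memLocalRing_mul huinv (hBR g)
  set w : G → ℂ := blockCoeff B - conv v y1 with hw
  have hwcf : IsClassFunction G w := isClassFunction_sub hBcf (isClassFunction_conv hv hy1cf)
  have hwR : ∀ g, MemLocalRing M (w g) := fun g =>
    memLocalRing_sub (hBR g) (conv_memLocalRing hvR hy1R g)
  have hωw : ∀ φ : IrrCharacter G, omegaF (φ : G → ℂ) w =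
      if φ ∈ B then 1 - omegaF (φ : G → ℂ) v * u⁻¹ else 0 := by
    intro φ
    rw [hw, omegaF_sub, omegaF_conv φ.2 _ _ hv hy1cf, hy1, omegaF_smul, omegaF_blockCoeff]
    split_ifs <;> ring
  have hωJ : ∀ φ : IrrCharacter G, MemLocalIdeal M (omegaF (φ : G → ℂ) w) := by
    intro φ
    rw [hωw φ]
    split_ifs with hφ
    · have hsb : SameBlock M (χ0 : G → ℂ) (φ : G → ℂ) := (mem_block_iff hB hχ0 φ).mp hφ
      have h1 := omegaF_sub_memLocalIdeal
        (Cfsg.Agent.Lib.Helper4.isClassFunction_of_isIrrCharacter χ0.2)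
        (Cfsg.Agent.Lib.Helper4.isClassFunction_of_isIrrCharacter φ.2) hsb v hv hvR
      have e : 1 - omegaF (φ : G → ℂ) v * u⁻¹ = (u - omegaF (φ : G → ℂ) v) * u⁻¹ := by
        field_simp
      rw [e]
      exact memLocalIdeal_mul_right h1 huinv
    · exact memLocalIdeal_zero hMtop
  obtain ⟨n, hn⟩ := exists_cp_memPLocal hM w hwcf hwR hωJ
  -- the function `y`
  set W := cpFrom (blockCoeff B) w with hW
  have hWcf : ∀ j, IsClassFunction G (W j) := by
    intro j
    cases j with
    | zero => exact hBcf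
    | succ j => exact isClassFunction_cp hwcf j
  have hWR : ∀ j, ∀ g, MemLocalRing M (W j g) := by
    intro j
    cases j with
    | zero => exact hBR
    | succ j => exact cp_memLocalRing hwR j
  have hωW : ∀ (φ : IrrCharacter G) (j : ℕ), omegaF (φ : G → ℂ) (W j) =
      if φ ∈ B then (omegaF (φ : G → ℂ) w) ^ j else 0 := by
    intro φ j
    cases j with
    | zero =>
      show omegaF (φ : G → ℂ) (blockCoeff B) = _
      rw [omegaF_blockCoeff, pow_zero]
    | succ j =>
      show omegaF (φ : G → ℂ) (cp w j) = _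
      rw [omegaF_cp φ.2 hwcf]
      split_ifs with hφ
      · rfl
      · rw [hωw φ, if_neg hφ, zero_pow (Nat.succ_ne_zero j)]
  set y : G → ℂ := u⁻¹ • ∑ j ∈ Finset.range (n + 1), W j with hy
  have hsumcf : IsClassFunction G (∑ j ∈ Finset.range (n + 1), W j) :=
    isClassFunction_finset_sum _ _ (fun j _ => hWcf j)
  have hycf : IsClassFunction G y := isClassFunction_smul _ hsumcf
  have hyR : ∀ g, MemLocalRing M (y g) := by
    intro g
    show MemLocalRing M (u⁻¹ * (∑ j ∈ Finset.range (n + 1), W j) g)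
    rw [Finset.sum_apply]
    exact memLocalRing_mul huinv (memLocalRing_sum _ _ (fun j _ => hWR j g))
  refine ⟨y, hycf, hyR, ?_⟩
  have hkey : conv v y = blockCoeff B - cp w n := by
    apply eq_of_omegaF_eq _ _ (isClassFunction_conv hv hycf)
      (isClassFunction_sub hBcf (isClassFunction_cp hwcf n))
    intro φ
    rw [omegaF_conv φ.2 _ _ hv hycf, hy, omegaF_smul, omegaF_finset_sum, omegaF_sub,
      omegaF_blockCoeff, omegaF_cp φ.2 hwcf]
    simp only [hωW φ]
    by_cases hφ : φ ∈ B
    · simp only [if_pos hφ]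
      set t := omegaF (φ : G → ℂ) w with ht
      have ht' : omegaF (φ : G → ℂ) v * u⁻¹ = 1 - t := by
        rw [ht, hωw φ, if_pos hφ]; ring
      have hgeom := mul_neg_geom_sum t (n + 1)
      calc omegaF (φ : G → ℂ) v * (u⁻¹ * ∑ j ∈ Finset.range (n + 1), t ^ j)
          = (omegaF (φ : G → ℂ) v * u⁻¹) * ∑ j ∈ Finset.range (n + 1), t ^ j := by ring
        _ = (1 - t) * ∑ j ∈ Finset.range (n + 1), t ^ j := by rw [ht']
        _ = 1 - t ^ (n + 1) := hgeom
    · simp only [if_neg hφ]
      rw [hωw φ, if_neg hφ, zero_pow (Nat.succ_ne_zero n)]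
      simp
  intro g
  rw [hkey]
  show MemPLocal M p (blockCoeff B g - (blockCoeff B g - cp w n g))
  rw [sub_sub_cancel]
  exact hn g

/-- **the min-max lemma**: `v` central with local coefficients and `ω_B(v) ∉ J`, `a_B(h) ∉ J`, and
`S` a `p`-subgroup centralizing `h`.  Then `v(k) ∉ J` for some `k ∈ C_G(S)`. -/
theorem minmax [M.IsPrime] {p : ℕ} [Fact p.Prime] (hM : IsPModular p M)
    {B : Set (IrrCharacter G)} (hB : IsPBlock M B) {χ0 : IrrCharacter G} (hχ0 : χ0 ∈ B)
    (v : G → ℂ) (hv : IsClassFunction G v) (hvR : ∀ g, MemLocalRing M (v g))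
    (hu : ¬ MemLocalIdeal M (omegaF (χ0 : G → ℂ) v))
    (h : G) (hh : ¬ MemLocalIdeal M (blockCoeff B h))
    (S : Subgroup G) (hS : IsPGroup p S) (hhS : h ∈ Subgroup.centralizer (S : Set G)) :
    ∃ k ∈ Subgroup.centralizer (S : Set G), ¬ MemLocalIdeal M (v k) := by
  have hMtop : M ≠ ⊤ := Ideal.IsPrime.ne_top inferInstance
  obtain ⟨y, hycf, hyR, hy⟩ := exists_conv_approx hM hB hχ0 v hv hvR hu
  have h1 := conv_sub_memPLocal S hS v y (invUnder_of_isClassFunction hv S)
    (invUnder_of_isClassFunction hycf S) hvR hyR h hhS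
  by_contra hcon
  push Not at hcon
  apply hh
  have h2 : MemLocalIdeal M (∑ c : Subgroup.centralizer (S : Set G), v c * y ((c : G)⁻¹ * h)) := by
    apply memLocalIdeal_sum
    intro c _
    exact memLocalIdeal_mul_right (hcon c c.2) (hyR _)
  have h3 : MemLocalIdeal M (conv v y h) := by
    have := memLocalIdeal_add (h1.memLocalIdeal hM) h2
    rwa [sub_add_cancel] at this
  have := memLocalIdeal_add ((hy h).memLocalIdeal hM) h3
  rwa [sub_add_cancel] at this

end

end Cfsg.Agent.Lib.Helper4
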