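import Mathlib
import Cfsg.Agent.Lib.Helper4.BrauerNil
import Cfsg.Agent.Lib.Helper4.BrauerChain

set_option autoImplicit false

/-!
# The central character of a block through a Brauer pair (helper4)

`brauerOmega_sub_omegaF_memLocalIdeal` : if `(P, e)` is a Brauer pair of `B` then
`ω_ξ(Br_P(w)) ≡ ω_χ(w)` modulo the local ideal for `ξ ∈ e`, `χ ∈ B` and every central `w` with
local coefficients.
-/

namespace Cfsg.Agent.Lib.Helper4

open Cfsg Cfsg.Agent.Lib.Helper28
open scoped ComplexConjugate Classical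

section

variable {G : Type*} [Group G] [Fintype G] {M : Ideal AlgInt}

theorem not_memLocalIdeal_pow [M.IsPrime] {z : ℂ} (hz : MemLocalRing M z)
    (h : ¬ MemLocalIdeal M z) (n : ℕ) : ¬ MemLocalIdeal M (z ^ n) := by
  have hMtop : M ≠ ⊤ := Ideal.IsPrime.ne_top inferInstance
  induction n with
  | zero => rw [pow_zero]; exact not_memLocalIdeal_one hMtop
  | succ n ih =>
    rw [pow_succ]
    exact not_memLocalIdeal_mul (memLocalRing_pow hz n) hz ih h

theorem brauerOmega_sub' (P : Subgroup G) (β γ : G → ℂ)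
    (ξ : Subgroup.centralizer (P : Set G) → ℂ) :
    brauerOmega P (β - γ) ξ = brauerOmega P β ξ - brauerOmega P γ ξ := by
  rw [brauerOmega_eq_omegaF, brauerOmega_eq_omegaF, brauerOmega_eq_omegaF, ← omegaF_sub]
  rfl

theorem brauerOmega_smul' (P : Subgroup G) (c : ℂ) (β : G → ℂ)
    (ξ : Subgroup.centralizer (P : Set G) → ℂ) :
    brauerOmega P (c • β) ξ = c * brauerOmega P β ξ := by
  rw [brauerOmega_eq_omegaF, brauerOmega_eq_omegaF, ← omegaF_smul]
  rfl

/-- coefficients in the local ideal give a Brauer value in the local ideal -/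
theorem brauerOmega_memLocalIdeal_of_coeff [M.IsPrime] (P : Subgroup G) (β : G → ℂ)
    (hβC : InvUnder (Subgroup.centralizer (P : Set G)) β)
    (hβJ : ∀ g ∈ Subgroup.centralizer (P : Set G), MemLocalIdeal M (β g))
    {ξ : Subgroup.centralizer (P : Set G) → ℂ}
    (hξ : IsIrrCharacter (Subgroup.centralizer (P : Set G)) ξ) :
    MemLocalIdeal M (brauerOmega P β ξ) := by
  rw [brauerOmega_eq_omegaF]
  exact omegaF_memLocalIdeal_of_coeff hξ _ (isClassFunction_resTo hβC) (fun g => hβJ _ g.2)

/-- `ω_ξ ∘ Br_P` of convolution powers -/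
theorem brauerOmega_cp [M.IsPrime] {p : ℕ} [Fact p.Prime] (hM : IsPModular p M)
    (P : Subgroup G) (hP : IsPGroup p P) (η : G → ℂ) (hcf : IsClassFunction G η)
    (hR : ∀ g, MemLocalRing M (η g))
    {ξ : Subgroup.centralizer (P : Set G) → ℂ}
    (hξ : IsIrrCharacter (Subgroup.centralizer (P : Set G)) ξ) (n : ℕ) :
    MemLocalIdeal M (brauerOmega P (cp η n) ξ - (brauerOmega P η ξ) ^ (n + 1)) := by
  have hMtop : M ≠ ⊤ := Ideal.IsPrime.ne_top inferInstance
  induction n with
  | zero =>
    show MemLocalIdeal M (brauerOmega P η ξ - (brauerOmega P η ξ) ^ (0 + 1))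
    rw [zero_add, pow_one, sub_self]
    exact memLocalIdeal_zero hMtop
  | succ n ih =>
    have hcpcf := isClassFunction_cp hcf n
    have hcpR := cp_memLocalRing hR n
    have h1 := brauerOmega_conv P hM hP η (cp η n) (invUnder_of_isClassFunction hcf _)
      (invUnder_of_isClassFunction hcpcf _) (invUnder_of_isClassFunction hcf _)
      (invUnder_of_isClassFunction hcpcf _) hR hcpR hξ
    have hΛ : MemLocalRing M (brauerOmega P η ξ) :=
      brauerOmega_memLocalRing P η (invUnder_of_isClassFunction hcf _) hR hξ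
    have h2 := memLocalIdeal_mul_left hΛ ih
    have := memLocalIdeal_add h1 h2
    have e : brauerOmega P (conv η (cp η n)) ξ - brauerOmega P η ξ * brauerOmega P (cp η n) ξ +
        brauerOmega P η ξ * (brauerOmega P (cp η n) ξ - brauerOmega P η ξ ^ (n + 1)) =
        brauerOmega P (cp η (n + 1)) ξ - brauerOmega P η ξ ^ (n + 1 + 1) := by
      show _ = brauerOmega P (conv η (cp η n)) ξ - _
      ring
    rwa [e] at this

/-- **the central character of `B` factors through the Brauer map at a Brauer pair of `B`** -/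
theorem brauerOmega_sub_omegaF_memLocalIdeal {p : ℕ} [Fact p.Prime] (hM : IsPModular p M)
    {P : Subgroup G} {e : Set (IrrCharacter (Subgroup.centralizer (P : Set G)))}
    {B : Set (IrrCharacter G)} (hBe : IsBrauerPairOf p M B P e)
    {χ0 : IrrCharacter G} (hχ0 : χ0 ∈ B)
    {ξ : IrrCharacter (Subgroup.centralizer (P : Set G))} (hξ : ξ ∈ e)
    (w : G → ℂ) (hw : IsClassFunction G w) (hwR : ∀ g, MemLocalRing M (w g)) :
    MemLocalIdeal M (brauerOmega P w (ξ : Subgroup.centralizer (P : Set G) → ℂ) -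
      omegaF (χ0 : G → ℂ) w) := by
  have hMprime : M.IsPrime := hM.2.1.isPrime
  have hMtop : M ≠ ⊤ := Ideal.IsPrime.ne_top hMprime
  obtain ⟨⟨hP, he⟩, hB, hone⟩ := hBe
  set c := omegaF (χ0 : G → ℂ) w with hc
  have hcR : MemLocalRing M c := omegaF_memLocalRing χ0.2 w hw hwR
  have hδcf : IsClassFunction G (deltaF (1 : G)) := isClassFunction_deltaF_one
  set w1 : G → ℂ := w - c • deltaF (1 : G) with hw1
  have hw1cf : IsClassFunction G w1 := isClassFunction_sub hw (isClassFunction_smul _ hδcf)
  have hδR : ∀ g, MemLocalRing M (deltaF (1 : G) g) := by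
    intro g
    unfold deltaF
    split_ifs
    · exact memLocalRing_one hMtop
    · exact memLocalRing_zero hMtop
  have hw1R : ∀ g, MemLocalRing M (w1 g) := fun g =>
    memLocalRing_sub (hwR g) (memLocalRing_mul hcR (hδR g))
  have hBcf : IsClassFunction G (blockCoeff B) := isClassFunction_blockCoeff B
  have hBR : ∀ g, MemLocalRing M (blockCoeff B g) := fun g => osima hB g
  set w' : G → ℂ := conv w1 (blockCoeff B) with hw'
  have hw'cf : IsClassFunction G w' := isClassFunction_conv hw1cf hBcf
  have hw'R : ∀ g, MemLocalRing M (w' g) := fun g => conv_memLocalRing hw1R hBR g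
  have hωJ : ∀ φ : IrrCharacter G, MemLocalIdeal M (omegaF (φ : G → ℂ) w') := by
    intro φ
    rw [hw', omegaF_conv φ.2 _ _ hw1cf hBcf, omegaF_blockCoeff]
    split_ifs with hφ
    · rw [mul_one, hw1, omegaF_sub, omegaF_smul, omegaF_deltaF_one (irr_one_ne_zero φ.2), mul_one]
      have hsb : SameBlock M (χ0 : G → ℂ) (φ : G → ℂ) := (mem_block_iff hB hχ0 φ).mp hφ
      have h1 := omegaF_sub_memLocalIdeal
        (Cfsg.Agent.Lib.Helper4.isClassFunction_of_isIrrCharacter χ0.2)
        (Cfsg.Agent.Lib.Helper4.isClassFunction_of_isIrrCharacter φ.2) hsb w hw hwR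
      have := memLocalIdeal_neg h1
      rwa [neg_sub] at this
    · rw [mul_zero]
      exact memLocalIdeal_zero hMtop
  obtain ⟨n, hn⟩ := exists_cp_memPLocal hM w' hw'cf hw'R hωJ
  -- `Λ(w')` lies in the local ideal
  have hΛw'R : MemLocalRing M (brauerOmega P w' (ξ : Subgroup.centralizer (P : Set G) → ℂ)) :=
    brauerOmega_memLocalRing P w' (invUnder_of_isClassFunction hw'cf _) hw'R ξ.2
  have hΛw' : MemLocalIdeal M (brauerOmega P w' (ξ : Subgroup.centralizer (P : Set G) → ℂ)) := by
    by_contra hcon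
    apply not_memLocalIdeal_pow hΛw'R hcon (n + 1)
    have h1 := brauerOmega_cp hM P hP w' hw'cf hw'R ξ.2 n
    have h2 : MemLocalIdeal M (brauerOmega P (cp w' n)
        (ξ : Subgroup.centralizer (P : Set G) → ℂ)) :=
      brauerOmega_memLocalIdeal_of_coeff P _
        (invUnder_of_isClassFunction (isClassFunction_cp hw'cf n) _)
        (fun g _ => (hn g).memLocalIdeal hM) ξ.2
    have := memLocalIdeal_sub h2 h1
    rwa [sub_sub_cancel] at this
  -- multiplicativity
  have hmul := brauerOmega_conv P hM hP w1 (blockCoeff B) (invUnder_of_isClassFunction hw1cf _)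
    (invUnder_of_isClassFunction hBcf _) (invUnder_of_isClassFunction hw1cf _)
    (invUnder_of_isClassFunction hBcf _) hw1R hBR ξ.2
  have hΛw1R : MemLocalRing M (brauerOmega P w1 (ξ : Subgroup.centralizer (P : Set G) → ℂ)) :=
    brauerOmega_memLocalRing P w1 (invUnder_of_isClassFunction hw1cf _) hw1R ξ.2
  have h1 : MemLocalIdeal M (brauerOmega P w1 (ξ : Subgroup.centralizer (P : Set G) → ℂ) *
      brauerOmega P (blockCoeff B) (ξ : Subgroup.centralizer (P : Set G) → ℂ)) := by
    have := memLocalIdeal_sub hΛw' hmul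
    rwa [sub_sub_cancel] at this
  have h2 : MemLocalIdeal M (brauerOmega P w1 (ξ : Subgroup.centralizer (P : Set G) → ℂ) *
      (brauerOmega P (blockCoeff B) (ξ : Subgroup.centralizer (P : Set G) → ℂ) - 1)) :=
    memLocalIdeal_mul_left hΛw1R (hone ξ hξ)
  have h3 : MemLocalIdeal M (brauerOmega P w1 (ξ : Subgroup.centralizer (P : Set G) → ℂ)) := by
    have := memLocalIdeal_sub h1 h2
    have e : brauerOmega P w1 (ξ : Subgroup.centralizer (P : Set G) → ℂ) *
        brauerOmega P (blockCoeff B) (ξ : Subgroup.centralizer (P : Set G) → ℂ) -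
        brauerOmega P w1 (ξ : Subgroup.centralizer (P : Set G) → ℂ) *
        (brauerOmega P (blockCoeff B) (ξ : Subgroup.centralizer (P : Set G) → ℂ) - 1) =
        brauerOmega P w1 (ξ : Subgroup.centralizer (P : Set G) → ℂ) := by ring
    rwa [e] at this
  rw [hw1, brauerOmega_sub', brauerOmega_smul',
    brauerOmega_deltaF_one P (irr_one_ne_zero ξ.2), mul_one] at h3
  exact h3

end

end Cfsg.Agent.Lib.Helper4
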