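import Mathlib
import Cfsg.Agent.Lib.Helper4.BrauerSub
import Cfsg.Agent.Lib.Helper4.BlockCentralizer

set_option autoImplicit false

/-!
# Idempotent class functions are sums of block idempotents; restriction lemmas (helper4)
-/

namespace Cfsg.Agent.Lib.Helper4

open Cfsg Cfsg.Agent.Lib.Helper28
open scoped ComplexConjugate Classical

section Idem

variable {H : Type*} [Group H] [Fintype H] {M : Ideal AlgInt}

/-- the set of irreducible characters on which an idempotent class function takes the value `1` -/
def idemSupport (F : H → ℂ) : Set (IrrCharacter H) := {ψ | omegaF (ψ : H → ℂ) F = 1}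

theorem omegaF_idem {F : H → ℂ} (hcf : IsClassFunction H F) (hidem : conv F F = F)
    (ψ : IrrCharacter H) : omegaF (ψ : H → ℂ) F = 0 ∨ omegaF (ψ : H → ℂ) F = 1 := by
  have h := omegaF_conv ψ.2 F F hcf hcf
  rw [hidem] at h
  have h2 : omegaF (ψ : H → ℂ) F * (omegaF (ψ : H → ℂ) F - 1) = 0 := by
    rw [mul_sub, mul_one, ← h, sub_self]
  rcases mul_eq_zero.mp h2 with h3 | h3
  · exact Or.inl h3
  · exact Or.inr (sub_eq_zero.mp h3)

/-- an idempotent class function is the idempotent of a set of irreducible characters -/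
theorem eq_blockCoeff_of_idem {F : H → ℂ} (hcf : IsClassFunction H F) (hidem : conv F F = F) :
    F = blockCoeff (idemSupport F) := by
  apply eq_of_omegaF_eq _ _ hcf (isClassFunction_blockCoeff _)
  intro ψ
  rw [omegaF_blockCoeff]
  by_cases hψ : ψ ∈ idemSupport F
  · rw [if_pos hψ]
    exact hψ
  · rw [if_neg hψ]
    rcases omegaF_idem hcf hidem ψ with h | h
    · exact h
    · exact absurd h hψ

theorem idemSupport_closed [M.IsPrime] {F : H → ℂ} (hcf : IsClassFunction H F)
    (hidem : conv F F = F) (hR : ∀ x, MemLocalRing M (F x)) :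
    ∀ φ ∈ idemSupport F, ∀ φ' : IrrCharacter H,
      SameBlock M (φ : H → ℂ) (φ' : H → ℂ) → φ' ∈ idemSupport F := by
  have hMtop : M ≠ ⊤ := Ideal.IsPrime.ne_top inferInstance
  intro φ hφ φ' hsb
  have h1 := omegaF_sub_memLocalIdeal
    (Cfsg.Agent.Lib.Helper4.isClassFunction_of_isIrrCharacter φ.2)
    (Cfsg.Agent.Lib.Helper4.isClassFunction_of_isIrrCharacter φ'.2) hsb F hcf hR
  rcases omegaF_idem hcf hidem φ' with h | h
  · exfalso
    have hφ1 : omegaF (φ : H → ℂ) F = 1 := hφ
    rw [hφ1, h, sub_zero] at h1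
    exact not_memLocalIdeal_one hMtop h1
  · exact h

theorem blockCoeff_injective {S S' : Set (IrrCharacter H)} (h : blockCoeff S = blockCoeff S') :
    S = S' := by
  ext ψ
  have h1 := omegaF_blockCoeff S ψ
  have h2 := omegaF_blockCoeff S' ψ
  rw [h] at h1
  rw [h1] at h2
  by_cases hS : ψ ∈ S <;> by_cases hS' : ψ ∈ S' <;> simp [hS, hS'] at h2 ⊢

theorem idemSupport_blockCoeff (S : Set (IrrCharacter H)) : idemSupport (blockCoeff S) = S := by
  ext ψ
  show omegaF (ψ : H → ℂ) (blockCoeff S) = 1 ↔ ψ ∈ S
  rw [omegaF_blockCoeff]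
  by_cases hS : ψ ∈ S <;> simp [hS]

/-- a nonempty union of blocks contained in a block is the whole block -/
theorem eq_block_of_closed_subset [M.IsPrime] {B S : Set (IrrCharacter H)} (hB : IsPBlock M B)
    (hS : ∀ φ ∈ S, ∀ φ' : IrrCharacter H, SameBlock M (φ : H → ℂ) (φ' : H → ℂ) → φ' ∈ S)
    (hne : S.Nonempty) (hsub : S ⊆ B) : S = B := by
  obtain ⟨ψ, hψ⟩ := hne
  apply Set.Subset.antisymm hsub
  intro φ hφ
  exact hS ψ hψ φ ((mem_block_iff hB (hsub hψ) φ).mp hφ)

theorem subset_of_conv_blockCoeff {S S' : Set (IrrCharacter H)}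
    (h : conv (blockCoeff S) (blockCoeff S') = blockCoeff S) : S ⊆ S' := by
  rw [conv_blockCoeff_inter] at h
  have := blockCoeff_injective h
  intro ψ hψ
  rw [← this] at hψ
  exact hψ.2

end Idem

section Restrict

variable {G : Type*} [Group G] [Fintype G]

theorem sum_subgroup_of_vanish (K : Subgroup G) (Φ : G → ℂ) (h : ∀ g, g ∉ K → Φ g = 0) :
    ∑ n : K, Φ n = ∑ g, Φ g := by
  rw [← Finset.sum_subtype (Finset.univ.filter (fun g : G => g ∈ K)) (by simp) Φ,
    Finset.sum_filter]
  refine Finset.sum_congr rfl fun g _ => ?_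
  by_cases hg : g ∈ K
  · rw [if_pos hg]
  · rw [if_neg hg, h g hg]

/-- convolution in a subgroup `T` of functions, the first of which vanishes off `T` -/
theorem conv_resTo_of_vanish (T : Subgroup G) (F F' : G → ℂ) (hF : ∀ g, g ∉ T → F g = 0) :
    conv (resTo T F) (resTo T F') = resTo T (conv F F') := by
  funext t
  show ∑ s : T, F s * F' ((s⁻¹ * t : T) : G) = ∑ g, F g * F' (g⁻¹ * t)
  rw [← sum_subgroup_of_vanish T (fun g => F g * F' (g⁻¹ * t))
    (fun g hg => by rw [hF g hg, zero_mul])]
  rfl

omit [Fintype G] in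
theorem resTo_extZero (K : Subgroup G) (a : K → ℂ) : resTo K (extZero K a) = a := by
  funext k
  exact extZero_mem' K a k

omit [Fintype G] in
theorem extZero_resTo (K : Subgroup G) (F : G → ℂ) (hF : ∀ g, g ∉ K → F g = 0) :
    extZero K (resTo K F) = F := by
  funext g
  by_cases hg : g ∈ K
  · exact extZero_mem' K (resTo K F) ⟨g, hg⟩
  · rw [extZero_not_mem' K _ hg, hF g hg]

end Restrict

section Trace

variable {G : Type*} [Group G] [Fintype G] {M : Ideal AlgInt}

theorem omegaF_conjIrr (K : Subgroup G) (x : G) (hx : x ∈ Subgroup.normalizer (K : Set G))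
    (θ : IrrCharacter K) (F : K → ℂ) :
    omegaF (conjIrr K x hx θ : K → ℂ) F = omegaF (θ : K → ℂ) (F ∘ conjK K x hx) := by
  unfold omegaF
  rw [conjIrr_apply, map_one]
  congr 1
  rw [← (conjK K x hx).toEquiv.sum_comp]
  refine Finset.sum_congr rfl fun c _ => ?_
  show F (conjK K x hx c) * (conjIrr K x hx θ : K → ℂ) (conjK K x hx c) = _
  rw [conjIrr_apply, MulEquiv.symm_apply_apply]
  rfl

theorem image_conjIrr_eq_iff [M.IsPrime] (K : Subgroup G) {e : Set (IrrCharacter K)}
    (he : IsPBlock M e) (y : G) (hy : y ∈ Subgroup.normalizer (K : Set G)) :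
    conjIrr K y hy '' e = e ↔ StabilizesBlock K e y := by
  rw [stabilizesBlock_iff]
  constructor
  · intro h
    refine ⟨hy, fun χ hχ => ?_⟩
    rw [← h]
    exact ⟨χ, hχ, rfl⟩
  · rintro ⟨_, h⟩
    obtain ⟨χ, hχ⟩ := block_nonempty he
    exact block_eq_of_mem (isPBlock_image_conjIrr K y hy he) he ⟨χ, hχ, rfl⟩ (h χ hχ)

omit [Fintype G] in
theorem normal_le_normalizer (C : Subgroup G) [hC : C.Normal] (x : G) :
    x ∈ Subgroup.normalizer (C : Set G) := by
  rw [Subgroup.mem_normalizer_iff]
  intro h
  constructor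
  · intro hh
    exact hC.conj_mem h hh x
  · intro hh
    have := hC.conj_mem _ hh x⁻¹
    have e : x⁻¹ * (x * h * x⁻¹) * x⁻¹⁻¹ = h := by group
    rwa [e] at this

/-- the number of conjugates `e^x` (counted over `x ∈ G`) containing a given character -/
theorem sum_mem_conj_block [M.IsPrime] (C : Subgroup G) [hC : C.Normal]
    {e : Set (IrrCharacter C)} (he : IsPBlock M e) (T : Subgroup G)
    (hT : ∀ x : G, x ∈ T ↔ StabilizesBlock C e x) (θ : IrrCharacter C) :
    ∑ x : G, (if θ ∈ conjIrr C x (normal_le_normalizer C x) '' e then (1 : ℂ) else 0) =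
      if (∃ x : G, θ ∈ conjIrr C x (normal_le_normalizer C x) '' e) then (Nat.card T : ℂ)
        else 0 := by
  by_cases hex : ∃ x : G, θ ∈ conjIrr C x (normal_le_normalizer C x) '' e
  · rw [if_pos hex]
    obtain ⟨x0, hx0⟩ := hex
    have hiff : ∀ x : G, θ ∈ conjIrr C x (normal_le_normalizer C x) '' e ↔ x0⁻¹ * x ∈ T := by
      intro x
      rw [hT, ← image_conjIrr_eq_iff C he _ (normal_le_normalizer C _)]
      have hmul : conjIrr C x (normal_le_normalizer C x) '' e =
          conjIrr C x0 (normal_le_normalizer C x0) ''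
            (conjIrr C (x0⁻¹ * x) (normal_le_normalizer C _) '' e) := by
        rw [Set.image_image]
        apply Set.image_congr
        intro χ _
        rw [← conjIrr_mul C x0 (x0⁻¹ * x) _ _ (normal_le_normalizer C _)]
        exact conjIrr_congr C (by group) _ _ χ
      constructor
      · intro hx
        have h1 := block_eq_of_mem (isPBlock_image_conjIrr C x _ he)
          (isPBlock_image_conjIrr C x0 _ he) hx hx0
        rw [hmul] at h1
        exact (conjIrr_injective C x0 _).image_injective h1
      · intro hx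
        rw [hmul, hx]
        exact hx0
    simp only [hiff]
    rw [← Equiv.sum_comp (Equiv.mulLeft x0) (fun y => if x0⁻¹ * y ∈ T then (1 : ℂ) else 0)]
    simp only [Equiv.coe_mulLeft, inv_mul_cancel_left]
    rw [Finset.sum_boole, Nat.card_eq_fintype_card, Fintype.card_subtype]
  · rw [if_neg hex]
    apply Finset.sum_eq_zero
    intro x _
    rw [if_neg]
    exact fun h => hex ⟨x, h⟩

end Trace

section Trace2

variable {G : Type*} [Group G] [Fintype G] {M : Ideal AlgInt}

/-- the union of the `G`-conjugates of a set of irreducible characters of a normal subgroup -/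
def conjUnion (C : Subgroup G) [C.Normal] (e : Set (IrrCharacter C)) : Set (IrrCharacter C) :=
  {θ | ∃ x : G, θ ∈ conjIrr C x (normal_le_normalizer C x) '' e}

omit [Fintype G] in
theorem subset_conjUnion (C : Subgroup G) [C.Normal] (e : Set (IrrCharacter C)) :
    e ⊆ conjUnion C e := by
  intro θ hθ
  exact ⟨1, θ, hθ, conjIrr_one C _ θ⟩

theorem conjUnion_closed [M.IsPrime] (C : Subgroup G) [C.Normal] {e : Set (IrrCharacter C)}
    (he : IsPBlock M e) : ∀ φ ∈ conjUnion C e, ∀ φ' : IrrCharacter C,
      SameBlock M (φ : C → ℂ) (φ' : C → ℂ) → φ' ∈ conjUnion C e := by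
  rintro φ ⟨x, hx⟩ φ' h
  exact ⟨x, blockOf_closed (isPBlock_image_conjIrr C x _ he) φ hx φ' h⟩

omit [Fintype G] in
theorem conjUnion_stable (C : Subgroup G) [C.Normal] (e : Set (IrrCharacter C)) (y : G) :
    StabilizesBlock C (conjUnion C e) y := by
  rw [stabilizesBlock_iff]
  refine ⟨normal_le_normalizer C y, ?_⟩
  rintro χ ⟨x, θ, hθ, rfl⟩
  refine ⟨y * x, θ, hθ, ?_⟩
  exact conjIrr_mul C y x _ _ _ θ

/-- the idempotent of the union of the conjugates of a block `e` of a normal subgroup is the
trace from the stabilizer of the idempotent of `e` -/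
theorem blockCoeff_conjUnion [M.IsPrime] (C : Subgroup G) [hC : C.Normal] [Fintype C]
    {e : Set (IrrCharacter C)} (he : IsPBlock M e) (T : Subgroup G)
    (hT : ∀ x : G, x ∈ T ↔ StabilizesBlock C e x) (c : C) :
    blockCoeff (conjUnion C e) c = (Nat.card T : ℂ)⁻¹ *
      ∑ x : G, blockCoeff (conjIrr C x (normal_le_normalizer C x) '' e) c := by
  have hT0 : (Nat.card T : ℂ) ≠ 0 := Nat.cast_ne_zero.mpr Nat.card_pos.ne'
  have key : blockCoeff (conjUnion C e) = fun c => (Nat.card T : ℂ)⁻¹ *
      ∑ x : G, blockCoeff (conjIrr C x (normal_le_normalizer C x) '' e) c := by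
    apply eq_of_omegaF_eq _ _ (isClassFunction_blockCoeff _)
    · intro c k
      show (Nat.card T : ℂ)⁻¹ * _ = (Nat.card T : ℂ)⁻¹ * _
      congr 1
      refine Finset.sum_congr rfl fun x _ => ?_
      exact isClassFunction_blockCoeff _ c k
    · intro θ
      rw [omegaF_blockCoeff]
      have h1 : omegaF (θ : C → ℂ) (fun c => (Nat.card T : ℂ)⁻¹ *
          ∑ x : G, blockCoeff (conjIrr C x (normal_le_normalizer C x) '' e) c) =
          (Nat.card T : ℂ)⁻¹ * ∑ x : G, omegaF (θ : C → ℂ)
            (blockCoeff (conjIrr C x (normal_le_normalizer C x) '' e)) := by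
        unfold omegaF
        rw [← Finset.sum_div, mul_div_assoc']
        congr 1
        rw [Finset.sum_comm, Finset.mul_sum]
        refine Finset.sum_congr rfl fun c _ => ?_
        beta_reduce
        rw [mul_assoc, Finset.sum_mul]
      rw [h1]
      simp only [omegaF_blockCoeff]
      rw [sum_mem_conj_block C he T hT θ]
      by_cases hθ : θ ∈ conjUnion C e
      · have hθ' : ∃ x : G, θ ∈ conjIrr C x (normal_le_normalizer C x) '' e := hθ
        rw [if_pos hθ, if_pos hθ', inv_mul_cancel₀ hT0]
      · have hθ' : ¬ ∃ x : G, θ ∈ conjIrr C x (normal_le_normalizer C x) '' e := hθ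
        rw [if_neg hθ, if_neg hθ', mul_zero]
  rw [key]

/-- **a block of `G` over a normal `p`-subgroup `P` is the trace of any of its Brauer pairs at
`P`** -/
theorem blockCoeff_eq_trace {p : ℕ} [Fact p.Prime] (hM : IsPModular p M) (P : Subgroup G)
    [P.Normal] (hP : IsPGroup p P) (B : Set (IrrCharacter G))
    (e : Set (IrrCharacter (Subgroup.centralizer (P : Set G))))
    (hBe : IsBrauerPairOf p M B P e) (T : Subgroup G)
    (hT : ∀ x : G, x ∈ T ↔ StabilizesBlock (Subgroup.centralizer (P : Set G)) e x) (g : G) :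
    blockCoeff B g = (Nat.card T : ℂ)⁻¹ *
      ∑ x : G, subgroupBlockCoeff (Subgroup.centralizer (P : Set G)) e (x⁻¹ * g * x) := by
  have hMprime : M.IsPrime := hM.2.1.isPrime
  have hMtop : M ≠ ⊤ := Ideal.IsPrime.ne_top hMprime
  obtain ⟨⟨_, he⟩, hB, hone⟩ := hBe
  have hCn : (Subgroup.centralizer (P : Set G)).Normal := inferInstance
  set β := blockCoeff B with hβ
  have hβcf : IsClassFunction G β := isClassFunction_blockCoeff B
  have hβR : ∀ g, MemLocalRing M (β g) := fun g => osima hB g
  have hvan : ∀ g, g ∉ Subgroup.centralizer (P : Set G) → β g = 0 := fun g hg =>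
    blockCoeff_eq_zero_of_not_mem_centralizer hM P hP hB g hg
  by_cases hg : g ∈ Subgroup.centralizer (P : Set G)
  swap
  · rw [hvan g hg]
    symm
    apply mul_eq_zero_of_right
    apply Finset.sum_eq_zero
    intro x _
    apply extZero_not_mem'
    intro h
    apply hg
    have := hCn.conj_mem _ h x
    have e1 : x * (x⁻¹ * g * x) * x⁻¹ = g := by group
    rwa [e1] at this
  -- the restriction `r` of `β` to `C`
  set r := resTo (Subgroup.centralizer (P : Set G)) β with hr
  have hrcf : IsClassFunction (Subgroup.centralizer (P : Set G)) r :=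
    isClassFunction_resTo (invUnder_of_isClassFunction hβcf _)
  have hrR : ∀ c, MemLocalRing M (r c) := fun c => hβR _
  have hridem : conv r r = r := by
    rw [hr, conv_resTo_of_vanish _ β β hvan, conv_blockCoeff_self]
  have hrS := eq_blockCoeff_of_idem hrcf hridem
  have hSclosed := idemSupport_closed (M := M) hrcf hridem hrR
  have heS : e ⊆ idemSupport r := by
    intro θ hθ
    have h1 := hone θ hθ
    rw [brauerOmega_eq_omegaF] at h1
    rcases omegaF_idem hrcf hridem θ with h | h
    · exfalso
      rw [h, zero_sub] at h1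
      have := memLocalIdeal_neg h1
      rw [neg_neg] at this
      exact not_memLocalIdeal_one hMtop this
    · exact h
  have hSstable : ∀ (x : G) (θ : IrrCharacter (Subgroup.centralizer (P : Set G))),
      θ ∈ idemSupport r → conjIrr _ x (normal_le_normalizer _ x) θ ∈ idemSupport r := by
    intro x θ hθ
    show omegaF _ r = 1
    rw [omegaF_conjIrr]
    have : r ∘ conjK (Subgroup.centralizer (P : Set G)) x (normal_le_normalizer _ x) = r := by
      funext c
      show β (x * c * x⁻¹) = β c
      exact hβcf c x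
    rw [this]
    exact hθ
  have hOS : conjUnion (Subgroup.centralizer (P : Set G)) e ⊆ idemSupport r := by
    rintro θ ⟨x, θ0, hθ0, rfl⟩
    exact hSstable x θ0 (heS hθ0)
  -- the trace idempotent
  set O := conjUnion (Subgroup.centralizer (P : Set G)) e with hO
  set τ := extZero (Subgroup.centralizer (P : Set G)) (blockCoeff O) with hτ
  have hOclosed := conjUnion_closed (M := M) (Subgroup.centralizer (P : Set G)) he
  have hτcf : IsClassFunction G τ := by
    have := invUnder_extZero_of_stabilizes (Subgroup.centralizer (P : Set G)) ⊤ O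
      (fun x _ => conjUnion_stable _ e x)
    intro g k
    exact this k (Subgroup.mem_top k) g
  have hτR : ∀ g, MemLocalRing M (τ g) := by
    intro g
    by_cases hg : g ∈ Subgroup.centralizer (P : Set G)
    · have e1 := extZero_mem' (Subgroup.centralizer (P : Set G)) (blockCoeff O) ⟨g, hg⟩
      simp only at e1
      rw [hτ, e1]
      exact osima_union O hOclosed _
    · rw [hτ, extZero_not_mem' _ _ hg]
      exact memLocalRing_zero hMtop
  have hτidem : conv τ τ = τ := by
    rw [hτ, conv_extZero, conv_blockCoeff_self]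
  have hτB := eq_blockCoeff_of_idem hτcf hτidem
  have hB''closed := idemSupport_closed (M := M) hτcf hτidem hτR
  have hβext : β = extZero (Subgroup.centralizer (P : Set G)) r := (extZero_resTo _ β hvan).symm
  have hconv : conv τ β = τ := by
    rw [hβext, hτ, conv_extZero, hrS, conv_blockCoeff_inter,
      Set.inter_eq_left.mpr hOS]
  have hsub : idemSupport τ ⊆ B := by
    apply subset_of_conv_blockCoeff
    rw [← hτB]
    exact hconv
  have hne : (idemSupport τ).Nonempty := by
    rw [Set.nonempty_iff_ne_empty]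
    intro hempty
    rw [hempty, blockCoeff_empty_fun] at hτB
    have h1 : blockCoeff O = 0 := by
      rw [← resTo_extZero (Subgroup.centralizer (P : Set G)) (blockCoeff O), ← hτ, hτB]
      rfl
    rw [← blockCoeff_empty_fun] at h1
    have h2 := blockCoeff_injective h1
    obtain ⟨θ, hθ⟩ := block_nonempty he
    have : θ ∈ O := subset_conjUnion _ e hθ
    rw [h2] at this
    exact this
  have hBeq := eq_block_of_closed_subset hB hB''closed hne hsub
  have hfinal : β = τ := by
    rw [hτB, hBeq]
  rw [hfinal, hτ]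
  have e1 := extZero_mem' (Subgroup.centralizer (P : Set G)) (blockCoeff O) ⟨g, hg⟩
  simp only at e1
  rw [e1, blockCoeff_conjUnion (Subgroup.centralizer (P : Set G)) he T hT]
  congr 1
  refine Finset.sum_congr rfl fun x _ => ?_
  rw [blockCoeff_image_conjIrr]
  have hx : x⁻¹ * g * x ∈ Subgroup.centralizer (P : Set G) := by
    have := hCn.conj_mem _ hg x⁻¹
    simpa using this
  have e2 := extZero_mem' (Subgroup.centralizer (P : Set G)) (blockCoeff e) ⟨x⁻¹ * g * x, hx⟩
  simp only at e2
  show _ = extZero (Subgroup.centralizer (P : Set G)) (blockCoeff e) (x⁻¹ * g * x)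
  rw [e2]
  congr 1

end Trace2

section Stabilizer

variable {G : Type*} [Group G] [Fintype G] {M : Ideal AlgInt}

omit [Fintype G] in
/-- elements acting trivially on `C` by conjugation stabilize every set of characters of `C` -/
theorem stabilizesBlock_of_conj_trivial (C : Subgroup G) (e : Set (IrrCharacter C)) (y : G)
    (hy : y ∈ Subgroup.normalizer (C : Set G))
    (h : ∀ (θ : IrrCharacter C) (c : C), (θ : C → ℂ) ((conjK C y hy).symm c) = (θ : C → ℂ) c) :
    StabilizesBlock C e y := by
  rw [stabilizesBlock_iff]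
  refine ⟨hy, fun χ hχ => ?_⟩
  have : conjIrr C y hy χ = χ := by
    apply Subtype.ext
    funext c
    rw [conjIrr_apply]
    exact h χ c
  rw [this]
  exact hχ

/-- **the idempotent of a block `e` of `C_G(P)` is a block idempotent of its stabilizer** -/
theorem exists_block_stabilizer {p : ℕ} [Fact p.Prime] (hM : IsPModular p M) (P : Subgroup G)
    [hPn : P.Normal] (hP : IsPGroup p P)
    (e : Set (IrrCharacter (Subgroup.centralizer (P : Set G)))) (he : IsPBlock M e)
    (T : Subgroup G)
    (hT : ∀ x : G, x ∈ T ↔ StabilizesBlock (Subgroup.centralizer (P : Set G)) e x) :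
    ∃ E : Set (IrrCharacter T), IsPBlock M E ∧ ∀ t : T,
      blockCoeff E t = subgroupBlockCoeff (Subgroup.centralizer (P : Set G)) e (t : G) := by
  have hMprime : M.IsPrime := hM.2.1.isPrime
  have hMtop : M ≠ ⊤ := Ideal.IsPrime.ne_top hMprime
  have hCn : (Subgroup.centralizer (P : Set G)).Normal := inferInstance
  -- `C ≤ T` and `P ≤ T`
  have hCT : Subgroup.centralizer (P : Set G) ≤ T := by
    intro y hy
    rw [hT]
    apply stabilizesBlock_of_conj_trivial _ e y (normal_le_normalizer _ y)
    intro θ c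
    have hcf := Cfsg.Agent.Lib.Helper4.isClassFunction_of_isIrrCharacter θ.2
    have e1 : (conjK (Subgroup.centralizer (P : Set G)) y (normal_le_normalizer _ y)).symm c =
        (⟨y, hy⟩ : Subgroup.centralizer (P : Set G))⁻¹ * c *
          (⟨y, hy⟩ : Subgroup.centralizer (P : Set G))⁻¹⁻¹ := by
      apply Subtype.ext
      rw [conjK_symm_apply]
      simp
    rw [e1]
    exact hcf c _
  have hPT : P ≤ T := by
    intro y hy
    rw [hT]
    apply stabilizesBlock_of_conj_trivial _ e y (normal_le_normalizer _ y)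
    intro θ c
    refine congrArg _ (Subtype.ext ?_)
    rw [conjK_symm_apply]
    have := Subgroup.mem_centralizer_iff.mp c.2 y hy
    rw [mul_assoc, ← this]
    group
  set F := extZero (Subgroup.centralizer (P : Set G)) (blockCoeff e) with hF
  have hFvanC : ∀ g, g ∉ Subgroup.centralizer (P : Set G) → F g = 0 :=
    fun g hg => extZero_not_mem' _ _ hg
  have hFvanT : ∀ g, g ∉ T → F g = 0 := fun g hg => hFvanC g (fun h => hg (hCT h))
  have hFR : ∀ g, MemLocalRing M (F g) := by
    intro g
    by_cases hg : g ∈ Subgroup.centralizer (P : Set G)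
    · have e1 := extZero_mem' (Subgroup.centralizer (P : Set G)) (blockCoeff e) ⟨g, hg⟩
      simp only at e1
      rw [hF, e1]
      exact osima he _
    · rw [hFvanC g hg]
      exact memLocalRing_zero hMtop
  have hFidem : conv F F = F := by
    rw [hF, conv_extZero, conv_blockCoeff_self]
  set FT := resTo T F with hFT
  have hFTcf : IsClassFunction T FT :=
    isClassFunction_resTo (invUnder_extZero_of_stabilizes _ T e (fun x hx => (hT x).mp hx))
  have hFTR : ∀ t, MemLocalRing M (FT t) := fun t => hFR _
  have hFTidem : conv FT FT = FT := by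
    rw [hFT, conv_resTo_of_vanish T F F hFvanT, hFidem]
  have hFTE := eq_blockCoeff_of_idem hFTcf hFTidem
  have hEclosed := idemSupport_closed (M := M) hFTcf hFTidem hFTR
  have hresF : resTo (Subgroup.centralizer (P : Set G)) F = blockCoeff e := resTo_extZero _ _
  have hEne : (idemSupport FT).Nonempty := by
    rw [Set.nonempty_iff_ne_empty]
    intro hempty
    rw [hempty, blockCoeff_empty_fun] at hFTE
    have h1 : F = 0 := by
      rw [← extZero_resTo T F hFvanT, ← hFT, hFTE]
      exact extZero_zero T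
    have h2 : blockCoeff e = 0 := by
      rw [← hresF, h1]
      rfl
    rw [← blockCoeff_empty_fun] at h2
    have h3 := blockCoeff_injective h2
    obtain ⟨θ, hθ⟩ := block_nonempty he
    rw [h3] at hθ
    exact hθ
  obtain ⟨ψ0, hψ0⟩ := hEne
  set E1 : Set (IrrCharacter T) := blockOf M (ψ0 : T → ℂ) with hE1def
  have hE1 : IsPBlock M E1 := ⟨ψ0, rfl⟩
  have hψ0E1 : ψ0 ∈ E1 := sameBlock_refl hMtop _
  have hE1E : E1 ⊆ idemSupport FT := fun ψ hψ => hEclosed ψ0 hψ0 ψ hψ
  -- the idempotent of `E1` vanishes off `C`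
  let P' : Subgroup T := P.subgroupOf T
  have hP'n : P'.Normal := inferInstance
  have hP'p : IsPGroup p P' := hP.comap_of_injective T.subtype (Subgroup.subtype_injective T)
  have hε1van : ∀ t : T, (t : G) ∉ Subgroup.centralizer (P : Set G) → blockCoeff E1 t = 0 := by
    intro t ht
    apply blockCoeff_eq_zero_of_not_mem_centralizer hM P' hP'p hE1 t
    intro hcon
    apply ht
    rw [Subgroup.mem_centralizer_iff]
    intro y hy
    have := Subgroup.mem_centralizer_iff.mp hcon ⟨y, hPT hy⟩ (by
      show (⟨y, hPT hy⟩ : T) ∈ P.subgroupOf T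
      rw [Subgroup.mem_subgroupOf]; exact hy)
    exact congrArg Subtype.val this
  set ε1G := extZero T (blockCoeff E1) with hε1G
  have hε1GvanC : ∀ g, g ∉ Subgroup.centralizer (P : Set G) → ε1G g = 0 := by
    intro g hg
    by_cases hgT : g ∈ T
    · have e1 := extZero_mem' T (blockCoeff E1) ⟨g, hgT⟩
      simp only at e1
      rw [hε1G, e1]
      exact hε1van ⟨g, hgT⟩ hg
    · exact extZero_not_mem' _ _ hgT
  have hε1Gidem : conv ε1G ε1G = ε1G := by
    rw [hε1G, conv_extZero, conv_blockCoeff_self]
  set r1 := resTo (Subgroup.centralizer (P : Set G)) ε1G with hr1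
  have hr1cf : IsClassFunction (Subgroup.centralizer (P : Set G)) r1 :=
    isClassFunction_resTo (invUnder_mono hCT
      (invUnder_extZero_self T (isClassFunction_blockCoeff E1)))
  have hr1R : ∀ c, MemLocalRing M (r1 c) := by
    intro c
    have e1 := extZero_mem' T (blockCoeff E1) ⟨c, hCT c.2⟩
    simp only at e1
    show MemLocalRing M (ε1G (c : G))
    rw [hε1G, e1]
    exact osima hE1 _
  have hr1idem : conv r1 r1 = r1 := by
    rw [hr1, conv_resTo_of_vanish _ ε1G ε1G hε1GvanC, hε1Gidem]
  have hr1S := eq_blockCoeff_of_idem hr1cf hr1idem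
  have hS1closed := idemSupport_closed (M := M) hr1cf hr1idem hr1R
  have hFext : F = extZero T FT := (extZero_resTo T F hFvanT).symm
  have hconvG : conv ε1G F = ε1G := by
    rw [hFext, hε1G, conv_extZero, hFTE, conv_blockCoeff_inter,
      Set.inter_eq_left.mpr hE1E]
  have hconvC : conv r1 (blockCoeff e) = r1 := by
    rw [← hresF, hr1, conv_resTo_of_vanish _ ε1G F hε1GvanC, hconvG]
  have hS1e : idemSupport r1 ⊆ e := by
    apply subset_of_conv_blockCoeff
    rw [← hr1S]
    exact hconvC
  have hε1Gext : ε1G = extZero (Subgroup.centralizer (P : Set G)) r1 :=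
    (extZero_resTo _ ε1G hε1GvanC).symm
  have hS1ne : (idemSupport r1).Nonempty := by
    rw [Set.nonempty_iff_ne_empty]
    intro hempty
    rw [hempty, blockCoeff_empty_fun] at hr1S
    have h1 : ε1G = 0 := by
      rw [hε1Gext, hr1S]
      exact extZero_zero _
    have h2 : blockCoeff E1 = 0 := by
      rw [← resTo_extZero T (blockCoeff E1), ← hε1G, h1]
      rfl
    rw [← blockCoeff_empty_fun] at h2
    have h3 := blockCoeff_injective h2
    rw [h3] at hψ0E1
    exact hψ0E1
  have hS1eq := eq_block_of_closed_subset he hS1closed hS1ne hS1e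
  have hε1GF : ε1G = F := by
    rw [hε1Gext, hr1S, hS1eq]
  have hfinal : blockCoeff E1 = FT := by
    rw [← resTo_extZero T (blockCoeff E1), ← hε1G, hε1GF]
  refine ⟨E1, hE1, fun t => ?_⟩
  rw [hfinal]
  rfl

end Stabilizer

end Cfsg.Agent.Lib.Helper4
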