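import Mathlib
import Cfsg.Agent.Lib.Helper4.BrauerChain
import Cfsg.Agent.Lib.Helper4.BrauerTrace

set_option autoImplicit false

/-!
# Brauer pairs: uniqueness of the subpair on each subgroup (helper4)
-/

namespace Cfsg.Agent.Lib.Helper4

open Cfsg Cfsg.Agent.Lib.Helper28
open scoped ComplexConjugate Classical

section

variable {G : Type*} [Group G] [Fintype G] {M : Ideal AlgInt}

/-- generalized descent along a normal subpair, for an idempotent function `β` -/
theorem brauerOmega_descend' {p : ℕ} [Fact p.Prime] (hM : IsPModular p M) {P Q : Subgroup G}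
    {e : Set (IrrCharacter (Subgroup.centralizer (P : Set G)))}
    {f : Set (IrrCharacter (Subgroup.centralizer (Q : Set G)))}
    (h : IsNormalSubpair p M Q f P e) (β : G → ℂ) (hβR : ∀ g, MemLocalRing M (β g))
    (hβP : InvUnder P β) (hβK : InvUnder (Subgroup.centralizer (Q : Set G)) β)
    (hβidem : conv β β = β)
    {φ0 : IrrCharacter (Subgroup.centralizer (Q : Set G))} (hφ0 : φ0 ∈ f)
    {ξ0 : IrrCharacter (Subgroup.centralizer (P : Set G))} (hξ0 : ξ0 ∈ e)
    (h0 : MemLocalIdeal M (brauerOmega Q β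
      (φ0 : Subgroup.centralizer (Q : Set G) → ℂ))) :
    MemLocalIdeal M (brauerOmega P β
      (ξ0 : Subgroup.centralizer (P : Set G) → ℂ)) := by
  have hMprime : M.IsPrime := hM.2.1.isPrime
  have hMtop : M ≠ ⊤ := Ideal.IsPrime.ne_top hMprime
  have hp : p.Prime := Fact.out
  obtain ⟨⟨hQ, hf⟩, ⟨hP, he⟩, hQP, hPN, hst, hone⟩ := h
  have hPK : P ≤ Subgroup.normalizer ((Subgroup.centralizer (Q : Set G)) : Set G) :=
    hPN.trans (normalizer_le_normalizer_centralizer Q)
  have hCK : Subgroup.centralizer (P : Set G) ≤ (Subgroup.centralizer (Q : Set G)) := Subgroup.centralizer_le hQP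
  have hβQ : InvUnder Q β := invUnder_mono hQP hβP
  set γ : (Subgroup.centralizer (Q : Set G)) → ℂ := resTo (Subgroup.centralizer (Q : Set G)) β with hγ
  have hγcf : IsClassFunction (Subgroup.centralizer (Q : Set G)) γ := isClassFunction_resTo hβK
  have hγR : ∀ x, MemLocalRing M (γ x) := fun x => hβR _
  -- `γ` is idempotent modulo `p`
  have hγidem : ∀ x, MemPLocal M p (conv γ γ x - γ x) := by
    intro z
    have := conv_sub_memPLocal (M := M) Q hQ β β hβQ hβQ hβR hβR (z : G) z.2
    rw [hβidem] at this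
    have h2 := memPLocal_neg this
    rw [neg_sub] at h2
    exact h2
  -- the product with the idempotent of `f`
  set ef : (Subgroup.centralizer (Q : Set G)) → ℂ := blockCoeff f with hef
  have hefcf : IsClassFunction (Subgroup.centralizer (Q : Set G)) ef := isClassFunction_blockCoeff f
  have hefR : ∀ x, MemLocalRing M (ef x) := fun x => osima hf x
  set η : (Subgroup.centralizer (Q : Set G)) → ℂ := conv ef γ with hη
  have hηcf : IsClassFunction (Subgroup.centralizer (Q : Set G)) η := isClassFunction_conv hefcf hγcf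
  have hηR : ∀ x, MemLocalRing M (η x) := conv_memLocalRing hefR hγR
  have hηidem : ∀ x, MemPLocal M p (conv η η x - η x) := by
    have e1 : conv η η = conv ef (conv γ γ) := by
      apply eq_of_omegaF_eq _ _ (isClassFunction_conv hηcf hηcf)
        (isClassFunction_conv hefcf (isClassFunction_conv hγcf hγcf))
      intro φ
      rw [omegaF_conv φ.2 _ _ hηcf hηcf, omegaF_conv φ.2 _ _ hefcf hγcf,
        omegaF_conv φ.2 _ _ hefcf (isClassFunction_conv hγcf hγcf),
        omegaF_conv φ.2 _ _ hγcf hγcf, omegaF_blockCoeff]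
      split_ifs <;> ring
    intro x
    have e2 : conv η η x - η x = conv ef (conv γ γ - γ) x := by
      rw [e1, conv_sub_right]
      rfl
    rw [e2]
    exact conv_memPLocal_right hefR hγidem x
  have hηω : ∀ φ : IrrCharacter (Subgroup.centralizer (Q : Set G)), MemLocalIdeal M (omegaF (φ : (Subgroup.centralizer (Q : Set G)) → ℂ) η) := by
    intro φ
    rw [omegaF_conv φ.2 _ _ hefcf hγcf, omegaF_blockCoeff]
    by_cases hφ : φ ∈ f
    · rw [if_pos hφ, one_mul]
      have hsb : SameBlock M (φ : (Subgroup.centralizer (Q : Set G)) → ℂ) (φ0 : (Subgroup.centralizer (Q : Set G)) → ℂ) := (mem_block_iff hf hφ φ0).mp hφ0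
      have h1 := omegaF_sub_memLocalIdeal
        (Cfsg.Agent.Lib.Helper4.isClassFunction_of_isIrrCharacter φ.2)
        (Cfsg.Agent.Lib.Helper4.isClassFunction_of_isIrrCharacter φ0.2) hsb γ hγcf hγR
      have h2 : MemLocalIdeal M (omegaF (φ0 : (Subgroup.centralizer (Q : Set G)) → ℂ) γ) := by
        rw [← brauerOmega_eq_omegaF]
        exact h0
      have := memLocalIdeal_add h1 h2
      rwa [sub_add_cancel] at this
    · rw [if_neg hφ, zero_mul]
      exact memLocalIdeal_zero hMtop
  have hηp := memPLocal_of_idem_mod_p hM η hηcf hηR hηidem hηω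
  -- apply `ω_ξ ∘ Br_P`
  have hinvC : ∀ a : (Subgroup.centralizer (Q : Set G)) → ℂ, IsClassFunction (Subgroup.centralizer (Q : Set G)) a →
      InvUnder (Subgroup.centralizer (P : Set G)) (extZero (Subgroup.centralizer (Q : Set G)) a) := fun a ha =>
    invUnder_mono hCK (invUnder_extZero_self (Subgroup.centralizer (Q : Set G)) ha)
  have hextR : ∀ a : (Subgroup.centralizer (Q : Set G)) → ℂ, (∀ x, MemLocalRing M (a x)) → ∀ g, MemLocalRing M (extZero (Subgroup.centralizer (Q : Set G)) a g) := by
    intro a ha g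
    by_cases hg : g ∈ (Subgroup.centralizer (Q : Set G))
    · have e1 := extZero_mem' (Subgroup.centralizer (Q : Set G)) a ⟨g, hg⟩
      simp only at e1
      rw [e1]
      exact ha _
    · rw [extZero_not_mem' (Subgroup.centralizer (Q : Set G)) _ hg]
      exact memLocalRing_zero hMtop
  have h1 : MemLocalIdeal M (brauerOmega P (extZero (Subgroup.centralizer (Q : Set G)) η)
      (ξ0 : Subgroup.centralizer (P : Set G) → ℂ)) := by
    rw [brauerOmega_eq_omegaF]
    apply MemPLocal.memLocalIdeal hM
    apply omegaF_memPLocal hp.ne_zero ξ0.2 _ (isClassFunction_resTo (hinvC η hηcf))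
    intro c
    show MemPLocal M p (extZero (Subgroup.centralizer (Q : Set G)) η (c : G))
    have e1 := extZero_mem' (Subgroup.centralizer (Q : Set G)) η ⟨c, hCK c.2⟩
    simp only at e1
    rw [e1]
    exact hηp _
  have hinvPγ : InvUnder P (extZero (Subgroup.centralizer (Q : Set G)) γ) := by
    intro x hx g
    have hxK := hPK hx
    by_cases hg : g ∈ (Subgroup.centralizer (Q : Set G))
    · have hg' : x * g * x⁻¹ ∈ (Subgroup.centralizer (Q : Set G)) := (Subgroup.mem_normalizer_iff.mp hxK g).mp hg
      have e1 := extZero_mem' (Subgroup.centralizer (Q : Set G)) γ ⟨x * g * x⁻¹, hg'⟩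
      have e2 := extZero_mem' (Subgroup.centralizer (Q : Set G)) γ ⟨g, hg⟩
      simp only at e1 e2
      rw [e1, e2]
      exact hβP x hx g
    · have hg' : x * g * x⁻¹ ∉ (Subgroup.centralizer (Q : Set G)) := fun h' => hg ((Subgroup.mem_normalizer_iff.mp hxK g).mpr h')
      rw [extZero_not_mem' (Subgroup.centralizer (Q : Set G)) _ hg, extZero_not_mem' (Subgroup.centralizer (Q : Set G)) _ hg']
  have hconv := brauerOmega_conv P hM hP (extZero (Subgroup.centralizer (Q : Set G)) ef) (extZero (Subgroup.centralizer (Q : Set G)) γ)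
    (invUnder_extZero_of_stabilizes (Subgroup.centralizer (Q : Set G)) P f hst) hinvPγ (hinvC ef hefcf) (hinvC γ hγcf)
    (hextR ef hefR) (hextR γ hγR) ξ0.2
  rw [conv_extZero] at hconv
  -- first factor is ≡ 1
  have ha : MemLocalIdeal M (brauerOmega P (extZero (Subgroup.centralizer (Q : Set G)) ef)
      (ξ0 : Subgroup.centralizer (P : Set G) → ℂ) - 1) := hone ξ0 hξ0
  have hbeq : brauerOmega P (extZero (Subgroup.centralizer (Q : Set G)) γ) (ξ0 : Subgroup.centralizer (P : Set G) → ℂ) =
      brauerOmega P β (ξ0 : Subgroup.centralizer (P : Set G) → ℂ) := by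
    apply brauerOmega_congr
    intro c hc
    have e1 := extZero_mem' (Subgroup.centralizer (Q : Set G)) γ ⟨c, hCK hc⟩
    simp only at e1
    rw [e1]
    rfl
  have hbR : MemLocalRing M (brauerOmega P (extZero (Subgroup.centralizer (Q : Set G)) γ)
      (ξ0 : Subgroup.centralizer (P : Set G) → ℂ)) :=
    brauerOmega_memLocalRing P _ (hinvC γ hγcf) (hextR γ hγR) ξ0.2
  rw [← hbeq]
  set a := brauerOmega P (extZero (Subgroup.centralizer (Q : Set G)) ef) (ξ0 : Subgroup.centralizer (P : Set G) → ℂ) with ha_def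
  set b := brauerOmega P (extZero (Subgroup.centralizer (Q : Set G)) γ) (ξ0 : Subgroup.centralizer (P : Set G) → ℂ) with hb_def
  -- `ab ∈ J`, `a ≡ 1` so `b ∈ J`
  have hab : MemLocalIdeal M (a * b) := by
    have := memLocalIdeal_sub h1 hconv
    rwa [sub_sub_cancel] at this
  have h3 : MemLocalIdeal M ((a - 1) * b) := memLocalIdeal_mul_right ha hbR
  have := memLocalIdeal_sub hab h3
  have e : a * b - (a - 1) * b = b := by ring
  rwa [e] at this


omit [Fintype G] in
/-- `R`-valuedness of an extension by zero -/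
theorem extZero_memLocalRing (hMtop : M ≠ ⊤) (K : Subgroup G) {a : K → ℂ}
    (ha : ∀ x, MemLocalRing M (a x)) (g : G) : MemLocalRing M (extZero K a g) := by
  by_cases hg : g ∈ K
  · have e1 := extZero_mem' K a ⟨g, hg⟩
    simp only at e1
    rw [e1]
    exact ha _
  · rw [extZero_not_mem' K _ hg]
    exact memLocalRing_zero hMtop

/-- every Brauer pair is a normal subpair of itself -/
theorem isNormalSubpair_refl {p : ℕ} [M.IsPrime] {Q : Subgroup G}
    {f : Set (IrrCharacter (Subgroup.centralizer (Q : Set G)))} (h : IsBrauerPair p M Q f) :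
    IsNormalSubpair p M Q f Q f := by
  have hMtop : M ≠ ⊤ := Ideal.IsPrime.ne_top inferInstance
  refine ⟨h, h, le_rfl, Subgroup.le_normalizer, ?_, ?_⟩
  · intro x hx
    have hxN : x ∈ Subgroup.normalizer
        ((Subgroup.centralizer (Q : Set G) : Subgroup G) : Set G) :=
      normalizer_le_normalizer_centralizer Q (Subgroup.le_normalizer hx)
    apply stabilizesBlock_of_conj_trivial _ f x hxN
    intro θ c
    refine congrArg _ (Subtype.ext ?_)
    rw [conjK_symm_apply]
    have := Subgroup.mem_centralizer_iff.mp c.2 x hx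
    rw [mul_assoc, ← this]
    group
  · intro ξ hξ
    have e1 : brauerOmega Q (subgroupBlockCoeff (Subgroup.centralizer (Q : Set G)) f)
        (ξ : Subgroup.centralizer (Q : Set G) → ℂ) = 1 := by
      show brauerOmega Q (extZero (Subgroup.centralizer (Q : Set G)) (blockCoeff f)) _ = 1
      rw [brauerOmega_eq_omegaF, resTo_extZero, omegaF_blockCoeff, if_pos hξ]
    rw [e1, sub_self]
    exact memLocalIdeal_zero hMtop

/-- a normal subpair on the same subgroup is the same pair -/
theorem eq_of_isNormalSubpair_self {p : ℕ} [M.IsPrime] {Q : Subgroup G}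
    {f g : Set (IrrCharacter (Subgroup.centralizer (Q : Set G)))}
    (h : IsNormalSubpair p M Q f Q g) : f = g := by
  have hMtop : M ≠ ⊤ := Ideal.IsPrime.ne_top inferInstance
  obtain ⟨⟨_, hf⟩, ⟨_, hg⟩, _, _, _, hone⟩ := h
  obtain ⟨ξ, hξ⟩ := block_nonempty hg
  have h1 := hone ξ hξ
  have e1 : brauerOmega Q (subgroupBlockCoeff (Subgroup.centralizer (Q : Set G)) f)
      (ξ : Subgroup.centralizer (Q : Set G) → ℂ) = if ξ ∈ f then 1 else 0 := by
    show brauerOmega Q (extZero (Subgroup.centralizer (Q : Set G)) (blockCoeff f)) _ = _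
    rw [brauerOmega_eq_omegaF, resTo_extZero, omegaF_blockCoeff]
  rw [e1] at h1
  by_cases hξf : ξ ∈ f
  · exact block_eq_of_mem hf hg hξf hξ
  · exfalso
    rw [if_neg hξf, zero_sub] at h1
    have := memLocalIdeal_neg h1
    rw [neg_neg] at this
    exact not_memLocalIdeal_one hMtop this

omit [Fintype G] in
theorem subpairLE_le {p : ℕ} {a b : BrauerPairIdx G}
    (h : Relation.ReflTransGen (NormalSubpairRel p M) a b) : a.1 ≤ b.1 := by
  induction h with
  | refl => exact le_rfl
  | tail _ hbc ih => exact ih.trans hbc.2.2.1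

/-- a chain between pairs on the same subgroup is trivial -/
theorem eq_of_subpairLE_of_eq {p : ℕ} [M.IsPrime] {a b : BrauerPairIdx G}
    (h : Relation.ReflTransGen (NormalSubpairRel p M) a b) (hab : a.1 = b.1) : a = b := by
  induction h with
  | refl => rfl
  | @tail c d hac hcd ih =>
    have h1 : a.1 ≤ c.1 := subpairLE_le hac
    have h2 : c.1 ≤ d.1 := hcd.2.2.1
    have hc : a.1 = c.1 := le_antisymm h1 (hab ▸ h2)
    have hac' := ih hc
    subst hac'
    obtain ⟨Q, f⟩ := a
    obtain ⟨R, g⟩ := d
    simp only at hab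
    subst hab
    have hfg : f = g := eq_of_isNormalSubpair_self hcd
    rw [hfg]

end

section Trans

variable {G : Type*} [Group G] [Fintype G] {M : Ideal AlgInt}

theorem extZero_blockCoeff_image_conjIrr (K : Subgroup G) (x : G)
    (hx : x ∈ Subgroup.normalizer (K : Set G)) (f : Set (IrrCharacter K)) :
    extZero K (blockCoeff (conjIrr K x hx '' f)) =
      fun g => extZero K (blockCoeff f) (x⁻¹ * g * x) := by
  funext g
  have hx' : x⁻¹ ∈ Subgroup.normalizer (K : Set G) := Subgroup.inv_mem _ hx
  by_cases hg : g ∈ K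
  · have hg' : x⁻¹ * g * x ∈ K := by
      have := (Subgroup.mem_normalizer_iff.mp hx' g).mp hg
      simpa using this
    have e1 := extZero_mem' K (blockCoeff (conjIrr K x hx '' f)) ⟨g, hg⟩
    have e2 := extZero_mem' K (blockCoeff f) ⟨x⁻¹ * g * x, hg'⟩
    simp only at e1 e2
    rw [e1, e2, blockCoeff_image_conjIrr]
    congr 1
  · have hg' : x⁻¹ * g * x ∉ K := by
      intro h
      apply hg
      have := (Subgroup.mem_normalizer_iff.mp hx (x⁻¹ * g * x)).mp h
      have e : x * (x⁻¹ * g * x) * x⁻¹ = g := by group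
      rwa [e] at this
    rw [extZero_not_mem' K _ hg, extZero_not_mem' K _ hg']

theorem brauerOmega_conj (R : Subgroup G) (x : G)
    (hx : x⁻¹ ∈ Subgroup.normalizer ((Subgroup.centralizer (R : Set G) : Subgroup G) : Set G))
    (F : G → ℂ) (ψ : IrrCharacter (Subgroup.centralizer (R : Set G))) :
    brauerOmega R (fun g => F (x⁻¹ * g * x)) (ψ : Subgroup.centralizer (R : Set G) → ℂ) =
      brauerOmega R F (conjIrr _ x⁻¹ hx ψ : Subgroup.centralizer (R : Set G) → ℂ) := by
  unfold brauerOmega
  rw [finsum_eq_sum_of_fintype, finsum_eq_sum_of_fintype]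
  rw [← Equiv.sum_comp (conjK (Subgroup.centralizer (R : Set G)) x⁻¹ hx).toEquiv
    (fun c => F c * (conjIrr _ x⁻¹ hx ψ : Subgroup.centralizer (R : Set G) → ℂ) c /
      (conjIrr _ x⁻¹ hx ψ : Subgroup.centralizer (R : Set G) → ℂ) 1)]
  refine Finset.sum_congr rfl fun c _ => ?_
  simp only [MulEquiv.toEquiv_eq_coe, MulEquiv.coe_toEquiv, conjIrr_apply,
    MulEquiv.symm_apply_apply, map_one, conjK_apply, inv_inv]

/-- conjugating an `R`-stable set of characters of `K` by an element normalizing `R` (and `K`)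
gives an `R`-stable set -/
theorem stabilizes_image_conjIrr [M.IsPrime] (K R : Subgroup G) (x : G)
    (hx : x ∈ Subgroup.normalizer (K : Set G)) (hxR : ∀ y ∈ R, x⁻¹ * y * x ∈ R)
    {f : Set (IrrCharacter K)} (hf : IsPBlock M f)
    (hst : ∀ y ∈ R, StabilizesBlock K f y) :
    ∀ y ∈ R, StabilizesBlock K (conjIrr K x hx '' f) y := by
  intro y hy
  have hyK : y ∈ Subgroup.normalizer (K : Set G) := (hst y hy).1
  have hzK : x⁻¹ * y * x ∈ Subgroup.normalizer (K : Set G) :=
    Subgroup.mul_mem _ (Subgroup.mul_mem _ (Subgroup.inv_mem _ hx) hyK) hx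
  rw [← image_conjIrr_eq_iff K (isPBlock_image_conjIrr K x hx hf) y hyK]
  have h1 := (image_conjIrr_eq_iff K hf _ hzK).mpr (hst _ (hxR y hy))
  rw [Set.image_image]
  conv_rhs => rw [← h1, Set.image_image]
  apply Set.image_congr
  intro χ _
  rw [← conjIrr_mul K y x hyK hx (Subgroup.mul_mem _ hyK hx),
    ← conjIrr_mul K x (x⁻¹ * y * x) hx hzK (Subgroup.mul_mem _ hx hzK)]
  exact conjIrr_congr K (by group) _ _ χ

omit [Fintype G] in
theorem stabilizesBlock_compl (K : Subgroup G) [Fintype K] {f : Set (IrrCharacter K)} (x : G)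
    (h : StabilizesBlock K f x) : StabilizesBlock K fᶜ x := by
  rw [stabilizesBlock_iff] at h ⊢
  obtain ⟨hx, h⟩ := h
  refine ⟨hx, fun χ hχ hcon => ?_⟩
  obtain ⟨χ0, hχ0, he⟩ := conjIrr_surjOn K f x hx h _ hcon
  rw [conjIrr_injective K x hx he] at hχ0
  exact hχ hχ0

/-- **transitivity of normal subpairs** -/
theorem isNormalSubpair_trans {p : ℕ} [Fact p.Prime] (hM : IsPModular p M) {Q R S : Subgroup G}
    {f : Set (IrrCharacter (Subgroup.centralizer (Q : Set G)))}
    {g : Set (IrrCharacter (Subgroup.centralizer (R : Set G)))}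
    {h' : Set (IrrCharacter (Subgroup.centralizer (S : Set G)))}
    (h1 : IsNormalSubpair p M Q f R g) (h2 : IsNormalSubpair p M R g S h')
    (hSQ : S ≤ Subgroup.normalizer (Q : Set G)) : IsNormalSubpair p M Q f S h' := by
  have hMprime : M.IsPrime := hM.2.1.isPrime
  have hMtop : M ≠ ⊤ := Ideal.IsPrime.ne_top hMprime
  have h2' := h2
  obtain ⟨⟨hQ, hf⟩, ⟨hR, hg⟩, hQR, hRQ, hstR, honeR⟩ := h1
  obtain ⟨_, ⟨hS, hh⟩, hRS, hSR, hstS, honeS⟩ := h2
  have hSK : S ≤ Subgroup.normalizer
      ((Subgroup.centralizer (Q : Set G) : Subgroup G) : Set G) :=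
    hSQ.trans (normalizer_le_normalizer_centralizer Q)
  have hSL : S ≤ Subgroup.normalizer
      ((Subgroup.centralizer (R : Set G) : Subgroup G) : Set G) :=
    hSR.trans (normalizer_le_normalizer_centralizer R)
  have hLK : Subgroup.centralizer (R : Set G) ≤ Subgroup.centralizer (Q : Set G) :=
    Subgroup.centralizer_le hQR
  obtain ⟨ψ0, hψ0⟩ := block_nonempty hg
  -- (i) `f` is `S`-stable
  have hstS' : ∀ x ∈ S, StabilizesBlock (Subgroup.centralizer (Q : Set G)) f x := by
    intro x hx
    have hxK := hSK hx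
    have hf' := isPBlock_image_conjIrr (M := M) _ x hxK hf
    have hxR : ∀ y ∈ R, x⁻¹ * y * x ∈ R := by
      intro y hy
      have hxinv : x⁻¹ ∈ Subgroup.normalizer (R : Set G) :=
        Subgroup.inv_mem _ (hSR hx)
      have := (Subgroup.mem_normalizer_iff.mp hxinv y).mp hy
      simpa using this
    have hst' := stabilizes_image_conjIrr _ R x hxK hxR hf hstR
    have hxinvS : x⁻¹ ∈ S := S.inv_mem hx
    have hxinvL := hSL hxinvS
    have hone' : MemLocalIdeal M (brauerOmega R
        (subgroupBlockCoeff (Subgroup.centralizer (Q : Set G))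
          (conjIrr (Subgroup.centralizer (Q : Set G)) x hxK '' f))
        (ψ0 : Subgroup.centralizer (R : Set G) → ℂ) - 1) := by
      show MemLocalIdeal M (brauerOmega R (extZero (Subgroup.centralizer (Q : Set G))
        (blockCoeff (conjIrr (Subgroup.centralizer (Q : Set G)) x hxK '' f))) _ - 1)
      rw [extZero_blockCoeff_image_conjIrr, brauerOmega_conj R x hxinvL]
      apply honeR
      obtain ⟨_, hh2⟩ := (stabilizesBlock_iff _ g x⁻¹).mp (hstS x⁻¹ hxinvS)
      exact hh2 ψ0 hψ0
    have heq := stable_block_unique hM hR hLK ψ0.2 hf' hf hst' hstR hone' (honeR ψ0 hψ0)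
    exact (image_conjIrr_eq_iff _ hf x hxK).mp heq
  refine ⟨⟨hQ, hf⟩, ⟨hS, hh⟩, hQR.trans hRS, hSQ, hstS', ?_⟩
  -- (ii) the Brauer map condition
  intro ξ hξ
  set β := extZero (Subgroup.centralizer (Q : Set G)) (blockCoeff fᶜ) with hβ
  have hβR : ∀ g, MemLocalRing M (β g) :=
    extZero_memLocalRing hMtop _ (osima_union fᶜ (compl_closed hf))
  have hβS : InvUnder S β :=
    invUnder_extZero_of_stabilizes _ S fᶜ (fun x hx => stabilizesBlock_compl _ x (hstS' x hx))
  have hβL : InvUnder (Subgroup.centralizer (R : Set G)) β :=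
    invUnder_mono hLK (invUnder_extZero_self _ (isClassFunction_blockCoeff _))
  have hβidem : conv β β = β := by
    rw [hβ, conv_extZero, conv_blockCoeff_self]
  have hsum : extZero (Subgroup.centralizer (Q : Set G)) (blockCoeff f) + β = deltaF 1 := by
    rw [hβ, ← extZero_add, blockCoeff_compl_add, extZero_deltaF_one]
  have h0 : MemLocalIdeal M (brauerOmega R β (ψ0 : Subgroup.centralizer (R : Set G) → ℂ)) := by
    have e1 : brauerOmega R β (ψ0 : Subgroup.centralizer (R : Set G) → ℂ) =
        - (brauerOmega R (extZero (Subgroup.centralizer (Q : Set G)) (blockCoeff f))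
          (ψ0 : Subgroup.centralizer (R : Set G) → ℂ) - 1) := by
      have := brauerOmega_add R (extZero (Subgroup.centralizer (Q : Set G)) (blockCoeff f)) β
        (ψ0 : Subgroup.centralizer (R : Set G) → ℂ)
      rw [hsum, brauerOmega_deltaF_one R (irr_one_ne_zero ψ0.2)] at this
      rw [this]; ring
    rw [e1]
    exact memLocalIdeal_neg (honeR ψ0 hψ0)
  have h3 := brauerOmega_descend' hM h2' β hβR hβS hβL hβidem hψ0 hξ h0
  have e2 : brauerOmega S (subgroupBlockCoeff (Subgroup.centralizer (Q : Set G)) f)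
      (ξ : Subgroup.centralizer (S : Set G) → ℂ) - 1 =
      - brauerOmega S β (ξ : Subgroup.centralizer (S : Set G) → ℂ) := by
    have := brauerOmega_add S (extZero (Subgroup.centralizer (Q : Set G)) (blockCoeff f)) β
      (ξ : Subgroup.centralizer (S : Set G) → ℂ)
    rw [hsum, brauerOmega_deltaF_one S (irr_one_ne_zero ξ.2)] at this
    show brauerOmega S (extZero (Subgroup.centralizer (Q : Set G)) (blockCoeff f)) _ - 1 = _
    rw [this]; ring
  rw [e2]
  exact memLocalIdeal_neg h3

end Trans

section Unique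

variable {G : Type*} [Group G] [Fintype G] {M : Ideal AlgInt}

/-- existence of a normal subpair (the existence half of S4656) -/
theorem exists_isNormalSubpair {p : ℕ} [Fact p.Prime] (hM : IsPModular p M) {P Q : Subgroup G}
    {e : Set (IrrCharacter (Subgroup.centralizer (P : Set G)))} (hPe : IsBrauerPair p M P e)
    (hQP : Q ≤ P) (hPN : P ≤ Subgroup.normalizer (Q : Set G)) :
    ∃ f : Set (IrrCharacter (Subgroup.centralizer (Q : Set G))),
      IsNormalSubpair p M Q f P e := by
  have hMprime : M.IsPrime := hM.2.1.isPrime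
  have hMtop : M ≠ ⊤ := Ideal.IsPrime.ne_top hMprime
  obtain ⟨hP, he⟩ := hPe
  have hQ : IsPGroup p Q := hP.to_le hQP
  have hPK : P ≤ Subgroup.normalizer
      ((Subgroup.centralizer (Q : Set G) : Subgroup G) : Set G) :=
    hPN.trans (normalizer_le_normalizer_centralizer Q)
  have hCK : Subgroup.centralizer (P : Set G) ≤ Subgroup.centralizer (Q : Set G) :=
    Subgroup.centralizer_le hQP
  obtain ⟨ξ0, hξ0⟩ := block_nonempty he
  obtain ⟨f, hf, hst, h1⟩ := exists_stable_block hM hP hPK hCK ξ0.2
  refine ⟨f, ⟨hQ, hf⟩, ⟨hP, he⟩, hQP, hPN, hst, ?_⟩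
  intro ξ hξ
  have hsb : SameBlock M (ξ : Subgroup.centralizer (P : Set G) → ℂ)
      (ξ0 : Subgroup.centralizer (P : Set G) → ℂ) := (mem_block_iff he hξ ξ0).mp hξ0
  have hinvK : InvUnder (Subgroup.centralizer (P : Set G))
      (subgroupBlockCoeff (Subgroup.centralizer (Q : Set G)) f) :=
    invUnder_mono hCK (invUnder_extZero_self _ (isClassFunction_blockCoeff f))
  have hR : ∀ g : G, MemLocalRing M
      (subgroupBlockCoeff (Subgroup.centralizer (Q : Set G)) f g) :=
    extZero_memLocalRing hMtop _ (fun x => osima hf x)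
  have h2 := brauerOmega_sameBlock P _ hinvK hR
    (Cfsg.Agent.Lib.Helper4.isClassFunction_of_isIrrCharacter ξ.2)
    (Cfsg.Agent.Lib.Helper4.isClassFunction_of_isIrrCharacter ξ0.2) hsb
  have := memLocalIdeal_add h2 h1
  rwa [sub_add_sub_cancel] at this

theorem isNormalSubpair_unique {p : ℕ} [Fact p.Prime] (hM : IsPModular p M) {P Q : Subgroup G}
    {e : Set (IrrCharacter (Subgroup.centralizer (P : Set G)))}
    {f f' : Set (IrrCharacter (Subgroup.centralizer (Q : Set G)))}
    (h : IsNormalSubpair p M Q f P e) (h' : IsNormalSubpair p M Q f' P e) : f = f' := by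
  have hMprime : M.IsPrime := hM.2.1.isPrime
  obtain ⟨⟨_, hf⟩, ⟨hP, he⟩, hQP, _, hst, hone⟩ := h
  obtain ⟨⟨_, hf'⟩, _, _, _, hst', hone'⟩ := h'
  obtain ⟨ξ0, hξ0⟩ := block_nonempty he
  exact stable_block_unique hM hP (Subgroup.centralizer_le hQP) ξ0.2 hf hf' hst hst'
    (hone ξ0 hξ0) (hone' ξ0 hξ0)

omit [Fintype G] in
/-- normalizers grow in finite `p`-groups -/
theorem lt_inf_normalizer_of_lt' [Finite G] {p : ℕ} [Fact p.Prime]
    (S D : Subgroup G) (hS : IsPGroup p S) (hlt : D < S) :
    D < S ⊓ Subgroup.normalizer (D : Set G) := by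
  have : Group.IsNilpotent S := hS.isNilpotent
  have hnc : NormalizerCondition S := Group.normalizerCondition_of_isNilpotent
  have hH : D.subgroupOf S < ⊤ := by
    rw [lt_top_iff_ne_top]
    intro h
    rw [Subgroup.subgroupOf_eq_top] at h
    exact (not_le_of_gt hlt) h
  have h1 := hnc _ hH
  rw [← Subgroup.subgroupOf_normalizer_eq hlt.le] at h1
  obtain ⟨y, hyN, hyD⟩ := SetLike.exists_of_lt h1
  refine lt_of_le_of_ne (le_inf hlt.le Subgroup.le_normalizer) ?_
  intro heq
  apply hyD
  rw [Subgroup.mem_subgroupOf, heq]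
  exact ⟨y.2, Subgroup.mem_subgroupOf.mp hyN⟩

omit [Fintype G] in
theorem card_lt_card_of_lt' [Finite G] {A B : Subgroup G} (h : A < B) :
    Nat.card A < Nat.card B :=
  lt_of_not_ge (fun h' => h.ne (Subgroup.eq_of_le_of_card_ge h.le h'))

/-- existence of a subpair on every subgroup -/
theorem exists_subpairLE {p : ℕ} [Fact p.Prime] (hM : IsPModular p M) :
    ∀ n : ℕ, ∀ (P Q : Subgroup G) (e : Set (IrrCharacter (Subgroup.centralizer (P : Set G)))),
      IsBrauerPair p M P e → Q ≤ P → Nat.card P - Nat.card Q ≤ n →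
      ∃ f : Set (IrrCharacter (Subgroup.centralizer (Q : Set G))),
        IsPBlock M f ∧ SubpairLE p M Q f P e := by
  intro n
  induction n with
  | zero =>
    intro P Q e hPe hQP hn
    have hle : Nat.card P ≤ Nat.card Q := by omega
    have heq : Q = P := Subgroup.eq_of_le_of_card_ge hQP hle
    subst heq
    exact ⟨e, hPe.2, Relation.ReflTransGen.refl⟩
  | succ n ih =>
    intro P Q e hPe hQP hn
    by_cases heq : Q = P
    · subst heq
      exact ⟨e, hPe.2, Relation.ReflTransGen.refl⟩
    · have hlt : Q < P := lt_of_le_of_ne hQP heq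
      have hN := lt_inf_normalizer_of_lt' P Q hPe.1 hlt
      set N := P ⊓ Subgroup.normalizer (Q : Set G) with hNdef
      have hNP : N ≤ P := inf_le_left
      have hc1 := card_lt_card_of_lt' hN
      have hc2 : Nat.card N ≤ Nat.card P := Subgroup.card_le_of_le hNP
      obtain ⟨fN, hfN, hchain⟩ := ih P N e hPe hNP (by omega)
      have hNpair : IsBrauerPair p M N fN := ⟨hPe.1.to_le hNP, hfN⟩
      obtain ⟨f, hf⟩ := exists_isNormalSubpair hM hNpair hN.le inf_le_right
      exact ⟨f, hf.1.2, Relation.ReflTransGen.head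
        (show NormalSubpairRel p M ⟨Q, f⟩ ⟨N, fN⟩ from hf) hchain⟩

/-- a normal subpair of the first term of a chain, with normalized top, is a normal subpair of
the last term -/
theorem isNormalSubpair_of_chain {p : ℕ} [Fact p.Prime] (hM : IsPModular p M)
    {b c : BrauerPairIdx G} (h : Relation.ReflTransGen (NormalSubpairRel p M) b c) :
    ∀ (Q : Subgroup G) (f : Set (IrrCharacter (Subgroup.centralizer (Q : Set G)))),
      c.1 ≤ Subgroup.normalizer (Q : Set G) → NormalSubpairRel p M ⟨Q, f⟩ b →
      NormalSubpairRel p M ⟨Q, f⟩ c := by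
  induction h with
  | refl => intro Q f _ h1; exact h1
  | @tail c' c hbc' hc'c ih =>
    intro Q f hc h1
    have hle : c'.1 ≤ c.1 := hc'c.2.2.1
    have h2 := ih Q f (hle.trans hc) h1
    exact isNormalSubpair_trans hM h2 hc'c hc

/-- **uniqueness of the subpair on each subgroup** -/
theorem subpair_unique {p : ℕ} [Fact p.Prime] (hM : IsPModular p M) :
    ∀ n : ℕ, ∀ (P Q : Subgroup G) (e : Set (IrrCharacter (Subgroup.centralizer (P : Set G)))),
      IsBrauerPair p M P e → Q ≤ P → Nat.card P - Nat.card Q ≤ n →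
      ∀ f f' : Set (IrrCharacter (Subgroup.centralizer (Q : Set G))),
        IsPBlock M f → IsPBlock M f' → SubpairLE p M Q f P e → SubpairLE p M Q f' P e →
        f = f' := by
  have hMprime : M.IsPrime := hM.2.1.isPrime
  have hbase : ∀ (P : Subgroup G) (e f : Set (IrrCharacter (Subgroup.centralizer (P : Set G)))),
      SubpairLE p M P f P e → f = e := by
    intro P e f h
    have := eq_of_subpairLE_of_eq (M := M) h rfl
    exact eq_of_heq (Sigma.mk.inj this).2
  intro n
  induction n with
  | zero =>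
    intro P Q e hPe hQP hn f f' _ _ h h'
    have hle : Nat.card P ≤ Nat.card Q := by omega
    have heq : Q = P := Subgroup.eq_of_le_of_card_ge hQP hle
    subst heq
    rw [hbase Q e f h, hbase Q e f' h']
  | succ n ih =>
    intro P Q e hPe hQP hn f f' hf hf' h h'
    by_cases heq : Q = P
    · subst heq
      rw [hbase Q e f h, hbase Q e f' h']
    · have hlt : Q < P := lt_of_le_of_ne hQP heq
      have hN := lt_inf_normalizer_of_lt' P Q hPe.1 hlt
      set N := P ⊓ Subgroup.normalizer (Q : Set G) with hNdef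
      have hNP : N ≤ P := inf_le_left
      have hNQ : N ≤ Subgroup.normalizer (Q : Set G) := inf_le_right
      have hc1 := card_lt_card_of_lt' hN
      have hc2 : Nat.card N ≤ Nat.card P := Subgroup.card_le_of_le hNP
      obtain ⟨fN, hfN, hchainN⟩ := exists_subpairLE hM (Nat.card P - Nat.card N) P N e hPe hNP le_rfl
      have hNpair : IsBrauerPair p M N fN := ⟨hPe.1.to_le hNP, hfN⟩
      -- key: every chain from `Q` ends up as a normal subpair of `(N, fN)`
      have key : ∀ a : BrauerPairIdx G,
          Relation.ReflTransGen (NormalSubpairRel p M) a ⟨P, e⟩ → a.1 = Q →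
          NormalSubpairRel p M a ⟨N, fN⟩ := by
        intro a ha
        induction ha using Relation.ReflTransGen.head_induction_on with
        | refl =>
          intro h1
          exact absurd h1.symm heq
        | @head a c hac hc ihc =>
          intro ha1
          obtain ⟨Q', f0⟩ := a
          obtain ⟨R, g⟩ := c
          simp only at ha1
          subst ha1
          have hQR : Q' ≤ R := hac.2.2.1
          have hRNQ : R ≤ Subgroup.normalizer (Q' : Set G) := hac.2.2.2.1
          have hRP : R ≤ P := subpairLE_le hc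
          have hRN : R ≤ N := le_inf hRP hRNQ
          by_cases hRQ : R = Q'
          · subst hRQ
            have hfg : f0 = g := eq_of_isNormalSubpair_self hac
            rw [hfg]
            exact ihc rfl
          · have hltR : Q' < R := lt_of_le_of_ne hQR (fun h => hRQ h.symm)
            have hc3 := card_lt_card_of_lt' hltR
            have hc4 : Nat.card R ≤ Nat.card P := Subgroup.card_le_of_le hRP
            obtain ⟨g'', hg'', hchainR⟩ := exists_subpairLE hM (Nat.card N - Nat.card R) N R fN
              hNpair hRN le_rfl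
            have hchainR' : SubpairLE p M R g'' P e := Relation.ReflTransGen.trans hchainR hchainN
            have hgg : g'' = g := ih P R e hPe hRP (by omega) g'' g hg'' hac.2.1.2 hchainR' hc
            rw [hgg] at hchainR
            exact isNormalSubpair_of_chain hM hchainR Q' f0 hNQ hac
      have k1 : IsNormalSubpair p M Q f N fN := key ⟨Q, f⟩ h rfl
      have k2 : IsNormalSubpair p M Q f' N fN := key ⟨Q, f'⟩ h' rfl
      exact isNormalSubpair_unique hM k1 k2

end Unique

end Cfsg.Agent.Lib.Helper4
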