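import Mathlib
import Cfsg.Agent.Lib.Helper4.BrauerLambda
import Cfsg.Agent.Lib.Helper4.BrauerUnique
import Cfsg.Agent.Lib.Helper4.BrauerTrace

set_option autoImplicit false

/-!
# Maximal Brauer pairs (helper4)

* `exists_normalSuperpair` : going up from `(P, e)` to a `p`-subgroup `R ≤ N_G(P, e)` at which the
  Brauer map of `e` does not vanish.
* `maximal_star` : for a maximal Brauer pair `(P, e)` and `y ∈ C_G(P)` at which the idempotent of
  `e` does not vanish modulo the local ideal, every `p`-subgroup of `N_G(P, e) ∩ C_G(y)` lies in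
  `P`.
-/

namespace Cfsg.Agent.Lib.Helper4

open Cfsg Cfsg.Agent.Lib.Helper28
open scoped ComplexConjugate Classical

section

variable {G : Type*} [Group G] [Fintype G] {M : Ideal AlgInt}

theorem subgroupBlockCoeff_eq_extZero (K : Subgroup G) (f : Set (IrrCharacter K)) :
    subgroupBlockCoeff K f = extZero K (blockCoeff f) := rfl

theorem subgroupBlockCoeff_memLocalRing [M.IsPrime] (K : Subgroup G)
    {f : Set (IrrCharacter K)} (hf : IsPBlock M f) (g : G) :
    MemLocalRing M (subgroupBlockCoeff K f g) := by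
  rw [subgroupBlockCoeff_eq_extZero]
  exact extZero_memLocalRing (Ideal.IsPrime.ne_top inferInstance) K (fun x => osima hf x) g

theorem conv_subgroupBlockCoeff_self (K : Subgroup G) (f : Set (IrrCharacter K)) :
    conv (subgroupBlockCoeff K f) (subgroupBlockCoeff K f) = subgroupBlockCoeff K f := by
  rw [subgroupBlockCoeff_eq_extZero, conv_extZero, conv_blockCoeff_inter, Set.inter_self]

/-- elements of `P` stabilize every block of `C_G(P)` -/
theorem stabilizesBlock_of_mem (P : Subgroup G)
    (e : Set (IrrCharacter (Subgroup.centralizer (P : Set G)))) {u : G} (hu : u ∈ P) :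
    StabilizesBlock (Subgroup.centralizer (P : Set G)) e u := by
  have hun : u ∈ Subgroup.normalizer ((Subgroup.centralizer (P : Set G) : Subgroup G) : Set G) :=
    normalizer_le_normalizer_centralizer P (Subgroup.le_normalizer hu)
  apply stabilizesBlock_of_conj_trivial _ e u hun
  intro θ c
  refine congrArg _ (Subtype.ext ?_)
  rw [conjK_symm_apply]
  have := c.2 u hu
  calc u⁻¹ * (c : G) * u = u⁻¹ * ((c : G) * u) := by group
    _ = u⁻¹ * (u * (c : G)) := by rw [this]
    _ = (c : G) := by group

/-- elements of `C_G(P)` stabilize every block of `C_G(P)` -/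
theorem stabilizesBlock_of_mem_centralizer (P : Subgroup G)
    (e : Set (IrrCharacter (Subgroup.centralizer (P : Set G)))) {u : G}
    (hu : u ∈ Subgroup.centralizer (P : Set G)) :
    StabilizesBlock (Subgroup.centralizer (P : Set G)) e u := by
  have hun : u ∈ Subgroup.normalizer ((Subgroup.centralizer (P : Set G) : Subgroup G) : Set G) :=
    Subgroup.le_normalizer hu
  apply stabilizesBlock_of_conj_trivial _ e u hun
  intro θ c
  have hcf := Cfsg.Agent.Lib.Helper4.isClassFunction_of_isIrrCharacter θ.2
  have e1 : (conjK _ u hun).symm c =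
      (⟨u, hu⟩ : Subgroup.centralizer (P : Set G))⁻¹ * c *
        ((⟨u, hu⟩ : Subgroup.centralizer (P : Set G))⁻¹)⁻¹ := by
    apply Subtype.ext
    rw [conjK_symm_apply]
    simp
  rw [e1, hcf c _]

theorem centralizer_le_normalizer' (P : Subgroup G) :
    Subgroup.centralizer (P : Set G) ≤ Subgroup.normalizer (P : Set G) := by
  intro c hc
  rw [Subgroup.mem_normalizer_iff]
  intro n
  constructor
  · intro hn
    have := hc n hn
    have e : c * n * c⁻¹ = n := by
      calc c * n * c⁻¹ = (n * c) * c⁻¹ := by rw [this]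
        _ = n := by group
    rw [e]; exact hn
  · intro hn
    have h2 := hc _ hn
    -- c * n * c⁻¹ ∈ P commutes with c
    have e : n = c⁻¹ * (c * n * c⁻¹) * c := by group
    rw [e]
    have e2 : c⁻¹ * (c * n * c⁻¹) * c = c * n * c⁻¹ := by
      calc c⁻¹ * (c * n * c⁻¹) * c = c⁻¹ * ((c * n * c⁻¹) * c) := by group
        _ = c⁻¹ * (c * (c * n * c⁻¹)) := by rw [h2]
        _ = c * n * c⁻¹ := by group
    rw [e2]; exact hn

/-- **going up**: a `p`-subgroup `R` with `P ≤ R ≤ N_G(P, e)` such that the idempotent of `e`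
does not vanish at some element of `C_G(R)` carries a block `g` with `(P, e) ⊴ (R, g)`. -/
theorem exists_normalSuperpair {p : ℕ} [Fact p.Prime] (hM : IsPModular p M) {P R : Subgroup G}
    {e : Set (IrrCharacter (Subgroup.centralizer (P : Set G)))} (hPe : IsBrauerPair p M P e)
    (hR : IsPGroup p R) (hPR : P ≤ R) (hRN : R ≤ Subgroup.normalizer (P : Set G))
    (hst : ∀ x ∈ R, StabilizesBlock (Subgroup.centralizer (P : Set G)) e x)
    (y : G) (hy : y ∈ Subgroup.centralizer (R : Set G))
    (hne : ¬ MemLocalIdeal M (subgroupBlockCoeff (Subgroup.centralizer (P : Set G)) e y)) :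
    ∃ g : Set (IrrCharacter (Subgroup.centralizer (R : Set G))), IsNormalSubpair p M P e R g := by
  have hMprime : M.IsPrime := hM.2.1.isPrime
  have hMtop : M ≠ ⊤ := Ideal.IsPrime.ne_top hMprime
  have hp : p.Prime := Fact.out
  obtain ⟨hP, he⟩ := hPe
  set α := subgroupBlockCoeff (Subgroup.centralizer (P : Set G)) e with hα
  have hαR : ∀ g, MemLocalRing M (α g) := subgroupBlockCoeff_memLocalRing _ he
  have hαidem : conv α α = α := conv_subgroupBlockCoeff_self _ e
  have hαinvR : InvUnder R α := by
    rw [hα, subgroupBlockCoeff_eq_extZero]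
    exact invUnder_extZero_of_stabilizes _ R e hst
  have hCRC : Subgroup.centralizer (R : Set G) ≤ Subgroup.centralizer (P : Set G) :=
    Subgroup.centralizer_le (by exact_mod_cast hPR)
  have hαinvC : InvUnder (Subgroup.centralizer (R : Set G)) α := by
    rw [hα, subgroupBlockCoeff_eq_extZero]
    exact invUnder_mono hCRC (invUnder_extZero_self _ (isClassFunction_blockCoeff e))
  set η := resTo (Subgroup.centralizer (R : Set G)) α with hη
  have hηcf : IsClassFunction (Subgroup.centralizer (R : Set G)) η := isClassFunction_resTo hαinvC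
  have hηR : ∀ x, MemLocalRing M (η x) := fun x => hαR _
  have hidem : ∀ x, MemPLocal M p (conv η η x - η x) := by
    intro z
    have h1 := conv_sub_memPLocal (M := M) R hR α α hαinvR hαinvR hαR hαR (z : G) z.2
    rw [hαidem] at h1
    have e1 : conv η η z - η z = -(α (z : G) - ∑ c : Subgroup.centralizer (R : Set G),
        α c * α ((c : G)⁻¹ * z)) := by
      rw [neg_sub]
      rfl
    rw [e1]
    exact memPLocal_neg h1
  -- some central character does not vanish
  have hex : ∃ φ : IrrCharacter (Subgroup.centralizer (R : Set G)),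
      ¬ MemLocalIdeal M (omegaF (φ : Subgroup.centralizer (R : Set G) → ℂ) η) := by
    by_contra hcon
    push Not at hcon
    have := memPLocal_of_idem_mod_p hM η hηcf hηR hidem hcon ⟨y, hy⟩
    exact hne (this.memLocalIdeal hM)
  obtain ⟨φ, hφ⟩ := hex
  set t := omegaF (φ : Subgroup.centralizer (R : Set G) → ℂ) η with ht
  have htR : MemLocalRing M t := omegaF_memLocalRing φ.2 η hηcf hηR
  have ht1 : MemLocalIdeal M (t - 1) := by
    have h1 : MemPLocal M p (t * t - t) := by
      have := omegaF_memPLocal (M := M) hp.ne_zero φ.2 (conv η η - η)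
        (isClassFunction_sub (isClassFunction_conv hηcf hηcf) hηcf) hidem
      rw [omegaF_sub, omegaF_conv φ.2 _ _ hηcf hηcf] at this
      exact this
    rcases memLocalIdeal_or_of_idem htR (h1.memLocalIdeal hM) with h | h
    · exact absurd h hφ
    · exact h
  refine ⟨{ψ | SameBlock M (φ : Subgroup.centralizer (R : Set G) → ℂ)
    (ψ : Subgroup.centralizer (R : Set G) → ℂ)}, ⟨hP, he⟩, ⟨hR, ⟨φ, rfl⟩⟩, hPR, hRN, hst, ?_⟩
  intro ψ hψ
  have h1 := brauerOmega_sameBlock R α hαinvC hαR
    (Cfsg.Agent.Lib.Helper4.isClassFunction_of_isIrrCharacter ψ.2)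
    (Cfsg.Agent.Lib.Helper4.isClassFunction_of_isIrrCharacter φ.2)
    (Cfsg.Agent.Lib.Helper28.sameBlock_symm hψ)
  have h2 : brauerOmega R α (φ : Subgroup.centralizer (R : Set G) → ℂ) = t := by
    rw [brauerOmega_eq_omegaF]
  have := memLocalIdeal_add h1 (h2 ▸ ht1)
  have e2 : brauerOmega R α (ψ : Subgroup.centralizer (R : Set G) → ℂ) -
      brauerOmega R α (φ : Subgroup.centralizer (R : Set G) → ℂ) +
      (brauerOmega R α (φ : Subgroup.centralizer (R : Set G) → ℂ) - 1) =
      brauerOmega R α (ψ : Subgroup.centralizer (R : Set G) → ℂ) - 1 := by ring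
  rw [e2] at this
  exact this

/-- **the star property of maximal Brauer pairs** -/
theorem maximal_star {p : ℕ} [Fact p.Prime] (hM : IsPModular p M) {B : Set (IrrCharacter G)}
    {P : Subgroup G} {e : Set (IrrCharacter (Subgroup.centralizer (P : Set G)))}
    (hmax : IsMaximalBrauerPair p M B P e) (T : Subgroup G)
    (hT : ∀ x : G, x ∈ T ↔ x ∈ Subgroup.normalizer (P : Set G) ∧
      StabilizesBlock (Subgroup.centralizer (P : Set G)) e x)
    (y : G) (S : Subgroup G) (hS : IsPGroup p S) (hST : S ≤ T)
    (hyS : y ∈ Subgroup.centralizer (S : Set G)) (hyP : y ∈ Subgroup.centralizer (P : Set G))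
    (hne : ¬ MemLocalIdeal M (subgroupBlockCoeff (Subgroup.centralizer (P : Set G)) e y)) :
    S ≤ P := by
  have hMprime : M.IsPrime := hM.2.1.isPrime
  obtain ⟨hBe, hmx⟩ := hmax
  have hPe : IsBrauerPair p M P e := hBe.1
  have hP : IsPGroup p P := hPe.1
  have hPT : P ≤ T := fun u hu =>
    (hT u).mpr ⟨Subgroup.le_normalizer hu, stabilizesBlock_of_mem P e hu⟩
  set R := P ⊔ S with hR
  have hRT : R ≤ T := sup_le hPT hST
  have hRN : R ≤ Subgroup.normalizer (P : Set G) := fun x hx => ((hT x).mp (hRT hx)).1
  have hSN : S ≤ Subgroup.normalizer (P : Set G) := fun x hx => ((hT x).mp (hST hx)).1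
  have hRp : IsPGroup p R := IsPGroup.to_sup_of_normal_left' hP hS hSN
  have hyR : y ∈ Subgroup.centralizer (R : Set G) := by
    have h1 : R ≤ Subgroup.centralizer ({y} : Set G) := by
      apply sup_le
      · intro u hu
        rw [Subgroup.mem_centralizer_singleton_iff]
        exact (hyP u hu)
      · intro u hu
        rw [Subgroup.mem_centralizer_singleton_iff]
        exact (hyS u hu)
    intro r hr
    have := h1 hr
    rw [Subgroup.mem_centralizer_singleton_iff] at this
    exact this
  obtain ⟨g, hg⟩ := exists_normalSuperpair hM hPe hRp le_sup_left hRN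
    (fun x hx => ((hT x).mp (hRT hx)).2) y hyR hne
  have hBR : IsBrauerPairOf p M B R g :=
    (isBrauerPairOf_iff_of_isNormalSubpair hM hg hBe.2.1).mpr hBe
  have hle : SubpairLE p M P e R g := Relation.ReflTransGen.single hg
  have := hmx R g hBR hle
  rw [← this]
  exact le_sup_right

end

end Cfsg.Agent.Lib.Helper4
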