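import Mathlib
import Cfsg.Prelude.Def_BlockFusion
import Cfsg.Agent.Lib.Helper4.BrauerUnique

set_option autoImplicit false

/-!
# Brauer pairs of the principal block (helper4)

* `isNormalSubpair_principal`, `subpairLE_principal` : the principal pairs `(Q, B₀(C_G(Q)))` form
  chains.
* `conjBlock_principal` : conjugates of principal blocks are principal.
* `subpair_principal_of_le` : below a principal pair all pairs are principal.
-/

namespace Cfsg.Agent.Lib.Helper4

open Cfsg Cfsg.Agent.Lib.Helper28
open scoped ComplexConjugate Classical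

section

variable {G : Type*} [Group G] [Fintype G] {M : Ideal AlgInt}

theorem sum_blockCoeff_principal (hMtop : M ≠ ⊤) (K : Type*) [Group K] [Fintype K] :
    ∑ k : K, blockCoeff (principalBlock M K) k = 1 := by
  have := omegaF_blockCoeff (principalBlock M K) (trivIrr K)
  rw [if_pos (trivIrr_mem_principalBlock hMtop)] at this
  unfold omegaF at this
  simpa [trivIrr] using this

/-- principal pairs: `(Q, B₀(C_G(Q))) ⊴ (N, B₀(C_G(N)))` for `Q ⊴ N` -/
theorem isNormalSubpair_principal {p : ℕ} [Fact p.Prime] (hM : IsPModular p M)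
    {Q N : Subgroup G} (hN : IsPGroup p N) (hQN : Q ≤ N)
    (hNQ : N ≤ Subgroup.normalizer (Q : Set G)) :
    IsNormalSubpair p M Q (principalBlock M (Subgroup.centralizer (Q : Set G))) N
      (principalBlock M (Subgroup.centralizer (N : Set G))) := by
  have hMprime : M.IsPrime := hM.2.1.isPrime
  have hMtop : M ≠ ⊤ := Ideal.IsPrime.ne_top hMprime
  have hNK : N ≤ Subgroup.normalizer
      ((Subgroup.centralizer (Q : Set G) : Subgroup G) : Set G) :=
    hNQ.trans (normalizer_le_normalizer_centralizer Q)
  have hCK : Subgroup.centralizer (N : Set G) ≤ Subgroup.centralizer (Q : Set G) :=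
    Subgroup.centralizer_le hQN
  have hst : ∀ x ∈ N, StabilizesBlock (Subgroup.centralizer (Q : Set G))
      (principalBlock M (Subgroup.centralizer (Q : Set G))) x :=
    fun x hx => stabilizesBlock_principalBlock _ x (hNK hx)
  refine ⟨⟨hN.to_le hQN, isPBlock_principalBlock⟩, ⟨hN, isPBlock_principalBlock⟩, hQN, hNQ,
    hst, ?_⟩
  intro ξ hξ
  set β := extZero (Subgroup.centralizer (Q : Set G))
    (blockCoeff (principalBlock M (Subgroup.centralizer (Q : Set G)))) with hβ
  have hβR : ∀ g, MemLocalRing M (β g) :=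
    extZero_memLocalRing hMtop _ (fun x => osima isPBlock_principalBlock x)
  have hβN : InvUnder N β := invUnder_extZero_of_stabilizes _ N _ hst
  have hβC : InvUnder (Subgroup.centralizer (N : Set G)) β :=
    invUnder_mono hCK (invUnder_extZero_self _ (isClassFunction_blockCoeff _))
  have h1 : SameBlock M (fun _ : Subgroup.centralizer (N : Set G) => (1 : ℂ))
      (ξ : Subgroup.centralizer (N : Set G) → ℂ) := hξ
  have hone_cf : IsClassFunction (Subgroup.centralizer (N : Set G)) (fun _ => (1 : ℂ)) :=
    fun _ _ => rfl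
  have h2 := brauerOmega_sameBlock N β hβC hβR
    (Cfsg.Agent.Lib.Helper4.isClassFunction_of_isIrrCharacter ξ.2) hone_cf (sameBlock_symm h1)
  have h3 := (brauerOmega_one_sub_sum (M := M) N hN β hβN hβR).memLocalIdeal hM
  have hsum : ∑ g, β g = 1 := by
    rw [← sum_subgroup_of_vanish (Subgroup.centralizer (Q : Set G)) β
      (fun g hg => extZero_not_mem' _ _ hg)]
    rw [← sum_blockCoeff_principal (M := M) hMtop (Subgroup.centralizer (Q : Set G))]
    refine Finset.sum_congr rfl fun k _ => ?_
    exact extZero_mem' _ _ k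
  rw [hsum] at h3
  have h4 := memLocalIdeal_sub h2 h3
  have e : brauerOmega N β (ξ : Subgroup.centralizer (N : Set G) → ℂ) -
      brauerOmega N β (fun _ => (1 : ℂ)) - (1 - brauerOmega N β (fun _ => (1 : ℂ))) =
      brauerOmega N β (ξ : Subgroup.centralizer (N : Set G) → ℂ) - 1 := by ring
  rw [e] at h4
  exact h4

/-- principal pairs form chains -/
theorem subpairLE_principal {p : ℕ} [Fact p.Prime] (hM : IsPModular p M) :
    ∀ n : ℕ, ∀ (P Q : Subgroup G), IsPGroup p P → Q ≤ P → Nat.card P - Nat.card Q ≤ n →
      SubpairLE p M Q (principalBlock M (Subgroup.centralizer (Q : Set G))) P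
        (principalBlock M (Subgroup.centralizer (P : Set G))) := by
  intro n
  induction n with
  | zero =>
    intro P Q hP hQP hn
    have hle : Nat.card P ≤ Nat.card Q := by omega
    have heq : Q = P := Subgroup.eq_of_le_of_card_ge hQP hle
    subst heq
    exact Relation.ReflTransGen.refl
  | succ n ih =>
    intro P Q hP hQP hn
    by_cases heq : Q = P
    · subst heq
      exact Relation.ReflTransGen.refl
    · have hlt : Q < P := lt_of_le_of_ne hQP heq
      have hN := lt_inf_normalizer_of_lt' P Q hP hlt
      set N := P ⊓ Subgroup.normalizer (Q : Set G) with hNdef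
      have hNP : N ≤ P := inf_le_left
      have hc1 := card_lt_card_of_lt' hN
      have hc2 : Nat.card N ≤ Nat.card P := Subgroup.card_le_of_le hNP
      have hchain := ih P N hP hNP (by omega)
      have hstep := isNormalSubpair_principal hM (hP.to_le hNP) hN.le
        (inf_le_right : N ≤ Subgroup.normalizer (Q : Set G))
      exact Relation.ReflTransGen.head
        (show NormalSubpairRel p M ⟨Q, _⟩ ⟨N, _⟩ from hstep) hchain

/-- below a principal pair, all pairs are principal -/
theorem subpair_principal_of_le {p : ℕ} [Fact p.Prime] (hM : IsPModular p M)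
    {P Q : Subgroup G} (hP : IsPGroup p P)
    {f : Set (IrrCharacter (Subgroup.centralizer (Q : Set G)))} (hf : IsPBlock M f)
    (h : SubpairLE p M Q f P (principalBlock M (Subgroup.centralizer (P : Set G)))) :
    f = principalBlock M (Subgroup.centralizer (Q : Set G)) := by
  have hQP : Q ≤ P := subpairLE_le h
  exact subpair_unique hM _ P Q _ ⟨hP, isPBlock_principalBlock⟩ hQP le_rfl f _ hf
    isPBlock_principalBlock h (subpairLE_principal hM _ P Q hP hQP le_rfl)

end

section ConjBlock

variable {G : Type*} [Group G] {M : Ideal AlgInt}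

theorem centConj_mem (Q : Subgroup G) (x : G) {c : G}
    (hc : c ∈ Subgroup.centralizer (Q : Set G)) :
    x * c * x⁻¹ ∈ Subgroup.centralizer
      ((Q.map (MulAut.conj x).toMonoidHom : Subgroup G) : Set G) := by
  rw [Subgroup.mem_centralizer_iff]
  rintro _ ⟨q, hq, rfl⟩
  have := Subgroup.mem_centralizer_iff.mp hc q hq
  show (MulAut.conj x) q * (x * c * x⁻¹) = x * c * x⁻¹ * (MulAut.conj x) q
  rw [MulAut.conj_apply]
  calc x * q * x⁻¹ * (x * c * x⁻¹) = x * (q * c) * x⁻¹ := by group
    _ = x * (c * q) * x⁻¹ := by rw [this]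
    _ = x * c * x⁻¹ * (x * q * x⁻¹) := by group

theorem centConj_mem' (Q : Subgroup G) (x : G) {c' : G}
    (hc : c' ∈ Subgroup.centralizer
      ((Q.map (MulAut.conj x).toMonoidHom : Subgroup G) : Set G)) :
    x⁻¹ * c' * x ∈ Subgroup.centralizer (Q : Set G) := by
  rw [Subgroup.mem_centralizer_iff]
  intro q hq
  have hq' : x * q * x⁻¹ ∈ (Q.map (MulAut.conj x).toMonoidHom : Subgroup G) :=
    ⟨q, hq, by simp [MulAut.conj_apply]⟩
  have := Subgroup.mem_centralizer_iff.mp hc _ hq'
  calc q * (x⁻¹ * c' * x) = x⁻¹ * ((x * q * x⁻¹) * c') * x := by group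
    _ = x⁻¹ * (c' * (x * q * x⁻¹)) * x := by rw [this]
    _ = x⁻¹ * c' * x * q := by group

/-- conjugation by `x`, as an isomorphism from `C_G(Q)` onto `C_G(x Q x⁻¹)` -/
def centConj (Q : Subgroup G) (x : G) :
    Subgroup.centralizer (Q : Set G) ≃*
      Subgroup.centralizer ((Q.map (MulAut.conj x).toMonoidHom : Subgroup G) : Set G) where
  toFun c := ⟨x * c * x⁻¹, centConj_mem Q x c.2⟩
  invFun c' := ⟨x⁻¹ * c' * x, centConj_mem' Q x c'.2⟩
  left_inv c := Subtype.ext (by simp [mul_assoc])
  right_inv c' := Subtype.ext (by simp [mul_assoc])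
  map_mul' a b := by
    apply Subtype.ext
    show x * ((a : G) * b) * x⁻¹ = (x * a * x⁻¹) * (x * b * x⁻¹)
    group

theorem centConj_apply (Q : Subgroup G) (x : G) (c : Subgroup.centralizer (Q : Set G)) :
    ((centConj Q x c : _) : G) = x * c * x⁻¹ := rfl

/-- conjugates of principal blocks are principal -/
theorem conjBlock_principal (Q : Subgroup G) (x : G) :
    conjBlock Q x (principalBlock M (Subgroup.centralizer (Q : Set G))) =
      principalBlock M (Subgroup.centralizer
        ((Q.map (MulAut.conj x).toMonoidHom : Subgroup G) : Set G)) := by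
  apply Set.Subset.antisymm
  · rintro ξ' ⟨ξ, hξ, h⟩
    have h1 : SameBlock M (fun _ : Subgroup.centralizer (Q : Set G) => (1 : ℂ))
        (ξ : Subgroup.centralizer (Q : Set G) → ℂ) := hξ
    have h2 := sameBlock_comp_mulEquiv (M := M) (centConj Q x).symm h1
    have e : (ξ : Subgroup.centralizer (Q : Set G) → ℂ) ∘ (centConj Q x).symm =
        (ξ' : Subgroup.centralizer
          ((Q.map (MulAut.conj x).toMonoidHom : Subgroup G) : Set G) → ℂ) := by
      funext c'
      symm
      apply h ((centConj Q x).symm c') c'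
      have := centConj_apply Q x ((centConj Q x).symm c')
      rw [MulEquiv.apply_symm_apply] at this
      exact this
    rw [e] at h2
    exact h2
  · intro ξ' hξ'
    have h1 : SameBlock M (fun _ : Subgroup.centralizer
        ((Q.map (MulAut.conj x).toMonoidHom : Subgroup G) : Set G) => (1 : ℂ))
        (ξ' : Subgroup.centralizer
          ((Q.map (MulAut.conj x).toMonoidHom : Subgroup G) : Set G) → ℂ) := hξ'
    have h2 := sameBlock_comp_mulEquiv (M := M) (centConj Q x) h1
    have hirr := Cfsg.Agent.Lib.Helper2.isIrrCharacter_comp_mulEquiv ξ'.2 (centConj Q x)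
    refine ⟨⟨_, hirr⟩, h2, ?_⟩
    intro c c' hc
    have e : c' = centConj Q x c := by
      apply Subtype.ext
      rw [hc, centConj_apply]
    rw [e]
    rfl

end ConjBlock

end Cfsg.Agent.Lib.Helper4
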