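import Mathlib
import Cfsg.Agent.Lib.Helper4.BrauerPrincipal
import Cfsg.Agent.Lib.Helper4.BrauerMax
import Cfsg.Agent.Lib.Helper2.CharConj

set_option autoImplicit false

/-!
# Conjugation of Brauer pairs (helper4)

`conjPair x (Q, f) = (x Q x⁻¹, conjBlock Q x f)` preserves Brauer pairs of `B` and inclusion.
-/

namespace Cfsg.Agent.Lib.Helper4

open Cfsg Cfsg.Agent.Lib.Helper28
open scoped ComplexConjugate Classical

section Transport

variable {K K' : Type*} [Group K] [Group K'] {M : Ideal AlgInt}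

/-- transport of irreducible characters along a group isomorphism -/
noncomputable def irrEquiv (φ : K ≃* K') : IrrCharacter K' ≃ IrrCharacter K where
  toFun ξ' := ⟨(ξ' : K' → ℂ) ∘ φ, Cfsg.Agent.Lib.Helper2.isIrrCharacter_comp_mulEquiv ξ'.2 φ⟩
  invFun ξ := ⟨(ξ : K → ℂ) ∘ φ.symm, Cfsg.Agent.Lib.Helper2.isIrrCharacter_comp_mulEquiv ξ.2 φ.symm⟩
  left_inv ξ' := by
    apply Subtype.ext
    funext k'
    simp
  right_inv ξ := by
    apply Subtype.ext
    funext k
    simp

theorem irrEquiv_apply (φ : K ≃* K') (ξ' : IrrCharacter K') (k : K) :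
    (irrEquiv φ ξ' : K → ℂ) k = (ξ' : K' → ℂ) (φ k) := rfl

theorem irrEquiv_symm_apply (φ : K ≃* K') (ξ : IrrCharacter K) (k' : K') :
    ((irrEquiv φ).symm ξ : K' → ℂ) k' = (ξ : K → ℂ) (φ.symm k') := rfl

theorem sameBlock_irrEquiv_iff (φ : K ≃* K') (ξ' ψ' : IrrCharacter K') :
    SameBlock M (irrEquiv φ ξ' : K → ℂ) (irrEquiv φ ψ' : K → ℂ) ↔
      SameBlock M (ξ' : K' → ℂ) (ψ' : K' → ℂ) := by
  constructor
  · intro h
    have := sameBlock_comp_mulEquiv (M := M) φ.symm h
    have e1 : (irrEquiv φ ξ' : K → ℂ) ∘ φ.symm = (ξ' : K' → ℂ) := by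
      funext k'; simp [irrEquiv_apply]
    have e2 : (irrEquiv φ ψ' : K → ℂ) ∘ φ.symm = (ψ' : K' → ℂ) := by
      funext k'; simp [irrEquiv_apply]
    rwa [e1, e2] at this
  · intro h
    exact sameBlock_comp_mulEquiv (M := M) φ h

theorem isPBlock_preimage_irrEquiv (φ : K ≃* K') {f : Set (IrrCharacter K)} (hf : IsPBlock M f) :
    IsPBlock M ((irrEquiv φ) ⁻¹' f) := by
  obtain ⟨χ0, rfl⟩ := hf
  refine ⟨(irrEquiv φ).symm χ0, ?_⟩
  ext ξ'
  show SameBlock M (χ0 : K → ℂ) (irrEquiv φ ξ' : K → ℂ) ↔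
    SameBlock M ((irrEquiv φ).symm χ0 : K' → ℂ) (ξ' : K' → ℂ)
  rw [← sameBlock_irrEquiv_iff (M := M) φ, Equiv.apply_symm_apply]

theorem blockCoeff_preimage_irrEquiv [Fintype K] [Fintype K'] (φ : K ≃* K')
    (f : Set (IrrCharacter K)) (k' : K') :
    blockCoeff ((irrEquiv φ) ⁻¹' f) k' = blockCoeff f (φ.symm k') := by
  have : Fintype (IrrCharacter K) := Fintype.ofFinite _
  have : Fintype (IrrCharacter K') := Fintype.ofFinite _
  rw [blockCoeff_eq_sum, blockCoeff_eq_sum]
  have hcard : Nat.card K' = Nat.card K := Nat.card_congr φ.symm.toEquiv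
  rw [hcard]
  congr 1
  rw [← (irrEquiv φ).sum_comp]
  refine Finset.sum_congr rfl fun ξ' _ => ?_
  have hiff : ξ' ∈ (irrEquiv φ) ⁻¹' f ↔ irrEquiv φ ξ' ∈ f := Iff.rfl
  by_cases h : irrEquiv φ ξ' ∈ f
  · rw [if_pos h, if_pos (hiff.mpr h), irrEquiv_apply, irrEquiv_apply, map_one,
      MulEquiv.apply_symm_apply]
  · rw [if_neg h, if_neg (fun h1 => h (hiff.mp h1))]

end Transport

section Conj

variable {G : Type*} [Group G] [Fintype G] {M : Ideal AlgInt}

theorem mem_conjBlock_iff (Q : Subgroup G) (x : G)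
    (f : Set (IrrCharacter (Subgroup.centralizer (Q : Set G))))
    (ξ' : IrrCharacter (Subgroup.centralizer
      ((Q.map (MulAut.conj x).toMonoidHom : Subgroup G) : Set G))) :
    ξ' ∈ conjBlock Q x f ↔ irrEquiv (centConj Q x) ξ' ∈ f := by
  constructor
  · rintro ⟨ξ, hξ, h⟩
    have : irrEquiv (centConj Q x) ξ' = ξ := by
      apply Subtype.ext
      funext c
      rw [irrEquiv_apply]
      exact h c (centConj Q x c) (centConj_apply Q x c)
    rw [this]
    exact hξ
  · intro h
    refine ⟨irrEquiv (centConj Q x) ξ', h, ?_⟩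
    intro c c' hc
    have e : c' = centConj Q x c := by
      apply Subtype.ext
      rw [hc, centConj_apply]
    rw [e]
    rfl

theorem conjBlock_eq_preimage (Q : Subgroup G) (x : G)
    (f : Set (IrrCharacter (Subgroup.centralizer (Q : Set G)))) :
    conjBlock Q x f = (irrEquiv (centConj Q x)) ⁻¹' f := by
  ext ξ'
  exact mem_conjBlock_iff Q x f ξ'

theorem isPBlock_conjBlock (Q : Subgroup G) (x : G)
    {f : Set (IrrCharacter (Subgroup.centralizer (Q : Set G)))} (hf : IsPBlock M f) :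
    IsPBlock M (conjBlock Q x f) := by
  rw [conjBlock_eq_preimage]
  exact isPBlock_preimage_irrEquiv _ hf

theorem isPGroup_map_conj {p : ℕ} {Q : Subgroup G} (hQ : IsPGroup p Q) (x : G) :
    IsPGroup p (Q.map (MulAut.conj x).toMonoidHom : Subgroup G) := hQ.map _

theorem isBrauerPair_conj {p : ℕ} {Q : Subgroup G}
    {f : Set (IrrCharacter (Subgroup.centralizer (Q : Set G)))} (h : IsBrauerPair p M Q f)
    (x : G) : IsBrauerPair p M (Q.map (MulAut.conj x).toMonoidHom) (conjBlock Q x f) :=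
  ⟨isPGroup_map_conj h.1 x, isPBlock_conjBlock Q x h.2⟩

theorem mem_map_conj_iff (Q : Subgroup G) (x g : G) :
    g ∈ (Q.map (MulAut.conj x).toMonoidHom : Subgroup G) ↔ x⁻¹ * g * x ∈ Q := by
  rw [Subgroup.mem_map]
  constructor
  · rintro ⟨q, hq, rfl⟩
    have : x⁻¹ * ((MulAut.conj x).toMonoidHom q) * x = q := by
      simp [MulAut.conj_apply, mul_assoc]
    rw [this]; exact hq
  · intro h
    refine ⟨x⁻¹ * g * x, h, ?_⟩
    simp [MulAut.conj_apply, mul_assoc]

/-- the idempotent of a conjugated block -/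
theorem subgroupBlockCoeff_conjBlock (Q : Subgroup G) (x : G)
    (f : Set (IrrCharacter (Subgroup.centralizer (Q : Set G)))) (g : G) :
    subgroupBlockCoeff (Subgroup.centralizer
      ((Q.map (MulAut.conj x).toMonoidHom : Subgroup G) : Set G)) (conjBlock Q x f) g =
      subgroupBlockCoeff (Subgroup.centralizer (Q : Set G)) f (x⁻¹ * g * x) := by
  rw [subgroupBlockCoeff_eq_extZero, subgroupBlockCoeff_eq_extZero]
  by_cases hg : g ∈ Subgroup.centralizer
      ((Q.map (MulAut.conj x).toMonoidHom : Subgroup G) : Set G)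
  · have hg' : x⁻¹ * g * x ∈ Subgroup.centralizer (Q : Set G) := centConj_mem' Q x hg
    have e1 := extZero_mem' _ (blockCoeff (conjBlock Q x f)) ⟨g, hg⟩
    have e2 := extZero_mem' _ (blockCoeff f) ⟨x⁻¹ * g * x, hg'⟩
    simp only at e1 e2
    rw [e1, e2, conjBlock_eq_preimage, blockCoeff_preimage_irrEquiv]
    rfl
  · have hg' : x⁻¹ * g * x ∉ Subgroup.centralizer (Q : Set G) := by
      intro h
      apply hg
      have := centConj_mem Q x h
      have e : x * (x⁻¹ * g * x) * x⁻¹ = g := by group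
      rwa [e] at this
    rw [extZero_not_mem' _ _ hg, extZero_not_mem' _ _ hg']

/-- the Brauer map at a conjugate subgroup -/
theorem brauerOmega_conjSubgroup (Q : Subgroup G) (x : G) (β : G → ℂ)
    (ξ' : Subgroup.centralizer ((Q.map (MulAut.conj x).toMonoidHom : Subgroup G) : Set G) → ℂ) :
    brauerOmega (Q.map (MulAut.conj x).toMonoidHom) (fun g => β (x⁻¹ * g * x)) ξ' =
      brauerOmega Q β (ξ' ∘ centConj Q x) := by
  unfold brauerOmega
  rw [← finsum_comp_equiv (centConj Q x).toEquiv]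
  refine finsum_congr fun c => ?_
  have e1 : x⁻¹ * ((centConj Q x c : _) : G) * x = (c : G) := by
    rw [centConj_apply]; group
  show β (x⁻¹ * ((centConj Q x c : _) : G) * x) * ξ' (centConj Q x c) / ξ' 1 =
    β c * ξ' (centConj Q x c) / ξ' (centConj Q x 1)
  rw [e1, map_one]

/-- conjugates of Brauer pairs of `B` are Brauer pairs of `B` -/
theorem isBrauerPairOf_conj {p : ℕ} {B : Set (IrrCharacter G)} {Q : Subgroup G}
    {f : Set (IrrCharacter (Subgroup.centralizer (Q : Set G)))}
    (h : IsBrauerPairOf p M B Q f) (x : G) :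
    IsBrauerPairOf p M B (Q.map (MulAut.conj x).toMonoidHom) (conjBlock Q x f) := by
  obtain ⟨hQf, hB, hone⟩ := h
  refine ⟨isBrauerPair_conj hQf x, hB, ?_⟩
  intro ξ' hξ'
  have hcf := isClassFunction_blockCoeff B
  have e1 : blockCoeff B = fun g => blockCoeff B (x⁻¹ * g * x) := by
    funext g
    have := hcf g x⁻¹
    rw [inv_inv] at this
    exact this.symm
  rw [e1, brauerOmega_conjSubgroup]
  exact hone (irrEquiv (centConj Q x) ξ') ((mem_conjBlock_iff Q x f ξ').mp hξ')

/-- conjugation of the stabilizing property -/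
theorem stabilizesBlock_conj (Q : Subgroup G) (x : G)
    {f : Set (IrrCharacter (Subgroup.centralizer (Q : Set G)))} {y : G}
    (h : StabilizesBlock (Subgroup.centralizer (Q : Set G)) f y) :
    StabilizesBlock (Subgroup.centralizer
      ((Q.map (MulAut.conj x).toMonoidHom : Subgroup G) : Set G)) (conjBlock Q x f)
      (x * y * x⁻¹) := by
  obtain ⟨hy, hst⟩ := h
  constructor
  · rw [Subgroup.mem_normalizer_iff]
    intro c'
    have key : ∀ g : G, g ∈ Subgroup.centralizer
        ((Q.map (MulAut.conj x).toMonoidHom : Subgroup G) : Set G) ↔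
        x⁻¹ * g * x ∈ Subgroup.centralizer (Q : Set G) := by
      intro g
      constructor
      · exact fun h => centConj_mem' Q x h
      · intro h
        have := centConj_mem Q x h
        have e : x * (x⁻¹ * g * x) * x⁻¹ = g := by group
        rwa [e] at this
    rw [key, key]
    have := Subgroup.mem_normalizer_iff.mp hy (x⁻¹ * c' * x)
    rw [this]
    have e : x⁻¹ * (x * y * x⁻¹ * c' * (x * y * x⁻¹)⁻¹) * x = y * (x⁻¹ * c' * x) * y⁻¹ := by group
    rw [e]
  · intro ξ' hξ'
    have hξ : irrEquiv (centConj Q x) ξ' ∈ f := (mem_conjBlock_iff Q x f ξ').mp hξ'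
    obtain ⟨ψ, hψ, hconj⟩ := hst _ hξ
    refine ⟨(irrEquiv (centConj Q x)).symm ψ, ?_, ?_⟩
    · rw [mem_conjBlock_iff, Equiv.apply_symm_apply]
      exact hψ
    · intro k1 k2 hk
      rw [irrEquiv_symm_apply]
      have h1 := hconj ((centConj Q x).symm k1) ((centConj Q x).symm k2) (by
        show x⁻¹ * (k2 : G) * x = y * (x⁻¹ * (k1 : G) * x) * y⁻¹
        rw [hk]; group)
      rw [h1, irrEquiv_apply, MulEquiv.apply_symm_apply]

/-- conjugation preserves normal inclusion of Brauer pairs -/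
theorem isNormalSubpair_conj {p : ℕ} {Q P : Subgroup G}
    {f : Set (IrrCharacter (Subgroup.centralizer (Q : Set G)))}
    {e : Set (IrrCharacter (Subgroup.centralizer (P : Set G)))}
    (h : IsNormalSubpair p M Q f P e) (x : G) :
    IsNormalSubpair p M (Q.map (MulAut.conj x).toMonoidHom) (conjBlock Q x f)
      (P.map (MulAut.conj x).toMonoidHom) (conjBlock P x e) := by
  obtain ⟨hQf, hPe, hQP, hPN, hst, hone⟩ := h
  refine ⟨isBrauerPair_conj hQf x, isBrauerPair_conj hPe x, Subgroup.map_mono hQP, ?_, ?_, ?_⟩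
  · intro u hu
    rw [mem_map_conj_iff] at hu
    have hun := hPN hu
    rw [Subgroup.mem_normalizer_iff]
    intro g
    rw [mem_map_conj_iff, mem_map_conj_iff]
    have := Subgroup.mem_normalizer_iff.mp hun (x⁻¹ * g * x)
    rw [this]
    have e1 : x⁻¹ * u * x * (x⁻¹ * g * x) * (x⁻¹ * u * x)⁻¹ = x⁻¹ * (u * g * u⁻¹) * x := by group
    rw [e1]
  · intro u hu
    rw [mem_map_conj_iff] at hu
    have := stabilizesBlock_conj Q x (hst _ hu)
    have e1 : x * (x⁻¹ * u * x) * x⁻¹ = u := by group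
    rwa [e1] at this
  · intro ξ' hξ'
    have hξ : irrEquiv (centConj P x) ξ' ∈ e := (mem_conjBlock_iff P x e ξ').mp hξ'
    have e1 : subgroupBlockCoeff (Subgroup.centralizer
        ((Q.map (MulAut.conj x).toMonoidHom : Subgroup G) : Set G)) (conjBlock Q x f) =
        fun g => subgroupBlockCoeff (Subgroup.centralizer (Q : Set G)) f (x⁻¹ * g * x) := by
      funext g
      exact subgroupBlockCoeff_conjBlock Q x f g
    rw [e1, brauerOmega_conjSubgroup]
    exact hone _ hξ

/-- conjugation of Brauer pairs as a map on the index type -/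
def conjPair (x : G) (a : BrauerPairIdx G) : BrauerPairIdx G :=
  ⟨a.1.map (MulAut.conj x).toMonoidHom, conjBlock a.1 x a.2⟩

theorem subpairLE_conj {p : ℕ} {a b : BrauerPairIdx G}
    (h : Relation.ReflTransGen (NormalSubpairRel p M) a b) (x : G) :
    Relation.ReflTransGen (NormalSubpairRel p M) (conjPair x a) (conjPair x b) := by
  have hl : NormalSubpairRel p M ≤ (Function.onFun (NormalSubpairRel p M) (conjPair x)) := by
    intro a b hab
    exact isNormalSubpair_conj hab x
  exact Relation.ReflTransGen.lift (conjPair x) hl a b h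

end Conj

end Cfsg.Agent.Lib.Helper4
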