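import Mathlib
import Cfsg.Agent.Lib.Helper4.BrauerMax

set_option autoImplicit false

/-!
# The trace of a block idempotent of a local subgroup (helper4)

`traceFun T α g = ∑_{x ∈ G/T} α (x⁻¹ g x)` for a `T`-invariant function `α`.
-/

namespace Cfsg.Agent.Lib.Helper4

open Cfsg Cfsg.Agent.Lib.Helper28
open scoped ComplexConjugate Classical

section

variable {G : Type*} [Group G] [Fintype G] {M : Ideal AlgInt}

/-- the trace from `T` to `G` of a `T`-invariant function -/
noncomputable def traceFun (T : Subgroup G) (α : G → ℂ) (g : G) : ℂ :=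
  ∑ q : G ⧸ T, α ((Quotient.out q)⁻¹ * g * Quotient.out q)

theorem traceFun_term {T : Subgroup G} {α : G → ℂ} (hα : InvUnder T α) (x g : G) :
    α ((Quotient.out (x : G ⧸ T))⁻¹ * g * Quotient.out (x : G ⧸ T)) = α (x⁻¹ * g * x) := by
  obtain ⟨t, ht⟩ := QuotientGroup.mk_out_eq_mul T x
  rw [ht]
  have := hα (t : G)⁻¹ (T.inv_mem t.2) (x⁻¹ * g * x)
  rw [← this]
  congr 1
  group

theorem isClassFunction_traceFun {T : Subgroup G} {α : G → ℂ} (hα : InvUnder T α) :
    IsClassFunction G (traceFun T α) := by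
  intro g k
  unfold traceFun
  rw [← Equiv.sum_comp (MulAction.toPerm k : G ⧸ T ≃ G ⧸ T)
    (fun q : G ⧸ T => α ((Quotient.out q)⁻¹ * (k * g * k⁻¹) * Quotient.out q))]
  refine Finset.sum_congr rfl fun q _ => ?_
  have hq : (MulAction.toPerm k : G ⧸ T ≃ G ⧸ T) q = ((k * Quotient.out q : G) : G ⧸ T) := by
    conv_lhs => rw [← QuotientGroup.out_eq' q]
    rfl
  rw [hq, traceFun_term hα]
  congr 1
  group

theorem traceFun_memLocalRing [M.IsPrime] {T : Subgroup G} {α : G → ℂ}
    (hαR : ∀ g, MemLocalRing M (α g)) (g : G) : MemLocalRing M (traceFun T α g) :=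
  memLocalRing_sum _ _ (fun q _ => hαR _)

/-- **orbit counting**: modulo `p` only the cosets fixed by `S` contribute -/
theorem traceFun_sub_fixed_memPLocal [M.IsPrime] {p : ℕ} [Fact p.Prime] {T : Subgroup G}
    {α : G → ℂ} (hα : InvUnder T α) (hαR : ∀ g, MemLocalRing M (α g)) (S : Subgroup G)
    (hS : IsPGroup p S) (y : G) (hy : y ∈ Subgroup.centralizer (S : Set G)) :
    MemPLocal M p (traceFun T α y -
      ∑ q ∈ Finset.univ.filter
        (fun q : G ⧸ T => ∀ s ∈ S, (Quotient.out q)⁻¹ * s * Quotient.out q ∈ T),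
        α ((Quotient.out q)⁻¹ * y * Quotient.out q)) := by
  set F : G ⧸ T → ℂ := fun q => α ((Quotient.out q)⁻¹ * y * Quotient.out q) with hF
  have hsm : ∀ (s : S) (q : G ⧸ T), s • q = (((s : G) * Quotient.out q : G) : G ⧸ T) := by
    intro s q
    conv_lhs => rw [← QuotientGroup.out_eq' q]
    rfl
  have hinv : ∀ (s : S) (q : G ⧸ T), F (s • q) = F q := by
    intro s q
    rw [hsm, hF]
    simp only
    rw [traceFun_term hα]
    congr 1
    have hc : (s : G) * y = y * (s : G) := hy s s.2
    calc ((s : G) * Quotient.out q)⁻¹ * y * ((s : G) * Quotient.out q)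
        = (Quotient.out q)⁻¹ * ((s : G)⁻¹ * (y * (s : G))) * Quotient.out q := by group
      _ = (Quotient.out q)⁻¹ * ((s : G)⁻¹ * ((s : G) * y)) * Quotient.out q := by rw [hc]
      _ = (Quotient.out q)⁻¹ * y * Quotient.out q := by group
  have h1 := sum_sub_sum_fixed_memPLocal (M := M) (P := S) (X := G ⧸ T) hS F hinv
    (fun q => hαR _)
  have hfilter : Finset.univ.filter (fun q : G ⧸ T => q ∈ MulAction.fixedPoints S (G ⧸ T)) =
      Finset.univ.filter
        (fun q : G ⧸ T => ∀ s ∈ S, (Quotient.out q)⁻¹ * s * Quotient.out q ∈ T) := by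
    apply Finset.filter_congr
    intro q _
    rw [MulAction.mem_fixedPoints]
    constructor
    · intro h s hs
      have h2 := h ⟨s, hs⟩
      rw [hsm] at h2
      have h3 : ((s * Quotient.out q : G) : G ⧸ T) = ((Quotient.out q : G) : G ⧸ T) := by
        rw [h2, QuotientGroup.out_eq']
      rw [QuotientGroup.eq] at h3
      have h4 := T.inv_mem h3
      have e : ((s * Quotient.out q)⁻¹ * Quotient.out q)⁻¹ =
          (Quotient.out q)⁻¹ * s * Quotient.out q := by group
      rwa [e] at h4
    · intro h s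
      rw [hsm]
      have h3 : (((s : G) * Quotient.out q : G) : G ⧸ T) = ((Quotient.out q : G) : G ⧸ T) := by
        rw [QuotientGroup.eq]
        have h4 := T.inv_mem (h s s.2)
        have e : ((Quotient.out q)⁻¹ * (s : G) * Quotient.out q)⁻¹ =
            ((s : G) * Quotient.out q)⁻¹ * Quotient.out q := by group
        rwa [e] at h4
      rw [h3, QuotientGroup.out_eq']
  rw [hfilter] at h1
  exact h1

/-- if the trace does not vanish modulo the local ideal at `y`, some conjugate of `S` lies in `T`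
and `α` does not vanish at the corresponding conjugate of `y` -/
theorem exists_of_traceFun_not_mem [M.IsPrime] {p : ℕ} [Fact p.Prime] (hM : IsPModular p M)
    {T : Subgroup G} {α : G → ℂ} (hα : InvUnder T α) (hαR : ∀ g, MemLocalRing M (α g))
    (S : Subgroup G) (hS : IsPGroup p S) (y : G) (hy : y ∈ Subgroup.centralizer (S : Set G))
    (hne : ¬ MemLocalIdeal M (traceFun T α y)) :
    ∃ x : G, (∀ s ∈ S, x⁻¹ * s * x ∈ T) ∧ ¬ MemLocalIdeal M (α (x⁻¹ * y * x)) := by
  by_contra hcon
  push Not at hcon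
  apply hne
  have h1 := traceFun_sub_fixed_memPLocal (M := M) hα hαR S hS y hy
  have h2 : MemLocalIdeal M (∑ q ∈ Finset.univ.filter
      (fun q : G ⧸ T => ∀ s ∈ S, (Quotient.out q)⁻¹ * s * Quotient.out q ∈ T),
      α ((Quotient.out q)⁻¹ * y * Quotient.out q)) := by
    apply memLocalIdeal_sum
    intro q hq
    exact hcon (Quotient.out q) (Finset.mem_filter.mp hq).2
  have := memLocalIdeal_add (h1.memLocalIdeal hM) h2
  rwa [sub_add_cancel] at this

end

end Cfsg.Agent.Lib.Helper4
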