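import Mathlib
import Cfsg.Agent.Lib.Helper4.BrauerTr

set_option autoImplicit false

/-!
# The Brauer map at `P` of the trace of the idempotent of a maximal Brauer pair `(P, e)` (helper4)
-/

namespace Cfsg.Agent.Lib.Helper4

open Cfsg Cfsg.Agent.Lib.Helper28
open scoped ComplexConjugate Classical

section

variable {G : Type*} [Group G] [Fintype G] {M : Ideal AlgInt}

theorem mem_normalizer_of_conj_le (P : Subgroup G) (x : G) (h : ∀ n ∈ P, x⁻¹ * n * x ∈ P) :
    x ∈ Subgroup.normalizer (P : Set G) := by
  have h1 : x⁻¹ ∈ Subgroup.normalizer (P : Set G) := by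
    apply Subgroup.mem_normalizer_fintype
    intro n hn
    have := h n hn
    simpa using this
  have := Subgroup.inv_mem _ h1
  simpa using this

theorem invUnder_of_stab {P : Subgroup G}
    {e : Set (IrrCharacter (Subgroup.centralizer (P : Set G)))} (T : Subgroup G)
    (hT : ∀ x : G, x ∈ T ↔ x ∈ Subgroup.normalizer (P : Set G) ∧
      StabilizesBlock (Subgroup.centralizer (P : Set G)) e x) :
    InvUnder T (subgroupBlockCoeff (Subgroup.centralizer (P : Set G)) e) := by
  rw [subgroupBlockCoeff_eq_extZero]
  exact invUnder_extZero_of_stabilizes _ T e (fun x hx => ((hT x).mp hx).2)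

theorem subgroupBlockCoeff_not_mem (K : Subgroup G) (f : Set (IrrCharacter K)) {g : G}
    (hg : g ∉ K) : subgroupBlockCoeff K f g = 0 := by
  rw [subgroupBlockCoeff_eq_extZero]
  exact extZero_not_mem' K _ hg

/-- the part of the trace coming from the normalizer of `P` -/
noncomputable def normPart (P T : Subgroup G) (α : G → ℂ) : G → ℂ :=
  ∑ q : G ⧸ T, if Quotient.out q ∈ Subgroup.normalizer (P : Set G) then
    (fun g => α ((Quotient.out q)⁻¹ * g * Quotient.out q)) else 0

theorem normPart_apply (P T : Subgroup G) (α : G → ℂ) (g : G) :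
    normPart P T α g = ∑ q ∈ Finset.univ.filter
      (fun q : G ⧸ T => Quotient.out q ∈ Subgroup.normalizer (P : Set G)),
      α ((Quotient.out q)⁻¹ * g * Quotient.out q) := by
  unfold normPart
  rw [Finset.sum_apply, Finset.sum_filter]
  refine Finset.sum_congr rfl fun q _ => ?_
  split_ifs <;> rfl

/-- **B3**: on `C_G(P)` the trace agrees modulo the local ideal with its normalizer part -/
theorem traceFun_sub_normPart_memLocalIdeal {p : ℕ} [Fact p.Prime] (hM : IsPModular p M)
    {B : Set (IrrCharacter G)} {P : Subgroup G}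
    {e : Set (IrrCharacter (Subgroup.centralizer (P : Set G)))}
    (hmax : IsMaximalBrauerPair p M B P e) (T : Subgroup G)
    (hT : ∀ x : G, x ∈ T ↔ x ∈ Subgroup.normalizer (P : Set G) ∧
      StabilizesBlock (Subgroup.centralizer (P : Set G)) e x)
    (c : G) (hc : c ∈ Subgroup.centralizer (P : Set G)) :
    MemLocalIdeal M (traceFun T (subgroupBlockCoeff (Subgroup.centralizer (P : Set G)) e) c -
      normPart P T (subgroupBlockCoeff (Subgroup.centralizer (P : Set G)) e) c) := by
  have hMprime : M.IsPrime := hM.2.1.isPrime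
  have hMtop : M ≠ ⊤ := Ideal.IsPrime.ne_top hMprime
  have hPe : IsBrauerPair p M P e := hmax.1.1
  have hP : IsPGroup p P := hPe.1
  have he : IsPBlock M e := hPe.2
  set α := subgroupBlockCoeff (Subgroup.centralizer (P : Set G)) e with hα
  have hαinv : InvUnder T α := invUnder_of_stab T hT
  have hαR : ∀ g, MemLocalRing M (α g) := subgroupBlockCoeff_memLocalRing _ he
  have hPT : P ≤ T := fun u hu =>
    (hT u).mpr ⟨Subgroup.le_normalizer hu, stabilizesBlock_of_mem P e hu⟩
  have h1 := traceFun_sub_fixed_memPLocal (M := M) hαinv hαR P hP c hc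
  rw [normPart_apply]
  -- split the fixed cosets
  set fixed := Finset.univ.filter
    (fun q : G ⧸ T => ∀ s ∈ P, (Quotient.out q)⁻¹ * s * Quotient.out q ∈ T) with hfixed
  have hsplit := Finset.sum_filter_add_sum_filter_not fixed
    (fun q : G ⧸ T => Quotient.out q ∈ Subgroup.normalizer (P : Set G))
    (fun q => α ((Quotient.out q)⁻¹ * c * Quotient.out q))
  have hsub : fixed.filter (fun q : G ⧸ T => Quotient.out q ∈ Subgroup.normalizer (P : Set G)) =
      Finset.univ.filter
        (fun q : G ⧸ T => Quotient.out q ∈ Subgroup.normalizer (P : Set G)) := by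
    ext q
    simp only [hfixed, Finset.mem_filter, Finset.mem_univ, true_and]
    constructor
    · exact fun h => h.2
    · intro h
      refine ⟨fun s hs => ?_, h⟩
      apply hPT
      have h' : (Quotient.out q)⁻¹ ∈ Subgroup.normalizer (P : Set G) := Subgroup.inv_mem _ h
      have := (Subgroup.mem_normalizer_iff.mp h' s).mp hs
      simpa using this
  rw [hsub] at hsplit
  have h2 : MemLocalIdeal M (∑ q ∈ fixed.filter
      (fun q : G ⧸ T => ¬ Quotient.out q ∈ Subgroup.normalizer (P : Set G)),
      α ((Quotient.out q)⁻¹ * c * Quotient.out q)) := by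
    apply memLocalIdeal_sum
    intro q hq
    rw [Finset.mem_filter] at hq
    obtain ⟨hqf, hqn⟩ := hq
    have hqf' : ∀ s ∈ P, (Quotient.out q)⁻¹ * s * Quotient.out q ∈ T :=
      (Finset.mem_filter.mp hqf).2
    set x := Quotient.out q with hx
    by_contra hcon
    apply hqn
    -- the conjugate `x⁻¹ P x`
    set S' : Subgroup G := P.map (MulAut.conj x⁻¹).toMonoidHom with hS'
    have hS'mem : ∀ g, g ∈ S' ↔ ∃ s ∈ P, x⁻¹ * s * x = g := by
      intro g
      rw [hS', Subgroup.mem_map]
      constructor
      · rintro ⟨s, hs, rfl⟩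
        exact ⟨s, hs, by simp [MulAut.conj_apply]⟩
      · rintro ⟨s, hs, rfl⟩
        exact ⟨s, hs, by simp [MulAut.conj_apply]⟩
    have hS'p : IsPGroup p S' := hP.map _
    have hS'T : S' ≤ T := by
      intro g hg
      obtain ⟨s, hs, rfl⟩ := (hS'mem g).mp hg
      exact hqf' s hs
    have hyC : x⁻¹ * c * x ∈ Subgroup.centralizer (P : Set G) := by
      by_contra h
      apply hcon
      rw [hα, subgroupBlockCoeff_not_mem _ _ h]
      exact memLocalIdeal_zero hMtop
    have hyS' : x⁻¹ * c * x ∈ Subgroup.centralizer (S' : Set G) := by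
      intro g hg
      obtain ⟨s, hs, rfl⟩ := (hS'mem g).mp hg
      have := hc s hs
      calc x⁻¹ * s * x * (x⁻¹ * c * x) = x⁻¹ * (s * c) * x := by group
        _ = x⁻¹ * (c * s) * x := by rw [this]
        _ = x⁻¹ * c * x * (x⁻¹ * s * x) := by group
    have hle := maximal_star hM hmax T hT (x⁻¹ * c * x) S' hS'p hS'T hyS' hyC hcon
    apply mem_normalizer_of_conj_le
    intro n hn
    exact hle ((hS'mem _).mpr ⟨n, hn, rfl⟩)
  have h3 := memLocalIdeal_add (h1.memLocalIdeal hM) h2
  have e3 : traceFun T α c - ∑ q ∈ fixed, α ((Quotient.out q)⁻¹ * c * Quotient.out q) +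
      ∑ q ∈ fixed.filter (fun q : G ⧸ T => ¬ Quotient.out q ∈ Subgroup.normalizer (P : Set G)),
        α ((Quotient.out q)⁻¹ * c * Quotient.out q) =
      traceFun T α c - ∑ q ∈ Finset.univ.filter
        (fun q : G ⧸ T => Quotient.out q ∈ Subgroup.normalizer (P : Set G)),
        α ((Quotient.out q)⁻¹ * c * Quotient.out q) := by
    rw [← hsplit]; ring
  rw [e3] at h3
  exact h3

theorem invUnder_normPart (P T : Subgroup G) {α : G → ℂ}
    (hαC : InvUnder (Subgroup.centralizer (P : Set G)) α) :
    InvUnder (Subgroup.centralizer (P : Set G)) (normPart P T α) := by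
  intro c' hc' g
  rw [normPart_apply, normPart_apply]
  refine Finset.sum_congr rfl fun q hq => ?_
  have hx : Quotient.out q ∈ Subgroup.normalizer (P : Set G) := (Finset.mem_filter.mp hq).2
  set x := Quotient.out q with hxdef
  have hx' : x⁻¹ ∈ Subgroup.normalizer
      ((Subgroup.centralizer (P : Set G) : Subgroup G) : Set G) :=
    Subgroup.inv_mem _ (normalizer_le_normalizer_centralizer P hx)
  have hmem : x⁻¹ * c' * x ∈ Subgroup.centralizer (P : Set G) := by
    have := (Subgroup.mem_normalizer_iff.mp hx' c').mp hc'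
    simpa using this
  have := hαC (x⁻¹ * c' * x) hmem (x⁻¹ * g * x)
  rw [← this]
  congr 1
  group

theorem brauerOmega_extZero (P : Subgroup G)
    (a : Subgroup.centralizer (P : Set G) → ℂ) (ξ : Subgroup.centralizer (P : Set G) → ℂ) :
    brauerOmega P (extZero (Subgroup.centralizer (P : Set G)) a) ξ = omegaF ξ a := by
  rw [brauerOmega_eq_omegaF, resTo_extZero]

theorem brauerOmega_normPart (P T : Subgroup G)
    (e : Set (IrrCharacter (Subgroup.centralizer (P : Set G))))
    (ξ' : IrrCharacter (Subgroup.centralizer (P : Set G))) :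
    brauerOmega P (normPart P T (subgroupBlockCoeff (Subgroup.centralizer (P : Set G)) e))
      (ξ' : Subgroup.centralizer (P : Set G) → ℂ) =
    ∑ q : G ⧸ T, if hx : Quotient.out q ∈ Subgroup.normalizer (P : Set G) then
      (if ξ' ∈ conjIrr (Subgroup.centralizer (P : Set G)) (Quotient.out q)
        (normalizer_le_normalizer_centralizer P hx) '' e then (1 : ℂ) else 0) else 0 := by
  unfold normPart
  rw [brauerOmega_sum]
  refine Finset.sum_congr rfl fun q _ => ?_
  by_cases hx : Quotient.out q ∈ Subgroup.normalizer (P : Set G)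
  · rw [if_pos hx, dif_pos hx]
    have h1 := extZero_blockCoeff_image_conjIrr (Subgroup.centralizer (P : Set G))
      (Quotient.out q) (normalizer_le_normalizer_centralizer P hx) e
    rw [subgroupBlockCoeff_eq_extZero, ← h1, brauerOmega_extZero, omegaF_blockCoeff]
  · rw [if_neg hx, dif_neg hx, brauerOmega_zero]

theorem out_one_mem (T : Subgroup G) : Quotient.out ((1 : G) : G ⧸ T) ∈ T := by
  have h : ((Quotient.out ((1 : G) : G ⧸ T) : G) : G ⧸ T) = ((1 : G) : G ⧸ T) :=
    QuotientGroup.out_eq' _
  rw [QuotientGroup.eq] at h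
  have := T.inv_mem h
  simpa using this

/-- **B4a**: the Brauer map at `P` of the trace is `1` on `e` -/
theorem brauerOmega_traceFun_sub_one {p : ℕ} [Fact p.Prime] (hM : IsPModular p M)
    {B : Set (IrrCharacter G)} {P : Subgroup G}
    {e : Set (IrrCharacter (Subgroup.centralizer (P : Set G)))}
    (hmax : IsMaximalBrauerPair p M B P e) (T : Subgroup G)
    (hT : ∀ x : G, x ∈ T ↔ x ∈ Subgroup.normalizer (P : Set G) ∧
      StabilizesBlock (Subgroup.centralizer (P : Set G)) e x)
    {ξ : IrrCharacter (Subgroup.centralizer (P : Set G))} (hξ : ξ ∈ e) :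
    MemLocalIdeal M (brauerOmega P
      (traceFun T (subgroupBlockCoeff (Subgroup.centralizer (P : Set G)) e))
      (ξ : Subgroup.centralizer (P : Set G) → ℂ) - 1) := by
  have hMprime : M.IsPrime := hM.2.1.isPrime
  have hMtop : M ≠ ⊤ := Ideal.IsPrime.ne_top hMprime
  have hPe : IsBrauerPair p M P e := hmax.1.1
  have he : IsPBlock M e := hPe.2
  set α := subgroupBlockCoeff (Subgroup.centralizer (P : Set G)) e with hα
  have hαinv : InvUnder T α := invUnder_of_stab T hT
  have hαC : InvUnder (Subgroup.centralizer (P : Set G)) α := by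
    rw [hα, subgroupBlockCoeff_eq_extZero]
    exact invUnder_extZero_self _ (isClassFunction_blockCoeff e)
  have htrcf : IsClassFunction G (traceFun T α) := isClassFunction_traceFun hαinv
  have h1 : MemLocalIdeal M (brauerOmega P (traceFun T α - normPart P T α)
      (ξ : Subgroup.centralizer (P : Set G) → ℂ)) := by
    apply brauerOmega_memLocalIdeal_of_coeff P _ _ _ ξ.2
    · intro c' hc' g
      show traceFun T α (c' * g * c'⁻¹) - normPart P T α (c' * g * c'⁻¹) =
        traceFun T α g - normPart P T α g
      rw [htrcf g c', invUnder_normPart P T hαC c' hc' g]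
    · intro g hg
      exact traceFun_sub_normPart_memLocalIdeal hM hmax T hT g hg
  rw [brauerOmega_sub'] at h1
  have h2 : brauerOmega P (normPart P T α) (ξ : Subgroup.centralizer (P : Set G) → ℂ) = 1 := by
    rw [hα, brauerOmega_normPart]
    rw [Finset.sum_eq_single (((1 : G) : G ⧸ T))]
    · have h1T := out_one_mem T
      have hx : Quotient.out ((1 : G) : G ⧸ T) ∈ Subgroup.normalizer (P : Set G) :=
        ((hT _).mp h1T).1
      rw [dif_pos hx]
      have hst := ((hT _).mp h1T).2
      have := (image_conjIrr_eq_iff (M := M) _ he _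
        (normalizer_le_normalizer_centralizer P hx)).mpr hst
      rw [this, if_pos hξ]
    · intro q _ hq
      by_cases hx : Quotient.out q ∈ Subgroup.normalizer (P : Set G)
      · rw [dif_pos hx]
        rw [if_neg]
        intro hmem
        apply hq
        have heq : conjIrr (Subgroup.centralizer (P : Set G)) (Quotient.out q)
            (normalizer_le_normalizer_centralizer P hx) '' e = e :=
          block_eq_of_mem (isPBlock_image_conjIrr _ _ _ he) he hmem hξ
        have hst := (image_conjIrr_eq_iff (M := M) _ he _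
          (normalizer_le_normalizer_centralizer P hx)).mp heq
        have hqT : Quotient.out q ∈ T := (hT _).mpr ⟨hx, hst⟩
        rw [← QuotientGroup.out_eq' q, QuotientGroup.eq]
        have := T.inv_mem hqT
        simpa using this
      · rw [dif_neg hx]
    · intro h
      exact absurd (Finset.mem_univ _) h
  rw [h2] at h1
  exact h1

/-- **B4b**: a block of `C_G(P)` at which the Brauer map of the trace does not vanish is an
`N_G(P)`-conjugate of `e` -/
theorem exists_conj_of_brauerOmega_traceFun {p : ℕ} [Fact p.Prime] (hM : IsPModular p M)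
    {B : Set (IrrCharacter G)} {P : Subgroup G}
    {e : Set (IrrCharacter (Subgroup.centralizer (P : Set G)))}
    (hmax : IsMaximalBrauerPair p M B P e) (T : Subgroup G)
    (hT : ∀ x : G, x ∈ T ↔ x ∈ Subgroup.normalizer (P : Set G) ∧
      StabilizesBlock (Subgroup.centralizer (P : Set G)) e x)
    (ξ : IrrCharacter (Subgroup.centralizer (P : Set G)))
    (hne : ¬ MemLocalIdeal M (brauerOmega P
      (traceFun T (subgroupBlockCoeff (Subgroup.centralizer (P : Set G)) e))
      (ξ : Subgroup.centralizer (P : Set G) → ℂ))) :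
    ∃ (n : G) (hn : n ∈ Subgroup.normalizer (P : Set G)),
      ξ ∈ conjIrr (Subgroup.centralizer (P : Set G)) n
        (normalizer_le_normalizer_centralizer P hn) '' e := by
  have hMprime : M.IsPrime := hM.2.1.isPrime
  have hMtop : M ≠ ⊤ := Ideal.IsPrime.ne_top hMprime
  have hPe : IsBrauerPair p M P e := hmax.1.1
  have he : IsPBlock M e := hPe.2
  set α := subgroupBlockCoeff (Subgroup.centralizer (P : Set G)) e with hα
  have hαinv : InvUnder T α := invUnder_of_stab T hT
  have hαC : InvUnder (Subgroup.centralizer (P : Set G)) α := by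
    rw [hα, subgroupBlockCoeff_eq_extZero]
    exact invUnder_extZero_self _ (isClassFunction_blockCoeff e)
  have htrcf : IsClassFunction G (traceFun T α) := isClassFunction_traceFun hαinv
  have h1 : MemLocalIdeal M (brauerOmega P (traceFun T α - normPart P T α)
      (ξ : Subgroup.centralizer (P : Set G) → ℂ)) := by
    apply brauerOmega_memLocalIdeal_of_coeff P _ _ _ ξ.2
    · intro c' hc' g
      show traceFun T α (c' * g * c'⁻¹) - normPart P T α (c' * g * c'⁻¹) =
        traceFun T α g - normPart P T α g
      rw [htrcf g c', invUnder_normPart P T hαC c' hc' g]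
    · intro g hg
      exact traceFun_sub_normPart_memLocalIdeal hM hmax T hT g hg
  rw [brauerOmega_sub'] at h1
  by_contra hcon
  push Not at hcon
  apply hne
  have h2 : brauerOmega P (normPart P T α) (ξ : Subgroup.centralizer (P : Set G) → ℂ) = 0 := by
    rw [hα, brauerOmega_normPart]
    apply Finset.sum_eq_zero
    intro q _
    by_cases hx : Quotient.out q ∈ Subgroup.normalizer (P : Set G)
    · rw [dif_pos hx, if_neg (hcon _ hx)]
    · rw [dif_neg hx]
  rw [h2, sub_zero] at h1
  exact h1

/-- **the trace of a maximal Brauer pair of `B` has central character value `1` on `B`** -/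
theorem omegaF_traceFun_sub_one {p : ℕ} [Fact p.Prime] (hM : IsPModular p M)
    {B : Set (IrrCharacter G)} {P : Subgroup G}
    {e : Set (IrrCharacter (Subgroup.centralizer (P : Set G)))}
    (hmax : IsMaximalBrauerPair p M B P e) (T : Subgroup G)
    (hT : ∀ x : G, x ∈ T ↔ x ∈ Subgroup.normalizer (P : Set G) ∧
      StabilizesBlock (Subgroup.centralizer (P : Set G)) e x)
    {χ0 : IrrCharacter G} (hχ0 : χ0 ∈ B) :
    MemLocalIdeal M (omegaF (χ0 : G → ℂ)
      (traceFun T (subgroupBlockCoeff (Subgroup.centralizer (P : Set G)) e)) - 1) := by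
  have hMprime : M.IsPrime := hM.2.1.isPrime
  have hPe : IsBrauerPair p M P e := hmax.1.1
  have he : IsPBlock M e := hPe.2
  obtain ⟨ξ, hξ⟩ := block_nonempty he
  set α := subgroupBlockCoeff (Subgroup.centralizer (P : Set G)) e with hα
  have hαinv : InvUnder T α := invUnder_of_stab T hT
  have hαR : ∀ g, MemLocalRing M (α g) := subgroupBlockCoeff_memLocalRing _ he
  have htrcf : IsClassFunction G (traceFun T α) := isClassFunction_traceFun hαinv
  have h1 := brauerOmega_sub_omegaF_memLocalIdeal hM hmax.1 hχ0 hξ (traceFun T α) htrcf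
    (fun g => traceFun_memLocalRing hαR g)
  have h2 := brauerOmega_traceFun_sub_one hM hmax T hT hξ
  have := memLocalIdeal_sub h2 h1
  have e1 : brauerOmega P (traceFun T α) (ξ : Subgroup.centralizer (P : Set G) → ℂ) - 1 -
      (brauerOmega P (traceFun T α) (ξ : Subgroup.centralizer (P : Set G) → ℂ) -
        omegaF (χ0 : G → ℂ) (traceFun T α)) = omegaF (χ0 : G → ℂ) (traceFun T α) - 1 := by ring
  rw [e1] at this
  exact this

end

end Cfsg.Agent.Lib.Helper4
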