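import Mathlib
import Cfsg.Agent.Lib.Helper4.BrauerTrP

set_option autoImplicit false

/-!
# Maximal Brauer pairs and defect groups (helper4)

`isDefectGroup_of_maximal` : if `(P, e)` is a maximal Brauer pair of `B` then `P` is a defect group
of `B`.
-/

namespace Cfsg.Agent.Lib.Helper4

open Cfsg Cfsg.Agent.Lib.Helper28
open scoped ComplexConjugate Classical

section

variable {G : Type*} [Group G] [Fintype G] {M : Ideal AlgInt}

/-- the stabilizer of a block of `C_G(P)` in `N_G(P)` -/
theorem exists_stabSubgroup [M.IsPrime] (P : Subgroup G)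
    {e : Set (IrrCharacter (Subgroup.centralizer (P : Set G)))} (he : IsPBlock M e) :
    ∃ T : Subgroup G, ∀ x : G, x ∈ T ↔ x ∈ Subgroup.normalizer (P : Set G) ∧
      StabilizesBlock (Subgroup.centralizer (P : Set G)) e x := by
  let act : MulAction (Subgroup.normalizer (P : Set G))
      (Blk M (Subgroup.centralizer (P : Set G))) :=
    blkAction (Subgroup.centralizer (P : Set G)) (Subgroup.normalizer (P : Set G))
      (normalizer_le_normalizer_centralizer P)
  refine ⟨(MulAction.stabilizer (Subgroup.normalizer (P : Set G))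
    (⟨e, he⟩ : Blk M (Subgroup.centralizer (P : Set G)))).map
      (Subgroup.normalizer (P : Set G)).subtype, fun x => ?_⟩
  rw [Subgroup.mem_map]
  constructor
  · rintro ⟨n, hn, rfl⟩
    refine ⟨n.2, ?_⟩
    rw [MulAction.mem_stabilizer_iff] at hn
    have h1 : conjIrr (Subgroup.centralizer (P : Set G)) (n : G)
        (normalizer_le_normalizer_centralizer P n.2) '' e = e := congrArg Subtype.val hn
    exact (image_conjIrr_eq_iff (M := M) _ he _ _).mp h1
  · rintro ⟨hx, hst⟩
    refine ⟨⟨x, hx⟩, ?_, rfl⟩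
    rw [MulAction.mem_stabilizer_iff]
    apply Subtype.ext
    exact (image_conjIrr_eq_iff (M := M) _ he _
      (normalizer_le_normalizer_centralizer P hx)).mpr hst

theorem classInd_memLocalRing (hMtop : M ≠ ⊤) (x g : G) : MemLocalRing M (classInd x g) := by
  unfold classInd
  split_ifs
  · exact memLocalRing_one hMtop
  · exact memLocalRing_zero hMtop

/-- a Brauer pair of `B` has an element of `C_G(P)` at which the idempotent of `B` does not vanish
modulo the local ideal -/
theorem exists_blockCoeff_not_mem {p : ℕ} [Fact p.Prime] (hM : IsPModular p M)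
    {B : Set (IrrCharacter G)} {P : Subgroup G}
    {e : Set (IrrCharacter (Subgroup.centralizer (P : Set G)))}
    (hBe : IsBrauerPairOf p M B P e) :
    ∃ x ∈ Subgroup.centralizer (P : Set G), ¬ MemLocalIdeal M (blockCoeff B x) := by
  have hMprime : M.IsPrime := hM.2.1.isPrime
  have hMtop : M ≠ ⊤ := Ideal.IsPrime.ne_top hMprime
  obtain ⟨⟨hP, he⟩, hB, hone⟩ := hBe
  obtain ⟨ξ, hξ⟩ := block_nonempty he
  by_contra hcon
  push Not at hcon
  have h1 := brauerOmega_memLocalIdeal_of_coeff (M := M) P (blockCoeff B)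
    (invUnder_of_isClassFunction (isClassFunction_blockCoeff B) _) hcon ξ.2
  have := memLocalIdeal_sub h1 (hone ξ hξ)
  rw [sub_sub_cancel] at this
  exact not_memLocalIdeal_one hMtop this

/-- a `p`-subgroup `S` centralizing an element at which the trace of a maximal Brauer pair
`(P, e)` does not vanish is conjugate to a subgroup of `P` -/
theorem exists_conj_le_of_traceFun_not_mem {p : ℕ} [Fact p.Prime] (hM : IsPModular p M)
    {B : Set (IrrCharacter G)} {P : Subgroup G}
    {e : Set (IrrCharacter (Subgroup.centralizer (P : Set G)))}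
    (hmax : IsMaximalBrauerPair p M B P e) (T : Subgroup G)
    (hT : ∀ x : G, x ∈ T ↔ x ∈ Subgroup.normalizer (P : Set G) ∧
      StabilizesBlock (Subgroup.centralizer (P : Set G)) e x)
    (S : Subgroup G) (hS : IsPGroup p S) (y : G) (hy : y ∈ Subgroup.centralizer (S : Set G))
    (hne : ¬ MemLocalIdeal M
      (traceFun T (subgroupBlockCoeff (Subgroup.centralizer (P : Set G)) e) y)) :
    ∃ x : G, ∀ s ∈ S, x⁻¹ * s * x ∈ P := by
  have hMprime : M.IsPrime := hM.2.1.isPrime
  have hMtop : M ≠ ⊤ := Ideal.IsPrime.ne_top hMprime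
  have hPe : IsBrauerPair p M P e := hmax.1.1
  have he : IsPBlock M e := hPe.2
  set α := subgroupBlockCoeff (Subgroup.centralizer (P : Set G)) e with hα
  have hαinv : InvUnder T α := invUnder_of_stab T hT
  have hαR : ∀ g, MemLocalRing M (α g) := subgroupBlockCoeff_memLocalRing _ he
  obtain ⟨x, hxT, hxne⟩ := exists_of_traceFun_not_mem hM hαinv hαR S hS y hy hne
  refine ⟨x, ?_⟩
  set S' : Subgroup G := S.map (MulAut.conj x⁻¹).toMonoidHom with hS'
  have hS'mem : ∀ g, g ∈ S' ↔ ∃ s ∈ S, x⁻¹ * s * x = g := by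
    intro g
    rw [hS', Subgroup.mem_map]
    constructor
    · rintro ⟨s, hs, rfl⟩
      exact ⟨s, hs, by simp⟩
    · rintro ⟨s, hs, rfl⟩
      exact ⟨s, hs, by simp⟩
  have hS'p : IsPGroup p S' := hS.map _
  have hS'T : S' ≤ T := by
    intro g hg
    obtain ⟨s, hs, rfl⟩ := (hS'mem g).mp hg
    exact hxT s hs
  have hyC : x⁻¹ * y * x ∈ Subgroup.centralizer (P : Set G) := by
    by_contra h
    apply hxne
    rw [hα, subgroupBlockCoeff_not_mem _ _ h]
    exact memLocalIdeal_zero hMtop
  have hyS' : x⁻¹ * y * x ∈ Subgroup.centralizer (S' : Set G) := by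
    intro g hg
    obtain ⟨s, hs, rfl⟩ := (hS'mem g).mp hg
    have := hy s hs
    calc x⁻¹ * s * x * (x⁻¹ * y * x) = x⁻¹ * (s * y) * x := by group
      _ = x⁻¹ * (y * s) * x := by rw [this]
      _ = x⁻¹ * y * x * (x⁻¹ * s * x) := by group
  have hle := maximal_star hM hmax T hT (x⁻¹ * y * x) S' hS'p hS'T hyS' hyC hxne
  intro s hs
  exact hle ((hS'mem _).mpr ⟨s, hs, rfl⟩)

/-- **maximal Brauer pairs have defect groups as first components** -/
theorem isDefectGroup_of_maximal {p : ℕ} [Fact p.Prime] (hM : IsPModular p M)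
    {B : Set (IrrCharacter G)} {P : Subgroup G}
    {e : Set (IrrCharacter (Subgroup.centralizer (P : Set G)))}
    (hmax : IsMaximalBrauerPair p M B P e) : IsDefectGroup p M B P := by
  have hMprime : M.IsPrime := hM.2.1.isPrime
  have hMtop : M ≠ ⊤ := Ideal.IsPrime.ne_top hMprime
  have hBe := hmax.1
  have hPe : IsBrauerPair p M P e := hBe.1
  have hP : IsPGroup p P := hPe.1
  have he : IsPBlock M e := hPe.2
  have hB : IsPBlock M B := hBe.2.1
  obtain ⟨T, hT⟩ := exists_stabSubgroup P he
  obtain ⟨χ0, hχ0⟩ := block_nonempty hB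
  obtain ⟨x0, hx0C, hx0⟩ := exists_blockCoeff_not_mem hM hBe
  obtain ⟨g0, hg0⟩ := exists_defectClass hM hB
  -- a conjugate of `g0` centralized by `P`
  have hu0 : ¬ MemLocalIdeal M (omegaF (χ0 : G → ℂ) (classInd g0)) := by
    rw [omegaF_classInd (Cfsg.Agent.Lib.Helper4.isClassFunction_of_isIrrCharacter χ0.2)]
    exact hg0.2.2 χ0 hχ0
  obtain ⟨k, hkC, hk⟩ := minmax hM hB hχ0 (classInd g0) (isClassFunction_classInd g0)
    (classInd_memLocalRing hMtop g0) hu0 x0 hx0 P hP hx0C
  have hconj : IsConj g0 k := by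
    by_contra h
    apply hk
    unfold classInd
    rw [if_neg h]
    exact memLocalIdeal_zero hMtop
  obtain ⟨t, ht⟩ := isConj_iff.mp hconj
  have hkdef : IsDefectClass M B k := by
    rw [← ht]
    exact isDefectClass_conj hg0 t
  -- a Sylow subgroup of `C_G(k)` containing `P`
  have hPk : P ≤ Subgroup.centralizer ({k} : Set G) := by
    intro u hu
    rw [Subgroup.mem_centralizer_singleton_iff]
    exact hkC u hu
  obtain ⟨Q, hQ⟩ := IsPGroup.exists_le_sylow
    (hP.comap_subtype (K := Subgroup.centralizer ({k} : Set G)))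
  set D1 : Subgroup G := (Q : Subgroup (Subgroup.centralizer ({k} : Set G))).map
    (Subgroup.centralizer ({k} : Set G)).subtype with hD1
  have hPD1 : P ≤ D1 := by
    intro u hu
    rw [hD1, Subgroup.mem_map]
    refine ⟨⟨u, hPk hu⟩, hQ ?_, rfl⟩
    rw [Subgroup.mem_comap]
    exact hu
  have hD1p : IsPGroup p D1 := Q.isPGroup'.map _
  have hkD1 : k ∈ Subgroup.centralizer (D1 : Set G) := by
    intro d hd
    rw [hD1] at hd
    obtain ⟨c, _, rfl⟩ := Subgroup.mem_map.mp hd
    have := c.2
    rw [Subgroup.mem_centralizer_singleton_iff] at this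
    exact this
  -- the trace of the idempotent of `e`
  have htr1 := omegaF_traceFun_sub_one hM hmax T hT hχ0
  set α := subgroupBlockCoeff (Subgroup.centralizer (P : Set G)) e with hα
  have hαinv : InvUnder T α := invUnder_of_stab T hT
  have hαR : ∀ g, MemLocalRing M (α g) := subgroupBlockCoeff_memLocalRing _ he
  have htrne : ¬ MemLocalIdeal M (omegaF (χ0 : G → ℂ) (traceFun T α)) := by
    intro h
    have := memLocalIdeal_sub h htr1
    rw [sub_sub_cancel] at this
    exact not_memLocalIdeal_one hMtop this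
  obtain ⟨k', hk'C, hk'⟩ := minmax hM hB hχ0 (traceFun T α) (isClassFunction_traceFun hαinv)
    (fun g => traceFun_memLocalRing hαR g) htrne k hkdef.2.1 D1 hD1p hkD1
  obtain ⟨x, hx⟩ := exists_conj_le_of_traceFun_not_mem hM hmax T hT D1 hD1p k' hk'C hk'
  -- cardinalities
  have hcard : Nat.card D1 ≤ Nat.card P := by
    have hinj : Function.Injective (fun d : D1 => (⟨x⁻¹ * d * x, hx d d.2⟩ : P)) := by
      intro d1 d2 h
      have h' : x⁻¹ * (d1 : G) * x = x⁻¹ * (d2 : G) * x := congrArg Subtype.val h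
      apply Subtype.ext
      have := congrArg (fun g => x * g * x⁻¹) h'
      simpa [mul_assoc] using this
    exact Nat.card_le_card_of_injective _ hinj
  have hPeq : P = D1 := Subgroup.eq_of_le_of_card_ge hPD1 hcard
  exact ⟨k, hkdef, Q, hPeq⟩

end

end Cfsg.Agent.Lib.Helper4
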