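import Mathlib
import Cfsg.Agent.Lib.Helper4.BrauerConj
import Cfsg.Agent.Lib.Helper4.BrauerDefect

set_option autoImplicit false

/-!
# The Sylow theorem for Brauer pairs (helper4)

`exists_conj_subpairLE` : every Brauer pair of `B` is conjugate to a pair below a given maximal
Brauer pair of `B`.
-/

namespace Cfsg.Agent.Lib.Helper4

open Cfsg Cfsg.Agent.Lib.Helper28
open scoped ComplexConjugate Classical

section

variable {G : Type*} [Group G] [Fintype G] {M : Ideal AlgInt}

theorem brauerPairIdx_ext {A B' : Subgroup G}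
    {a2 : Set (IrrCharacter (Subgroup.centralizer (A : Set G)))}
    {b2 : Set (IrrCharacter (Subgroup.centralizer (B' : Set G)))} (h1 : A = B')
    (h2 : ∀ (ξa : IrrCharacter (Subgroup.centralizer (A : Set G)))
      (ξb : IrrCharacter (Subgroup.centralizer (B' : Set G))),
      (∀ (g : G) (ha : g ∈ Subgroup.centralizer (A : Set G))
        (hb : g ∈ Subgroup.centralizer (B' : Set G)),
        (ξa : Subgroup.centralizer (A : Set G) → ℂ) ⟨g, ha⟩ =
          (ξb : Subgroup.centralizer (B' : Set G) → ℂ) ⟨g, hb⟩) →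
      (ξa ∈ a2 ↔ ξb ∈ b2)) : (⟨A, a2⟩ : BrauerPairIdx G) = ⟨B', b2⟩ := by
  subst h1
  congr 1
  ext ξ
  exact h2 ξ ξ (fun g ha hb => rfl)

theorem conjPair_mul (m t : G) (a : BrauerPairIdx G) :
    conjPair m (conjPair t a) = conjPair (m * t) a := by
  obtain ⟨A, f⟩ := a
  show (⟨(A.map (MulAut.conj t).toMonoidHom).map (MulAut.conj m).toMonoidHom,
    conjBlock (A.map (MulAut.conj t).toMonoidHom) m (conjBlock A t f)⟩ : BrauerPairIdx G) =
    ⟨A.map (MulAut.conj (m * t)).toMonoidHom, conjBlock A (m * t) f⟩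
  apply brauerPairIdx_ext
  · ext g
    rw [mem_map_conj_iff, mem_map_conj_iff, mem_map_conj_iff]
    have e : t⁻¹ * (m⁻¹ * g * m) * t = (m * t)⁻¹ * g * (m * t) := by group
    rw [e]
  · intro ξa ξb h
    rw [mem_conjBlock_iff, mem_conjBlock_iff, mem_conjBlock_iff]
    have : irrEquiv (centConj A t)
        (irrEquiv (centConj (A.map (MulAut.conj t).toMonoidHom) m) ξa) =
        irrEquiv (centConj A (m * t)) ξb := by
      apply Subtype.ext
      funext c
      rw [irrEquiv_apply, irrEquiv_apply, irrEquiv_apply]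
      have hg : m * (t * (c : G) * t⁻¹) * m⁻¹ = m * t * (c : G) * (m * t)⁻¹ := by group
      have hmem1 : m * t * (c : G) * (m * t)⁻¹ ∈ Subgroup.centralizer
          (((A.map (MulAut.conj t).toMonoidHom).map (MulAut.conj m).toMonoidHom : Subgroup G) :
            Set G) := by
        rw [← hg]
        exact (centConj (A.map (MulAut.conj t).toMonoidHom) m (centConj A t c)).2
      have h1 := h _ hmem1 (centConj A (m * t) c).2
      have e1 : centConj (A.map (MulAut.conj t).toMonoidHom) m (centConj A t c) =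
          ⟨m * t * (c : G) * (m * t)⁻¹, hmem1⟩ := Subtype.ext hg
      rw [e1, h1]
      rfl
    rw [this]

theorem map_conj_eq_of_mem_normalizer {P : Subgroup G} {m : G}
    (hm : m ∈ Subgroup.normalizer (P : Set G)) :
    P.map (MulAut.conj m).toMonoidHom = P := by
  ext g
  rw [mem_map_conj_iff]
  have hm' : m⁻¹ ∈ Subgroup.normalizer (P : Set G) := Subgroup.inv_mem _ hm
  have := Subgroup.mem_normalizer_iff.mp hm' g
  rw [inv_inv] at this
  exact this.symm

theorem conjPair_normalizer {P : Subgroup G} {m : G}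
    (hm : m ∈ Subgroup.normalizer (P : Set G))
    (e : Set (IrrCharacter (Subgroup.centralizer (P : Set G)))) :
    conjPair m (⟨P, e⟩ : BrauerPairIdx G) =
      ⟨P, conjIrr (Subgroup.centralizer (P : Set G)) m
        (normalizer_le_normalizer_centralizer P hm) '' e⟩ := by
  show (⟨P.map (MulAut.conj m).toMonoidHom, conjBlock P m e⟩ : BrauerPairIdx G) = _
  apply brauerPairIdx_ext
  · exact map_conj_eq_of_mem_normalizer hm
  · intro ξa ξb h
    rw [mem_conjBlock_iff]
    have key : conjIrr (Subgroup.centralizer (P : Set G)) m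
        (normalizer_le_normalizer_centralizer P hm) (irrEquiv (centConj P m) ξa) = ξb := by
      apply Subtype.ext
      funext k
      rw [conjIrr_apply, irrEquiv_apply]
      have hk : m * (m⁻¹ * (k : G) * m) * m⁻¹ = (k : G) := by group
      have hmem1 : (k : G) ∈ Subgroup.centralizer
          ((P.map (MulAut.conj m).toMonoidHom : Subgroup G) : Set G) := by
        have := (centConj P m ((conjK (Subgroup.centralizer (P : Set G)) m
          (normalizer_le_normalizer_centralizer P hm)).symm k)).2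
        have e0 : ((centConj P m ((conjK (Subgroup.centralizer (P : Set G)) m
          (normalizer_le_normalizer_centralizer P hm)).symm k) : _) : G) = (k : G) := hk
        rwa [e0] at this
      have h1 := h (k : G) hmem1 k.2
      have e1 : centConj P m ((conjK (Subgroup.centralizer (P : Set G)) m
          (normalizer_le_normalizer_centralizer P hm)).symm k) = ⟨(k : G), hmem1⟩ :=
        Subtype.ext hk
      rw [e1, h1]
    constructor
    · intro hmem
      exact ⟨_, hmem, key⟩
    · rintro ⟨ξ, hξ, hξb⟩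
      have := conjIrr_injective _ m (normalizer_le_normalizer_centralizer P hm)
        (hξb.trans key.symm)
      rw [← this]
      exact hξ

/-- every Brauer pair of `B` lies below a maximal one -/
theorem exists_maximal_ge {p : ℕ} [Fact p.Prime] (hM : IsPModular p M)
    {B : Set (IrrCharacter G)} :
    ∀ n : ℕ, ∀ (Q : Subgroup G) (f : Set (IrrCharacter (Subgroup.centralizer (Q : Set G)))),
      IsBrauerPairOf p M B Q f → Nat.card G - Nat.card Q ≤ n →
      ∃ (P : Subgroup G) (e : Set (IrrCharacter (Subgroup.centralizer (P : Set G)))),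
        IsMaximalBrauerPair p M B P e ∧ SubpairLE p M Q f P e := by
  intro n
  induction n with
  | zero =>
    intro Q f hQf hn
    refine ⟨Q, f, ⟨hQf, ?_⟩, Relation.ReflTransGen.refl⟩
    intro R g _ hle
    have hQR : Q ≤ R := subpairLE_le hle
    have h1 : Nat.card R ≤ Nat.card G := Subgroup.card_le_card_group R
    have h2 : Nat.card R ≤ Nat.card Q := by omega
    exact (Subgroup.eq_of_le_of_card_ge hQR h2).symm
  | succ n ih =>
    intro Q f hQf hn
    by_cases hmax : IsMaximalBrauerPair p M B Q f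
    · exact ⟨Q, f, hmax, Relation.ReflTransGen.refl⟩
    · unfold IsMaximalBrauerPair at hmax
      push Not at hmax
      obtain ⟨R, g, hRg, hle, hne⟩ := hmax hQf
      have hQR : Q ≤ R := subpairLE_le hle
      have hlt : Q < R := lt_of_le_of_ne hQR (Ne.symm hne)
      have hcard : Nat.card Q < Nat.card R := card_lt_card_of_lt' hlt
      have h1 : Nat.card R ≤ Nat.card G := Subgroup.card_le_card_group R
      obtain ⟨P, e, hPe, hle'⟩ := ih R g hRg (by omega)
      exact ⟨P, e, hPe, Relation.ReflTransGen.trans hle hle'⟩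

/-- the first component of a Brauer pair of `B` is conjugate into the first component of a
maximal Brauer pair of `B` -/
theorem exists_conj_le_of_maximal {p : ℕ} [Fact p.Prime] (hM : IsPModular p M)
    {B : Set (IrrCharacter G)} {P Q : Subgroup G}
    {e : Set (IrrCharacter (Subgroup.centralizer (P : Set G)))}
    {f : Set (IrrCharacter (Subgroup.centralizer (Q : Set G)))}
    (hmax : IsMaximalBrauerPair p M B P e) (hQf : IsBrauerPairOf p M B Q f) :
    ∃ x : G, ∀ s ∈ Q, x⁻¹ * s * x ∈ P := by
  have hMprime : M.IsPrime := hM.2.1.isPrime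
  have hMtop : M ≠ ⊤ := Ideal.IsPrime.ne_top hMprime
  have hBe := hmax.1
  have he : IsPBlock M e := hBe.1.2
  have hB : IsPBlock M B := hBe.2.1
  obtain ⟨T, hT⟩ := exists_stabSubgroup P he
  obtain ⟨χ0, hχ0⟩ := block_nonempty hB
  obtain ⟨x0, hx0C, hx0⟩ := exists_blockCoeff_not_mem hM hQf
  have htr1 := omegaF_traceFun_sub_one hM hmax T hT hχ0
  set α := subgroupBlockCoeff (Subgroup.centralizer (P : Set G)) e with hα
  have hαinv : InvUnder T α := invUnder_of_stab T hT
  have hαR : ∀ g, MemLocalRing M (α g) := subgroupBlockCoeff_memLocalRing _ he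
  have htrne : ¬ MemLocalIdeal M (omegaF (χ0 : G → ℂ) (traceFun T α)) := by
    intro h
    have := memLocalIdeal_sub h htr1
    rw [sub_sub_cancel] at this
    exact not_memLocalIdeal_one hMtop this
  obtain ⟨k, hkC, hk⟩ := minmax hM hB hχ0 (traceFun T α) (isClassFunction_traceFun hαinv)
    (fun g => traceFun_memLocalRing hαR g) htrne x0 hx0 Q hQf.1.1 hx0C
  exact exists_conj_le_of_traceFun_not_mem hM hmax T hT Q hQf.1.1 k hkC hk

/-- two Brauer pairs of `B` at the first component of a maximal one, the latter being maximal,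
are conjugate under the normalizer -/
theorem exists_normalizer_conj_eq {p : ℕ} [Fact p.Prime] (hM : IsPModular p M)
    {B : Set (IrrCharacter G)} {P : Subgroup G}
    {e e'' : Set (IrrCharacter (Subgroup.centralizer (P : Set G)))}
    (hmax : IsMaximalBrauerPair p M B P e) (h : IsBrauerPairOf p M B P e'') :
    ∃ (n : G) (hn : n ∈ Subgroup.normalizer (P : Set G)),
      e'' = conjIrr (Subgroup.centralizer (P : Set G)) n
        (normalizer_le_normalizer_centralizer P hn) '' e := by
  have hMprime : M.IsPrime := hM.2.1.isPrime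
  have hMtop : M ≠ ⊤ := Ideal.IsPrime.ne_top hMprime
  have hBe := hmax.1
  have he : IsPBlock M e := hBe.1.2
  have hB : IsPBlock M B := hBe.2.1
  obtain ⟨T, hT⟩ := exists_stabSubgroup P he
  obtain ⟨χ0, hχ0⟩ := block_nonempty hB
  obtain ⟨ξ, hξ⟩ := block_nonempty h.1.2
  have htr1 := omegaF_traceFun_sub_one hM hmax T hT hχ0
  set α := subgroupBlockCoeff (Subgroup.centralizer (P : Set G)) e with hα
  have hαinv : InvUnder T α := invUnder_of_stab T hT
  have hαR : ∀ g, MemLocalRing M (α g) := subgroupBlockCoeff_memLocalRing _ he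
  have h1 := brauerOmega_sub_omegaF_memLocalIdeal hM h hχ0 hξ (traceFun T α)
    (isClassFunction_traceFun hαinv) (fun g => traceFun_memLocalRing hαR g)
  have hne : ¬ MemLocalIdeal M (brauerOmega P (traceFun T α)
      (ξ : Subgroup.centralizer (P : Set G) → ℂ)) := by
    intro h2
    have h3 := memLocalIdeal_sub (memLocalIdeal_sub h2 h1) htr1
    have e1 : brauerOmega P (traceFun T α) (ξ : Subgroup.centralizer (P : Set G) → ℂ) -
        (brauerOmega P (traceFun T α) (ξ : Subgroup.centralizer (P : Set G) → ℂ) -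
          omegaF (χ0 : G → ℂ) (traceFun T α)) - (omegaF (χ0 : G → ℂ) (traceFun T α) - 1) = 1 := by
      ring
    rw [e1] at h3
    exact not_memLocalIdeal_one hMtop h3
  obtain ⟨n, hn, hmem⟩ := exists_conj_of_brauerOmega_traceFun hM hmax T hT ξ hne
  exact ⟨n, hn, block_eq_of_mem h.1.2 (isPBlock_image_conjIrr _ _ _ he) hξ hmem⟩

/-- **the Sylow theorem for Brauer pairs** -/
theorem exists_conj_subpairLE {p : ℕ} [Fact p.Prime] (hM : IsPModular p M)
    {B : Set (IrrCharacter G)} {P Q : Subgroup G}
    {e : Set (IrrCharacter (Subgroup.centralizer (P : Set G)))}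
    {f : Set (IrrCharacter (Subgroup.centralizer (Q : Set G)))}
    (hmax : IsMaximalBrauerPair p M B P e) (hQf : IsBrauerPairOf p M B Q f) :
    ∃ x : G, SubpairLE p M (Q.map (MulAut.conj x).toMonoidHom) (conjBlock Q x f) P e := by
  have hMprime : M.IsPrime := hM.2.1.isPrime
  obtain ⟨Q', f', hmax', hle⟩ := exists_maximal_ge hM (Nat.card G - Nat.card Q) Q f hQf le_rfl
  obtain ⟨x, hx⟩ := exists_conj_le_of_maximal hM hmax hmax'.1
  obtain ⟨x', hx'⟩ := exists_conj_le_of_maximal hM hmax' hmax.1
  -- `x⁻¹ Q' x = P`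
  have hle1 : Q'.map (MulAut.conj x⁻¹).toMonoidHom ≤ P := by
    intro g hg
    rw [mem_map_conj_iff, inv_inv] at hg
    have := hx _ hg
    have e1 : x⁻¹ * (x * g * x⁻¹) * x = g := by group
    rwa [e1] at this
  have hcard1 : Nat.card P ≤ Nat.card Q' := by
    have hinj : Function.Injective (fun d : P => (⟨x'⁻¹ * d * x', hx' d d.2⟩ : Q')) := by
      intro d1 d2 h
      have h' : x'⁻¹ * (d1 : G) * x' = x'⁻¹ * (d2 : G) * x' := congrArg Subtype.val h
      apply Subtype.ext
      have := congrArg (fun g => x' * g * x'⁻¹) h'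
      simpa [mul_assoc] using this
    exact Nat.card_le_card_of_injective _ hinj
  have hcard2 : Nat.card (Q'.map (MulAut.conj x⁻¹).toMonoidHom : Subgroup G) = Nat.card Q' :=
    Subgroup.card_map_of_injective (MulAut.conj x⁻¹).injective
  have hPeq : Q'.map (MulAut.conj x⁻¹).toMonoidHom = P :=
    Subgroup.eq_of_le_of_card_ge hle1 (by rw [hcard2]; exact hcard1)
  -- the key step
  have key : ∀ (P₁ : Subgroup G) (_ : Q'.map (MulAut.conj x⁻¹).toMonoidHom = P₁)
      (e₁ : Set (IrrCharacter (Subgroup.centralizer (P₁ : Set G)))),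
      IsMaximalBrauerPair p M B P₁ e₁ →
      ∃ y : G, conjPair y (⟨Q', f'⟩ : BrauerPairIdx G) = ⟨P₁, e₁⟩ := by
    intro P₁ hP₁
    subst hP₁
    intro e₁ hmax₁
    have hB' : IsBrauerPairOf p M B (Q'.map (MulAut.conj x⁻¹).toMonoidHom)
        (conjBlock Q' x⁻¹ f') := isBrauerPairOf_conj hmax'.1 x⁻¹
    obtain ⟨n, hn, hne⟩ := exists_normalizer_conj_eq hM hmax₁ hB'
    have hn' : n⁻¹ ∈ Subgroup.normalizer
        ((Q'.map (MulAut.conj x⁻¹).toMonoidHom : Subgroup G) : Set G) := Subgroup.inv_mem _ hn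
    refine ⟨n⁻¹ * x⁻¹, ?_⟩
    rw [← conjPair_mul]
    have e1 : conjPair x⁻¹ (⟨Q', f'⟩ : BrauerPairIdx G) =
        ⟨Q'.map (MulAut.conj x⁻¹).toMonoidHom, conjBlock Q' x⁻¹ f'⟩ := rfl
    rw [e1, hne, conjPair_normalizer hn']
    congr 1
    ext ψ
    constructor
    · rintro ⟨_, ⟨χ, hχ, rfl⟩, rfl⟩
      rw [conjIrr_inv_conjIrr]
      exact hχ
    · intro hψ
      exact ⟨_, ⟨ψ, hψ, rfl⟩, conjIrr_inv_conjIrr _ n _ _ ψ⟩
  obtain ⟨y, hy⟩ := key P hPeq e hmax
  refine ⟨y, ?_⟩
  have h1 := subpairLE_conj hle y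
  rw [hy] at h1
  exact h1

end

end Cfsg.Agent.Lib.Helper4
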