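import Mathlib
import Cfsg.Agent.Lib.Helper4.BrauerSylow
import Cfsg.Agent.S0908

set_option autoImplicit false

/-!
# Centralizers in a maximal Brauer pair and defect groups of the local blocks (helper4)
-/

namespace Cfsg.Agent.Lib.Helper4

open Cfsg Cfsg.Agent.Lib.Helper28
open scoped ComplexConjugate Classical

section

variable {G : Type*} [Group G] [Fintype G] {M : Ideal AlgInt}

/-- an idempotent `α`, invariant under the `p`-subgroup `R` and under `C_G(R)`, that does not vanish
modulo the local ideal at some element of `C_G(R)`, has a block of `C_G(R)` in its Brauer image -/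
theorem exists_block_of_idem {p : ℕ} [Fact p.Prime] (hM : IsPModular p M) {R : Subgroup G}
    (hR : IsPGroup p R) (α : G → ℂ) (hαR : ∀ g, MemLocalRing M (α g)) (hαidem : conv α α = α)
    (hαinvR : InvUnder R α) (hαinvC : InvUnder (Subgroup.centralizer (R : Set G)) α)
    (y : G) (hy : y ∈ Subgroup.centralizer (R : Set G)) (hne : ¬ MemLocalIdeal M (α y)) :
    ∃ g : Set (IrrCharacter (Subgroup.centralizer (R : Set G))), IsPBlock M g ∧
      ∀ ψ ∈ g, MemLocalIdeal M
        (brauerOmega R α (ψ : Subgroup.centralizer (R : Set G) → ℂ) - 1) := by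
  have hMprime : M.IsPrime := hM.2.1.isPrime
  have hMtop : M ≠ ⊤ := Ideal.IsPrime.ne_top hMprime
  have hp : p.Prime := Fact.out
  set η := resTo (Subgroup.centralizer (R : Set G)) α with hη
  have hηcf : IsClassFunction (Subgroup.centralizer (R : Set G)) η := isClassFunction_resTo hαinvC
  have hηR : ∀ x, MemLocalRing M (η x) := fun x => hαR _
  have hidem : ∀ x, MemPLocal M p (conv η η x - η x) := by
    intro z
    have h1 := conv_sub_memPLocal (M := M) R hR α α hαinvR hαinvR hαR hαR (z : G) z.2
    rw [hαidem] at h1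
    have e1 : conv η η z - η z = -(α (z : G) - ∑ c : Subgroup.centralizer (R : Set G),
        α c * α ((c : G)⁻¹ * z)) := by
      rw [neg_sub]
      rfl
    rw [e1]
    exact memPLocal_neg h1
  have hex : ∃ φ : IrrCharacter (Subgroup.centralizer (R : Set G)),
      ¬ MemLocalIdeal M (omegaF (φ : Subgroup.centralizer (R : Set G) → ℂ) η) := by
    by_contra hcon
    push Not at hcon
    have := memPLocal_of_idem_mod_p hM η hηcf hηR hidem hcon ⟨y, hy⟩
    exact hne (this.memLocalIdeal hM)
  obtain ⟨φ, hφ⟩ := hex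
  set t := omegaF (φ : Subgroup.centralizer (R : Set G) → ℂ) η with ht
  have htR : MemLocalRing M t := omegaF_memLocalRing φ.2 η hηcf hηR
  have ht1 : MemLocalIdeal M (t - 1) := by
    have h1 : MemPLocal M p (t * t - t) := by
      have := omegaF_memPLocal (M := M) hp.ne_zero φ.2 (conv η η - η)
        (isClassFunction_sub (isClassFunction_conv hηcf hηcf) hηcf) hidem
      rw [omegaF_sub, omegaF_conv φ.2 _ _ hηcf hηcf] at this
      exact this
    rcases memLocalIdeal_or_of_idem htR (h1.memLocalIdeal hM) with h | h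
    · exact absurd h hφ
    · exact h
  refine ⟨{ψ | SameBlock M (φ : Subgroup.centralizer (R : Set G) → ℂ)
    (ψ : Subgroup.centralizer (R : Set G) → ℂ)}, ⟨φ, rfl⟩, ?_⟩
  intro ψ hψ
  have h1 := brauerOmega_sameBlock R α hαinvC hαR
    (Cfsg.Agent.Lib.Helper4.isClassFunction_of_isIrrCharacter ψ.2)
    (Cfsg.Agent.Lib.Helper4.isClassFunction_of_isIrrCharacter φ.2)
    (Cfsg.Agent.Lib.Helper28.sameBlock_symm hψ)
  have h2 : brauerOmega R α (φ : Subgroup.centralizer (R : Set G) → ℂ) = t := by
    rw [brauerOmega_eq_omegaF]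
  have := memLocalIdeal_add h1 (h2 ▸ ht1)
  have e2 : brauerOmega R α (ψ : Subgroup.centralizer (R : Set G) → ℂ) -
      brauerOmega R α (φ : Subgroup.centralizer (R : Set G) → ℂ) +
      (brauerOmega R α (φ : Subgroup.centralizer (R : Set G) → ℂ) - 1) =
      brauerOmega R α (ψ : Subgroup.centralizer (R : Set G) → ℂ) - 1 := by ring
  rw [e2] at this
  exact this

/-- a `p`-subgroup centralizing an element at which the idempotent of `B` does not vanish is the
first component of a Brauer pair of `B` -/
theorem exists_isBrauerPairOf_of_coeff {p : ℕ} [Fact p.Prime] (hM : IsPModular p M)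
    {B : Set (IrrCharacter G)} (hB : IsPBlock M B) {S : Subgroup G} (hS : IsPGroup p S)
    (y : G) (hy : y ∈ Subgroup.centralizer (S : Set G))
    (hne : ¬ MemLocalIdeal M (blockCoeff B y)) :
    ∃ g : Set (IrrCharacter (Subgroup.centralizer (S : Set G))), IsBrauerPairOf p M B S g := by
  have hMprime : M.IsPrime := hM.2.1.isPrime
  have hcf := isClassFunction_blockCoeff B
  obtain ⟨g, hg, hone⟩ := exists_block_of_idem hM hS (blockCoeff B) (fun x => osima hB x)
    (by rw [conv_blockCoeff_inter, Set.inter_self]) (invUnder_of_isClassFunction hcf _)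
    (invUnder_of_isClassFunction hcf _) y hy hne
  exact ⟨g, ⟨hS, hg⟩, hB, hone⟩

/-- a normal inclusion `(Q, f) ⊴ (R, g)` provides an element of `C_G(R)` at which the idempotent
of `f` does not vanish modulo the local ideal -/
theorem exists_coeff_not_mem_of_isNormalSubpair {p : ℕ} [Fact p.Prime] (hM : IsPModular p M)
    {Q R : Subgroup G} {f : Set (IrrCharacter (Subgroup.centralizer (Q : Set G)))}
    {g : Set (IrrCharacter (Subgroup.centralizer (R : Set G)))}
    (h : IsNormalSubpair p M Q f R g) :
    ∃ y ∈ Subgroup.centralizer (R : Set G),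
      ¬ MemLocalIdeal M (subgroupBlockCoeff (Subgroup.centralizer (Q : Set G)) f y) := by
  have hMprime : M.IsPrime := hM.2.1.isPrime
  have hMtop : M ≠ ⊤ := Ideal.IsPrime.ne_top hMprime
  obtain ⟨hQf, hRg, hQR, hRN, hst, hone⟩ := h
  obtain ⟨ξ, hξ⟩ := block_nonempty hRg.2
  have hCRC : Subgroup.centralizer (R : Set G) ≤ Subgroup.centralizer (Q : Set G) :=
    Subgroup.centralizer_le (by exact_mod_cast hQR)
  have hinv : InvUnder (Subgroup.centralizer (R : Set G))
      (subgroupBlockCoeff (Subgroup.centralizer (Q : Set G)) f) := by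
    rw [subgroupBlockCoeff_eq_extZero]
    exact invUnder_mono hCRC (invUnder_extZero_self _ (isClassFunction_blockCoeff f))
  by_contra hcon
  push Not at hcon
  have h1 := brauerOmega_memLocalIdeal_of_coeff (M := M) R _ hinv hcon ξ.2
  have := memLocalIdeal_sub h1 (hone ξ hξ)
  rw [sub_sub_cancel] at this
  exact not_memLocalIdeal_one hMtop this

end

section Transport

variable {K K' : Type*} [Group K] [Group K']

theorem charDegree_irrEquiv (φ : K ≃* K') (ξ' : IrrCharacter K') :
    charDegree (irrEquiv φ ξ' : K → ℂ) = charDegree (ξ' : K' → ℂ) := by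
  unfold charDegree
  rw [irrEquiv_apply, map_one]

theorem blockDefect_preimage_irrEquiv (p : ℕ) (φ : K ≃* K') (f : Set (IrrCharacter K)) :
    blockDefect p ((irrEquiv φ) ⁻¹' f) = blockDefect p f := by
  unfold blockDefect
  have hcard : Nat.card K' = Nat.card K := Nat.card_congr φ.symm.toEquiv
  rw [hcard]
  congr 2
  ext n
  constructor
  · rintro ⟨ξ', hξ', rfl⟩
    refine ⟨irrEquiv φ ξ', hξ', ?_⟩
    show (charDegree (irrEquiv φ ξ' : K → ℂ)).factorization p = _
    rw [charDegree_irrEquiv]
  · rintro ⟨ξ, hξ, rfl⟩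
    refine ⟨(irrEquiv φ).symm ξ, ?_, ?_⟩
    · show irrEquiv φ ((irrEquiv φ).symm ξ) ∈ f
      rw [Equiv.apply_symm_apply]; exact hξ
    · show (charDegree ((irrEquiv φ).symm ξ : K' → ℂ)).factorization p = _
      rw [← charDegree_irrEquiv φ, Equiv.apply_symm_apply]

end Transport

end Cfsg.Agent.Lib.Helper4
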