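import Mathlib
import Cfsg.Agent.Lib.Helper4.BrauerLocal

set_option autoImplicit false

/-!
# `C_P(Q)` and the defect groups of the local block at `Q` (helper4)
-/

namespace Cfsg.Agent.Lib.Helper4

open Cfsg Cfsg.Agent.Lib.Helper28
open scoped ComplexConjugate Classical

section

variable {G : Type*} [Group G] [Fintype G] {M : Ideal AlgInt}

theorem subgroupBlockCoeff_mem (K : Subgroup G) (f : Set (IrrCharacter K)) (k : K) :
    subgroupBlockCoeff K f (k : G) = blockCoeff f k := by
  rw [subgroupBlockCoeff_eq_extZero]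
  exact extZero_mem' K _ k

/-- for `(Q, f) ≤ (P, e)` some maximal Brauer pair of the block `f` of `C_G(Q)` has first
component containing `C_P(Q)` -/
theorem exists_maximal_local_ge {p : ℕ} [Fact p.Prime] (hM : IsPModular p M) {P Q : Subgroup G}
    {e : Set (IrrCharacter (Subgroup.centralizer (P : Set G)))}
    {f : Set (IrrCharacter (Subgroup.centralizer (Q : Set G)))}
    (hPe : IsBrauerPair p M P e) (hQP : Q ≤ P) (hf : IsPBlock M f)
    (hle : SubpairLE p M Q f P e) :
    ∃ (D : Subgroup (Subgroup.centralizer (Q : Set G)))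
      (d : Set (IrrCharacter (Subgroup.centralizer
        ((D : Subgroup (Subgroup.centralizer (Q : Set G))) :
          Set (Subgroup.centralizer (Q : Set G)))))),
      IsMaximalBrauerPair p M f D d ∧
        (P ⊓ Subgroup.centralizer (Q : Set G)).subgroupOf (Subgroup.centralizer (Q : Set G)) ≤ D := by
  have hMprime : M.IsPrime := hM.2.1.isPrime
  have hP : IsPGroup p P := hPe.1
  have hQ : IsPGroup p Q := hP.to_le hQP
  set SG : Subgroup G := P ⊓ Subgroup.centralizer (Q : Set G) with hSG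
  set R : Subgroup G := Q ⊔ SG with hRdef
  have hRP : R ≤ P := sup_le hQP inf_le_left
  have hQR : Q ≤ R := le_sup_left
  have hRN : R ≤ Subgroup.normalizer (Q : Set G) :=
    sup_le Subgroup.le_normalizer (inf_le_right.trans (centralizer_le_normalizer' Q))
  have hR : IsPGroup p R := hP.to_le hRP
  obtain ⟨g, hg, hleR⟩ := exists_subpairLE hM (Nat.card P - Nat.card R) P R e hPe hRP le_rfl
  obtain ⟨f', hnorm⟩ := exists_isNormalSubpair hM (⟨hR, hg⟩ : IsBrauerPair p M R g) hQR hRN
  have hle' : SubpairLE p M Q f' P e :=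
    Relation.ReflTransGen.head (show NormalSubpairRel p M ⟨Q, f'⟩ ⟨R, g⟩ from hnorm) hleR
  have hff' : f' = f := subpair_unique hM (Nat.card P - Nat.card Q) P Q e hPe hQP le_rfl f' f
    hnorm.1.2 hf hle' hle
  rw [hff'] at hnorm
  obtain ⟨y, hyR, hyne⟩ := exists_coeff_not_mem_of_isNormalSubpair hM hnorm
  have hyH : y ∈ Subgroup.centralizer (Q : Set G) :=
    Subgroup.centralizer_le (by exact_mod_cast hQR) hyR
  have hne' : ¬ MemLocalIdeal M (blockCoeff f ⟨y, hyH⟩) := by
    rw [← subgroupBlockCoeff_mem]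
    exact hyne
  have hSp : IsPGroup p (SG.subgroupOf (Subgroup.centralizer (Q : Set G))) :=
    (hP.to_le inf_le_left).comap_subtype
  have hycent : (⟨y, hyH⟩ : Subgroup.centralizer (Q : Set G)) ∈ Subgroup.centralizer
      ((SG.subgroupOf (Subgroup.centralizer (Q : Set G)) :
        Subgroup (Subgroup.centralizer (Q : Set G))) : Set (Subgroup.centralizer (Q : Set G))) := by
    intro s hs
    apply Subtype.ext
    have hs' : (s : G) ∈ SG := Subgroup.mem_subgroupOf.mp hs
    exact hyR (s : G) (le_sup_right (a := Q) hs')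
  obtain ⟨g', hg'⟩ := exists_isBrauerPairOf_of_coeff hM hf hSp _ hycent hne'
  obtain ⟨D, d, hmaxD, hleD⟩ := exists_maximal_ge hM _ _ g' hg' le_rfl
  exact ⟨D, d, hmaxD, subpairLE_le hleD⟩

/-- **S4661** -/
theorem centralizer_defect {p : ℕ} [Fact p.Prime] (hM : IsPModular p M)
    {B : Set (IrrCharacter G)} {P Q : Subgroup G}
    {e : Set (IrrCharacter (Subgroup.centralizer (P : Set G)))}
    {f : Set (IrrCharacter (Subgroup.centralizer (Q : Set G)))}
    (hmax : IsMaximalBrauerPair p M B P e) (hQP : Q ≤ P) (hf : IsPBlock M f)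
    (hle : SubpairLE p M Q f P e) :
    (∃ D : Subgroup (Subgroup.centralizer (Q : Set G)), IsDefectGroup p M f D ∧
      (P ⊓ Subgroup.centralizer (Q : Set G)).subgroupOf (Subgroup.centralizer (Q : Set G)) ≤ D) ∧
    ∃ x : G, SubpairLE p M (Q.map (MulAut.conj x).toMonoidHom) (conjBlock Q x f) P e ∧
      IsDefectGroup p M (conjBlock Q x f)
        ((P ⊓ Subgroup.centralizer ((Q.map (MulAut.conj x).toMonoidHom) : Set G)).subgroupOf
          (Subgroup.centralizer ((Q.map (MulAut.conj x).toMonoidHom) : Set G))) := by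
  have hMprime : M.IsPrime := hM.2.1.isPrime
  have hPe : IsBrauerPair p M P e := hmax.1.1
  have hP : IsPGroup p P := hPe.1
  have hQ : IsPGroup p Q := hP.to_le hQP
  have hB : IsPBlock M B := hmax.1.2.1
  obtain ⟨D, d, hmaxD, hSD⟩ := exists_maximal_local_ge hM hPe hQP hf hle
  have hDdef : IsDefectGroup p M f D := isDefectGroup_of_maximal hM hmaxD
  refine ⟨⟨D, hDdef, hSD⟩, ?_⟩
  -- the subgroup `Q D`
  have hDp : IsPGroup p D := hmaxD.1.1.1
  set D' : Subgroup G := D.map (Subgroup.centralizer (Q : Set G)).subtype with hD'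
  have hD'H : D' ≤ Subgroup.centralizer (Q : Set G) := by
    rintro _ ⟨c, _, rfl⟩
    exact c.2
  have hD'p : IsPGroup p D' := hDp.map _
  set R₂ : Subgroup G := Q ⊔ D' with hR₂
  have hR₂p : IsPGroup p R₂ :=
    IsPGroup.to_sup_of_normal_left' hQ hD'p (hD'H.trans (centralizer_le_normalizer' Q))
  obtain ⟨y', hy'C, hy'ne⟩ := exists_blockCoeff_not_mem hM hmaxD.1
  have hyR₂ : (y' : G) ∈ Subgroup.centralizer (R₂ : Set G) := by
    have h1 : R₂ ≤ Subgroup.centralizer ({(y' : G)} : Set G) := by
      apply sup_le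
      · intro u hu
        rw [Subgroup.mem_centralizer_singleton_iff]
        exact y'.2 u hu
      · rintro _ ⟨c, hc, rfl⟩
        rw [Subgroup.mem_centralizer_singleton_iff]
        exact congrArg Subtype.val (hy'C c hc)
    intro r hr
    have := h1 hr
    rw [Subgroup.mem_centralizer_singleton_iff] at this
    exact this
  have hne : ¬ MemLocalIdeal M
      (subgroupBlockCoeff (Subgroup.centralizer (Q : Set G)) f (y' : G)) := by
    rw [subgroupBlockCoeff_mem]
    exact hy'ne
  obtain ⟨T, hT⟩ := exists_stabSubgroup Q hf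
  have hQT : Q ≤ T := fun u hu =>
    (hT u).mpr ⟨Subgroup.le_normalizer hu, stabilizesBlock_of_mem Q f hu⟩
  have hHT : Subgroup.centralizer (Q : Set G) ≤ T := fun u hu =>
    (hT u).mpr ⟨centralizer_le_normalizer' Q hu, stabilizesBlock_of_mem_centralizer Q f hu⟩
  have hR₂T : R₂ ≤ T := sup_le hQT (hD'H.trans hHT)
  obtain ⟨d', hnorm2⟩ := exists_normalSuperpair hM (⟨hQ, hf⟩ : IsBrauerPair p M Q f) hR₂p
    le_sup_left (fun x hx => ((hT x).mp (hR₂T hx)).1) (fun x hx => ((hT x).mp (hR₂T hx)).2)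
    (y' : G) hyR₂ hne
  have hQfB : IsBrauerPairOf p M B Q f := (isBrauerPairOf_iff_of_subpairLE hM hle hB).mp hmax.1
  have hR₂B : IsBrauerPairOf p M B R₂ d' :=
    (isBrauerPairOf_iff_of_isNormalSubpair hM hnorm2 hB).mpr hQfB
  obtain ⟨x, hx⟩ := exists_conj_subpairLE hM hmax hR₂B
  have hle1 : SubpairLE p M (Q.map (MulAut.conj x).toMonoidHom) (conjBlock Q x f) P e :=
    Relation.ReflTransGen.head (show NormalSubpairRel p M
      ⟨Q.map (MulAut.conj x).toMonoidHom, conjBlock Q x f⟩
      ⟨R₂.map (MulAut.conj x).toMonoidHom, conjBlock R₂ x d'⟩ from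
        isNormalSubpair_conj hnorm2 x) hx
  refine ⟨x, hle1, ?_⟩
  have hQ₁P : Q.map (MulAut.conj x).toMonoidHom ≤ P := subpairLE_le hle1
  have hR₂xP : R₂.map (MulAut.conj x).toMonoidHom ≤ P := subpairLE_le hx
  have hf₁ : IsPBlock M (conjBlock Q x f) := isPBlock_conjBlock Q x hf
  obtain ⟨D₁, d₁, hmaxD₁, hS₁D₁⟩ := exists_maximal_local_ge hM hPe hQ₁P hf₁ hle1
  have hD₁def : IsDefectGroup p M (conjBlock Q x f) D₁ := isDefectGroup_of_maximal hM hmaxD₁
  -- cardinalities
  have hcardD : Nat.card D = p ^ blockDefect p f := Cfsg.Agent.S0908.result p M hM f hf D hDdef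
  have hcardD₁ : Nat.card D₁ = p ^ blockDefect p (conjBlock Q x f) :=
    Cfsg.Agent.S0908.result p M hM _ hf₁ D₁ hD₁def
  have hdefect : blockDefect p (conjBlock Q x f) = blockDefect p f := by
    rw [conjBlock_eq_preimage, blockDefect_preimage_irrEquiv]
  have hinj : Nat.card D ≤ Nat.card ((P ⊓ Subgroup.centralizer
      ((Q.map (MulAut.conj x).toMonoidHom) : Set G)).subgroupOf
        (Subgroup.centralizer ((Q.map (MulAut.conj x).toMonoidHom) : Set G))) := by
    have hmem : ∀ c : D, x * ((c : Subgroup.centralizer (Q : Set G)) : G) * x⁻¹ ∈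
        P ⊓ Subgroup.centralizer ((Q.map (MulAut.conj x).toMonoidHom) : Set G) := by
      intro c
      refine ⟨?_, centConj_mem Q x (c : Subgroup.centralizer (Q : Set G)).2⟩
      apply hR₂xP
      rw [mem_map_conj_iff]
      have e1 : x⁻¹ * (x * ((c : Subgroup.centralizer (Q : Set G)) : G) * x⁻¹) * x =
          ((c : Subgroup.centralizer (Q : Set G)) : G) := by group
      rw [e1]
      exact le_sup_right (a := Q) ⟨(c : Subgroup.centralizer (Q : Set G)), c.2, rfl⟩
    let φ : D → ((P ⊓ Subgroup.centralizer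
      ((Q.map (MulAut.conj x).toMonoidHom) : Set G)).subgroupOf
        (Subgroup.centralizer ((Q.map (MulAut.conj x).toMonoidHom) : Set G))) := fun c =>
      ⟨⟨x * ((c : Subgroup.centralizer (Q : Set G)) : G) * x⁻¹, (hmem c).2⟩,
        Subgroup.mem_subgroupOf.mpr (hmem c)⟩
    have hφ : Function.Injective φ := by
      intro c1 c2 h
      have h' : x * ((c1 : Subgroup.centralizer (Q : Set G)) : G) * x⁻¹ =
          x * ((c2 : Subgroup.centralizer (Q : Set G)) : G) * x⁻¹ :=
        congrArg (fun z => ((z : Subgroup.centralizer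
          ((Q.map (MulAut.conj x).toMonoidHom) : Set G)) : G)) (congrArg Subtype.val h)
      apply Subtype.ext
      apply Subtype.ext
      have := congrArg (fun g => x⁻¹ * g * x) h'
      simpa [mul_assoc] using this
    exact Nat.card_le_card_of_injective φ hφ
  have hS₁eq := Subgroup.eq_of_le_of_card_ge hS₁D₁ (by
    rw [hcardD₁, hdefect, ← hcardD]; exact hinj)
  rw [hS₁eq]
  exact hD₁def

end

end Cfsg.Agent.Lib.Helper4
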