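import Mathlib
import Cfsg.Agent.Lib.Helper4.BrauerLocalC
import Cfsg.Prelude.Def_BlockFusion

set_option autoImplicit false

/-!
# The fusion system of a block: fully centralized and centric subgroups (helper4)
-/

namespace Cfsg.Agent.Lib.Helper4

open Cfsg Cfsg.Agent.Lib.Helper28
open scoped ComplexConjugate Classical

section

variable {G : Type*} [Group G] [Fintype G] {M : Ideal AlgInt}

/-- the second component of a pair below a Brauer pair is a block -/
theorem isPBlock_of_subpairLE {p : ℕ} {P Q : Subgroup G}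
    {e : Set (IrrCharacter (Subgroup.centralizer (P : Set G)))}
    {f : Set (IrrCharacter (Subgroup.centralizer (Q : Set G)))} (he : IsPBlock M e)
    (hle : SubpairLE p M Q f P e) : IsPBlock M f := by
  rcases Relation.ReflTransGen.cases_head hle with h | ⟨c, hc, _⟩
  · have h1 : Q = P := congrArg Sigma.fst h
    subst h1
    have h2 : f = e := eq_of_heq (Sigma.mk.inj h).2
    rw [h2]; exact he
  · exact hc.1.2

theorem range_conjHom (Q : Subgroup G) (g : G) :
    (conjHom Q g).range = Q.map (MulAut.conj g).toMonoidHom := by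
  ext y
  constructor
  · rintro ⟨u, rfl⟩
    exact ⟨(u : G), u.2, rfl⟩
  · rintro ⟨u, hu, rfl⟩
    exact ⟨⟨u, hu⟩, rfl⟩

/-- conjugacy in the fusion system of a block -/
theorem isConj_blockFusion_iff {p : ℕ} [Fact p.Prime] (hM : IsPModular p M)
    {B : Set (IrrCharacter G)} {P : Subgroup G}
    {e : Set (IrrCharacter (Subgroup.centralizer (P : Set G)))} {F : FusionSystem P}
    (hF : IsBlockFusionSystemOn p M B P e F) {Q : Subgroup G}
    {f : Set (IrrCharacter (Subgroup.centralizer (Q : Set G)))} (hQP : Q ≤ P)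
    (hf : IsPBlock M f) (hle : SubpairLE p M Q f P e) (Q' : Subgroup G) :
    F.IsConj Q Q' ↔ ∃ g : G, Q' = Q.map (MulAut.conj g).toMonoidHom ∧
      SubpairLE p M (Q.map (MulAut.conj g).toMonoidHom) (conjBlock Q g f) P e := by
  have hPe : IsBrauerPair p M P e := hF.1.1.1
  constructor
  · rintro ⟨φ, hφ, hrange⟩
    obtain ⟨_, g, hg, _, f₀, hle₀, hle₁⟩ := (hF.2 Q φ).mp hφ
    have hf₀ : IsPBlock M f₀ := isPBlock_of_subpairLE hPe.2 hle₀
    have hff : f₀ = f := subpair_unique hM (Nat.card P - Nat.card Q) P Q e hPe hQP le_rfl f₀ f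
      hf₀ hf hle₀ hle
    rw [hff] at hle₁
    refine ⟨g, ?_, hle₁⟩
    rw [← hrange]
    have : φ = conjHom Q g := by
      ext u
      rw [hg u]
      rfl
    rw [this, range_conjHom]
  · rintro ⟨g, rfl, hle₁⟩
    refine ⟨conjHom Q g, ?_, range_conjHom Q g⟩
    exact (hF.2 Q (conjHom Q g)).mpr ⟨hQP, g, fun u => rfl, subpairLE_le hle₁, f, hle, hle₁⟩

theorem card_subgroupOf_inf (P H : Subgroup G) :
    Nat.card ((P ⊓ H).subgroupOf H) = Nat.card (P ⊓ H : Subgroup G) :=
  Nat.card_congr (Subgroup.subgroupOfEquivOfLe (inf_le_right : P ⊓ H ≤ H)).toEquiv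

theorem blockDefect_conjBlock (p : ℕ) (Q : Subgroup G) (x : G)
    (f : Set (IrrCharacter (Subgroup.centralizer (Q : Set G)))) :
    blockDefect p (conjBlock Q x f) = blockDefect p f := by
  rw [conjBlock_eq_preimage, blockDefect_preimage_irrEquiv]

/-- `|C_P(Q)| ≤ p ^ d(f)` for `(Q, f) ≤ (P, e)` -/
theorem card_centralizerIn_le {p : ℕ} [Fact p.Prime] (hM : IsPModular p M) {P Q : Subgroup G}
    {e : Set (IrrCharacter (Subgroup.centralizer (P : Set G)))}
    {f : Set (IrrCharacter (Subgroup.centralizer (Q : Set G)))}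
    (hPe : IsBrauerPair p M P e) (hQP : Q ≤ P) (hf : IsPBlock M f)
    (hle : SubpairLE p M Q f P e) :
    Nat.card (FusionSystem.centralizerIn P Q) ≤ p ^ blockDefect p f := by
  obtain ⟨D, d, hmaxD, hSD⟩ := exists_maximal_local_ge hM hPe hQP hf hle
  have hDdef : IsDefectGroup p M f D := isDefectGroup_of_maximal hM hmaxD
  have hcardD : Nat.card D = p ^ blockDefect p f := Cfsg.Agent.S0908.result p M hM f hf D hDdef
  rw [← hcardD]
  show Nat.card (P ⊓ Subgroup.centralizer (Q : Set G) : Subgroup G) ≤ _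
  rw [← card_subgroupOf_inf]
  exact Subgroup.card_le_of_le hSD

/-- **S4678** -/
theorem fullyCentralized_iff {p : ℕ} [Fact p.Prime] (hM : IsPModular p M)
    {B : Set (IrrCharacter G)} {P : Subgroup G}
    {e : Set (IrrCharacter (Subgroup.centralizer (P : Set G)))}
    (hmax : IsMaximalBrauerPair p M B P e) {F : FusionSystem P}
    (hF : IsBlockFusionSystemOn p M B P e F) {Q : Subgroup G}
    {f : Set (IrrCharacter (Subgroup.centralizer (Q : Set G)))} (hQP : Q ≤ P)
    (hf : IsPBlock M f) (hle : SubpairLE p M Q f P e) :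
    F.IsFullyCentralized Q ↔ IsDefectGroup p M f
      ((P ⊓ Subgroup.centralizer (Q : Set G)).subgroupOf (Subgroup.centralizer (Q : Set G))) := by
  have hPe : IsBrauerPair p M P e := hmax.1.1
  have hp : p.Prime := Fact.out
  constructor
  · rintro ⟨_, hfull⟩
    obtain ⟨⟨D, hDdef, hSD⟩, x, hle1, hdef1⟩ := centralizer_defect hM hmax hQP hf hle
    have hconj : F.IsConj Q (Q.map (MulAut.conj x).toMonoidHom) :=
      (isConj_blockFusion_iff hM hF hQP hf hle _).mpr ⟨x, rfl, hle1⟩
    have h1 := hfull _ hconj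
    have hf₁ : IsPBlock M (conjBlock Q x f) := isPBlock_conjBlock Q x hf
    have hc1 : Nat.card (FusionSystem.centralizerIn P (Q.map (MulAut.conj x).toMonoidHom)) =
        p ^ blockDefect p f := by
      have := Cfsg.Agent.S0908.result p M hM _ hf₁ _ hdef1
      rw [card_subgroupOf_inf, blockDefect_conjBlock] at this
      exact this
    have hcardD : Nat.card D = p ^ blockDefect p f := Cfsg.Agent.S0908.result p M hM f hf D hDdef
    have h2 : Nat.card D ≤ Nat.card ((P ⊓ Subgroup.centralizer (Q : Set G)).subgroupOf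
        (Subgroup.centralizer (Q : Set G))) := by
      rw [hcardD, ← hc1, card_subgroupOf_inf]
      exact h1
    have := Subgroup.eq_of_le_of_card_ge hSD h2
    rw [this]
    exact hDdef
  · intro hdef
    refine ⟨hQP, fun Q' hconj => ?_⟩
    obtain ⟨g, rfl, hle₁⟩ := (isConj_blockFusion_iff hM hF hQP hf hle Q').mp hconj
    have hf₁ : IsPBlock M (conjBlock Q g f) := isPBlock_conjBlock Q g hf
    have h1 := card_centralizerIn_le hM hPe (subpairLE_le hle₁) hf₁ hle₁
    rw [blockDefect_conjBlock] at h1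
    have h2 := Cfsg.Agent.S0908.result p M hM f hf _ hdef
    rw [card_subgroupOf_inf] at h2
    show _ ≤ Nat.card (P ⊓ Subgroup.centralizer (Q : Set G) : Subgroup G)
    rw [h2]
    exact h1

end

end Cfsg.Agent.Lib.Helper4
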