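import Mathlib
import Cfsg.Agent.Lib.Helper4.BrauerFusion

set_option autoImplicit false

/-!
# Normalizers in the fusion system of a block (helper4)

`N_P(Q)` and the defect groups of the block of `N_G(Q, f)` with the idempotent of `f`.
-/

namespace Cfsg.Agent.Lib.Helper4

open Cfsg Cfsg.Agent.Lib.Helper28
open scoped ComplexConjugate Classical

section

variable {G : Type*} [Group G] [Fintype G] {M : Ideal AlgInt}

/-- **the idempotent of a block `e` of `C_G(P)` is a block idempotent of every subgroup `T` of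
`N_G(P)` that stabilizes `e` and contains `P C_G(P)`** -/
theorem exists_block_of_stable {p : ℕ} [Fact p.Prime] (hM : IsPModular p M) (P : Subgroup G)
    (hP : IsPGroup p P)
    (e : Set (IrrCharacter (Subgroup.centralizer (P : Set G)))) (he : IsPBlock M e)
    (T : Subgroup G) (hTN : T ≤ Subgroup.normalizer (P : Set G))
    (hTst : ∀ x ∈ T, StabilizesBlock (Subgroup.centralizer (P : Set G)) e x)
    (hCT : Subgroup.centralizer (P : Set G) ≤ T) (hPT : P ≤ T) :
    ∃ E : Set (IrrCharacter T), IsPBlock M E ∧ ∀ t : T,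
      blockCoeff E t = subgroupBlockCoeff (Subgroup.centralizer (P : Set G)) e (t : G) := by
  have hMprime : M.IsPrime := hM.2.1.isPrime
  have hMtop : M ≠ ⊤ := Ideal.IsPrime.ne_top hMprime
  set F := extZero (Subgroup.centralizer (P : Set G)) (blockCoeff e) with hF
  have hFvanC : ∀ g, g ∉ Subgroup.centralizer (P : Set G) → F g = 0 :=
    fun g hg => extZero_not_mem' _ _ hg
  have hFvanT : ∀ g, g ∉ T → F g = 0 := fun g hg => hFvanC g (fun h => hg (hCT h))
  have hFR : ∀ g, MemLocalRing M (F g) := by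
    intro g
    by_cases hg : g ∈ Subgroup.centralizer (P : Set G)
    · have e1 := extZero_mem' (Subgroup.centralizer (P : Set G)) (blockCoeff e) ⟨g, hg⟩
      simp only at e1
      rw [hF, e1]
      exact osima he _
    · rw [hFvanC g hg]
      exact memLocalRing_zero hMtop
  have hFidem : conv F F = F := by
    rw [hF, conv_extZero, conv_blockCoeff_self]
  set FT := resTo T F with hFT
  have hFTcf : IsClassFunction T FT :=
    isClassFunction_resTo (invUnder_extZero_of_stabilizes _ T e hTst)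
  have hFTR : ∀ t, MemLocalRing M (FT t) := fun t => hFR _
  have hFTidem : conv FT FT = FT := by
    rw [hFT, conv_resTo_of_vanish T F F hFvanT, hFidem]
  have hFTE := eq_blockCoeff_of_idem hFTcf hFTidem
  have hEclosed := idemSupport_closed (M := M) hFTcf hFTidem hFTR
  have hresF : resTo (Subgroup.centralizer (P : Set G)) F = blockCoeff e := resTo_extZero _ _
  have hEne : (idemSupport FT).Nonempty := by
    rw [Set.nonempty_iff_ne_empty]
    intro hempty
    rw [hempty, blockCoeff_empty_fun] at hFTE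
    have h1 : F = 0 := by
      rw [← extZero_resTo T F hFvanT, ← hFT, hFTE]
      exact extZero_zero T
    have h2 : blockCoeff e = 0 := by
      rw [← hresF, h1]
      rfl
    rw [← blockCoeff_empty_fun] at h2
    have h3 := blockCoeff_injective h2
    obtain ⟨θ, hθ⟩ := block_nonempty he
    rw [h3] at hθ
    exact hθ
  obtain ⟨ψ0, hψ0⟩ := hEne
  set E1 : Set (IrrCharacter T) := blockOf M (ψ0 : T → ℂ) with hE1def
  have hE1 : IsPBlock M E1 := ⟨ψ0, rfl⟩
  have hψ0E1 : ψ0 ∈ E1 := sameBlock_refl hMtop _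
  have hE1E : E1 ⊆ idemSupport FT := fun ψ hψ => hEclosed ψ0 hψ0 ψ hψ
  -- the idempotent of `E1` vanishes off `C`
  let P' : Subgroup T := P.subgroupOf T
  have hP'n : P'.Normal := by
    constructor
    intro n hn t
    have hn' : (n : G) ∈ P := Subgroup.mem_subgroupOf.mp hn
    show (t * n * t⁻¹ : T) ∈ P.subgroupOf T
    rw [Subgroup.mem_subgroupOf]
    exact (Subgroup.mem_normalizer_iff.mp (hTN t.2) (n : G)).mp hn'
  have hP'p : IsPGroup p P' := hP.comap_of_injective T.subtype (Subgroup.subtype_injective T)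
  have hε1van : ∀ t : T, (t : G) ∉ Subgroup.centralizer (P : Set G) → blockCoeff E1 t = 0 := by
    intro t ht
    apply blockCoeff_eq_zero_of_not_mem_centralizer hM P' hP'p hE1 t
    intro hcon
    apply ht
    rw [Subgroup.mem_centralizer_iff]
    intro y hy
    have := Subgroup.mem_centralizer_iff.mp hcon ⟨y, hPT hy⟩ (by
      show (⟨y, hPT hy⟩ : T) ∈ P.subgroupOf T
      rw [Subgroup.mem_subgroupOf]; exact hy)
    exact congrArg Subtype.val this
  set ε1G := extZero T (blockCoeff E1) with hε1G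
  have hε1GvanC : ∀ g, g ∉ Subgroup.centralizer (P : Set G) → ε1G g = 0 := by
    intro g hg
    by_cases hgT : g ∈ T
    · have e1 := extZero_mem' T (blockCoeff E1) ⟨g, hgT⟩
      simp only at e1
      rw [hε1G, e1]
      exact hε1van ⟨g, hgT⟩ hg
    · exact extZero_not_mem' _ _ hgT
  have hε1Gidem : conv ε1G ε1G = ε1G := by
    rw [hε1G, conv_extZero, conv_blockCoeff_self]
  set r1 := resTo (Subgroup.centralizer (P : Set G)) ε1G with hr1
  have hr1cf : IsClassFunction (Subgroup.centralizer (P : Set G)) r1 :=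
    isClassFunction_resTo (invUnder_mono hCT
      (invUnder_extZero_self T (isClassFunction_blockCoeff E1)))
  have hr1R : ∀ c, MemLocalRing M (r1 c) := by
    intro c
    have e1 := extZero_mem' T (blockCoeff E1) ⟨c, hCT c.2⟩
    simp only at e1
    show MemLocalRing M (ε1G (c : G))
    rw [hε1G, e1]
    exact osima hE1 _
  have hr1idem : conv r1 r1 = r1 := by
    rw [hr1, conv_resTo_of_vanish _ ε1G ε1G hε1GvanC, hε1Gidem]
  have hr1S := eq_blockCoeff_of_idem hr1cf hr1idem
  have hS1closed := idemSupport_closed (M := M) hr1cf hr1idem hr1R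
  have hFext : F = extZero T FT := (extZero_resTo T F hFvanT).symm
  have hconvG : conv ε1G F = ε1G := by
    rw [hFext, hε1G, conv_extZero, hFTE, conv_blockCoeff_inter,
      Set.inter_eq_left.mpr hE1E]
  have hconvC : conv r1 (blockCoeff e) = r1 := by
    rw [← hresF, hr1, conv_resTo_of_vanish _ ε1G F hε1GvanC, hconvG]
  have hS1e : idemSupport r1 ⊆ e := by
    apply subset_of_conv_blockCoeff
    rw [← hr1S]
    exact hconvC
  have hε1Gext : ε1G = extZero (Subgroup.centralizer (P : Set G)) r1 :=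
    (extZero_resTo _ ε1G hε1GvanC).symm
  have hS1ne : (idemSupport r1).Nonempty := by
    rw [Set.nonempty_iff_ne_empty]
    intro hempty
    rw [hempty, blockCoeff_empty_fun] at hr1S
    have h1 : ε1G = 0 := by
      rw [hε1Gext, hr1S]
      exact extZero_zero _
    have h2 : blockCoeff E1 = 0 := by
      rw [← resTo_extZero T (blockCoeff E1), ← hε1G, h1]
      rfl
    rw [← blockCoeff_empty_fun] at h2
    have h3 := blockCoeff_injective h2
    rw [h3] at hψ0E1
    exact hψ0E1
  have hS1eq := eq_block_of_closed_subset he hS1closed hS1ne hS1e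
  have hε1GF : ε1G = F := by
    rw [hε1Gext, hr1S, hS1eq]
  have hfinal : blockCoeff E1 = FT := by
    rw [← resTo_extZero T (blockCoeff E1), ← hε1G, hε1GF]
  refine ⟨E1, hE1, fun t => ?_⟩
  rw [hfinal]
  rfl

/-- elements of `N_P(Q)` stabilize `f` when `(Q, f) ≤ (P, e)` -/
theorem stabilizesBlock_of_mem_normalizerIn {p : ℕ} [Fact p.Prime] (hM : IsPModular p M)
    {P Q : Subgroup G}
    {e : Set (IrrCharacter (Subgroup.centralizer (P : Set G)))}
    {f : Set (IrrCharacter (Subgroup.centralizer (Q : Set G)))}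
    (hPe : IsBrauerPair p M P e) (hQP : Q ≤ P) (hf : IsPBlock M f)
    (hle : SubpairLE p M Q f P e) {u : G} (huP : u ∈ P)
    (huN : u ∈ Subgroup.normalizer (Q : Set G)) :
    StabilizesBlock (Subgroup.centralizer (Q : Set G)) f u := by
  have hMprime : M.IsPrime := hM.2.1.isPrime
  have huNP : u ∈ Subgroup.normalizer (P : Set G) := Subgroup.le_normalizer huP
  have h1 := subpairLE_conj (M := M) (p := p) hle u
  rw [conjPair_normalizer huNP e, conjPair_normalizer huN f] at h1
  have h2 : conjIrr (Subgroup.centralizer (P : Set G)) u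
      (normalizer_le_normalizer_centralizer P huNP) '' e = e :=
    (image_conjIrr_eq_iff _ hPe.2 u _).mpr (stabilizesBlock_of_mem P e huP)
  rw [h2] at h1
  have hf' : IsPBlock M (conjIrr (Subgroup.centralizer (Q : Set G)) u
      (normalizer_le_normalizer_centralizer Q huN) '' f) := isPBlock_image_conjIrr _ u _ hf
  have h3 := subpair_unique hM (Nat.card P - Nat.card Q) P Q e hPe hQP le_rfl _ f hf' hf h1 hle
  exact (image_conjIrr_eq_iff _ hf u _).mp h3

/-- for `(Q, f) ≤ (P, e)` some maximal Brauer pair of the block of `N_G(Q, f)` with the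
idempotent of `f` has first component containing `N_P(Q)` -/
theorem exists_maximal_normalizer_ge {p : ℕ} [Fact p.Prime] (hM : IsPModular p M)
    {P Q : Subgroup G}
    {e : Set (IrrCharacter (Subgroup.centralizer (P : Set G)))}
    {f : Set (IrrCharacter (Subgroup.centralizer (Q : Set G)))}
    (hPe : IsBrauerPair p M P e) (hQP : Q ≤ P) (hf : IsPBlock M f)
    (hle : SubpairLE p M Q f P e) {T : Subgroup G}
    (hT : ∀ y : G, y ∈ T ↔ y ∈ Subgroup.normalizer (Q : Set G) ∧
      StabilizesBlock (Subgroup.centralizer (Q : Set G)) f y)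
    {F : Set (IrrCharacter T)} (hF : IsPBlock M F)
    (hFf : ∀ t : T, blockCoeff F t =
      subgroupBlockCoeff (Subgroup.centralizer (Q : Set G)) f (t : G)) :
    ∃ (D : Subgroup T) (d : Set (IrrCharacter (Subgroup.centralizer (D : Set T)))),
      IsMaximalBrauerPair p M F D d ∧
        (P ⊓ Subgroup.normalizer (Q : Set G)).subgroupOf T ≤ D := by
  have hMprime : M.IsPrime := hM.2.1.isPrime
  have hP : IsPGroup p P := hPe.1
  set S : Subgroup G := P ⊓ Subgroup.normalizer (Q : Set G) with hS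
  have hSP : S ≤ P := inf_le_left
  have hQS : Q ≤ S := le_inf hQP Subgroup.le_normalizer
  have hSN : S ≤ Subgroup.normalizer (Q : Set G) := inf_le_right
  have hSp : IsPGroup p S := hP.to_le hSP
  obtain ⟨g, hg, hleS⟩ := exists_subpairLE hM (Nat.card P - Nat.card S) P S e hPe hSP le_rfl
  obtain ⟨f', hnorm⟩ := exists_isNormalSubpair hM (⟨hSp, hg⟩ : IsBrauerPair p M S g) hQS hSN
  have hle' : SubpairLE p M Q f' P e :=
    Relation.ReflTransGen.head (show NormalSubpairRel p M ⟨Q, f'⟩ ⟨S, g⟩ from hnorm) hleS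
  have hff' : f' = f := subpair_unique hM (Nat.card P - Nat.card Q) P Q e hPe hQP le_rfl f' f
    hnorm.1.2 hf hle' hle
  rw [hff'] at hnorm
  obtain ⟨y, hyS, hyne⟩ := exists_coeff_not_mem_of_isNormalSubpair hM hnorm
  have hyH : y ∈ Subgroup.centralizer (Q : Set G) :=
    Subgroup.centralizer_le (by exact_mod_cast hQS) hyS
  have hHT : Subgroup.centralizer (Q : Set G) ≤ T := fun u hu =>
    (hT u).mpr ⟨centralizer_le_normalizer' Q hu, stabilizesBlock_of_mem_centralizer Q f hu⟩
  have hyT : y ∈ T := hHT hyH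
  have hne' : ¬ MemLocalIdeal M (blockCoeff F ⟨y, hyT⟩) := by
    rw [hFf]
    exact hyne
  have hStp : IsPGroup p (S.subgroupOf T) := hSp.comap_subtype
  have hycent : (⟨y, hyT⟩ : T) ∈
      Subgroup.centralizer ((S.subgroupOf T : Subgroup T) : Set T) := by
    intro s hs
    apply Subtype.ext
    have hs' : (s : G) ∈ S := Subgroup.mem_subgroupOf.mp hs
    exact hyS (s : G) hs'
  obtain ⟨g', hg'⟩ := exists_isBrauerPairOf_of_coeff hM hF hStp _ hycent hne'
  obtain ⟨D, d, hmaxD, hleD⟩ := exists_maximal_ge hM _ _ g' hg' le_rfl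
  exact ⟨D, d, hmaxD, subpairLE_le hleD⟩


theorem mem_normalizer_map_conj_iff (Q : Subgroup G) (x y : G) :
    y ∈ Subgroup.normalizer ((Q.map (MulAut.conj x).toMonoidHom : Subgroup G) : Set G) ↔
      x⁻¹ * y * x ∈ Subgroup.normalizer (Q : Set G) := by
  rw [Subgroup.mem_normalizer_iff, Subgroup.mem_normalizer_iff]
  constructor
  · intro h u
    have := h (x * u * x⁻¹)
    rw [mem_map_conj_iff, mem_map_conj_iff] at this
    have e1 : x⁻¹ * (x * u * x⁻¹) * x = u := by group
    have e2 : x⁻¹ * (y * (x * u * x⁻¹) * y⁻¹) * x = x⁻¹ * y * x * u * (x⁻¹ * y * x)⁻¹ := by group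
    rw [e1, e2] at this
    exact this
  · intro h g
    rw [mem_map_conj_iff, mem_map_conj_iff]
    have := h (x⁻¹ * g * x)
    have e2 : x⁻¹ * y * x * (x⁻¹ * g * x) * (x⁻¹ * y * x)⁻¹ = x⁻¹ * (y * g * y⁻¹) * x := by group
    rw [e2] at this
    exact this

/-- the converse of `stabilizesBlock_conj` -/
theorem stabilizesBlock_of_conj (Q : Subgroup G) (x : G)
    {f : Set (IrrCharacter (Subgroup.centralizer (Q : Set G)))} {y : G}
    (h : StabilizesBlock (Subgroup.centralizer
      ((Q.map (MulAut.conj x).toMonoidHom : Subgroup G) : Set G)) (conjBlock Q x f) y) :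
    StabilizesBlock (Subgroup.centralizer (Q : Set G)) f (x⁻¹ * y * x) := by
  obtain ⟨hy, hst⟩ := h
  have key : ∀ g : G, g ∈ Subgroup.centralizer
      ((Q.map (MulAut.conj x).toMonoidHom : Subgroup G) : Set G) ↔
      x⁻¹ * g * x ∈ Subgroup.centralizer (Q : Set G) := by
    intro g
    constructor
    · exact fun h => centConj_mem' Q x h
    · intro h
      have := centConj_mem Q x h
      have e : x * (x⁻¹ * g * x) * x⁻¹ = g := by group
      rwa [e] at this
  constructor
  · rw [Subgroup.mem_normalizer_iff]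
    intro c
    have := Subgroup.mem_normalizer_iff.mp hy (x * c * x⁻¹)
    rw [key, key] at this
    have e1 : x⁻¹ * (x * c * x⁻¹) * x = c := by group
    have e2 : x⁻¹ * (y * (x * c * x⁻¹) * y⁻¹) * x = x⁻¹ * y * x * c * (x⁻¹ * y * x)⁻¹ := by group
    rw [e1, e2] at this
    exact this
  · intro ξ hξ
    have hξ' : (irrEquiv (centConj Q x)).symm ξ ∈ conjBlock Q x f := by
      rw [mem_conjBlock_iff, Equiv.apply_symm_apply]
      exact hξ
    obtain ⟨ψ', hψ', hconj⟩ := hst _ hξ'
    refine ⟨irrEquiv (centConj Q x) ψ', (mem_conjBlock_iff Q x f ψ').mp hψ', ?_⟩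
    intro k1 k2 hk
    rw [irrEquiv_apply]
    have h1 := hconj (centConj Q x k1) (centConj Q x k2) (by
      rw [centConj_apply, centConj_apply, hk]; group)
    rw [h1, irrEquiv_symm_apply, MulEquiv.symm_apply_apply]


/-- some conjugate `(Q, f)^x ≤ (P, e)` has `|N_P(Q^x)|` at least the order of a defect group of
the block of `N_G(Q, f)` with the idempotent of `f` -/
theorem exists_conj_normalizer_card {p : ℕ} [Fact p.Prime] (hM : IsPModular p M)
    {B : Set (IrrCharacter G)} {P Q : Subgroup G}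
    {e : Set (IrrCharacter (Subgroup.centralizer (P : Set G)))}
    {f : Set (IrrCharacter (Subgroup.centralizer (Q : Set G)))}
    (hmax : IsMaximalBrauerPair p M B P e) (hQP : Q ≤ P) (hf : IsPBlock M f)
    (hle : SubpairLE p M Q f P e) {T : Subgroup G}
    (hT : ∀ y : G, y ∈ T ↔ y ∈ Subgroup.normalizer (Q : Set G) ∧
      StabilizesBlock (Subgroup.centralizer (Q : Set G)) f y)
    {F : Set (IrrCharacter T)}
    (hFf : ∀ t : T, blockCoeff F t =
      subgroupBlockCoeff (Subgroup.centralizer (Q : Set G)) f (t : G))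
    {D : Subgroup T} {d : Set (IrrCharacter (Subgroup.centralizer (D : Set T)))}
    (hmaxD : IsMaximalBrauerPair p M F D d) :
    ∃ x : G, SubpairLE p M (Q.map (MulAut.conj x).toMonoidHom) (conjBlock Q x f) P e ∧
      Nat.card D ≤ Nat.card (P ⊓ Subgroup.normalizer
        ((Q.map (MulAut.conj x).toMonoidHom : Subgroup G) : Set G) : Subgroup G) := by
  have hMprime : M.IsPrime := hM.2.1.isPrime
  have hMtop : M ≠ ⊤ := Ideal.IsPrime.ne_top hMprime
  have hPe : IsBrauerPair p M P e := hmax.1.1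
  have hP : IsPGroup p P := hPe.1
  have hQ : IsPGroup p Q := hP.to_le hQP
  have hB : IsPBlock M B := hmax.1.2.1
  have hDp : IsPGroup p D := hmaxD.1.1.1
  set D' : Subgroup G := D.map T.subtype with hD'
  have hD'T : D' ≤ T := by
    rintro _ ⟨c, _, rfl⟩
    exact c.2
  have hTN : T ≤ Subgroup.normalizer (Q : Set G) := fun t ht => ((hT t).mp ht).1
  have hD'p : IsPGroup p D' := hDp.map _
  set R₂ : Subgroup G := Q ⊔ D' with hR₂
  have hR₂p : IsPGroup p R₂ :=
    IsPGroup.to_sup_of_normal_left' hQ hD'p (hD'T.trans hTN)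
  obtain ⟨y', hy'C, hy'ne⟩ := exists_blockCoeff_not_mem hM hmaxD.1
  have hne : ¬ MemLocalIdeal M
      (subgroupBlockCoeff (Subgroup.centralizer (Q : Set G)) f (y' : G)) := by
    rw [← hFf]
    exact hy'ne
  have hy'H : (y' : G) ∈ Subgroup.centralizer (Q : Set G) := by
    by_contra hcon
    apply hne
    rw [subgroupBlockCoeff_eq_extZero, extZero_not_mem' _ _ hcon]
    exact memLocalIdeal_zero hMtop
  have hyR₂ : (y' : G) ∈ Subgroup.centralizer (R₂ : Set G) := by
    have h1 : R₂ ≤ Subgroup.centralizer ({(y' : G)} : Set G) := by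
      apply sup_le
      · intro u hu
        rw [Subgroup.mem_centralizer_singleton_iff]
        exact hy'H u hu
      · rintro _ ⟨c, hc, rfl⟩
        rw [Subgroup.mem_centralizer_singleton_iff]
        exact congrArg Subtype.val (hy'C c hc)
    intro r hr
    have := h1 hr
    rw [Subgroup.mem_centralizer_singleton_iff] at this
    exact this
  have hQT : Q ≤ T := fun u hu =>
    (hT u).mpr ⟨Subgroup.le_normalizer hu, stabilizesBlock_of_mem Q f hu⟩
  have hR₂T : R₂ ≤ T := sup_le hQT hD'T
  obtain ⟨d', hnorm2⟩ := exists_normalSuperpair hM (⟨hQ, hf⟩ : IsBrauerPair p M Q f) hR₂p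
    le_sup_left (fun x hx => ((hT x).mp (hR₂T hx)).1) (fun x hx => ((hT x).mp (hR₂T hx)).2)
    (y' : G) hyR₂ hne
  have hQfB : IsBrauerPairOf p M B Q f := (isBrauerPairOf_iff_of_subpairLE hM hle hB).mp hmax.1
  have hR₂B : IsBrauerPairOf p M B R₂ d' :=
    (isBrauerPairOf_iff_of_isNormalSubpair hM hnorm2 hB).mpr hQfB
  obtain ⟨x, hx⟩ := exists_conj_subpairLE hM hmax hR₂B
  have hle1 : SubpairLE p M (Q.map (MulAut.conj x).toMonoidHom) (conjBlock Q x f) P e :=
    Relation.ReflTransGen.head (show NormalSubpairRel p M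
      ⟨Q.map (MulAut.conj x).toMonoidHom, conjBlock Q x f⟩
      ⟨R₂.map (MulAut.conj x).toMonoidHom, conjBlock R₂ x d'⟩ from
        isNormalSubpair_conj hnorm2 x) hx
  refine ⟨x, hle1, ?_⟩
  have hR₂xP : R₂.map (MulAut.conj x).toMonoidHom ≤ P := subpairLE_le hx
  have hmem : ∀ c : D, x * ((c : T) : G) * x⁻¹ ∈
      P ⊓ Subgroup.normalizer ((Q.map (MulAut.conj x).toMonoidHom : Subgroup G) : Set G) := by
    intro c
    have e1 : x⁻¹ * (x * ((c : T) : G) * x⁻¹) * x = ((c : T) : G) := by group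
    refine ⟨?_, ?_⟩
    · apply hR₂xP
      rw [mem_map_conj_iff, e1]
      exact le_sup_right (a := Q) ⟨(c : T), c.2, rfl⟩
    · show x * ((c : T) : G) * x⁻¹ ∈ Subgroup.normalizer
        ((Q.map (MulAut.conj x).toMonoidHom : Subgroup G) : Set G)
      rw [mem_normalizer_map_conj_iff, e1]
      exact hTN (c : T).2
  let φ : D → (P ⊓ Subgroup.normalizer
      ((Q.map (MulAut.conj x).toMonoidHom : Subgroup G) : Set G) : Subgroup G) :=
    fun c => ⟨x * ((c : T) : G) * x⁻¹, hmem c⟩
  have hφ : Function.Injective φ := by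
    intro c1 c2 h
    have h' : x * ((c1 : T) : G) * x⁻¹ = x * ((c2 : T) : G) * x⁻¹ := congrArg Subtype.val h
    apply Subtype.ext
    apply Subtype.ext
    have := congrArg (fun g => x⁻¹ * g * x) h'
    simpa [mul_assoc] using this
  exact Nat.card_le_card_of_injective φ hφ


/-- conjugation by `x` as an isomorphism from `N_G(Q, f)` onto `N_G(Q^x, f^x)` -/
noncomputable def stabConjEquiv (Q : Subgroup G) (x : G)
    (f : Set (IrrCharacter (Subgroup.centralizer (Q : Set G)))) {T T' : Subgroup G}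
    (hT : ∀ y : G, y ∈ T ↔ y ∈ Subgroup.normalizer (Q : Set G) ∧
      StabilizesBlock (Subgroup.centralizer (Q : Set G)) f y)
    (hT' : ∀ y : G, y ∈ T' ↔
      y ∈ Subgroup.normalizer ((Q.map (MulAut.conj x).toMonoidHom : Subgroup G) : Set G) ∧
      StabilizesBlock (Subgroup.centralizer
        ((Q.map (MulAut.conj x).toMonoidHom : Subgroup G) : Set G)) (conjBlock Q x f) y) :
    T ≃* T' where
  toFun t := ⟨x * t * x⁻¹, by
    rw [hT', mem_normalizer_map_conj_iff]
    have e1 : x⁻¹ * (x * (t : G) * x⁻¹) * x = (t : G) := by group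
    rw [e1]
    exact ⟨((hT t).mp t.2).1, stabilizesBlock_conj Q x ((hT t).mp t.2).2⟩⟩
  invFun t' := ⟨x⁻¹ * t' * x, by
    rw [hT]
    exact ⟨(mem_normalizer_map_conj_iff Q x t').mp ((hT' t').mp t'.2).1,
      stabilizesBlock_of_conj Q x ((hT' t').mp t'.2).2⟩⟩
  left_inv t := by
    apply Subtype.ext
    show x⁻¹ * (x * (t : G) * x⁻¹) * x = t
    group
  right_inv t' := by
    apply Subtype.ext
    show x * (x⁻¹ * (t' : G) * x) * x⁻¹ = t'
    group
  map_mul' a b := by
    apply Subtype.ext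
    show x * ((a : G) * b) * x⁻¹ = (x * a * x⁻¹) * (x * b * x⁻¹)
    group

/-- the blocks of `N_G(Q, f)` and of `N_G(Q^x, f^x)` with the idempotents of `f` and of `f^x`
have the same defect -/
theorem blockDefect_conj_stab (p : ℕ) (Q : Subgroup G) (x : G)
    (f : Set (IrrCharacter (Subgroup.centralizer (Q : Set G)))) {T T' : Subgroup G}
    (hT : ∀ y : G, y ∈ T ↔ y ∈ Subgroup.normalizer (Q : Set G) ∧
      StabilizesBlock (Subgroup.centralizer (Q : Set G)) f y)
    (hT' : ∀ y : G, y ∈ T' ↔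
      y ∈ Subgroup.normalizer ((Q.map (MulAut.conj x).toMonoidHom : Subgroup G) : Set G) ∧
      StabilizesBlock (Subgroup.centralizer
        ((Q.map (MulAut.conj x).toMonoidHom : Subgroup G) : Set G)) (conjBlock Q x f) y)
    {F : Set (IrrCharacter T)}
    (hFf : ∀ t : T, blockCoeff F t =
      subgroupBlockCoeff (Subgroup.centralizer (Q : Set G)) f (t : G))
    {F' : Set (IrrCharacter T')}
    (hF'f : ∀ t : T', blockCoeff F' t =
      subgroupBlockCoeff (Subgroup.centralizer
        ((Q.map (MulAut.conj x).toMonoidHom : Subgroup G) : Set G)) (conjBlock Q x f) (t : G)) :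
    blockDefect p F' = blockDefect p F := by
  have h : (irrEquiv (stabConjEquiv Q x f hT hT')) ⁻¹' F = F' := by
    apply blockCoeff_injective
    funext t'
    rw [blockCoeff_preimage_irrEquiv, hFf, hF'f, subgroupBlockCoeff_conjBlock]
    rfl
  rw [← h, blockDefect_preimage_irrEquiv]


omit [Fintype G] in
theorem card_subgroupOf_of_le {S T : Subgroup G} (h : S ≤ T) :
    Nat.card (S.subgroupOf T) = Nat.card S :=
  Nat.card_congr (Subgroup.subgroupOfEquivOfLe h).toEquiv

/-- `N_P(Q) ≤ N_G(Q, f)` for `(Q, f) ≤ (P, e)` -/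
theorem normalizerIn_le_stab {p : ℕ} [Fact p.Prime] (hM : IsPModular p M)
    {P Q : Subgroup G}
    {e : Set (IrrCharacter (Subgroup.centralizer (P : Set G)))}
    {f : Set (IrrCharacter (Subgroup.centralizer (Q : Set G)))}
    (hPe : IsBrauerPair p M P e) (hQP : Q ≤ P) (hf : IsPBlock M f)
    (hle : SubpairLE p M Q f P e) {T : Subgroup G}
    (hT : ∀ y : G, y ∈ T ↔ y ∈ Subgroup.normalizer (Q : Set G) ∧
      StabilizesBlock (Subgroup.centralizer (Q : Set G)) f y) :
    P ⊓ Subgroup.normalizer (Q : Set G) ≤ T := fun u hu =>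
  (hT u).mpr ⟨hu.2, stabilizesBlock_of_mem_normalizerIn hM hPe hQP hf hle hu.1 hu.2⟩

/-- the idempotent of `f` is a block idempotent of `N_G(Q, f)` -/
theorem exists_stab_block {p : ℕ} [Fact p.Prime] (hM : IsPModular p M) {Q : Subgroup G}
    (hQ : IsPGroup p Q)
    {f : Set (IrrCharacter (Subgroup.centralizer (Q : Set G)))} (hf : IsPBlock M f)
    {T : Subgroup G}
    (hT : ∀ y : G, y ∈ T ↔ y ∈ Subgroup.normalizer (Q : Set G) ∧
      StabilizesBlock (Subgroup.centralizer (Q : Set G)) f y) :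
    ∃ F : Set (IrrCharacter T), IsPBlock M F ∧ ∀ t : T, blockCoeff F t =
      subgroupBlockCoeff (Subgroup.centralizer (Q : Set G)) f (t : G) :=
  exists_block_of_stable hM Q hQ f hf T (fun t ht => ((hT t).mp ht).1)
    (fun t ht => ((hT t).mp ht).2)
    (fun u hu => (hT u).mpr ⟨centralizer_le_normalizer' Q hu,
      stabilizesBlock_of_mem_centralizer Q f hu⟩)
    (fun u hu => (hT u).mpr ⟨Subgroup.le_normalizer hu, stabilizesBlock_of_mem Q f hu⟩)

/-- `|N_P(Q)| ≤ p ^ d(F)` for `(Q, f) ≤ (P, e)` and the block `F` of `N_G(Q, f)` with the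
idempotent of `f` -/
theorem card_normalizerIn_le {p : ℕ} [Fact p.Prime] (hM : IsPModular p M) {P Q : Subgroup G}
    {e : Set (IrrCharacter (Subgroup.centralizer (P : Set G)))}
    {f : Set (IrrCharacter (Subgroup.centralizer (Q : Set G)))}
    (hPe : IsBrauerPair p M P e) (hQP : Q ≤ P) (hf : IsPBlock M f)
    (hle : SubpairLE p M Q f P e) {T : Subgroup G}
    (hT : ∀ y : G, y ∈ T ↔ y ∈ Subgroup.normalizer (Q : Set G) ∧
      StabilizesBlock (Subgroup.centralizer (Q : Set G)) f y)
    {F : Set (IrrCharacter T)} (hF : IsPBlock M F)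
    (hFf : ∀ t : T, blockCoeff F t =
      subgroupBlockCoeff (Subgroup.centralizer (Q : Set G)) f (t : G)) :
    Nat.card (P ⊓ Subgroup.normalizer (Q : Set G) : Subgroup G) ≤ p ^ blockDefect p F := by
  obtain ⟨D, d, hmaxD, hSD⟩ := exists_maximal_normalizer_ge hM hPe hQP hf hle hT hF hFf
  have hDdef : IsDefectGroup p M F D := isDefectGroup_of_maximal hM hmaxD
  have hcardD : Nat.card D = p ^ blockDefect p F := Cfsg.Agent.S0908.result p M hM F hF D hDdef
  rw [← hcardD, ← card_subgroupOf_of_le (normalizerIn_le_stab hM hPe hQP hf hle hT)]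
  exact Subgroup.card_le_of_le hSD

/-- **S4662** -/
theorem normalizer_defect {p : ℕ} [Fact p.Prime] (hM : IsPModular p M)
    {B : Set (IrrCharacter G)} {P Q : Subgroup G}
    {e : Set (IrrCharacter (Subgroup.centralizer (P : Set G)))}
    {f : Set (IrrCharacter (Subgroup.centralizer (Q : Set G)))}
    (hmax : IsMaximalBrauerPair p M B P e) (hQP : Q ≤ P) (hf : IsPBlock M f)
    (hle : SubpairLE p M Q f P e) {T : Subgroup G}
    (hT : ∀ y : G, y ∈ T ↔ y ∈ Subgroup.normalizer (Q : Set G) ∧
      StabilizesBlock (Subgroup.centralizer (Q : Set G)) f y) :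
    (∃ F : Set (IrrCharacter T), IsPBlock M F ∧
      (∀ t : T, blockCoeff F t =
        subgroupBlockCoeff (Subgroup.centralizer (Q : Set G)) f (t : G)) ∧
      ∃ D : Subgroup T, IsDefectGroup p M F D ∧
        (P ⊓ Subgroup.normalizer (Q : Set G)).subgroupOf T ≤ D) ∧
    ∃ x : G, SubpairLE p M (Q.map (MulAut.conj x).toMonoidHom) (conjBlock Q x f) P e ∧
      ∀ (T' : Subgroup G), (∀ y : G, y ∈ T' ↔
        y ∈ Subgroup.normalizer ((Q.map (MulAut.conj x).toMonoidHom) : Set G) ∧
        StabilizesBlock (Subgroup.centralizer ((Q.map (MulAut.conj x).toMonoidHom) : Set G))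
          (conjBlock Q x f) y) →
      ∃ F' : Set (IrrCharacter T'), IsPBlock M F' ∧
        (∀ t : T', blockCoeff F' t = subgroupBlockCoeff
          (Subgroup.centralizer ((Q.map (MulAut.conj x).toMonoidHom) : Set G))
          (conjBlock Q x f) (t : G)) ∧
        IsDefectGroup p M F' ((P ⊓ Subgroup.normalizer
          ((Q.map (MulAut.conj x).toMonoidHom) : Set G)).subgroupOf T') := by
  have hPe : IsBrauerPair p M P e := hmax.1.1
  have hP : IsPGroup p P := hPe.1
  have hQ : IsPGroup p Q := hP.to_le hQP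
  obtain ⟨F, hF, hFf⟩ := exists_stab_block hM hQ hf hT
  obtain ⟨D, d, hmaxD, hSD⟩ := exists_maximal_normalizer_ge hM hPe hQP hf hle hT hF hFf
  have hDdef : IsDefectGroup p M F D := isDefectGroup_of_maximal hM hmaxD
  refine ⟨⟨F, hF, hFf, D, hDdef, hSD⟩, ?_⟩
  obtain ⟨x, hle1, hcard⟩ := exists_conj_normalizer_card hM hmax hQP hf hle hT hFf hmaxD
  refine ⟨x, hle1, fun T' hT' => ?_⟩
  have hQ₁P : Q.map (MulAut.conj x).toMonoidHom ≤ P := subpairLE_le hle1
  have hQ₁ : IsPGroup p (Q.map (MulAut.conj x).toMonoidHom : Subgroup G) := hP.to_le hQ₁P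
  have hf₁ : IsPBlock M (conjBlock Q x f) := isPBlock_conjBlock Q x hf
  obtain ⟨F', hF', hF'f⟩ := exists_stab_block hM hQ₁ hf₁ hT'
  refine ⟨F', hF', hF'f, ?_⟩
  obtain ⟨D₁, d₁, hmaxD₁, hS₁D₁⟩ :=
    exists_maximal_normalizer_ge hM hPe hQ₁P hf₁ hle1 hT' hF' hF'f
  have hD₁def : IsDefectGroup p M F' D₁ := isDefectGroup_of_maximal hM hmaxD₁
  have hcardD : Nat.card D = p ^ blockDefect p F := Cfsg.Agent.S0908.result p M hM F hF D hDdef
  have hcardD₁ : Nat.card D₁ = p ^ blockDefect p F' :=
    Cfsg.Agent.S0908.result p M hM F' hF' D₁ hD₁def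
  have hdefect : blockDefect p F' = blockDefect p F :=
    blockDefect_conj_stab p Q x f hT hT' hFf hF'f
  have hS₁eq := Subgroup.eq_of_le_of_card_ge hS₁D₁ (by
    rw [hcardD₁, hdefect, ← hcardD,
      card_subgroupOf_of_le (normalizerIn_le_stab hM hPe hQ₁P hf₁ hle1 hT')]
    exact hcard)
  rw [hS₁eq]
  exact hD₁def


end

end Cfsg.Agent.Lib.Helper4
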