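import Mathlib
import Cfsg.Agent.Lib.Helper4.BrauerNorm

set_option autoImplicit false

/-!
# The fusion system of a block: fully normalized subgroups (helper4)
-/

namespace Cfsg.Agent.Lib.Helper4

open Cfsg Cfsg.Agent.Lib.Helper28
open scoped ComplexConjugate Classical

section

variable {G : Type*} [Group G] [Fintype G] {M : Ideal AlgInt}

/-- **S4679** -/
theorem fullyNormalized_iff {p : ℕ} [Fact p.Prime] (hM : IsPModular p M)
    {B : Set (IrrCharacter G)} {P : Subgroup G}
    {e : Set (IrrCharacter (Subgroup.centralizer (P : Set G)))}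
    (hmax : IsMaximalBrauerPair p M B P e) {F : FusionSystem P}
    (hF : IsBlockFusionSystemOn p M B P e F) {Q : Subgroup G}
    {f : Set (IrrCharacter (Subgroup.centralizer (Q : Set G)))} (hQP : Q ≤ P)
    (hf : IsPBlock M f) (hle : SubpairLE p M Q f P e) {T : Subgroup G}
    (hT : ∀ y : G, y ∈ T ↔ y ∈ Subgroup.normalizer (Q : Set G) ∧
      StabilizesBlock (Subgroup.centralizer (Q : Set G)) f y) :
    F.IsFullyNormalized Q ↔ ∃ F' : Set (IrrCharacter T), IsPBlock M F' ∧
      (∀ t : T, blockCoeff F' t =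
        subgroupBlockCoeff (Subgroup.centralizer (Q : Set G)) f (t : G)) ∧
      IsDefectGroup p M F' ((P ⊓ Subgroup.normalizer (Q : Set G)).subgroupOf T) := by
  have hMprime : M.IsPrime := hM.2.1.isPrime
  have hPe : IsBrauerPair p M P e := hmax.1.1
  have hP : IsPGroup p P := hPe.1
  have hQ : IsPGroup p Q := hP.to_le hQP
  constructor
  · rintro ⟨_, hfull⟩
    obtain ⟨F₀, hF₀, hF₀f⟩ := exists_stab_block hM hQ hf hT
    obtain ⟨D, d, hmaxD, hSD⟩ := exists_maximal_normalizer_ge hM hPe hQP hf hle hT hF₀ hF₀f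
    have hDdef : IsDefectGroup p M F₀ D := isDefectGroup_of_maximal hM hmaxD
    obtain ⟨x, hle1, hcard⟩ := exists_conj_normalizer_card hM hmax hQP hf hle hT hF₀f hmaxD
    have hconj : F.IsConj Q (Q.map (MulAut.conj x).toMonoidHom) :=
      (isConj_blockFusion_iff hM hF hQP hf hle _).mpr ⟨x, rfl, hle1⟩
    have h1 : Nat.card (P ⊓ Subgroup.normalizer
        ((Q.map (MulAut.conj x).toMonoidHom : Subgroup G) : Set G) : Subgroup G) ≤
        Nat.card (P ⊓ Subgroup.normalizer (Q : Set G) : Subgroup G) := hfull _ hconj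
    have h2 : Nat.card D ≤ Nat.card ((P ⊓ Subgroup.normalizer (Q : Set G)).subgroupOf T) := by
      rw [card_subgroupOf_of_le (normalizerIn_le_stab hM hPe hQP hf hle hT)]
      exact hcard.trans h1
    have := Subgroup.eq_of_le_of_card_ge hSD h2
    refine ⟨F₀, hF₀, hF₀f, ?_⟩
    rw [this]
    exact hDdef
  · rintro ⟨F', hF', hF'f, hdef⟩
    refine ⟨hQP, fun Q' hconj => ?_⟩
    obtain ⟨g, rfl, hle₁⟩ := (isConj_blockFusion_iff hM hF hQP hf hle Q').mp hconj
    have hf₁ : IsPBlock M (conjBlock Q g f) := isPBlock_conjBlock Q g hf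
    have hQ₁P : Q.map (MulAut.conj g).toMonoidHom ≤ P := subpairLE_le hle₁
    have hQ₁ : IsPGroup p (Q.map (MulAut.conj g).toMonoidHom : Subgroup G) := hP.to_le hQ₁P
    obtain ⟨T₁, hT₁⟩ := exists_stabSubgroup (Q.map (MulAut.conj g).toMonoidHom) hf₁
    obtain ⟨F₁, hF₁, hF₁f⟩ := exists_stab_block hM hQ₁ hf₁ hT₁
    have h1 := card_normalizerIn_le hM hPe hQ₁P hf₁ hle₁ hT₁ hF₁ hF₁f
    rw [blockDefect_conj_stab p Q g f hT hT₁ hF'f hF₁f] at h1
    have h2 := Cfsg.Agent.S0908.result p M hM F' hF' _ hdef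
    rw [card_subgroupOf_of_le (normalizerIn_le_stab hM hPe hQP hf hle hT)] at h2
    show Nat.card (P ⊓ Subgroup.normalizer
        ((Q.map (MulAut.conj g).toMonoidHom : Subgroup G) : Set G) : Subgroup G) ≤
        Nat.card (P ⊓ Subgroup.normalizer (Q : Set G) : Subgroup G)
    rw [h2]
    exact h1

end

end Cfsg.Agent.Lib.Helper4
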