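import Mathlib
import Cfsg.Agent.Lib.Helper4.BrauerNormF

set_option autoImplicit false

/-!
# Brauer pairs of `G` above `(Q, f)` inside `C_G(Q)` as Brauer pairs of the group `C_G(Q)` (helper4)

For `Q ≤ R ≤ C_G(Q)` the centralizer of `R` computed in the group `C_G(Q)` is `C_G(R)`; a normal
inclusion `(Q, f) ⊴ (R, g)` says that `(R, g)` is a Brauer pair of the block `f` of `C_G(Q)`.
-/

namespace Cfsg.Agent.Lib.Helper4

open Cfsg Cfsg.Agent.Lib.Helper28
open scoped ComplexConjugate Classical

section

variable {G : Type*} [Group G] [Fintype G] {M : Ideal AlgInt}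

/-- for `Q ≤ R ≤ C_G(Q)`: the centralizer of `R` computed inside `C_G(Q)` is `C_G(R)` -/
noncomputable def locCentEquiv {Q R : Subgroup G} (hQR : Q ≤ R)
    (hRH : R ≤ Subgroup.centralizer (Q : Set G)) :
    Subgroup.centralizer ((R.subgroupOf (Subgroup.centralizer (Q : Set G)) :
      Subgroup (Subgroup.centralizer (Q : Set G))) : Set (Subgroup.centralizer (Q : Set G))) ≃*
    Subgroup.centralizer (R : Set G) where
  toFun c := ⟨((c : Subgroup.centralizer (Q : Set G)) : G), by
    intro r hr
    have h := c.2 (⟨r, hRH hr⟩ : Subgroup.centralizer (Q : Set G))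
      (Subgroup.mem_subgroupOf.mpr hr)
    exact congrArg Subtype.val h⟩
  invFun c := ⟨⟨(c : G), Subgroup.centralizer_le (by exact_mod_cast hQR) c.2⟩, by
    intro r hr
    apply Subtype.ext
    exact c.2 (r : G) (Subgroup.mem_subgroupOf.mp hr)⟩
  left_inv c := rfl
  right_inv c := rfl
  map_mul' a b := rfl

omit [Fintype G] in
theorem locCentEquiv_apply {Q R : Subgroup G} (hQR : Q ≤ R)
    (hRH : R ≤ Subgroup.centralizer (Q : Set G))
    (c : Subgroup.centralizer ((R.subgroupOf (Subgroup.centralizer (Q : Set G)) :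
      Subgroup (Subgroup.centralizer (Q : Set G))) : Set (Subgroup.centralizer (Q : Set G)))) :
    ((locCentEquiv hQR hRH c : Subgroup.centralizer (R : Set G)) : G) =
      ((c : Subgroup.centralizer (Q : Set G)) : G) := rfl

omit [Fintype G] in
theorem locCentEquiv_symm_apply {Q R : Subgroup G} (hQR : Q ≤ R)
    (hRH : R ≤ Subgroup.centralizer (Q : Set G)) (c : Subgroup.centralizer (R : Set G)) :
    ((((locCentEquiv hQR hRH).symm c : _) : Subgroup.centralizer (Q : Set G)) : G) = (c : G) := rfl

/-- the block `g` of `C_G(R)` as a set of characters of the centralizer of `R` in `C_G(Q)` -/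
noncomputable def locBlock {Q R : Subgroup G} (hQR : Q ≤ R)
    (hRH : R ≤ Subgroup.centralizer (Q : Set G))
    (g : Set (IrrCharacter (Subgroup.centralizer (R : Set G)))) :
    Set (IrrCharacter (Subgroup.centralizer
      ((R.subgroupOf (Subgroup.centralizer (Q : Set G)) :
        Subgroup (Subgroup.centralizer (Q : Set G))) : Set (Subgroup.centralizer (Q : Set G))))) :=
  (irrEquiv (locCentEquiv hQR hRH).symm) ⁻¹' g

/-- a normal inclusion `(Q, f) ⊴ (R, g)` with `R ≤ C_G(Q)` makes `(R, g)` a Brauer pair of the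
block `f` of the group `C_G(Q)` -/
theorem isBrauerPairOf_loc {p : ℕ} {Q R : Subgroup G}
    {f : Set (IrrCharacter (Subgroup.centralizer (Q : Set G)))}
    {g : Set (IrrCharacter (Subgroup.centralizer (R : Set G)))}
    (h : IsNormalSubpair p M Q f R g) (hRH : R ≤ Subgroup.centralizer (Q : Set G)) :
    IsBrauerPairOf p M f (R.subgroupOf (Subgroup.centralizer (Q : Set G)))
      (locBlock h.2.2.1 hRH g) := by
  obtain ⟨hQf, hRg, hQR, hRN, hst, hone⟩ := h
  refine ⟨⟨hRg.1.comap_subtype, isPBlock_preimage_irrEquiv _ hRg.2⟩, hQf.2, ?_⟩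
  intro ξ' hξ'
  have hξ : irrEquiv (locCentEquiv hQR hRH).symm ξ' ∈ g := hξ'
  have := hone _ hξ
  have e1 : brauerOmega (R.subgroupOf (Subgroup.centralizer (Q : Set G))) (blockCoeff f)
      (ξ' : _ → ℂ) =
      brauerOmega R (subgroupBlockCoeff (Subgroup.centralizer (Q : Set G)) f)
        (irrEquiv (locCentEquiv hQR hRH).symm ξ' : Subgroup.centralizer (R : Set G) → ℂ) := by
    unfold brauerOmega
    rw [← finsum_comp_equiv (locCentEquiv hQR hRH).toEquiv]
    refine finsum_congr fun c => ?_
    show _ = subgroupBlockCoeff (Subgroup.centralizer (Q : Set G)) f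
        ((locCentEquiv hQR hRH c : Subgroup.centralizer (R : Set G)) : G) *
      (ξ' : _ → ℂ) ((locCentEquiv hQR hRH).symm (locCentEquiv hQR hRH c)) /
      (ξ' : _ → ℂ) ((locCentEquiv hQR hRH).symm 1)
    rw [MulEquiv.symm_apply_apply, map_one, locCentEquiv_apply, subgroupBlockCoeff_mem]
  rw [e1]
  exact this

/-- conjugation by an element of `C_G(Q)` commutes with the passage to the group `C_G(Q)` -/
theorem conjPair_loc {Q R : Subgroup G} (hQR : Q ≤ R)
    (hRH : R ≤ Subgroup.centralizer (Q : Set G))
    (g : Set (IrrCharacter (Subgroup.centralizer (R : Set G))))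
    (c : Subgroup.centralizer (Q : Set G))
    (hQR' : Q ≤ R.map (MulAut.conj (c : G)).toMonoidHom)
    (hRH' : R.map (MulAut.conj (c : G)).toMonoidHom ≤ Subgroup.centralizer (Q : Set G)) :
    conjPair c (⟨R.subgroupOf (Subgroup.centralizer (Q : Set G)), locBlock hQR hRH g⟩ :
        BrauerPairIdx (Subgroup.centralizer (Q : Set G))) =
      ⟨(R.map (MulAut.conj (c : G)).toMonoidHom).subgroupOf (Subgroup.centralizer (Q : Set G)),
        locBlock hQR' hRH' (conjBlock R (c : G) g)⟩ := by
  show (⟨(R.subgroupOf (Subgroup.centralizer (Q : Set G))).map (MulAut.conj c).toMonoidHom,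
    conjBlock (R.subgroupOf (Subgroup.centralizer (Q : Set G))) c (locBlock hQR hRH g)⟩ :
      BrauerPairIdx (Subgroup.centralizer (Q : Set G))) = _
  apply brauerPairIdx_ext
  · ext h
    rw [mem_map_conj_iff, Subgroup.mem_subgroupOf, Subgroup.mem_subgroupOf, mem_map_conj_iff]
    rfl
  · intro ξa ξb hab
    have e : ∀ (x : Subgroup.centralizer
        (((R.subgroupOf (Subgroup.centralizer (Q : Set G))).map (MulAut.conj c).toMonoidHom :
          Subgroup (Subgroup.centralizer (Q : Set G))) : Set (Subgroup.centralizer (Q : Set G))))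
        (y : Subgroup.centralizer
        (((R.map (MulAut.conj (c : G)).toMonoidHom).subgroupOf (Subgroup.centralizer (Q : Set G)) :
          Subgroup (Subgroup.centralizer (Q : Set G))) : Set (Subgroup.centralizer (Q : Set G)))),
        (x : Subgroup.centralizer (Q : Set G)) = (y : Subgroup.centralizer (Q : Set G)) →
        (ξa : _ → ℂ) x = (ξb : _ → ℂ) y := by
      rintro ⟨x, hx⟩ ⟨y, hy⟩ hxy
      simp only at hxy
      subst hxy
      exact hab _ _ _
    rw [mem_conjBlock_iff]
    show irrEquiv (locCentEquiv hQR hRH).symm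
        (irrEquiv (centConj (R.subgroupOf (Subgroup.centralizer (Q : Set G))) c) ξa) ∈ g ↔
      irrEquiv (locCentEquiv hQR' hRH').symm ξb ∈ conjBlock R (c : G) g
    rw [mem_conjBlock_iff]
    have key : irrEquiv (locCentEquiv hQR hRH).symm
        (irrEquiv (centConj (R.subgroupOf (Subgroup.centralizer (Q : Set G))) c) ξa) =
        irrEquiv (centConj R (c : G)) (irrEquiv (locCentEquiv hQR' hRH').symm ξb) := by
      apply Subtype.ext
      funext k
      rw [irrEquiv_apply, irrEquiv_apply, irrEquiv_apply, irrEquiv_apply]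
      apply e
      apply Subtype.ext
      rfl
    rw [key]

/-- the passage to the group `C_G(Q)` is injective on pairs -/
theorem loc_injective {Q R R' : Subgroup G} (hQR : Q ≤ R)
    (hRH : R ≤ Subgroup.centralizer (Q : Set G)) (hQR' : Q ≤ R')
    (hR'H : R' ≤ Subgroup.centralizer (Q : Set G))
    (g : Set (IrrCharacter (Subgroup.centralizer (R : Set G))))
    (g' : Set (IrrCharacter (Subgroup.centralizer (R' : Set G))))
    (h : (⟨R.subgroupOf (Subgroup.centralizer (Q : Set G)), locBlock hQR hRH g⟩ :
        BrauerPairIdx (Subgroup.centralizer (Q : Set G))) =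
      ⟨R'.subgroupOf (Subgroup.centralizer (Q : Set G)), locBlock hQR' hR'H g'⟩) :
    (⟨R, g⟩ : BrauerPairIdx G) = ⟨R', g'⟩ := by
  have h1 : R.subgroupOf (Subgroup.centralizer (Q : Set G)) =
      R'.subgroupOf (Subgroup.centralizer (Q : Set G)) := congrArg Sigma.fst h
  have hR : R = R' := by
    ext x
    constructor
    · intro hx
      have : (⟨x, hRH hx⟩ : Subgroup.centralizer (Q : Set G)) ∈
          R.subgroupOf (Subgroup.centralizer (Q : Set G)) := Subgroup.mem_subgroupOf.mpr hx
      rw [h1] at this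
      exact Subgroup.mem_subgroupOf.mp this
    · intro hx
      have : (⟨x, hR'H hx⟩ : Subgroup.centralizer (Q : Set G)) ∈
          R'.subgroupOf (Subgroup.centralizer (Q : Set G)) := Subgroup.mem_subgroupOf.mpr hx
      rw [← h1] at this
      exact Subgroup.mem_subgroupOf.mp this
  subst hR
  have h2 : locBlock hQR hRH g = locBlock hQR' hR'H g' := eq_of_heq (Sigma.mk.inj h).2
  have h3 : g = g' := by
    have := congrArg (fun s => (irrEquiv (locCentEquiv hQR hRH).symm) '' s) h2
    simpa [locBlock, Equiv.image_preimage] using this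
  rw [h3]

end

end Cfsg.Agent.Lib.Helper4
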