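import Mathlib
import Cfsg.Agent.Lib.Helper4.BrauerLoc

set_option autoImplicit false

/-!
# Maximal Brauer pairs above `(Q, f)` inside `C_G(Q)`: the Frattini argument (helper4)
-/

namespace Cfsg.Agent.Lib.Helper4

open Cfsg Cfsg.Agent.Lib.Helper28
open scoped ComplexConjugate Classical

section

variable {G : Type*} [Group G] [Fintype G] {M : Ideal AlgInt}

/-- a Brauer pair of `B` whose first component has order `p ^ d(B)` is maximal -/
theorem isMaximalBrauerPair_of_card {p : ℕ} [Fact p.Prime] (hM : IsPModular p M)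
    {B : Set (IrrCharacter G)} {R : Subgroup G}
    {g : Set (IrrCharacter (Subgroup.centralizer (R : Set G)))}
    (hRg : IsBrauerPairOf p M B R g) (hcard : Nat.card R = p ^ blockDefect p B) :
    IsMaximalBrauerPair p M B R g := by
  refine ⟨hRg, fun R' g' hR'g' hle => ?_⟩
  obtain ⟨D, d, hmaxD, hleD⟩ := exists_maximal_ge hM _ R' g' hR'g' le_rfl
  have hDdef : IsDefectGroup p M B D := isDefectGroup_of_maximal hM hmaxD
  have hcardD : Nat.card D = p ^ blockDefect p B :=
    Cfsg.Agent.S0908.result p M hM B hRg.2.1 D hDdef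
  have h1 : R ≤ R' := subpairLE_le hle
  have h2 : R' ≤ D := subpairLE_le hleD
  have h3 : Nat.card R' ≤ Nat.card R := by
    rw [hcard, ← hcardD]
    exact Subgroup.card_le_of_le h2
  exact (Subgroup.eq_of_le_of_card_ge h1 h3).symm

/-- a pair below a pair whose first component is not larger is that pair -/
theorem pair_eq_of_subpairLE_of_card {p : ℕ} [M.IsPrime] {a b : BrauerPairIdx G}
    (h : Relation.ReflTransGen (NormalSubpairRel p M) a b)
    (hcard : Nat.card b.1 ≤ Nat.card a.1) : a = b :=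
  eq_of_subpairLE_of_eq h (Subgroup.eq_of_le_of_card_ge (subpairLE_le h) hcard)

/-- an element fixing the pair `(P, e)` under conjugation normalizes `P` and stabilizes `e` -/
theorem mem_stab_of_conjPair_eq [M.IsPrime] {P : Subgroup G}
    {e : Set (IrrCharacter (Subgroup.centralizer (P : Set G)))} (he : IsPBlock M e) {m : G}
    (h : conjPair m (⟨P, e⟩ : BrauerPairIdx G) = ⟨P, e⟩) :
    m ∈ Subgroup.normalizer (P : Set G) ∧
      StabilizesBlock (Subgroup.centralizer (P : Set G)) e m := by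
  have h1 : P.map (MulAut.conj m).toMonoidHom = P := congrArg Sigma.fst h
  have hm : m ∈ Subgroup.normalizer (P : Set G) := by
    rw [Subgroup.mem_normalizer_iff]
    intro g
    have := mem_map_conj_iff P m (m * g * m⁻¹)
    rw [h1] at this
    rw [this]
    have e1 : m⁻¹ * (m * g * m⁻¹) * m = g := by group
    rw [e1]
  refine ⟨hm, ?_⟩
  rw [conjPair_normalizer hm e] at h
  have h2 := eq_of_heq (Sigma.mk.inj h).2
  exact (image_conjIrr_eq_iff _ he m _).mp h2

/-- **Frattini argument for Brauer pairs**: two pairs `(P, e)`, `(P', e')` with first components of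
the same order `p ^ d(f)` inside `C_G(Q)`, both normally above `(Q, f)`, are conjugate under
`C_G(Q)` -/
theorem exists_centralizer_conj {p : ℕ} [Fact p.Prime] (hM : IsPModular p M)
    {Q P P' : Subgroup G}
    {f : Set (IrrCharacter (Subgroup.centralizer (Q : Set G)))}
    {e : Set (IrrCharacter (Subgroup.centralizer (P : Set G)))}
    {e' : Set (IrrCharacter (Subgroup.centralizer (P' : Set G)))}
    (hnorm : IsNormalSubpair p M Q f P e) (hnorm' : IsNormalSubpair p M Q f P' e')
    (hPH : P ≤ Subgroup.centralizer (Q : Set G)) (hP'H : P' ≤ Subgroup.centralizer (Q : Set G))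
    (hcard : Nat.card P = p ^ blockDefect p f) (hcard' : Nat.card P' = Nat.card P) :
    ∃ c ∈ Subgroup.centralizer (Q : Set G),
      conjPair c (⟨P', e'⟩ : BrauerPairIdx G) = ⟨P, e⟩ := by
  have hMprime : M.IsPrime := hM.2.1.isPrime
  have hQP : Q ≤ P := hnorm.2.2.1
  have hQP' : Q ≤ P' := hnorm'.2.2.1
  have h1 := isBrauerPairOf_loc hnorm hPH
  have h1' := isBrauerPairOf_loc hnorm' hP'H
  have hmaxloc := isMaximalBrauerPair_of_card hM h1 (by
    rw [card_subgroupOf_of_le hPH, hcard])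
  obtain ⟨c, hc⟩ := exists_conj_subpairLE hM hmaxloc h1'
  have hcardc : Nat.card (P.subgroupOf (Subgroup.centralizer (Q : Set G))) ≤
      Nat.card ((P'.subgroupOf (Subgroup.centralizer (Q : Set G))).map
        (MulAut.conj c).toMonoidHom : Subgroup (Subgroup.centralizer (Q : Set G))) := by
    rw [Subgroup.card_map_of_injective (MulAut.conj c).injective, card_subgroupOf_of_le hPH,
      card_subgroupOf_of_le hP'H, hcard']
  have heq : conjPair c (⟨P'.subgroupOf (Subgroup.centralizer (Q : Set G)),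
      locBlock hQP' hP'H e'⟩ : BrauerPairIdx (Subgroup.centralizer (Q : Set G))) =
      ⟨P.subgroupOf (Subgroup.centralizer (Q : Set G)), locBlock hQP hPH e⟩ :=
    pair_eq_of_subpairLE_of_card hc hcardc
  have hQc : Q ≤ P'.map (MulAut.conj (c : G)).toMonoidHom := by
    intro q hq
    rw [mem_map_conj_iff]
    have hcq : q * (c : G) = (c : G) * q := c.2 q hq
    have e1 : (c : G)⁻¹ * q * (c : G) = q := by
      rw [mul_assoc, hcq]; group
    rw [e1]
    exact hQP' hq
  have hHc : P'.map (MulAut.conj (c : G)).toMonoidHom ≤ Subgroup.centralizer (Q : Set G) := by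
    intro x hx
    rw [mem_map_conj_iff] at hx
    have h2 := hP'H hx
    have h3 : (c : G) * ((c : G)⁻¹ * x * (c : G)) * (c : G)⁻¹ ∈
        Subgroup.centralizer (Q : Set G) :=
      Subgroup.mul_mem _ (Subgroup.mul_mem _ c.2 h2) (Subgroup.inv_mem _ c.2)
    have e1 : (c : G) * ((c : G)⁻¹ * x * (c : G)) * (c : G)⁻¹ = x := by group
    rwa [e1] at h3
  rw [conjPair_loc hQP' hP'H e' c hQc hHc] at heq
  exact ⟨(c : G), c.2, loc_injective hQc hHc hQP hPH _ _ heq⟩

/-- elements of `N_G(P, e) ∩ N_G(Q)` stabilize `f` when `(Q, f) ≤ (P, e)` -/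
theorem stabilizesBlock_of_stab {p : ℕ} [Fact p.Prime] (hM : IsPModular p M)
    {P Q : Subgroup G}
    {e : Set (IrrCharacter (Subgroup.centralizer (P : Set G)))}
    {f : Set (IrrCharacter (Subgroup.centralizer (Q : Set G)))}
    (hPe : IsBrauerPair p M P e) (hQP : Q ≤ P) (hf : IsPBlock M f)
    (hle : SubpairLE p M Q f P e) {u : G} (huNP : u ∈ Subgroup.normalizer (P : Set G))
    (hust : StabilizesBlock (Subgroup.centralizer (P : Set G)) e u)
    (huN : u ∈ Subgroup.normalizer (Q : Set G)) :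
    StabilizesBlock (Subgroup.centralizer (Q : Set G)) f u := by
  have hMprime : M.IsPrime := hM.2.1.isPrime
  have h1 := subpairLE_conj (M := M) (p := p) hle u
  rw [conjPair_normalizer huNP e, conjPair_normalizer huN f] at h1
  have h2 : conjIrr (Subgroup.centralizer (P : Set G)) u
      (normalizer_le_normalizer_centralizer P huNP) '' e = e :=
    (image_conjIrr_eq_iff _ hPe.2 u _).mpr hust
  rw [h2] at h1
  have hf' : IsPBlock M (conjIrr (Subgroup.centralizer (Q : Set G)) u
      (normalizer_le_normalizer_centralizer Q huN) '' f) := isPBlock_image_conjIrr _ u _ hf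
  have h3 := subpair_unique hM (Nat.card P - Nat.card Q) P Q e hPe hQP le_rfl _ f hf' hf h1 hle
  exact (image_conjIrr_eq_iff _ hf u _).mp h3

/-- for abelian `P` and `(Q, f) ≤ (P, e)` maximal: `(Q, f) ⊴ (P, e)`, `P ≤ C_G(Q)` and
`|P| = p ^ d(f)` -/
theorem abelian_local_facts {p : ℕ} [Fact p.Prime] (hM : IsPModular p M)
    {B : Set (IrrCharacter G)} {P : Subgroup G}
    {e : Set (IrrCharacter (Subgroup.centralizer (P : Set G)))}
    (hmax : IsMaximalBrauerPair p M B P e) (hab : ∀ x ∈ P, ∀ y ∈ P, x * y = y * x)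
    {Q : Subgroup G} {f : Set (IrrCharacter (Subgroup.centralizer (Q : Set G)))}
    (hQP : Q ≤ P) (hf : IsPBlock M f) (hle : SubpairLE p M Q f P e) :
    P ≤ Subgroup.centralizer (Q : Set G) ∧ IsNormalSubpair p M Q f P e ∧
      Nat.card P = p ^ blockDefect p f := by
  have hPe : IsBrauerPair p M P e := hmax.1.1
  have hPH : P ≤ Subgroup.centralizer (Q : Set G) := fun x hx q hq => hab q (hQP hq) x hx
  refine ⟨hPH, ?_, ?_⟩
  · obtain ⟨f', hn'⟩ := exists_isNormalSubpair hM hPe hQP
      (hPH.trans (centralizer_le_normalizer' Q))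
    have hle' : SubpairLE p M Q f' P e :=
      Relation.ReflTransGen.single (show NormalSubpairRel p M ⟨Q, f'⟩ ⟨P, e⟩ from hn')
    have hff' : f' = f := subpair_unique hM (Nat.card P - Nat.card Q) P Q e hPe hQP le_rfl f' f
      hn'.1.2 hf hle' hle
    rw [hff'] at hn'
    exact hn'
  · obtain ⟨_, x, hle1, hdef1⟩ := centralizer_defect hM hmax hQP hf hle
    have hf₁ : IsPBlock M (conjBlock Q x f) := isPBlock_conjBlock Q x hf
    have h1 := Cfsg.Agent.S0908.result p M hM _ hf₁ _ hdef1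
    rw [card_subgroupOf_inf, blockDefect_conjBlock] at h1
    have hQ₁P : Q.map (MulAut.conj x).toMonoidHom ≤ P := subpairLE_le hle1
    have h2 : P ⊓ Subgroup.centralizer ((Q.map (MulAut.conj x).toMonoidHom : Subgroup G) : Set G)
        = P := by
      apply inf_eq_left.mpr
      intro y hy q hq
      exact hab q (hQ₁P hq) y hy
    rw [h2] at h1
    exact h1

/-- **S4682**, first part -/
theorem abelian_frattini {p : ℕ} [Fact p.Prime] (hM : IsPModular p M)
    {B : Set (IrrCharacter G)} {P : Subgroup G}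
    {e : Set (IrrCharacter (Subgroup.centralizer (P : Set G)))}
    (hmax : IsMaximalBrauerPair p M B P e) (hab : ∀ x ∈ P, ∀ y ∈ P, x * y = y * x)
    {Q : Subgroup G} {f : Set (IrrCharacter (Subgroup.centralizer (Q : Set G)))}
    (hQP : Q ≤ P) (hf : IsPBlock M f) (hle : SubpairLE p M Q f P e) {x : G}
    (hxN : x ∈ Subgroup.normalizer (Q : Set G))
    (hxst : StabilizesBlock (Subgroup.centralizer (Q : Set G)) f x) :
    ∃ y : G, y ∈ Subgroup.normalizer (P : Set G) ∧
      StabilizesBlock (Subgroup.centralizer (P : Set G)) e y ∧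
      y ∈ Subgroup.normalizer (Q : Set G) ∧
      ∃ c ∈ Subgroup.centralizer (Q : Set G), x = y * c := by
  have hMprime : M.IsPrime := hM.2.1.isPrime
  have hPe : IsBrauerPair p M P e := hmax.1.1
  obtain ⟨hPH, hnorm, hcard⟩ := abelian_local_facts hM hmax hab hQP hf hle
  have hconjQ : conjPair x (⟨Q, f⟩ : BrauerPairIdx G) = ⟨Q, f⟩ := by
    have h2 := (image_conjIrr_eq_iff _ hf x
      (normalizer_le_normalizer_centralizer Q hxN)).mpr hxst
    rw [conjPair_normalizer hxN f, h2]
  have hnx : NormalSubpairRel p M (conjPair x (⟨Q, f⟩ : BrauerPairIdx G))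
      (conjPair x (⟨P, e⟩ : BrauerPairIdx G)) := isNormalSubpair_conj hnorm x
  rw [hconjQ] at hnx
  have hnorm' : IsNormalSubpair p M Q f (P.map (MulAut.conj x).toMonoidHom)
      (conjBlock P x e) := hnx
  have hQP' : Q ≤ P.map (MulAut.conj x).toMonoidHom := hnorm'.2.2.1
  have hP'H : P.map (MulAut.conj x).toMonoidHom ≤ Subgroup.centralizer (Q : Set G) := by
    intro y hy q hq
    have hy' : x⁻¹ * y * x ∈ P := (mem_map_conj_iff P x y).mp hy
    have hq' : x⁻¹ * q * x ∈ P := (mem_map_conj_iff P x q).mp (hQP' hq)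
    have h := hab _ hq' _ hy'
    have h2 : x * (x⁻¹ * q * x * (x⁻¹ * y * x)) * x⁻¹ = x * (x⁻¹ * y * x * (x⁻¹ * q * x)) * x⁻¹ := by
      rw [h]
    have e1 : x * (x⁻¹ * q * x * (x⁻¹ * y * x)) * x⁻¹ = q * y := by group
    have e2 : x * (x⁻¹ * y * x * (x⁻¹ * q * x)) * x⁻¹ = y * q := by group
    rw [e1, e2] at h2
    exact h2
  have hcard' : Nat.card (P.map (MulAut.conj x).toMonoidHom : Subgroup G) = Nat.card P :=
    Subgroup.card_map_of_injective (MulAut.conj x).injective
  obtain ⟨c, hcC, hc⟩ := exists_centralizer_conj hM hnorm hnorm' hPH hP'H hcard hcard'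
  have hc' : conjPair c (conjPair x (⟨P, e⟩ : BrauerPairIdx G)) = ⟨P, e⟩ := hc
  rw [conjPair_mul] at hc'
  obtain ⟨hyN, hyst⟩ := mem_stab_of_conjPair_eq hPe.2 hc'
  have hcN : c ∈ Subgroup.normalizer (Q : Set G) := centralizer_le_normalizer' Q hcC
  have hyNQ : c * x ∈ Subgroup.normalizer (Q : Set G) := Subgroup.mul_mem _ hcN hxN
  refine ⟨c * x, hyN, hyst, hyNQ, (c * x)⁻¹ * c⁻¹ * (c * x), ?_, by group⟩
  have hinv : (c * x)⁻¹ ∈ Subgroup.normalizer
      ((Subgroup.centralizer (Q : Set G) : Subgroup G) : Set G) :=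
    normalizer_le_normalizer_centralizer Q (Subgroup.inv_mem _ hyNQ)
  have := (Subgroup.mem_normalizer_iff.mp hinv c⁻¹).mp (Subgroup.inv_mem _ hcC)
  rw [inv_inv] at this
  exact this

omit [Fintype G] in
theorem index_eq_of_factor {A C T : Subgroup G} (hAT : A ≤ T) (hCT : C ≤ T)
    (hTN : T ≤ Subgroup.normalizer (C : Set G))
    (hfac : ∀ x ∈ T, ∃ y ∈ A, ∃ c ∈ C, x = y * c) :
    (C.subgroupOf T).index = (C.subgroupOf A).index := by
  have hn : (C.subgroupOf T).Normal := (Subgroup.normal_subgroupOf_iff_le_normalizer hCT).mpr hTN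
  have htop : A.subgroupOf T ⊔ C.subgroupOf T = ⊤ := by
    rw [← Subgroup.subgroupOf_sup hAT hCT, Subgroup.subgroupOf_eq_top]
    intro x hx
    obtain ⟨y, hy, c, hc, rfl⟩ := hfac x hx
    exact Subgroup.mul_mem _ (Subgroup.mem_sup_left hy) (Subgroup.mem_sup_right hc)
  calc (C.subgroupOf T).index = (C.subgroupOf T).relIndex ⊤ :=
        (Subgroup.relIndex_top_right _).symm
    _ = (C.subgroupOf T).relIndex (A.subgroupOf T ⊔ C.subgroupOf T) := by rw [htop]
    _ = (C.subgroupOf T).relIndex (A.subgroupOf T) := Subgroup.relIndex_sup_right _ _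
    _ = C.relIndex A := Subgroup.relIndex_subgroupOf hAT
    _ = (C.subgroupOf A).index := rfl

/-- **S4682** -/
theorem abelian_stab_index {p : ℕ} [Fact p.Prime] (hM : IsPModular p M)
    {B : Set (IrrCharacter G)} {P : Subgroup G}
    {e : Set (IrrCharacter (Subgroup.centralizer (P : Set G)))}
    (hmax : IsMaximalBrauerPair p M B P e) (hab : ∀ x ∈ P, ∀ y ∈ P, x * y = y * x)
    {Q : Subgroup G} {f : Set (IrrCharacter (Subgroup.centralizer (Q : Set G)))}
    (hQP : Q ≤ P) (hf : IsPBlock M f) (hle : SubpairLE p M Q f P e)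
    {TQ : Subgroup G} (hTQ : ∀ y : G, y ∈ TQ ↔ y ∈ Subgroup.normalizer (Q : Set G) ∧
      StabilizesBlock (Subgroup.centralizer (Q : Set G)) f y)
    {TP : Subgroup G} (hTP : ∀ y : G, y ∈ TP ↔ y ∈ Subgroup.normalizer (P : Set G) ∧
      StabilizesBlock (Subgroup.centralizer (P : Set G)) e y) :
    (∀ x ∈ TQ, ∃ y ∈ TP, ∃ c ∈ Subgroup.centralizer (Q : Set G), x = y * c) ∧
    ((Subgroup.centralizer (Q : Set G)).subgroupOf TQ).index =
      ((TP ⊓ Subgroup.centralizer (Q : Set G)).subgroupOf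
        (TP ⊓ Subgroup.normalizer (Q : Set G))).index := by
  have hPe : IsBrauerPair p M P e := hmax.1.1
  have part1 : ∀ x ∈ TQ, ∃ y ∈ TP ⊓ Subgroup.normalizer (Q : Set G),
      ∃ c ∈ Subgroup.centralizer (Q : Set G), x = y * c := by
    intro x hx
    obtain ⟨hxN, hxst⟩ := (hTQ x).mp hx
    obtain ⟨y, hyN, hyst, hyNQ, c, hc, hxy⟩ := abelian_frattini hM hmax hab hQP hf hle hxN hxst
    exact ⟨y, ⟨(hTP y).mpr ⟨hyN, hyst⟩, hyNQ⟩, c, hc, hxy⟩
  refine ⟨fun x hx => ?_, ?_⟩
  · obtain ⟨y, hy, c, hc, hxy⟩ := part1 x hx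
    exact ⟨y, hy.1, c, hc, hxy⟩
  · have hAT : TP ⊓ Subgroup.normalizer (Q : Set G) ≤ TQ := by
      intro y hy
      obtain ⟨hyN, hyst⟩ := (hTP y).mp hy.1
      exact (hTQ y).mpr ⟨hy.2, stabilizesBlock_of_stab hM hPe hQP hf hle hyN hyst hy.2⟩
    have hCT : Subgroup.centralizer (Q : Set G) ≤ TQ := fun u hu =>
      (hTQ u).mpr ⟨centralizer_le_normalizer' Q hu, stabilizesBlock_of_mem_centralizer Q f hu⟩
    have hTN : TQ ≤ Subgroup.normalizer
        ((Subgroup.centralizer (Q : Set G) : Subgroup G) : Set G) := fun t ht =>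
      normalizer_le_normalizer_centralizer Q ((hTQ t).mp ht).1
    rw [index_eq_of_factor hAT hCT hTN part1]
    congr 1
    ext a
    rw [Subgroup.mem_subgroupOf, Subgroup.mem_subgroupOf, Subgroup.mem_inf]
    exact ⟨fun h => ⟨a.2.1, h⟩, fun h => h.2⟩

end

end Cfsg.Agent.Lib.Helper4
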