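import Mathlib
import Cfsg.Agent.Lib.Helper4.BrauerAbel

set_option autoImplicit false

/-!
# Blocks covering a stable block with the same idempotent: `D C / C` is a Sylow subgroup (helper4)
-/

namespace Cfsg.Agent.Lib.Helper4

open Cfsg Cfsg.Agent.Lib.Helper28
open scoped ComplexConjugate Classical

section

variable {H : Type*} [Group H] [Fintype H] {M : Ideal AlgInt}

/-- the subgroup of elements leaving a function invariant under conjugation -/
def invSubgroup (α : H → ℂ) : Subgroup H where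
  carrier := {x | ∀ g, α (x * g * x⁻¹) = α g}
  mul_mem' := by
    intro a b ha hb g
    have : a * b * g * (a * b)⁻¹ = a * (b * g * b⁻¹) * a⁻¹ := by group
    rw [this, ha, hb]
  one_mem' := by
    intro g
    simp
  inv_mem' := by
    intro a ha g
    have := ha (a⁻¹ * g * a⁻¹⁻¹)
    have e : a * (a⁻¹ * g * a⁻¹⁻¹) * a⁻¹ = g := by group
    rw [e] at this
    exact this.symm

omit [Fintype H] in
theorem invUnder_sup {S S' : Subgroup H} {α : H → ℂ} (h : InvUnder S α) (h' : InvUnder S' α) :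
    InvUnder (S ⊔ S') α := by
  have h1 : S ≤ invSubgroup α := fun x hx => h x hx
  have h2 : S' ≤ invSubgroup α := fun x hx => h' x hx
  intro x hx
  exact (sup_le h1 h2) hx

theorem classInd_of_isConj {x g : H} (h : IsConj x g) : classInd x g = 1 := by
  unfold classInd
  rw [if_pos h]

theorem classInd_of_not_isConj {x g : H} (h : ¬ IsConj x g) : classInd x g = 0 := by
  unfold classInd
  rw [if_neg h]

variable (C : Subgroup H) [hC : C.Normal]

/-- indicator of the `C`-class of `g₀ ∈ C`, as a function on `H` -/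
noncomputable def locClassInd (g₀ : C) : H → ℂ := extZero C (classInd g₀)

theorem locClassInd_mem (g₀ : C) (c : C) : locClassInd C g₀ (c : H) = classInd g₀ c :=
  extZero_mem' C _ c

theorem locClassInd_not_mem (g₀ : C) {g : H} (hg : g ∉ C) : locClassInd C g₀ g = 0 :=
  extZero_not_mem' C _ hg

theorem invUnder_locClassInd (g₀ : C) :
    InvUnder (Subgroup.centralizer {(g₀ : H)} ⊔ C) (locClassInd C g₀) := by
  apply invUnder_sup
  · intro z hz g
    have hz' : (g₀ : H) * z = z * (g₀ : H) := (Subgroup.mem_centralizer_singleton_iff.mp hz).symm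
    by_cases hg : g ∈ C
    · have hg' : z * g * z⁻¹ ∈ C := hC.conj_mem g hg z
      have e1 := locClassInd_mem C g₀ ⟨g, hg⟩
      have e2 := locClassInd_mem C g₀ ⟨z * g * z⁻¹, hg'⟩
      simp only at e1 e2
      rw [e1, e2]
      have hiff : IsConj g₀ (⟨z * g * z⁻¹, hg'⟩ : C) ↔ IsConj g₀ (⟨g, hg⟩ : C) := by
        rw [isConj_iff, isConj_iff]
        constructor
        · rintro ⟨c, hc⟩
          have hc' : (c : H) * (g₀ : H) * (c : H)⁻¹ = z * g * z⁻¹ := congrArg Subtype.val hc
          refine ⟨⟨z⁻¹ * c * z, by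
            have := hC.conj_mem c c.2 z⁻¹
            simpa using this⟩, ?_⟩
          apply Subtype.ext
          show z⁻¹ * (c : H) * z * (g₀ : H) * (z⁻¹ * (c : H) * z)⁻¹ = g
          calc z⁻¹ * (c : H) * z * (g₀ : H) * (z⁻¹ * (c : H) * z)⁻¹
              = z⁻¹ * (c : H) * (z * (g₀ : H)) * z⁻¹ * (c : H)⁻¹ * z := by group
            _ = z⁻¹ * (c : H) * ((g₀ : H) * z) * z⁻¹ * (c : H)⁻¹ * z := by rw [hz']
            _ = z⁻¹ * ((c : H) * (g₀ : H) * (c : H)⁻¹) * z := by group
            _ = g := by rw [hc']; group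
        · rintro ⟨c, hc⟩
          have hc' : (c : H) * (g₀ : H) * (c : H)⁻¹ = g := congrArg Subtype.val hc
          refine ⟨⟨z * c * z⁻¹, hC.conj_mem c c.2 z⟩, ?_⟩
          apply Subtype.ext
          show z * (c : H) * z⁻¹ * (g₀ : H) * (z * (c : H) * z⁻¹)⁻¹ = z * g * z⁻¹
          calc z * (c : H) * z⁻¹ * (g₀ : H) * (z * (c : H) * z⁻¹)⁻¹
              = z * (c : H) * z⁻¹ * ((g₀ : H) * z) * (c : H)⁻¹ * z⁻¹ := by group
            _ = z * (c : H) * z⁻¹ * (z * (g₀ : H)) * (c : H)⁻¹ * z⁻¹ := by rw [hz']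
            _ = z * ((c : H) * (g₀ : H) * (c : H)⁻¹) * z⁻¹ := by group
            _ = z * g * z⁻¹ := by rw [hc']
      by_cases h : IsConj g₀ (⟨g, hg⟩ : C)
      · rw [classInd_of_isConj h, classInd_of_isConj (hiff.mpr h)]
      · rw [classInd_of_not_isConj h, classInd_of_not_isConj (fun h' => h (hiff.mp h'))]
    · have hg' : z * g * z⁻¹ ∉ C := by
        intro h
        apply hg
        have := hC.conj_mem _ h z⁻¹
        simpa [mul_assoc] using this
      rw [locClassInd_not_mem C g₀ hg, locClassInd_not_mem C g₀ hg']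
  · exact invUnder_extZero_self C (isClassFunction_classInd g₀)

/-- if the indicator of the `C`-class of `g₀` does not vanish at `t⁻¹ g₀ t` then
`t ∈ C_H(g₀) C` -/
theorem mem_sup_of_locClassInd_ne_zero (g₀ : C) {t : H}
    (h : locClassInd C g₀ (t⁻¹ * (g₀ : H) * t) ≠ 0) :
    t ∈ Subgroup.centralizer {(g₀ : H)} ⊔ C := by
  have hmem : t⁻¹ * (g₀ : H) * t ∈ C := by
    by_contra hcon
    exact h (locClassInd_not_mem C g₀ hcon)
  have e1 := locClassInd_mem C g₀ ⟨t⁻¹ * (g₀ : H) * t, hmem⟩
  simp only at e1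
  rw [e1] at h
  have hconj : IsConj g₀ (⟨t⁻¹ * (g₀ : H) * t, hmem⟩ : C) := by
    by_contra hcon
    exact h (classInd_of_not_isConj hcon)
  obtain ⟨c, hc⟩ := isConj_iff.mp hconj
  have hc' : (c : H) * (g₀ : H) * (c : H)⁻¹ = t⁻¹ * (g₀ : H) * t := congrArg Subtype.val hc
  have h1 : t * (c : H) ∈ Subgroup.centralizer {(g₀ : H)} := by
    rw [Subgroup.mem_centralizer_singleton_iff]
    symm
    calc (g₀ : H) * (t * (c : H)) = t * (t⁻¹ * (g₀ : H) * t) * (c : H) := by group
      _ = t * ((c : H) * (g₀ : H) * (c : H)⁻¹) * (c : H) := by rw [hc']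
      _ = t * (c : H) * (g₀ : H) := by group
  have h2 : t = t * (c : H) * (c : H)⁻¹ := by group
  rw [h2]
  exact Subgroup.mul_mem _ (Subgroup.mem_sup_left h1)
    (Subgroup.mem_sup_right (Subgroup.inv_mem _ c.2))

/-- the trace from `C_H(g₀) C` to `H` of the indicator of the `C`-class of `g₀` is the indicator
of the `H`-class of `g₀` -/
theorem traceFun_locClassInd (g₀ : C) :
    traceFun (Subgroup.centralizer {(g₀ : H)} ⊔ C) (locClassInd C g₀) = classInd (g₀ : H) := by
  have hinv := invUnder_locClassInd C g₀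
  have hcf := isClassFunction_traceFun hinv
  have hone : traceFun (Subgroup.centralizer {(g₀ : H)} ⊔ C) (locClassInd C g₀) (g₀ : H) = 1 := by
    unfold traceFun
    rw [Finset.sum_eq_single (((1 : H) : H ⧸ (Subgroup.centralizer {(g₀ : H)} ⊔ C)))]
    · rw [traceFun_term hinv 1 (g₀ : H)]
      have e1 : (1 : H)⁻¹ * (g₀ : H) * 1 = (g₀ : H) := by group
      rw [e1, locClassInd_mem]
      exact classInd_of_isConj (IsConj.refl g₀)
    · intro q _ hq
      by_contra hne
      apply hq
      have := mem_sup_of_locClassInd_ne_zero C g₀ hne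
      rw [← QuotientGroup.out_eq' q]
      apply QuotientGroup.eq.mpr
      simpa using Subgroup.inv_mem _ this
    · intro h
      exact absurd (Finset.mem_univ _) h
  funext h
  by_cases hh : IsConj (g₀ : H) h
  · obtain ⟨t, rfl⟩ := isConj_iff.mp hh
    rw [hcf (g₀ : H) t, hone, classInd_of_isConj hh]
  · rw [classInd_of_not_isConj hh]
    unfold traceFun
    apply Finset.sum_eq_zero
    intro q _
    by_contra hne
    apply hh
    have hmem : (Quotient.out q)⁻¹ * h * Quotient.out q ∈ C := by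
      by_contra hcon
      exact hne (locClassInd_not_mem C g₀ hcon)
    have e1 := locClassInd_mem C g₀ ⟨(Quotient.out q)⁻¹ * h * Quotient.out q, hmem⟩
    simp only at e1
    rw [e1] at hne
    have hconj : IsConj g₀ (⟨(Quotient.out q)⁻¹ * h * Quotient.out q, hmem⟩ : C) := by
      by_contra hcon
      exact hne (classInd_of_not_isConj hcon)
    obtain ⟨c, hc⟩ := isConj_iff.mp hconj
    have hc' : (c : H) * (g₀ : H) * (c : H)⁻¹ = (Quotient.out q)⁻¹ * h * Quotient.out q :=
      congrArg Subtype.val hc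
    rw [isConj_iff]
    refine ⟨Quotient.out q * (c : H), ?_⟩
    calc Quotient.out q * (c : H) * (g₀ : H) * (Quotient.out q * (c : H))⁻¹
        = Quotient.out q * ((c : H) * (g₀ : H) * (c : H)⁻¹) * (Quotient.out q)⁻¹ := by group
      _ = h := by rw [hc']; group

/-- the central character of `χ` at `g₀ ∈ C` in terms of the conjugates of a constituent `θ` of
`χ_C` -/
theorem centralChar_eq_sum_conj {χ : H → ℂ} (hχ : IsIrrCharacter H χ) (θ : IrrCharacter C)
    (hcon : classInner (χ ∘ C.subtype) (θ : C → ℂ) ≠ 0) (g₀ : C) :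
    centralChar χ (g₀ : H) = ∑ q : H ⧸ (Subgroup.centralizer {(g₀ : H)} ⊔ C),
      centralChar (conjIrr C (Quotient.out q)⁻¹ (normal_le_normalizer C _) θ : C → ℂ) g₀ := by
  rw [centralChar_eq_inducedCentralChar C hχ θ.2 hcon g₀]
  have e1 : inducedCentralChar C (θ : C → ℂ) (g₀ : H) =
      ∑ h : C, classInd (g₀ : H) (h : H) * (θ : C → ℂ) h / (θ : C → ℂ) 1 := by
    unfold inducedCentralChar
    rw [finsum_mem_def, finsum_eq_sum_of_fintype]
    refine Finset.sum_congr rfl fun h _ => ?_
    by_cases hh : IsConj (g₀ : H) (h : H)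
    · rw [Set.indicator_of_mem (show h ∈ {h : C | IsConj (g₀ : H) (h : H)} from hh),
        classInd_of_isConj hh, one_mul]
    · rw [Set.indicator_of_notMem (show h ∉ {h : C | IsConj (g₀ : H) (h : H)} from hh),
        classInd_of_not_isConj hh, zero_mul, zero_div]
  rw [e1, ← traceFun_locClassInd C g₀]
  unfold traceFun
  simp only [Finset.sum_mul, Finset.sum_div]
  rw [Finset.sum_comm]
  refine Finset.sum_congr rfl fun q _ => ?_
  set t := Quotient.out q with ht
  have hψcf := Cfsg.Agent.Lib.Helper4.isClassFunction_of_isIrrCharacter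
    (conjIrr C t⁻¹ (normal_le_normalizer C _) θ).2
  rw [← omegaF_classInd hψcf g₀]
  unfold omegaF
  rw [conjIrr_apply, map_one, Finset.sum_div]
  rw [← Equiv.sum_comp (conjK C t⁻¹ (normal_le_normalizer C _)).symm.toEquiv]
  refine Finset.sum_congr rfl fun c _ => ?_
  rw [conjIrr_apply]
  have e2 : t⁻¹ * (((conjK C t⁻¹ (normal_le_normalizer C _)).symm.toEquiv c : C) : H) * t =
      (c : H) := by
    show t⁻¹ * (((conjK C t⁻¹ (normal_le_normalizer C _)).symm c : C) : H) * t = (c : H)
    rw [conjK_symm_apply]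
    group
  rw [e2, locClassInd_mem]
  rfl

/-- **Sylow property of defect classes over a stable block.**  Let `C ⊴ H`, `e` an `H`-stable
block of `C` and `E` a block of `H` with the idempotent of `e`.  For a defect class `g₀` of `E`,
the index of `C_H(g₀) C` in `H` is prime to `p`. -/
theorem not_dvd_index_of_defectClass {p : ℕ} [Fact p.Prime] (hM : IsPModular p M)
    {e : Set (IrrCharacter C)} (he : IsPBlock M e) (hst : ∀ t : H, StabilizesBlock C e t)
    {E : Set (IrrCharacter H)} (hE : IsPBlock M E)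
    (hEe : ∀ t : H, blockCoeff E t = subgroupBlockCoeff C e t)
    {g₀ : H} (hdc : IsDefectClass M E g₀) :
    ¬ p ∣ (Subgroup.centralizer {g₀} ⊔ C).index := by
  have hMprime : M.IsPrime := hM.2.1.isPrime
  have hMtop : M ≠ ⊤ := Ideal.IsPrime.ne_top hMprime
  have : Fintype (IrrCharacter C) := Fintype.ofFinite _
  have hg₀C : g₀ ∈ C := by
    by_contra h
    apply hdc.2.1
    rw [hEe, subgroupBlockCoeff_eq_extZero, extZero_not_mem' _ _ h]
    exact memLocalIdeal_zero hMtop
  obtain ⟨χ, hχE⟩ := block_nonempty hE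
  have hχ := hdc.2.2 χ hχE
  -- a constituent of `χ_C` in `e`
  have hθ : ∃ θ : IrrCharacter C, θ ∈ e ∧
      classInner ((χ : H → ℂ) ∘ C.subtype) (θ : C → ℂ) ≠ 0 := by
    by_contra hcon
    push Not at hcon
    have h1 : omegaF (χ : H → ℂ) (blockCoeff E) = 1 := by
      rw [omegaF_blockCoeff, if_pos hχE]
    have h2 : omegaF (χ : H → ℂ) (blockCoeff E) = 0 := by
      have e1 : blockCoeff E = extZero C (blockCoeff e) := by
        funext t
        rw [hEe, subgroupBlockCoeff_eq_extZero]
      rw [e1]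
      unfold omegaF
      rw [sum_extZero_blockCoeff]
      have : ∑ φ : IrrCharacter C, (if φ ∈ e then
          (φ : C → ℂ) 1 * classInner ((χ : H → ℂ) ∘ C.subtype) (φ : C → ℂ) else 0) = 0 := by
        apply Finset.sum_eq_zero
        intro φ _
        by_cases hφ : φ ∈ e
        · rw [if_pos hφ, hcon φ hφ, mul_zero]
        · rw [if_neg hφ]
      rw [this, zero_div]
    rw [h1] at h2
    exact one_ne_zero h2
  obtain ⟨θ, hθe, hcon⟩ := hθ
  intro hdvd
  apply hχ
  have key := centralChar_eq_sum_conj C χ.2 θ hcon ⟨g₀, hg₀C⟩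
  simp only at key
  rw [key]
  set ω := centralChar (θ : C → ℂ) (⟨g₀, hg₀C⟩ : C) with hω
  have hωR : MemLocalRing M ω := memLocalRing_of_isIntegral hMtop (isIntegral_centralChar θ.2 _)
  have hterm : ∀ q : H ⧸ (Subgroup.centralizer {g₀} ⊔ C), MemLocalIdeal M
      (centralChar (conjIrr C (Quotient.out q)⁻¹ (normal_le_normalizer C _) θ : C → ℂ)
        (⟨g₀, hg₀C⟩ : C) - ω) := by
    intro q
    have hmem : conjIrr C (Quotient.out q)⁻¹ (normal_le_normalizer C _) θ ∈ e := by
      obtain ⟨hg, h⟩ := (stabilizesBlock_iff C e (Quotient.out q)⁻¹).mp (hst (Quotient.out q)⁻¹)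
      exact h θ hθe
    obtain ⟨χ0, rfl⟩ := he
    have h1 : SameBlock M (χ0 : C → ℂ) (θ : C → ℂ) := hθe
    have h2 : SameBlock M (χ0 : C → ℂ)
        (conjIrr C (Quotient.out q)⁻¹ (normal_le_normalizer C _) θ : C → ℂ) := hmem
    exact (sameBlock_trans (Cfsg.Agent.Lib.Helper28.sameBlock_symm h2) h1) _
  have hsum : ∑ q : H ⧸ (Subgroup.centralizer {g₀} ⊔ C),
      centralChar (conjIrr C (Quotient.out q)⁻¹ (normal_le_normalizer C _) θ : C → ℂ)
        (⟨g₀, hg₀C⟩ : C) =
      ∑ q : H ⧸ (Subgroup.centralizer {g₀} ⊔ C),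
        (centralChar (conjIrr C (Quotient.out q)⁻¹ (normal_le_normalizer C _) θ : C → ℂ)
          (⟨g₀, hg₀C⟩ : C) - ω) +
      (Fintype.card (H ⧸ (Subgroup.centralizer {g₀} ⊔ C)) : ℂ) * ω := by
    rw [Finset.sum_sub_distrib, Finset.sum_const, Finset.card_univ, nsmul_eq_mul]
    ring
  rw [hsum]
  apply memLocalIdeal_add (memLocalIdeal_sum _ _ (fun q _ => hterm q))
  have hcard : Fintype.card (H ⧸ (Subgroup.centralizer {g₀} ⊔ C)) =
      (Subgroup.centralizer {g₀} ⊔ C).index := by
    rw [Subgroup.index, Nat.card_eq_fintype_card]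
  rw [hcard]
  obtain ⟨k, hk⟩ := hdvd
  rw [hk]
  push_cast
  rw [mul_assoc]
  exact memLocalIdeal_mul_right (memLocalIdeal_natCast_p hM)
    (memLocalRing_mul (memLocalRing_natCast hMtop k) hωR)

end

end Cfsg.Agent.Lib.Helper4
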