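import Mathlib
import Cfsg.Agent.Lib.Helper4.BrauerInertial

set_option autoImplicit false

/-!
# The inertial quotient of a maximal Brauer pair with abelian first component (helper4)
-/

namespace Cfsg.Agent.Lib.Helper4

open Cfsg Cfsg.Agent.Lib.Helper28
open scoped ComplexConjugate Classical

section

variable {G : Type*} [Group G] [Fintype G] {M : Ideal AlgInt}

/-- the block of `N_G(P, e)` with the idempotent of `e` has defect group `P` when `(P, e)` is
maximal -/
theorem isDefectGroup_stab_of_maximal {p : ℕ} [Fact p.Prime] (hM : IsPModular p M)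
    {B : Set (IrrCharacter G)} {P : Subgroup G}
    {e : Set (IrrCharacter (Subgroup.centralizer (P : Set G)))}
    (hmax : IsMaximalBrauerPair p M B P e) {T : Subgroup G}
    (hT : ∀ y : G, y ∈ T ↔ y ∈ Subgroup.normalizer (P : Set G) ∧
      StabilizesBlock (Subgroup.centralizer (P : Set G)) e y)
    {E : Set (IrrCharacter T)} (hE : IsPBlock M E)
    (hEe : ∀ t : T, blockCoeff E t =
      subgroupBlockCoeff (Subgroup.centralizer (P : Set G)) e (t : G)) :
    IsDefectGroup p M E (P.subgroupOf T) := by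
  have hPe : IsBrauerPair p M P e := hmax.1.1
  have hle : SubpairLE p M P e P e := Relation.ReflTransGen.refl
  obtain ⟨D, d, hmaxD, hSD⟩ := exists_maximal_normalizer_ge hM hPe le_rfl hPe.2 hle hT hE hEe
  have hDdef : IsDefectGroup p M E D := isDefectGroup_of_maximal hM hmaxD
  obtain ⟨x, hle1, hcard⟩ := exists_conj_normalizer_card hM hmax le_rfl hPe.2 hle hT hEe hmaxD
  have hPN : P ⊓ Subgroup.normalizer (P : Set G) = P := inf_eq_left.mpr Subgroup.le_normalizer
  rw [hPN] at hSD
  have hPT : P ≤ T := fun u hu =>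
    (hT u).mpr ⟨Subgroup.le_normalizer hu, stabilizesBlock_of_mem P e hu⟩
  have h2 : Nat.card D ≤ Nat.card (P.subgroupOf T) := by
    rw [card_subgroupOf_of_le hPT]
    exact hcard.trans (Subgroup.card_le_of_le inf_le_left)
  have := Subgroup.eq_of_le_of_card_ge hSD h2
  rw [this]
  exact hDdef

section SubBlock

variable {K T : Subgroup G}

/-- a set of characters of `K ≤ T` as a set of characters of `K` viewed inside the group `T` -/
noncomputable def subBlock (hKT : K ≤ T) (e : Set (IrrCharacter K)) :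
    Set (IrrCharacter (K.subgroupOf T)) :=
  (irrEquiv (Subgroup.subgroupOfEquivOfLe hKT).symm) ⁻¹' e

omit [Fintype G] in
theorem isPBlock_subBlock (hKT : K ≤ T) {e : Set (IrrCharacter K)} (he : IsPBlock M e) :
    IsPBlock M (subBlock hKT e) := isPBlock_preimage_irrEquiv _ he

theorem blockCoeff_subBlock (hKT : K ≤ T) (e : Set (IrrCharacter K)) (c : K.subgroupOf T) :
    blockCoeff (subBlock hKT e) c = blockCoeff e (Subgroup.subgroupOfEquivOfLe hKT c) := by
  unfold subBlock
  rw [blockCoeff_preimage_irrEquiv]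
  rfl

theorem subgroupBlockCoeff_subBlock (hKT : K ≤ T) (e : Set (IrrCharacter K)) (t : T) :
    subgroupBlockCoeff (K.subgroupOf T) (subBlock hKT e) t = subgroupBlockCoeff K e (t : G) := by
  rw [subgroupBlockCoeff_eq_extZero, subgroupBlockCoeff_eq_extZero]
  by_cases ht : (t : G) ∈ K
  · have ht' : t ∈ K.subgroupOf T := Subgroup.mem_subgroupOf.mpr ht
    have e1 := extZero_mem' (K.subgroupOf T) (blockCoeff (subBlock hKT e)) ⟨t, ht'⟩
    have e2 := extZero_mem' K (blockCoeff e) ⟨(t : G), ht⟩
    simp only at e1 e2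
    rw [e1, e2, blockCoeff_subBlock]
    rfl
  · have ht' : t ∉ K.subgroupOf T := fun h => ht (Subgroup.mem_subgroupOf.mp h)
    rw [extZero_not_mem' _ _ ht', extZero_not_mem' _ _ ht]

omit [Fintype G] in
theorem stabilizesBlock_subBlock (hKT : K ≤ T) [hn : (K.subgroupOf T).Normal]
    {e : Set (IrrCharacter K)} {t : T} (h : StabilizesBlock K e (t : G)) :
    StabilizesBlock (K.subgroupOf T) (subBlock hKT e) t := by
  refine ⟨normal_le_normalizer _ t, ?_⟩
  intro χ' hχ'
  have hχ : irrEquiv (Subgroup.subgroupOfEquivOfLe hKT).symm χ' ∈ e := hχ'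
  obtain ⟨ψ, hψ, hconj⟩ := h.2 _ hχ
  refine ⟨(irrEquiv (Subgroup.subgroupOfEquivOfLe hKT).symm).symm ψ, ?_, ?_⟩
  · show irrEquiv (Subgroup.subgroupOfEquivOfLe hKT).symm
      ((irrEquiv (Subgroup.subgroupOfEquivOfLe hKT).symm).symm ψ) ∈ e
    rw [Equiv.apply_symm_apply]
    exact hψ
  · intro k k' hk
    rw [irrEquiv_symm_apply]
    have := hconj (Subgroup.subgroupOfEquivOfLe hKT k) (Subgroup.subgroupOfEquivOfLe hKT k') (by
      show ((k' : T) : G) = (t : G) * ((k : T) : G) * (t : G)⁻¹
      rw [hk]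
      rfl)
    rw [MulEquiv.symm_symm, this, irrEquiv_apply, MulEquiv.symm_apply_apply]

end SubBlock

/-- for a maximal Brauer pair `(P, e)` with `P ≤ C_G(P)` the index of `C_G(P)` in `N_G(P, e)`
is prime to `p` -/
theorem not_dvd_inertial_index {p : ℕ} [Fact p.Prime] (hM : IsPModular p M)
    {B : Set (IrrCharacter G)} {P : Subgroup G}
    {e : Set (IrrCharacter (Subgroup.centralizer (P : Set G)))}
    (hmax : IsMaximalBrauerPair p M B P e) (hPC : P ≤ Subgroup.centralizer (P : Set G))
    {T : Subgroup G}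
    (hT : ∀ y : G, y ∈ T ↔ y ∈ Subgroup.normalizer (P : Set G) ∧
      StabilizesBlock (Subgroup.centralizer (P : Set G)) e y) :
    ¬ p ∣ ((Subgroup.centralizer (P : Set G)).subgroupOf T).index := by
  have hp : p.Prime := Fact.out
  have hPe : IsBrauerPair p M P e := hmax.1.1
  have hKT : Subgroup.centralizer (P : Set G) ≤ T := fun u hu =>
    (hT u).mpr ⟨centralizer_le_normalizer' P hu, stabilizesBlock_of_mem_centralizer P e hu⟩
  have hTN : T ≤ Subgroup.normalizer
      ((Subgroup.centralizer (P : Set G) : Subgroup G) : Set G) := fun t ht =>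
    normalizer_le_normalizer_centralizer P ((hT t).mp ht).1
  haveI hn : ((Subgroup.centralizer (P : Set G)).subgroupOf T).Normal :=
    (Subgroup.normal_subgroupOf_iff_le_normalizer hKT).mpr hTN
  obtain ⟨E, hE, hEe⟩ := exists_stab_block hM hPe.1 hPe.2 hT
  obtain ⟨g₀, hdc, Pg, hPg⟩ := isDefectGroup_stab_of_maximal hM hmax hT hE hEe
  have hX := not_dvd_index_of_defectClass (H := T)
    ((Subgroup.centralizer (P : Set G)).subgroupOf T) hM (isPBlock_subBlock hKT hPe.2)
    (fun t => stabilizesBlock_subBlock hKT ((hT t).mp t.2).2) hE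
    (fun t => by rw [hEe, subgroupBlockCoeff_subBlock]) hdc
  have hDC : P.subgroupOf T ≤ (Subgroup.centralizer (P : Set G)).subgroupOf T :=
    Subgroup.subgroupOf_mono T hPC
  have h1 := Subgroup.relIndex_mul_index
    (le_sup_right : (Subgroup.centralizer (P : Set G)).subgroupOf T ≤
      Subgroup.centralizer ({g₀} : Set T) ⊔ (Subgroup.centralizer (P : Set G)).subgroupOf T)
  have h2 : ((Subgroup.centralizer (P : Set G)).subgroupOf T).relIndex
      (Subgroup.centralizer ({g₀} : Set T) ⊔ (Subgroup.centralizer (P : Set G)).subgroupOf T) =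
      ((Subgroup.centralizer (P : Set G)).subgroupOf T).relIndex
        (Subgroup.centralizer ({g₀} : Set T)) := Subgroup.relIndex_sup_right _ _
  have h3 : ((Subgroup.centralizer (P : Set G)).subgroupOf T).relIndex
      (Subgroup.centralizer ({g₀} : Set T)) ∣
      (P.subgroupOf T).relIndex (Subgroup.centralizer ({g₀} : Set T)) :=
    Subgroup.relIndex_dvd_of_le_left _ hDC
  have h4 : (P.subgroupOf T).relIndex (Subgroup.centralizer ({g₀} : Set T)) =
      (Pg : Subgroup (Subgroup.centralizer ({g₀} : Set T))).index := by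
    rw [hPg]
    unfold Subgroup.relIndex
    congr 1
    exact Subgroup.comap_map_eq_self_of_injective (Subgroup.subtype_injective _) _
  have h5 : ¬ p ∣ (Pg : Subgroup (Subgroup.centralizer ({g₀} : Set T))).index :=
    Pg.not_dvd_index
  intro hdvd
  rw [← h1, h2] at hdvd
  rcases (Nat.Prime.dvd_mul hp).mp hdvd with h | h
  · exact h5 (h4 ▸ (dvd_trans h h3))
  · exact hX h

omit [Fintype G] in
theorem mem_of_pow_mem_of_coprime {K : Subgroup G} {x : G} {a b : ℕ} (hab : Nat.Coprime a b)
    (ha : x ^ a ∈ K) (hb : x ^ b ∈ K) : x ∈ K := by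
  have h := Nat.gcd_eq_gcd_ab a b
  rw [hab] at h
  have hx : x = (x ^ a) ^ (Nat.gcdA a b) * (x ^ b) ^ (Nat.gcdB a b) := by
    rw [← zpow_natCast x a, ← zpow_natCast x b, ← zpow_mul, ← zpow_mul, ← zpow_add, ← h]
    simp
  rw [hx]
  exact Subgroup.mul_mem _ (Subgroup.zpow_mem _ ha _) (Subgroup.zpow_mem _ hb _)

/-- **S4687** -/
theorem abelian_nilpotent_iff {p : ℕ} [Fact p.Prime] (hM : IsPModular p M)
    {B : Set (IrrCharacter G)} {P : Subgroup G}
    {e : Set (IrrCharacter (Subgroup.centralizer (P : Set G)))}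
    (hmax : IsMaximalBrauerPair p M B P e) (hab : ∀ x ∈ P, ∀ y ∈ P, x * y = y * x) :
    IsNilpotentBlock p M B ↔ ∀ x : G, x ∈ Subgroup.normalizer (P : Set G) →
      StabilizesBlock (Subgroup.centralizer (P : Set G)) e x →
      x ∈ Subgroup.centralizer (P : Set G) := by
  have hMprime : M.IsPrime := hM.2.1.isPrime
  have hp : p.Prime := Fact.out
  have hPe : IsBrauerPair p M P e := hmax.1.1
  have hB : IsPBlock M B := hmax.1.2.1
  have hPC : P ≤ Subgroup.centralizer (P : Set G) := fun x hx y hy => hab y hy x hx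
  constructor
  · intro hnil x hxN hxst
    obtain ⟨T, hT⟩ := exists_stabSubgroup P hPe.2
    have hxT : x ∈ T := (hT x).mpr ⟨hxN, hxst⟩
    have hidx := not_dvd_inertial_index hM hmax hPC hT
    have hKT : Subgroup.centralizer (P : Set G) ≤ T := fun u hu =>
      (hT u).mpr ⟨centralizer_le_normalizer' P hu, stabilizesBlock_of_mem_centralizer P e hu⟩
    have hTN : T ≤ Subgroup.normalizer
        ((Subgroup.centralizer (P : Set G) : Subgroup G) : Set G) := fun t ht =>
      normalizer_le_normalizer_centralizer P ((hT t).mp ht).1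
    haveI hn : ((Subgroup.centralizer (P : Set G)).subgroupOf T).Normal :=
      (Subgroup.normal_subgroupOf_iff_le_normalizer hKT).mpr hTN
    have h1 : x ^ ((Subgroup.centralizer (P : Set G)).subgroupOf T).index ∈
        Subgroup.centralizer (P : Set G) := by
      have := Subgroup.pow_index_mem ((Subgroup.centralizer (P : Set G)).subgroupOf T)
        (⟨x, hxT⟩ : T)
      exact Subgroup.mem_subgroupOf.mp this
    have hpa : p ^ (orderOf x).factorization p ≠ 0 := pow_ne_zero _ hp.ne_zero
    have h2 : x ^ (p ^ (orderOf x).factorization p) ∈ Subgroup.centralizer (P : Set G) := by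
      apply hnil.2 P e hmax.1 _ (Subgroup.pow_mem _ hxN _)
        ((hT _).mp (Subgroup.pow_mem _ hxT _)).2
      unfold IsPRegular
      rw [orderOf_pow' x hpa, Nat.gcd_eq_right (Nat.ordProj_dvd _ _)]
      exact Nat.not_dvd_ordCompl hp (orderOf_pos x).ne'
    have hcop : Nat.Coprime (p ^ (orderOf x).factorization p)
        ((Subgroup.centralizer (P : Set G)).subgroupOf T).index :=
      Nat.Coprime.pow_left _ ((Nat.Prime.coprime_iff_not_dvd hp).mpr hidx)
    exact mem_of_pow_mem_of_coprime hcop h2 h1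
  · intro hyp
    refine ⟨hB, fun Q' f' hQ'f' x hxN hxst _ => ?_⟩
    obtain ⟨g, hg⟩ := exists_conj_subpairLE hM hmax hQ'f'
    have hQP : Q'.map (MulAut.conj g).toMonoidHom ≤ P := subpairLE_le hg
    have hf : IsPBlock M (conjBlock Q' g f') := isPBlock_conjBlock Q' g hQ'f'.1.2
    have e1 : g⁻¹ * (g * x * g⁻¹) * g = x := by group
    have hxN' : g * x * g⁻¹ ∈ Subgroup.normalizer
        ((Q'.map (MulAut.conj g).toMonoidHom : Subgroup G) : Set G) := by
      rw [mem_normalizer_map_conj_iff, e1]
      exact hxN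
    have hxst' := stabilizesBlock_conj Q' g hxst
    obtain ⟨y, hyN, hyst, hyNQ, c, hc, hxy⟩ :=
      abelian_frattini hM hmax hab hQP hf hg hxN' hxst'
    have hyC : y ∈ Subgroup.centralizer (P : Set G) := hyp y hyN hyst
    have hyCQ : y ∈ Subgroup.centralizer
        ((Q'.map (MulAut.conj g).toMonoidHom : Subgroup G) : Set G) :=
      Subgroup.centralizer_le (by exact_mod_cast hQP) hyC
    have h3 : g * x * g⁻¹ ∈ Subgroup.centralizer
        ((Q'.map (MulAut.conj g).toMonoidHom : Subgroup G) : Set G) := by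
      rw [hxy]
      exact Subgroup.mul_mem _ hyCQ hc
    have h4 := centConj_mem' Q' g h3
    rw [e1] at h4
    exact h4

end

end Cfsg.Agent.Lib.Helper4
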