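import Mathlib
import Cfsg.Agent.Lib.Helper4.BrauerAbelNil
import Cfsg.Agent.S0908
import Cfsg.Agent.S0911

set_option autoImplicit false

/-!
# Fong's theorem on blocks covering a stable block of a normal subgroup (helper4)
-/

namespace Cfsg.Agent.Lib.Helper4

open Cfsg Cfsg.Agent.Lib.Helper28 Cfsg.Agent.Lib.Helper26
open scoped ComplexConjugate Classical

section

variable {G : Type*} [Group G] [Fintype G] {M : Ideal AlgInt} (N : Subgroup G) [hN : N.Normal]

/-- the central character of `χ` at the idempotent of a set `S` of characters of `N` containing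
all the constituents of `χ_N` is `1` -/
theorem omegaF_extZero_of_all {χ : G → ℂ} (hχ : IsIrrCharacter G χ)
    (S : Set (IrrCharacter N))
    (hS3 : ∀ φ : IrrCharacter N, classInner (χ ∘ N.subtype) (φ : N → ℂ) ≠ 0 → φ ∈ S) :
    omegaF χ (extZero N (blockCoeff S)) = 1 := by
  have : Fintype (IrrCharacter N) := Fintype.ofFinite _
  unfold omegaF
  rw [sum_extZero_blockCoeff]
  have hrescf : IsClassFunction N (χ ∘ N.subtype) :=
    Cfsg.Agent.Lib.Helper26.isClassFunction_of_isCharacter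
      (isCharacter_restrict N (isCharacter_of_isIrrCharacter hχ))
  have hexp := congrFun (classFunction_expansion (χ ∘ N.subtype) hrescf) 1
  simp only [Finset.sum_apply, Pi.smul_apply, smul_eq_mul] at hexp
  have : ∑ φ : IrrCharacter N, (if φ ∈ S then
      (φ : N → ℂ) 1 * classInner (χ ∘ N.subtype) (φ : N → ℂ) else 0) = χ 1 := by
    have h2 : (χ ∘ N.subtype) 1 = χ 1 := by simp
    rw [← h2, hexp]
    refine Finset.sum_congr rfl fun φ _ => ?_
    by_cases hφ : φ ∈ S
    · rw [if_pos hφ, mul_comm]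
    · rw [if_neg hφ]
      have : classInner (χ ∘ N.subtype) (φ : N → ℂ) = 0 := by
        by_contra h
        exact hφ (hS3 φ h)
      rw [this, zero_mul]
  rw [this]
  exact div_self (irr_one_ne_zero hχ)

/-- the central character of `χ` at the idempotent of a set `S` of characters of `N` containing
no constituent of `χ_N` is `0` -/
theorem omegaF_extZero_of_none (χ : G → ℂ) (S : Set (IrrCharacter N))
    (hcon : ∀ φ ∈ S, classInner (χ ∘ N.subtype) (φ : N → ℂ) = 0) :
    omegaF χ (extZero N (blockCoeff S)) = 0 := by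
  have : Fintype (IrrCharacter N) := Fintype.ofFinite _
  unfold omegaF
  rw [sum_extZero_blockCoeff]
  have : ∑ φ : IrrCharacter N, (if φ ∈ S then
      (φ : N → ℂ) 1 * classInner (χ ∘ N.subtype) (φ : N → ℂ) else 0) = 0 := by
    apply Finset.sum_eq_zero
    intro φ _
    by_cases hφ : φ ∈ S
    · rw [if_pos hφ, hcon φ hφ, mul_zero]
    · rw [if_neg hφ]
  rw [this, zero_div]

/-- stability under all of `G` in terms of `conjFunN` -/
theorem conjFunN_mem_of_stabilizes {b : Set (IrrCharacter N)}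
    (hst : ∀ t : G, StabilizesBlock N b t) :
    ∀ φ ∈ b, ∀ x : G, ∀ φ' : IrrCharacter N,
      (φ' : N → ℂ) = conjFunN N (φ : N → ℂ) x → φ' ∈ b := by
  intro φ hφ x φ' h
  obtain ⟨-, h2⟩ := hst x⁻¹
  obtain ⟨ψ, hψ, hconj⟩ := h2 φ hφ
  have : φ' = ψ := by
    apply Subtype.ext
    rw [h]
    funext n
    have hmem : x * (n : G) * x⁻¹ ∈ N := hN.conj_mem n n.2 x
    have := hconj ⟨x * (n : G) * x⁻¹, hmem⟩ n (by
      show (n : G) = x⁻¹ * (x * (n : G) * x⁻¹) * x⁻¹⁻¹
      group)
    rw [this]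
    rfl
  rw [this]
  exact hψ

/-- stability under all of `G` from the `conjFunN` form -/
theorem stabilizes_of_conjFunN_mem {b : Set (IrrCharacter N)}
    (h : ∀ φ ∈ b, ∀ x : G, ∀ φ' : IrrCharacter N,
      (φ' : N → ℂ) = conjFunN N (φ : N → ℂ) x → φ' ∈ b) (t : G) :
    StabilizesBlock N b t := by
  refine ⟨normal_le_normalizer N t, ?_⟩
  intro φ hφ
  refine ⟨⟨conjFunN N (φ : N → ℂ) t⁻¹, isIrrCharacter_conjFunN N φ.2 t⁻¹⟩,
    h φ hφ t⁻¹ _ rfl, ?_⟩
  intro k k' hk
  show conjFunN N (φ : N → ℂ) t⁻¹ k' = (φ : N → ℂ) k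
  unfold conjFunN
  refine congrArg (φ : N → ℂ) (Subtype.ext ?_)
  show t⁻¹ * (k' : G) * t⁻¹⁻¹ = k
  rw [hk]
  group

/-- all the constituents of `χ_N` lie in the stable block `b` if one of them does -/
theorem constituents_mem_of_stabilizes {b : Set (IrrCharacter N)}
    (hst : ∀ t : G, StabilizesBlock N b t) {χ : G → ℂ} (hχ : IsIrrCharacter G χ)
    {θ : IrrCharacter N} (hθ : θ ∈ b)
    (hcon : classInner (χ ∘ N.subtype) (θ : N → ℂ) ≠ 0) :
    ∀ φ : IrrCharacter N, classInner (χ ∘ N.subtype) (φ : N → ℂ) ≠ 0 → φ ∈ b := by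
  intro φ hφ
  by_contra hnot
  apply hφ
  apply classInner_restrict_eq_zero N hχ θ.2 φ.2 hcon
  intro g hg
  exact hnot (conjFunN_mem_of_stabilizes N hst θ hθ g φ hg)

/-- the central character of a character of `G` lying over the stable block `b`, at an element of
`N`, is congruent to `[G : C_G(c) N]` times the central character of `b` -/
theorem centralChar_sub_index_mul [M.IsPrime] {b : Set (IrrCharacter N)}
    (hb : IsPBlock M b)
    (hst : ∀ t : G, StabilizesBlock N b t) {χ : G → ℂ} (hχ : IsIrrCharacter G χ)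
    {θ θ' : IrrCharacter N} (hθ : θ ∈ b) (hθ' : θ' ∈ b)
    (hcon : classInner (χ ∘ N.subtype) (θ' : N → ℂ) ≠ 0) (c : N) :
    MemLocalIdeal M (centralChar χ (c : G) -
      ((Subgroup.centralizer {(c : G)} ⊔ N).index : ℂ) * centralChar (θ : N → ℂ) c) := by
  have key := centralChar_eq_sum_conj N hχ θ' hcon c
  rw [key]
  set ω := centralChar (θ : N → ℂ) c with hω
  have hterm : ∀ q : G ⧸ (Subgroup.centralizer {(c : G)} ⊔ N), MemLocalIdeal M
      (centralChar (conjIrr N (Quotient.out q)⁻¹ (normal_le_normalizer N _) θ' : N → ℂ) c - ω) := by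
    intro q
    have hmem : conjIrr N (Quotient.out q)⁻¹ (normal_le_normalizer N _) θ' ∈ b := by
      obtain ⟨hg, h⟩ := (stabilizesBlock_iff N b (Quotient.out q)⁻¹).mp (hst (Quotient.out q)⁻¹)
      exact h θ' hθ'
    obtain ⟨χ0, rfl⟩ := hb
    have h1 : SameBlock M (χ0 : N → ℂ) (θ : N → ℂ) := hθ
    have h2 : SameBlock M (χ0 : N → ℂ)
        (conjIrr N (Quotient.out q)⁻¹ (normal_le_normalizer N _) θ' : N → ℂ) := hmem
    exact (sameBlock_trans (Cfsg.Agent.Lib.Helper28.sameBlock_symm h2) h1) _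
  have hcard : Fintype.card (G ⧸ (Subgroup.centralizer {(c : G)} ⊔ N)) =
      (Subgroup.centralizer {(c : G)} ⊔ N).index := by
    rw [Subgroup.index, Nat.card_eq_fintype_card]
  have hsum : ∑ q : G ⧸ (Subgroup.centralizer {(c : G)} ⊔ N),
      centralChar (conjIrr N (Quotient.out q)⁻¹ (normal_le_normalizer N _) θ' : N → ℂ) c -
      ((Subgroup.centralizer {(c : G)} ⊔ N).index : ℂ) * ω =
      ∑ q : G ⧸ (Subgroup.centralizer {(c : G)} ⊔ N),
        (centralChar (conjIrr N (Quotient.out q)⁻¹ (normal_le_normalizer N _) θ' : N → ℂ) c - ω) := by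
    rw [Finset.sum_sub_distrib, Finset.sum_const, Finset.card_univ, nsmul_eq_mul, hcard]
  rw [hsum]
  exact memLocalIdeal_sum _ _ (fun q _ => hterm q)

/-- **Fong, local part.**  If the idempotent of the stable block `b` times the central character
of a character `χ` over `b` is a unit at `c`, then `c ∈ N` is a defect class of `b`, the index of
`C_G(c) N` is prime to `p`, and every character of `G` over `b` has unit central character at
`c`. -/
theorem fong_class {p : ℕ} [Fact p.Prime] (hM : IsPModular p M) {b : Set (IrrCharacter N)}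
    (hb : IsPBlock M b) (hst : ∀ t : G, StabilizesBlock N b t) {χ : G → ℂ}
    (hχ : IsIrrCharacter G χ) {θ : IrrCharacter N} (hθ : θ ∈ b)
    (hcon : classInner (χ ∘ N.subtype) (θ : N → ℂ) ≠ 0) {c : G}
    (hc : ¬ MemLocalIdeal M (extZero N (blockCoeff b) c * centralChar χ c)) :
    ∃ hcN : c ∈ N, IsDefectClass M b ⟨c, hcN⟩ ∧
      ¬ p ∣ (Subgroup.centralizer {c} ⊔ N).index ∧
      ∀ χ' : G → ℂ, IsIrrCharacter G χ' →
        (∃ θ' ∈ b, classInner (χ' ∘ N.subtype) ((θ' : IrrCharacter N) : N → ℂ) ≠ 0) →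
        ¬ MemLocalIdeal M (centralChar χ' c) := by
  have hMprime : M.IsPrime := hM.2.1.isPrime
  have hMtop : M ≠ ⊤ := Ideal.IsPrime.ne_top hMprime
  have hcN : c ∈ N := by
    by_contra h
    apply hc
    rw [extZero_not_mem' _ _ h, zero_mul]
    exact memLocalIdeal_zero hMtop
  refine ⟨hcN, ?_⟩
  have e1 := extZero_mem' N (blockCoeff b) ⟨c, hcN⟩
  simp only at e1
  rw [e1] at hc
  have hωχR : MemLocalRing M (centralChar χ c) :=
    memLocalRing_of_isIntegral hMtop (isIntegral_centralChar hχ _)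
  have hcoef : ¬ MemLocalIdeal M (blockCoeff b (⟨c, hcN⟩ : N)) := fun h =>
    hc (memLocalIdeal_mul_right h hωχR)
  have hωχ : ¬ MemLocalIdeal M (centralChar χ c) := fun h =>
    hc (memLocalIdeal_mul_left (osima hb _) h)
  set ω := centralChar (θ : N → ℂ) (⟨c, hcN⟩ : N) with hω
  have hωR : MemLocalRing M ω := memLocalRing_of_isIntegral hMtop (isIntegral_centralChar θ.2 _)
  have hcong : ∀ χ' : G → ℂ, IsIrrCharacter G χ' →
      (∃ θ' ∈ b, classInner (χ' ∘ N.subtype) ((θ' : IrrCharacter N) : N → ℂ) ≠ 0) →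
      MemLocalIdeal M (centralChar χ' c -
        ((Subgroup.centralizer {c} ⊔ N).index : ℂ) * ω) := by
    intro χ' hχ' ⟨θ', hθ', hcon'⟩
    exact centralChar_sub_index_mul N hb hst hχ' hθ hθ' hcon' ⟨c, hcN⟩
  have hprod : ¬ MemLocalIdeal M (((Subgroup.centralizer {c} ⊔ N).index : ℂ) * ω) := by
    intro h
    apply hωχ
    have := memLocalIdeal_add (hcong χ hχ ⟨θ, hθ, hcon⟩) h
    rwa [sub_add_cancel] at this
  have hndvd : ¬ p ∣ (Subgroup.centralizer {c} ⊔ N).index := by
    intro hdvd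
    apply hprod
    obtain ⟨k, hk⟩ := hdvd
    rw [hk]
    push_cast
    rw [mul_assoc]
    exact memLocalIdeal_mul_right (memLocalIdeal_natCast_p hM)
      (memLocalRing_mul (memLocalRing_natCast hMtop k) hωR)
  have hωn : ¬ MemLocalIdeal M ω := fun h =>
    hprod (memLocalIdeal_mul_left (memLocalRing_natCast hMtop _) h)
  refine ⟨⟨osima hb _, hcoef, ?_⟩, hndvd, ?_⟩
  · intro θ' hθ' h
    apply hωn
    obtain ⟨χ0, rfl⟩ := hb
    have h1 : SameBlock M (χ0 : N → ℂ) (θ : N → ℂ) := hθ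
    have h2 : SameBlock M (χ0 : N → ℂ) (θ' : N → ℂ) := hθ'
    have h3 := (sameBlock_trans (Cfsg.Agent.Lib.Helper28.sameBlock_symm h2) h1) ⟨c, hcN⟩
    have := memLocalIdeal_sub h h3
    rwa [sub_sub_cancel] at this
  · intro χ' hχ' hover h
    apply hprod
    have := memLocalIdeal_sub h (hcong χ' hχ' hover)
    rwa [sub_sub_cancel] at this

omit hN in
/-- a union of blocks whose idempotent has a unit coefficient at `g` contains a block with the
same property -/
theorem exists_block_coeff_not_mem [M.IsPrime] (S : Set (IrrCharacter G))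
    (hS : ∀ φ ∈ S, ∀ φ' : IrrCharacter G, SameBlock M (φ : G → ℂ) (φ' : G → ℂ) → φ' ∈ S) (g : G)
    (hg : ¬ MemLocalIdeal M (blockCoeff S g)) :
    ∃ B' : Set (IrrCharacter G), IsPBlock M B' ∧ B' ⊆ S ∧ ¬ MemLocalIdeal M (blockCoeff B' g) := by
  have hMtop : M ≠ ⊤ := Ideal.IsPrime.ne_top ‹_›
  have hfin : Finite (IrrCharacter G) := inferInstance
  induction' hn : S.ncard using Nat.strong_induction_on with n ih generalizing S
  by_cases hne : S = ∅
  · exfalso
    apply hg
    rw [hne, blockCoeff_empty]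
    exact memLocalIdeal_zero hMtop
  · obtain ⟨φ, hφ⟩ := Set.nonempty_iff_ne_empty.mpr hne
    set b : Set (IrrCharacter G) := blockOf M (φ : G → ℂ) with hb
    have hbB : IsPBlock M b := ⟨φ, rfl⟩
    have hφb : φ ∈ b := sameBlock_refl hMtop _
    have hbS : b ⊆ S := fun φ' h => hS φ hφ φ' h
    by_cases hbg : MemLocalIdeal M (blockCoeff b g)
    · have hS' : ∀ φ1 ∈ S \ b, ∀ φ2 : IrrCharacter G,
          SameBlock M (φ1 : G → ℂ) (φ2 : G → ℂ) → φ2 ∈ S \ b := by
        intro φ1 h1 φ2 h12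
        refine ⟨hS φ1 h1.1 φ2 h12, fun h2 => h1.2 ?_⟩
        exact sameBlock_trans (h2 : SameBlock M (φ : G → ℂ) (φ2 : G → ℂ))
          (Cfsg.Agent.Lib.Helper28.sameBlock_symm h12)
      have hlt : (S \ b).ncard < n := by
        rw [← hn]
        apply Set.ncard_lt_ncard _ (Set.toFinite S)
        refine ⟨Set.sdiff_subset, fun h => ?_⟩
        exact (h hφ).2 hφb
      have h2 : S = b ∪ (S \ b) := by
        rw [Set.union_sdiff_cancel hbS]
      have hg' : ¬ MemLocalIdeal M (blockCoeff (S \ b) g) := by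
        intro h
        apply hg
        rw [h2, blockCoeff_union_disjoint _ _ Set.disjoint_sdiff_right]
        exact memLocalIdeal_add hbg h
      obtain ⟨B', hB', hsub, hB'g⟩ := ih _ hlt (S \ b) hS' hg' rfl
      exact ⟨B', hB', fun x hx => (hsub hx).1, hB'g⟩
    · exact ⟨b, hbB, hbS, hbg⟩

/-- the idempotent of a stable block of `N`, extended by zero, is an idempotent class function
with local coefficients -/
theorem extZero_blockCoeff_facts [M.IsPrime] {b : Set (IrrCharacter N)}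
    (hb : IsPBlock M b) (hst : ∀ t : G, StabilizesBlock N b t) :
    IsClassFunction G (extZero N (blockCoeff b)) ∧
    conv (extZero N (blockCoeff b)) (extZero N (blockCoeff b)) = extZero N (blockCoeff b) ∧
    ∀ g, MemLocalRing M (extZero N (blockCoeff b) g) := by
  have hMtop : M ≠ ⊤ := Ideal.IsPrime.ne_top ‹_›
  refine ⟨isClassFunction_extZero_blockCoeff N b (conjFunN_mem_of_stabilizes N hst), ?_, ?_⟩
  · rw [conv_extZero, conv_blockCoeff_inter, Set.inter_self]
  · intro g
    by_cases hg : g ∈ N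
    · have := extZero_mem' N (blockCoeff b) ⟨g, hg⟩
      simp only at this
      rw [this]
      exact osima hb _
    · rw [extZero_not_mem' N _ hg]
      exact memLocalRing_zero hMtop

/-- **Fong, block part.**  In the situation of `fong_class`, `c` is a defect class of a block of
`G` all of whose characters lie over `b`. -/
theorem fong_block {p : ℕ} [Fact p.Prime] (hM : IsPModular p M) {b : Set (IrrCharacter N)}
    (hb : IsPBlock M b) (hst : ∀ t : G, StabilizesBlock N b t) {χ : G → ℂ}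
    (hχ : IsIrrCharacter G χ) {θ : IrrCharacter N} (hθ : θ ∈ b)
    (hcon : classInner (χ ∘ N.subtype) (θ : N → ℂ) ≠ 0) {c : G}
    (hc : ¬ MemLocalIdeal M (extZero N (blockCoeff b) c * centralChar χ c)) :
    ∃ B' : Set (IrrCharacter G), IsPBlock M B' ∧
      (∀ χ' ∈ B', ∃ θ' ∈ b,
        classInner ((χ' : G → ℂ) ∘ N.subtype) ((θ' : IrrCharacter N) : N → ℂ) ≠ 0) ∧
      IsDefectClass M B' c := by
  have hMprime : M.IsPrime := hM.2.1.isPrime
  have hMtop : M ≠ ⊤ := Ideal.IsPrime.ne_top hMprime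
  obtain ⟨hcN, hdc, hndvd, hall⟩ := fong_class N hM hb hst hχ hθ hcon hc
  obtain ⟨hFcf, hidem, hR⟩ := extZero_blockCoeff_facts (M := M) N hb hst
  set F := extZero N (blockCoeff b) with hF
  have hωχR : MemLocalRing M (centralChar χ c) :=
    memLocalRing_of_isIntegral hMtop (isIntegral_centralChar hχ _)
  have hFc : ¬ MemLocalIdeal M (F c) := fun h => hc (memLocalIdeal_mul_right h hωχR)
  have hclosed := idemSupport_closed (M := M) hFcf hidem hR
  have hFeq := eq_blockCoeff_of_idem hFcf hidem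
  rw [hFeq] at hFc
  obtain ⟨B', hB', hsub, hB'c⟩ := exists_block_coeff_not_mem (idemSupport F) hclosed c hFc
  have hover : ∀ χ' ∈ B', ∃ θ' ∈ b,
      classInner ((χ' : G → ℂ) ∘ N.subtype) ((θ' : IrrCharacter N) : N → ℂ) ≠ 0 := by
    intro χ' hχ'
    by_contra hnone
    push Not at hnone
    have h0 := omegaF_extZero_of_none N (χ' : G → ℂ) b hnone
    have h1 : omegaF (χ' : G → ℂ) F = 1 := hsub hχ'
    rw [hF, h0] at h1
    exact zero_ne_one h1
  refine ⟨B', hB', hover, osima hB' _, hB'c, ?_⟩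
  intro χ' hχ'
  exact hall (χ' : G → ℂ) χ'.2 (hover χ' hχ')

omit [Fintype G] in
/-- `[AN : PN] [A ∩ N : P ∩ N] = [A : P]` for `P ≤ A` and `N` normal -/
theorem relIndex_sup_mul_relIndex_inf [Finite G] {P A : Subgroup G} (hPA : P ≤ A) :
    (P ⊔ N).relIndex (A ⊔ N) * (P ⊓ N).relIndex (A ⊓ N) = P.relIndex A := by
  have h1 := Subgroup.relIndex_mul_relIndex N (P ⊔ N) (A ⊔ N) le_sup_right
    (sup_le_sup_right hPA N)
  rw [Subgroup.relIndex_sup_right P N, Subgroup.relIndex_sup_right A N,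
    ← Subgroup.inf_relIndex_left P N, ← Subgroup.inf_relIndex_left A N] at h1
  have h4 := Subgroup.relIndex_mul_relIndex (P ⊓ N) (A ⊓ N) A (inf_le_inf_right N hPA) inf_le_left
  have h5 := Subgroup.relIndex_mul_relIndex (P ⊓ N) P A inf_le_left hPA
  have ha : (P ⊓ N).relIndex P ≠ 0 := by
    unfold Subgroup.relIndex
    exact Subgroup.index_ne_zero_of_finite
  apply Nat.eq_of_mul_eq_mul_left (Nat.pos_of_ne_zero ha)
  rw [← h5] at h4
  rw [← h4, ← h1]
  ring

/-- **Fong's theorem** on the defect groups of a block of maximal defect covering a stable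
block of a normal subgroup -/
theorem fong {p : ℕ} [Fact p.Prime] (hM : IsPModular p M) {b : Set (IrrCharacter N)}
    (hb : IsPBlock M b) (hst : ∀ t : G, StabilizesBlock N b t)
    {B : Set (IrrCharacter G)} (hB : IsPBlock M B)
    (hcov : ∃ χ ∈ B, ∃ θ ∈ b,
      classInner ((χ : G → ℂ) ∘ N.subtype) ((θ : IrrCharacter N) : N → ℂ) ≠ 0)
    (hmax : ∀ B' : Set (IrrCharacter G), IsPBlock M B' →
      (∃ χ ∈ B', ∃ θ ∈ b,
        classInner ((χ : G → ℂ) ∘ N.subtype) ((θ : IrrCharacter N) : N → ℂ) ≠ 0) →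
      blockDefect p B' ≤ blockDefect p B)
    {P : Subgroup G} (hP : IsDefectGroup p M B P) :
    ¬ p ∣ (P ⊔ N).index ∧ IsDefectGroup p M b ((P ⊓ N).subgroupOf N) ∧
      blockDefect p B = blockDefect p b + N.index.factorization p := by
  have hMprime : M.IsPrime := hM.2.1.isPrime
  have hMtop : M ≠ ⊤ := Ideal.IsPrime.ne_top hMprime
  have hp : p.Prime := hM.1
  have : Fintype (ConjClasses G) := Fintype.ofFinite _
  obtain ⟨χ, hχB, θ, hθ, hcon⟩ := hcov
  obtain ⟨hFcf, hidem, hR⟩ := extZero_blockCoeff_facts (M := M) N hb hst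
  have hall := constituents_mem_of_stabilizes N hst χ.2 hθ hcon
  have h1 := omegaF_extZero_of_all N χ.2 b hall
  have hcl := Cfsg.Agent.Lib.Helper4.isClassFunction_of_isIrrCharacter χ.2
  rw [omegaF_eq_sum_classes hcl _ hFcf] at h1
  have h2 : ∃ C : ConjClasses G, ¬ MemLocalIdeal M
      (extZero N (blockCoeff b) (Quotient.out C) *
        centralChar (χ : G → ℂ) (Quotient.out C)) := by
    by_contra hcon'
    push Not at hcon'
    have := memLocalIdeal_sum Finset.univ
      (fun C : ConjClasses G =>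
        extZero N (blockCoeff b) (Quotient.out C) * centralChar (χ : G → ℂ) (Quotient.out C))
      (fun C _ => hcon' C)
    rw [h1] at this
    exact not_memLocalIdeal_one hMtop this
  obtain ⟨C, hC⟩ := h2
  set c₀ := Quotient.out C with hc₀
  obtain ⟨hc0N, -, -, hall0⟩ := fong_class N hM hb hst χ.2 hθ hcon hC
  have hωχ0 : ¬ MemLocalIdeal M (centralChar (χ : G → ℂ) c₀) := hall0 _ χ.2 ⟨θ, hθ, hcon⟩
  have hcardP : Nat.card P = p ^ blockDefect p B := Cfsg.Agent.S0908.result p M hM B hB P hP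
  obtain ⟨gP, hgP, P', hPeq⟩ := hP
  obtain ⟨x, Q, hle⟩ := (Cfsg.Agent.S0911.result p M hM B hB gP hgP P' c₀).2 ⟨χ, hχB, hωχ0⟩
  rw [← hPeq] at hle
  -- the conjugate class
  set c₁ := x⁻¹ * c₀ * x with hc₁
  have hc1 : ¬ MemLocalIdeal M
      (extZero N (blockCoeff b) c₁ * centralChar (χ : G → ℂ) c₁) := by
    have e1 : c₁ = x⁻¹ * c₀ * x⁻¹⁻¹ := by rw [inv_inv]
    rw [e1, hFcf c₀ x⁻¹, centralChar_conj hcl]
    exact hC
  obtain ⟨hc1N, hdc1, hndvd1, -⟩ := fong_class N hM hb hst χ.2 hθ hcon hc1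
  obtain ⟨B'', hB'', hover'', hdc''⟩ := fong_block N hM hb hst χ.2 hθ hcon hc1
  have hdef'' : blockDefect p B'' ≤ blockDefect p B := by
    obtain ⟨χ'', hχ''⟩ := block_nonempty hB''
    exact hmax B'' hB'' ⟨χ'', hχ'', hover'' χ'' hχ''⟩
  -- `P ≤ C_G(c₁)`
  have hPA : P ≤ Subgroup.centralizer {c₁} := by
    intro y hy
    have h3 : x * y * x⁻¹ ∈ (P.map (MulAut.conj x).toMonoidHom) :=
      Subgroup.mem_map.mpr ⟨y, hy, by simp [MulAut.conj_apply]⟩
    obtain ⟨z, -, hz⟩ := Subgroup.mem_map.mp (hle h3)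
    have hz2 := z.2
    rw [Subgroup.mem_centralizer_singleton_iff] at hz2
    rw [Subgroup.mem_centralizer_singleton_iff]
    have hz' : (z : G) = x * y * x⁻¹ := hz
    rw [hz'] at hz2
    calc y * c₁ = x⁻¹ * ((x * y * x⁻¹) * c₀) * x := by rw [hc₁]; group
      _ = x⁻¹ * (c₀ * (x * y * x⁻¹)) * x := by rw [hz2]
      _ = c₁ * y := by rw [hc₁]; group
  have hPp : IsPGroup p P := by
    rw [hPeq]
    exact P'.isPGroup'.map _
  obtain ⟨Q₁, hQ₁⟩ := IsPGroup.exists_le_sylow
    (hPp.comap_subtype (K := Subgroup.centralizer ({c₁} : Set G)))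
  set D1 : Subgroup G := (Q₁ : Subgroup (Subgroup.centralizer ({c₁} : Set G))).map
    (Subgroup.centralizer ({c₁} : Set G)).subtype with hD1
  have hPD1 : P ≤ D1 := by
    intro u hu
    rw [hD1, Subgroup.mem_map]
    refine ⟨⟨u, hPA hu⟩, hQ₁ ?_, rfl⟩
    rw [Subgroup.mem_comap]
    exact hu
  have hD1def : IsDefectGroup p M B'' D1 := ⟨c₁, hdc'', Q₁, rfl⟩
  have hcardD1 : Nat.card D1 = p ^ blockDefect p B'' :=
    Cfsg.Agent.S0908.result p M hM B'' hB'' D1 hD1def
  have hcard : Nat.card D1 ≤ Nat.card P := by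
    rw [hcardD1, hcardP]
    exact Nat.pow_le_pow_right hp.pos hdef''
  have hPD : P = D1 := Subgroup.eq_of_le_of_card_ge hPD1 hcard
  have hrel : ¬ p ∣ P.relIndex (Subgroup.centralizer {c₁}) := by
    unfold Subgroup.relIndex
    have : P.subgroupOf (Subgroup.centralizer {c₁}) = Q₁ := by
      rw [hPD, hD1]
      exact Subgroup.comap_map_eq_self_of_injective (Subgroup.subtype_injective _) _
    rw [this]
    exact Q₁.not_dvd_index
  -- index arithmetic
  have hidx := relIndex_sup_mul_relIndex_inf N hPA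
  have hx1 : ¬ p ∣ (P ⊔ N).relIndex (Subgroup.centralizer {c₁} ⊔ N) := fun h =>
    hrel (hidx ▸ Dvd.dvd.mul_right h _)
  have hy1 : ¬ p ∣ (P ⊓ N).relIndex (Subgroup.centralizer {c₁} ⊓ N) := fun h =>
    hrel (hidx ▸ Dvd.dvd.mul_left h _)
  have hPN : ¬ p ∣ (P ⊔ N).index := by
    rw [← Subgroup.relIndex_mul_index (sup_le_sup_right hPA N)]
    intro h
    rcases (Nat.Prime.dvd_mul hp).mp h with h | h
    · exact hx1 h
    · exact hndvd1 h
  -- the defect group of `b`
  have hAN : Subgroup.centralizer {(⟨c₁, hc1N⟩ : N)} =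
      (Subgroup.centralizer {c₁}).subgroupOf N := by
    ext n
    rw [Subgroup.mem_centralizer_singleton_iff, Subgroup.mem_subgroupOf,
      Subgroup.mem_centralizer_singleton_iff]
    constructor
    · intro h
      exact congrArg Subtype.val h
    · intro h
      exact Subtype.ext h
  have hRle : (P ⊓ N).subgroupOf N ≤ Subgroup.centralizer {(⟨c₁, hc1N⟩ : N)} := by
    rw [hAN]
    intro n hn
    exact hPA (Subgroup.mem_subgroupOf.mp hn).1
  have hRp : IsPGroup p (((P ⊓ N).subgroupOf N).subgroupOf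
      (Subgroup.centralizer {(⟨c₁, hc1N⟩ : N)})) :=
    ((hPp.to_le inf_le_left).comap_subtype).comap_subtype
  have hidxR : ¬ p ∣ (((P ⊓ N).subgroupOf N).subgroupOf
      (Subgroup.centralizer {(⟨c₁, hc1N⟩ : N)})).index := by
    have e : (((P ⊓ N).subgroupOf N).subgroupOf
        (Subgroup.centralizer {(⟨c₁, hc1N⟩ : N)})).index =
        ((P ⊓ N).subgroupOf N).relIndex (Subgroup.centralizer {(⟨c₁, hc1N⟩ : N)}) := rfl
    rw [e, hAN, ← Subgroup.inf_subgroupOf_right (Subgroup.centralizer {c₁}) N,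
      Subgroup.relIndex_subgroupOf inf_le_right]
    exact hy1
  have hRdef : IsDefectGroup p M b ((P ⊓ N).subgroupOf N) := by
    refine ⟨⟨c₁, hc1N⟩, hdc1, hRp.toSylow hidxR, ?_⟩
    show (P ⊓ N).subgroupOf N = (((P ⊓ N).subgroupOf N).subgroupOf
      (Subgroup.centralizer {(⟨c₁, hc1N⟩ : N)})).map _
    rw [Subgroup.subgroupOf_map_subtype, inf_eq_left.mpr hRle]
  refine ⟨hPN, hRdef, ?_⟩
  -- the defects
  have hcardR : Nat.card ((P ⊓ N).subgroupOf N) = p ^ blockDefect p b :=
    Cfsg.Agent.S0908.result p M hM b hb _ hRdef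
  have hcardR' : Nat.card ((P ⊓ N).subgroupOf N) = Nat.card (P ⊓ N : Subgroup G) :=
    card_subgroupOf_inf P N
  have hmul : Nat.card (P ⊓ N : Subgroup G) * (P ⊓ N).relIndex P = Nat.card P := by
    have := Subgroup.card_mul_index ((P ⊓ N).subgroupOf P)
    rw [card_subgroupOf_of_le inf_le_left] at this
    exact this
  have hNidx := Subgroup.relIndex_mul_index (le_sup_right : N ≤ P ⊔ N)
  rw [Subgroup.relIndex_sup_right P N, ← Subgroup.inf_relIndex_left P N] at hNidx
  rw [← hcardR', hcardR, hcardP] at hmul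
  have hdle : blockDefect p b ≤ blockDefect p B := by
    have : p ^ blockDefect p b ∣ p ^ blockDefect p B := Dvd.intro _ hmul
    exact (Nat.pow_dvd_pow_iff_le_right hp.one_lt).mp this
  have hk : (P ⊓ N).relIndex P = p ^ (blockDefect p B - blockDefect p b) := by
    have : p ^ blockDefect p b * (P ⊓ N).relIndex P =
        p ^ blockDefect p b * p ^ (blockDefect p B - blockDefect p b) := by
      rw [hmul, ← pow_add, Nat.add_sub_cancel' hdle]
    exact Nat.eq_of_mul_eq_mul_left (pow_pos hp.pos _) this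
  have hfac : N.index.factorization p = blockDefect p B - blockDefect p b := by
    rw [← hNidx, hk, Nat.factorization_mul (pow_ne_zero _ hp.ne_zero)
      Subgroup.index_ne_zero_of_finite, Finsupp.add_apply,
      Nat.factorization_eq_zero_of_not_dvd hPN, add_zero, hp.factorization_pow]
    simp
  omega

omit [Fintype G] hN in
theorem classInner_inst_irrel {K : Type*} [Group K] (i1 i2 : Fintype K) (f g : K → ℂ) :
    @classInner K _ i1 f g = @classInner K _ i2 f g := by
  have : i1 = i2 := Subsingleton.elim _ _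
  rw [this]

/-- Fong's theorem in the form of statement S0970 -/
theorem fong' {p : ℕ} [Fact p.Prime] (hM : IsPModular p M) [iN : Fintype N]
    {b : Set (IrrCharacter N)} (hb : IsPBlock M b)
    (hinv : ∀ g : G, ∀ θ ∈ b, ∀ θ' : IrrCharacter N,
      (∀ n : N, (θ' : N → ℂ) n = (θ : N → ℂ) ⟨g * n * g⁻¹, hN.conj_mem n n.2 g⟩) → θ' ∈ b)
    {B : Set (IrrCharacter G)} (hB : IsPBlock M B)
    (hcov : ∃ χ ∈ B, ∃ θ ∈ b,
      classInner (fun n : N => (χ : G → ℂ) n) ((θ : IrrCharacter N) : N → ℂ) ≠ 0)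
    (hmax : ∀ B' : Set (IrrCharacter G), IsPBlock M B' →
      (∃ χ ∈ B', ∃ θ ∈ b,
        classInner (fun n : N => (χ : G → ℂ) n) ((θ : IrrCharacter N) : N → ℂ) ≠ 0) →
      blockDefect p B' ≤ blockDefect p B)
    {P : Subgroup G} (hP : IsDefectGroup p M B P) :
    ¬ p ∣ (P ⊔ N).index ∧ IsDefectGroup p M b ((P ⊓ N).subgroupOf N) ∧
      blockDefect p B = blockDefect p b + N.index.factorization p := by
  have hinv2 : ∀ φ ∈ b, ∀ x : G, ∀ φ' : IrrCharacter N,
      (φ' : N → ℂ) = conjFunN N (φ : N → ℂ) x → φ' ∈ b := by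
    intro φ hφ x φ' h
    exact hinv x φ hφ φ' (fun n => by rw [h]; rfl)
  have hst := stabilizes_of_conjFunN_mem N hinv2
  refine fong N hM hb hst hB ?_ ?_ hP
  · obtain ⟨χ, hχ, θ, hθ, h⟩ := hcov
    refine ⟨χ, hχ, θ, hθ, ?_⟩
    rw [classInner_inst_irrel _ iN]
    exact h
  · intro B' hB' ⟨χ, hχ, θ, hθ, h⟩
    refine hmax B' hB' ⟨χ, hχ, θ, hθ, ?_⟩
    rw [classInner_inst_irrel _ iN] at h
    exact h

end

end Cfsg.Agent.Lib.Helper4
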