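import Mathlib
import Cfsg.Agent.Lib.Helper4.BrauerFong

set_option autoImplicit false

/-!
# Stable blocks of a normal subgroup of `p`-power index (helper4)
-/

namespace Cfsg.Agent.Lib.Helper4

open Cfsg Cfsg.Agent.Lib.Helper28 Cfsg.Agent.Lib.Helper26
open scoped ComplexConjugate Classical

section

variable {G : Type*} [Group G] [Fintype G] {M : Ideal AlgInt} (N : Subgroup G) [hN : N.Normal]

omit [Fintype G] in
/-- an element outside a normal subgroup of `p`-power index has order divisible by `p` -/
theorem dvd_orderOf_of_not_mem [Finite G] {p : ℕ} [Fact p.Prime] {k : ℕ}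
    (hNk : N.index = p ^ k) {g : G} (hg : g ∉ N) : p ∣ orderOf g := by
  have h1 : orderOf (QuotientGroup.mk' N g) ∣ orderOf g := orderOf_map_dvd _ g
  have h2 : orderOf (QuotientGroup.mk' N g) ∣ p ^ k := by
    rw [← hNk, Subgroup.index]
    exact orderOf_dvd_natCard _
  obtain ⟨j, hj, hj2⟩ := (Nat.dvd_prime_pow (Fact.out : p.Prime)).mp h2
  have hne : orderOf (QuotientGroup.mk' N g) ≠ 1 := by
    intro h
    rw [orderOf_eq_one_iff] at h
    apply hg
    exact (QuotientGroup.eq_one_iff g).mp h
  have hj0 : j ≠ 0 := by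
    rintro rfl
    exact hne (by rw [hj2, pow_zero])
  have : p ∣ orderOf (QuotientGroup.mk' N g) := by
    rw [hj2]
    exact dvd_pow_self p hj0
  exact this.trans h1

/-- a block of `G` contained in the support of the idempotent of the stable block `c` of the
normal subgroup `N` of `p`-power index has the idempotent of `c` -/
theorem blockCoeff_eq_of_subset_idemSupport {p : ℕ} [Fact p.Prime] (hM : IsPModular p M) {k : ℕ}
    (hNk : N.index = p ^ k) {c : Set (IrrCharacter N)} (hc : IsPBlock M c)
    (hst : ∀ t : G, StabilizesBlock N c t) {B₁ : Set (IrrCharacter G)} (hB₁ : IsPBlock M B₁)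
    (hsub : B₁ ⊆ idemSupport (extZero N (blockCoeff c))) :
    blockCoeff B₁ = extZero N (blockCoeff c) := by
  have hMprime : M.IsPrime := hM.2.1.isPrime
  have hMtop : M ≠ ⊤ := Ideal.IsPrime.ne_top hMprime
  obtain ⟨hFcf, hidem, hR⟩ := extZero_blockCoeff_facts (M := M) N hc hst
  set F := extZero N (blockCoeff c) with hF
  have hFeq := eq_blockCoeff_of_idem hFcf hidem
  set f := blockCoeff B₁ with hf
  have hfcf : IsClassFunction G f := isClassFunction_blockCoeff B₁
  -- `f` vanishes off `N`
  have hvan : ∀ g, g ∉ N → f g = 0 := by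
    intro g hg
    exact Cfsg.Agent.Lib.Helper28.blockCoeff_eq_zero_of_pSingular hM B₁ (fun g => osima hB₁ g) g
      (dvd_orderOf_of_not_mem N hNk hg)
  have hFf : conv F f = f := by
    rw [hFeq, hf, conv_blockCoeff_inter, Set.inter_eq_right.mpr hsub]
  have hff : conv f f = f := by
    rw [hf, conv_blockCoeff_inter, Set.inter_self]
  set a : N → ℂ := resTo N f with ha
  have hfa : extZero N a = f := extZero_resTo N f hvan
  have hacf : IsClassFunction N a := by
    apply isClassFunction_resTo
    intro x _ g
    exact hfcf g x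
  have haa : conv a a = a := by
    have := conv_extZero N a a
    rw [hfa, hff] at this
    have h2 := congrArg (resTo N) this
    rw [resTo_extZero] at h2
    exact h2.symm
  have hca : conv (blockCoeff c) a = a := by
    have := conv_extZero N (blockCoeff c) a
    rw [hfa, ← hF, hFf] at this
    have h2 := congrArg (resTo N) this
    rw [resTo_extZero] at h2
    exact h2.symm
  have haR : ∀ n : N, MemLocalRing M (a n) := fun n => osima hB₁ _
  have haeq := eq_blockCoeff_of_idem hacf haa
  have hTclosed := idemSupport_closed (M := M) hacf haa haR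
  set T := idemSupport a with hT
  have hTsub : T ⊆ c := by
    rw [haeq, conv_blockCoeff_inter] at hca
    have := blockCoeff_injective hca
    intro ψ hψ
    rw [← this] at hψ
    exact hψ.1
  have hTne : T.Nonempty := by
    by_contra hempty
    rw [Set.not_nonempty_iff_eq_empty] at hempty
    obtain ⟨χ, hχ⟩ := block_nonempty hB₁
    have h0 : f = blockCoeff (∅ : Set (IrrCharacter G)) := by
      rw [← hfa, haeq, hempty]
      funext g
      rw [blockCoeff_empty]
      by_cases hg : g ∈ N
      · have := extZero_mem' N (blockCoeff (∅ : Set (IrrCharacter N))) ⟨g, hg⟩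
        simp only at this
        rw [this, blockCoeff_empty]
      · rw [extZero_not_mem' N _ hg]
    have := blockCoeff_injective h0
    rw [this] at hχ
    exact hχ
  have hTc : T = c := eq_block_of_closed_subset hc hTclosed hTne hTsub
  rw [← hfa, haeq, hTc]

/-- **Stable blocks of a normal subgroup of `p`-power index** (statement S4672) -/
theorem stable_block_p_index {p : ℕ} [Fact p.Prime] (hM : IsPModular p M)
    (hNk : ∃ k : ℕ, N.index = p ^ k) {c : Set (IrrCharacter N)} (hc : IsPBlock M c)
    (hst : ∀ t : G, StabilizesBlock N c t) :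
    (∃ B : Set (IrrCharacter G), IsPBlock M B ∧
      ∀ g : G, blockCoeff B g = subgroupBlockCoeff N c g) ∧
    ∀ B : Set (IrrCharacter G), IsPBlock M B →
      (∀ g : G, blockCoeff B g = subgroupBlockCoeff N c g) →
      ∀ P : Subgroup G, IsDefectGroup p M B P →
        N ⊔ P = ⊤ ∧ IsDefectGroup p M c ((P ⊓ N).subgroupOf N) := by
  have hMprime : M.IsPrime := hM.2.1.isPrime
  have hMtop : M ≠ ⊤ := Ideal.IsPrime.ne_top hMprime
  have hp : p.Prime := hM.1
  obtain ⟨k, hk⟩ := hNk
  obtain ⟨hFcf, hidem, hR⟩ := extZero_blockCoeff_facts (M := M) N hc hst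
  have hFeq := eq_blockCoeff_of_idem hFcf hidem
  have hclosed := idemSupport_closed (M := M) hFcf hidem hR
  constructor
  · have hSne : (idemSupport (extZero N (blockCoeff c))).Nonempty := by
      by_contra hempty
      rw [Set.not_nonempty_iff_eq_empty] at hempty
      obtain ⟨θ, hθ⟩ := block_nonempty hc
      have h0 : blockCoeff c = blockCoeff (∅ : Set (IrrCharacter N)) := by
        funext n
        rw [blockCoeff_empty, ← extZero_mem' N (blockCoeff c) n, hFeq, hempty, blockCoeff_empty]
      have := blockCoeff_injective h0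
      rw [this] at hθ
      exact hθ
    obtain ⟨χ, hχ⟩ := hSne
    have hB₁ : IsPBlock M (blockOf M (χ : G → ℂ)) := ⟨χ, rfl⟩
    have hsub : blockOf M (χ : G → ℂ) ⊆ idemSupport (extZero N (blockCoeff c)) :=
      fun φ hφ => hclosed χ hχ φ hφ
    refine ⟨blockOf M (χ : G → ℂ), hB₁, fun g => ?_⟩
    rw [blockCoeff_eq_of_subset_idemSupport N hM hk hc hst hB₁ hsub]
    rfl
  · intro B hB hBc P hP
    have hBF : blockCoeff B = extZero N (blockCoeff c) := by
      funext g
      rw [hBc g]
      rfl
    have hBS : B = idemSupport (extZero N (blockCoeff c)) := by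
      rw [← hBF, idemSupport_blockCoeff]
    have hover : ∀ χ ∈ B, ∃ θ ∈ c,
        classInner ((χ : G → ℂ) ∘ N.subtype) ((θ : IrrCharacter N) : N → ℂ) ≠ 0 := by
      intro χ hχ
      by_contra hnone
      push Not at hnone
      have h0 := omegaF_extZero_of_none N (χ : G → ℂ) c hnone
      rw [hBS] at hχ
      have h1 : omegaF (χ : G → ℂ) (extZero N (blockCoeff c)) = 1 := hχ
      rw [h0] at h1
      exact zero_ne_one h1
    obtain ⟨χ₀, hχ₀⟩ := block_nonempty hB
    have hcov : ∃ χ ∈ B, ∃ θ ∈ c,
        classInner ((χ : G → ℂ) ∘ N.subtype) ((θ : IrrCharacter N) : N → ℂ) ≠ 0 :=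
      ⟨χ₀, hχ₀, hover χ₀ hχ₀⟩
    have hmax : ∀ B' : Set (IrrCharacter G), IsPBlock M B' →
        (∃ χ ∈ B', ∃ θ ∈ c,
          classInner ((χ : G → ℂ) ∘ N.subtype) ((θ : IrrCharacter N) : N → ℂ) ≠ 0) →
        blockDefect p B' ≤ blockDefect p B := by
      intro B' hB' ⟨χ', hχ', θ', hθ', hcon'⟩
      have hall := constituents_mem_of_stabilizes N hst χ'.2 hθ' hcon'
      have h1 := omegaF_extZero_of_all N χ'.2 c hall
      have hmem : χ' ∈ B := by
        rw [hBS]
        exact h1
      rw [block_eq_of_mem hB' hB hχ' hmem]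
    obtain ⟨h1, h2, -⟩ := fong N hM hc hst hB hcov hmax hP
    refine ⟨?_, h2⟩
    rw [sup_comm]
    have hdvd : (P ⊔ N).index ∣ p ^ k := by
      rw [← hk]
      exact Subgroup.index_dvd_of_le le_sup_right
    obtain ⟨j, hj, hj2⟩ := (Nat.dvd_prime_pow hp).mp hdvd
    have hj0 : j = 0 := by
      by_contra hne
      apply h1
      rw [hj2]
      exact dvd_pow_self p hne
    rw [hj0, pow_zero] at hj2
    exact Subgroup.index_eq_one.mp hj2

end

end Cfsg.Agent.Lib.Helper4
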