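import Mathlib
import Cfsg.Agent.Lib.Helper4.BrauerFongP

set_option autoImplicit false

/-!
# Blocks and normal subgroups: central characters of constituents (helper4)
-/

namespace Cfsg.Agent.Lib.Helper4

open Cfsg Cfsg.Agent.Lib.Helper28 Cfsg.Agent.Lib.Helper26
open scoped Classical

section

variable {G : Type*} [Group G] [Fintype G] {M : Ideal AlgInt} (N : Subgroup G) [hN : N.Normal]

/-- the central character of `ξ` at a `G`-invariant function supported on `N`, in terms of a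
constituent `θ` of `ξ_N` -/
theorem omegaF_extZero_of_constituent {ξ : G → ℂ} (hξ : IsIrrCharacter G ξ) {θ : N → ℂ}
    (hθ : IsIrrCharacter N θ) (hcon : classInner (ξ ∘ N.subtype) θ ≠ 0) (γ : N → ℂ)
    (hγ : ∀ (g : G) (n : N), γ ⟨g * n * g⁻¹, hN.conj_mem n n.2 g⟩ = γ n) :
    omegaF ξ (extZero N γ) = omegaF θ γ := by
  have h := clifford_restrict N hξ hθ hcon
  set m := classInner (ξ ∘ N.subtype) θ with hm
  set I := Finset.univ.image (conjFunN N θ) with hI
  have hval : ∀ n : N, ξ (n : G) = m * ∑ ψ ∈ I, ψ n := by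
    intro n
    have := congrFun h n
    simpa using this
  have hsum : ∀ ψ ∈ I, ∑ n : N, γ n * ψ n = ∑ n : N, γ n * θ n := by
    intro ψ hψ
    obtain ⟨g, -, rfl⟩ := Finset.mem_image.mp hψ
    refine Fintype.sum_equiv (MulAut.conjNormal g : N ≃* N).toEquiv _ _ (fun n => ?_)
    have e1 : ((MulAut.conjNormal g : N ≃* N) n) = ⟨g * n * g⁻¹, hN.conj_mem n n.2 g⟩ := by
      apply Subtype.ext
      rw [MulAut.conjNormal_apply]
    show γ n * conjFunN N θ g n = γ ((MulAut.conjNormal g : N ≃* N) n) *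
      θ ((MulAut.conjNormal g : N ≃* N) n)
    rw [e1, hγ g n]
    rfl
  have hone : ∀ ψ ∈ I, ψ 1 = θ 1 := by
    intro ψ hψ
    obtain ⟨g, -, rfl⟩ := Finset.mem_image.mp hψ
    unfold conjFunN
    refine congrArg θ (Subtype.ext ?_)
    simp
  have h1 : ξ 1 = m * (I.card * θ 1) := by
    have := hval 1
    rw [Finset.sum_congr rfl hone, Finset.sum_const, nsmul_eq_mul] at this
    simpa using this
  have hξ1 : ξ 1 ≠ 0 := irr_one_ne_zero hξ
  have hm0 : m ≠ 0 := hcon
  have hI0 : (I.card : ℂ) ≠ 0 := by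
    intro h0
    apply hξ1
    rw [h1, h0]
    ring
  have hθ1 : θ 1 ≠ 0 := irr_one_ne_zero hθ
  unfold omegaF
  rw [sum_extZero_mul' N γ ξ]
  have h2 : ∑ n : N, γ n * ξ (n : G) = m * (I.card * ∑ n : N, γ n * θ n) := by
    calc ∑ n : N, γ n * ξ (n : G) = ∑ n : N, ∑ ψ ∈ I, m * (γ n * ψ n) := by
          refine Finset.sum_congr rfl fun n _ => ?_
          rw [hval n, Finset.mul_sum, Finset.mul_sum]
          refine Finset.sum_congr rfl fun ψ _ => ?_
          ring
      _ = ∑ ψ ∈ I, m * ∑ n : N, γ n * ψ n := by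
          rw [Finset.sum_comm]
          refine Finset.sum_congr rfl fun ψ _ => ?_
          rw [Finset.mul_sum]
      _ = ∑ ψ ∈ I, m * ∑ n : N, γ n * θ n := by
          refine Finset.sum_congr rfl fun ψ hψ => ?_
          rw [hsum ψ hψ]
      _ = m * (I.card * ∑ n : N, γ n * θ n) := by
          rw [Finset.sum_const, nsmul_eq_mul]
          ring
  rw [h2, h1]
  field_simp

/-- **uniqueness of the covering block for `p`-power index**: if `ξ ∈ g` lies over `θ` and `ξ₂`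
lies over a character in the block of `θ`, then `ξ₂ ∈ g` -/
theorem mem_block_of_over_pIndex {p : ℕ} [Fact p.Prime] (hM : IsPModular p M) {k : ℕ}
    (hNk : N.index = p ^ k) {g : Set (IrrCharacter G)} (hg : IsPBlock M g)
    {ξ ξ₂ : IrrCharacter G} (hξ : ξ ∈ g) {θ θ₂ : IrrCharacter N}
    (hcon : classInner ((ξ : G → ℂ) ∘ N.subtype) (θ : N → ℂ) ≠ 0)
    (hcon₂ : classInner ((ξ₂ : G → ℂ) ∘ N.subtype) (θ₂ : N → ℂ) ≠ 0)
    (hsb : SameBlock M (θ : N → ℂ) (θ₂ : N → ℂ)) : ξ₂ ∈ g := by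
  have hMprime : M.IsPrime := hM.2.1.isPrime
  set f := blockCoeff g with hf
  have hfcf : IsClassFunction G f := isClassFunction_blockCoeff g
  have hvan : ∀ x, x ∉ N → f x = 0 := by
    intro x hx
    exact Cfsg.Agent.Lib.Helper28.blockCoeff_eq_zero_of_pSingular hM g (fun x => osima hg x) x
      (dvd_orderOf_of_not_mem N hNk hx)
  have hff : conv f f = f := by
    rw [hf, conv_blockCoeff_inter, Set.inter_self]
  set a : N → ℂ := resTo N f with ha
  have hfa : extZero N a = f := extZero_resTo N f hvan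
  have hacf : IsClassFunction N a := by
    apply isClassFunction_resTo
    intro x _ y
    exact hfcf y x
  have hainv : ∀ (x : G) (n : N), a ⟨x * n * x⁻¹, hN.conj_mem n n.2 x⟩ = a n := by
    intro x n
    exact hfcf (n : G) x
  have haa : conv a a = a := by
    have := conv_extZero N a a
    rw [hfa, hff] at this
    have h2 := congrArg (resTo N) this
    rw [resTo_extZero] at h2
    exact h2.symm
  have haR : ∀ n : N, MemLocalRing M (a n) := fun n => osima hg _
  have hclosed := idemSupport_closed (M := M) hacf haa haR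
  have e1 : omegaF (ξ : G → ℂ) f = omegaF (θ : N → ℂ) a := by
    rw [← hfa]
    exact omegaF_extZero_of_constituent N ξ.2 θ.2 hcon a hainv
  have e2 : omegaF (ξ₂ : G → ℂ) f = omegaF (θ₂ : N → ℂ) a := by
    rw [← hfa]
    exact omegaF_extZero_of_constituent N ξ₂.2 θ₂.2 hcon₂ a hainv
  have h1 : omegaF (ξ : G → ℂ) f = 1 := by
    rw [hf, omegaF_blockCoeff, if_pos hξ]
  have hθT : θ ∈ idemSupport a := by
    show omegaF (θ : N → ℂ) a = 1
    rw [← e1, h1]
  have hθ₂T : θ₂ ∈ idemSupport a := hclosed θ hθT θ₂ hsb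
  have h2 : omegaF (ξ₂ : G → ℂ) f = 1 := by
    rw [e2]
    exact hθ₂T
  rw [hf, omegaF_blockCoeff] at h2
  by_contra hcon3
  rw [if_neg hcon3] at h2
  exact zero_ne_one h2

/-- blocks of `N` covered by the same block of `G` are conjugate -/
theorem exists_conj_sameBlock [M.IsPrime] {ξ ξ₂ : IrrCharacter G}
    (hBl : SameBlock M (ξ : G → ℂ) (ξ₂ : G → ℂ)) {θ θ₂ : IrrCharacter N}
    (hcon : classInner ((ξ : G → ℂ) ∘ N.subtype) (θ : N → ℂ) ≠ 0)
    (hcon₂ : classInner ((ξ₂ : G → ℂ) ∘ N.subtype) (θ₂ : N → ℂ) ≠ 0) :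
    ∃ x : G, SameBlock M (conjFunN N (θ : N → ℂ) x) (θ₂ : N → ℂ) := by
  have hMtop : M ≠ ⊤ := Ideal.IsPrime.ne_top inferInstance
  have hb : IsPBlock M (blockOf M (θ : N → ℂ)) := ⟨θ, rfl⟩
  have hθb : θ ∈ blockOf M (θ : N → ℂ) := sameBlock_refl hMtop _
  obtain ⟨φ, hφS, hφcon⟩ := covering_key N ξ.2 ξ₂.2 hBl (conjOrbit N (blockOf M (θ : N → ℂ)))
    (fun φ hφ φ' h => conjOrbit_closed N hb φ hφ φ' h)
    (fun φ hφ x φ' h => conjOrbit_stable N φ x hφ φ' h)
    (fun φ hφ => by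
      by_contra hnot
      apply hφ
      apply classInner_restrict_eq_zero N ξ.2 θ.2 φ.2 hcon
      intro x hx
      exact hnot ⟨x, θ, hθb, hx⟩)
  obtain ⟨x₁, θ', hθ', hφeq⟩ := hφS
  have hsb1 : SameBlock M (θ : N → ℂ) (θ' : N → ℂ) := hθ'
  -- `θ₂` is a conjugate of `φ`
  have hconj : ∃ x₂ : G, (θ₂ : N → ℂ) = conjFunN N (φ : N → ℂ) x₂ := by
    by_contra hnot
    push Not at hnot
    exact hcon₂ (classInner_restrict_eq_zero N ξ₂.2 φ.2 θ₂.2 hφcon hnot)
  obtain ⟨x₂, hx₂⟩ := hconj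
  refine ⟨x₁ * x₂, ?_⟩
  rw [hx₂, hφeq, conjFunN_mul, ← conjFunN_mul, ← conjFunN_mul]
  exact sameBlock_conjFunN N (sameBlock_conjFunN N hsb1 x₁) x₂

end

end Cfsg.Agent.Lib.Helper4
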