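import Mathlib
import Cfsg.Agent.Lib.Helper4.BlockPIndex
import Cfsg.Agent.Lib.Helper28.BrauerS
import Cfsg.Agent.Lib.Helper26.IndChar
import Cfsg.Agent.Lib.Helper26.TIInd

set_option autoImplicit false

/-!
# The principal block and normal subgroups (helper4)
-/

namespace Cfsg.Agent.Lib.Helper4

open Cfsg Cfsg.Agent.Lib.Helper28 Cfsg.Agent.Lib.Helper26
open scoped ComplexConjugate Classical

section

variable {G : Type*} [Group G] [Fintype G] {M : Ideal AlgInt} (N : Subgroup G) [hN : N.Normal]

/-- the constituents of the restriction of a character of the principal block lie in the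
principal block of the normal subgroup -/
theorem constituent_mem_principalBlock [M.IsPrime] {χ : IrrCharacter G}
    (hχ : χ ∈ principalBlock M G) {θ : IrrCharacter N}
    (hcon : classInner ((χ : G → ℂ) ∘ N.subtype) (θ : N → ℂ) ≠ 0) :
    θ ∈ principalBlock M N := by
  have hBl : SameBlock M ((trivIrr G : IrrCharacter G) : G → ℂ) (χ : G → ℂ) := hχ
  have h1 : classInner (((trivIrr G : IrrCharacter G) : G → ℂ) ∘ N.subtype)
      ((trivIrr N : IrrCharacter N) : N → ℂ) ≠ 0 := by
    have : (((trivIrr G : IrrCharacter G) : G → ℂ) ∘ N.subtype) =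
        ((trivIrr N : IrrCharacter N) : N → ℂ) := rfl
    rw [this, Cfsg.Agent.Lib.Helper4.classInner_irr (trivIrr N) (trivIrr N), if_pos rfl]
    exact one_ne_zero
  obtain ⟨x, hx⟩ := exists_conj_sameBlock N hBl h1 hcon
  exact hx


omit hN in
/-- every character of the principal block of a normal subgroup lies under a character of the
principal block of the group -/
theorem exists_over_principalBlock {p : ℕ} [Fact p.Prime] (hM : IsPModular p M)
    {θ : IrrCharacter N} (hθ : θ ∈ principalBlock M N) :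
    ∃ χ ∈ principalBlock M G, classInner ((χ : G → ℂ) ∘ N.subtype) (θ : N → ℂ) ≠ 0 := by
  have : Fintype (IrrCharacter G) := Fintype.ofFinite _
  have hMtop : M ≠ ⊤ := hM.2.1.ne_top
  by_contra hcon
  push Not at hcon
  have hcf := isClassFunction_pRegInd (G := G) p
  -- expansion of the indicator of the `p`-regular elements
  have hexp := Cfsg.Agent.Lib.Helper4.classFunction_expansion (pRegInd G p) hcf
  -- Frobenius reciprocity
  have h1 : classInner (indFun N (θ : N → ℂ)) (pRegInd G p) =
      classInner (θ : N → ℂ) (pRegInd N p) := by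
    rw [classInner_indFun_left' N _ _ hcf]
    have : pRegInd G p ∘ N.subtype = pRegInd N p := resMap_pRegInd N p
    rw [this]
  -- the left side vanishes
  have h2 : classInner (indFun N (θ : N → ℂ)) (pRegInd G p) = 0 := by
    rw [hexp]
    have : ∀ (s : Finset (IrrCharacter G)),
        classInner (indFun N (θ : N → ℂ))
          (∑ χ ∈ s, classInner (pRegInd G p) (χ : G → ℂ) • (χ : G → ℂ)) = 0 := by
      intro s
      induction s using Finset.induction_on with
      | empty => simp [classInner_zero_right]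
      | insert χ s hχs ih =>
        rw [Finset.sum_insert hχs, classInner_add_right, ih, add_zero, classInner_smul_right]
        by_cases hχ : χ ∈ principalBlock M G
        · rw [classInner_indFun_left' N _ _ (Helper26.isClassFunction_of_isIrrCharacter χ.2)]
          have h3 := hcon χ hχ
          have h4 : classInner (θ : N → ℂ) ((χ : G → ℂ) ∘ N.subtype) = 0 := by
            rw [← classInner_conj_symm, h3, map_zero]
          rw [h4, mul_zero]
        · have h3 := omegaF_pRegInd_eq_zero hM χ hχ
          have h4 : classInner (pRegInd G p) (χ : G → ℂ) = 0 := by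
            unfold omegaF at h3
            have h5 : ∑ g, pRegInd G p g * (χ : G → ℂ) g = 0 := by
              rcases div_eq_zero_iff.mp h3 with h | h
              · exact h
              · exact absurd h (irr_one_ne_zero χ.2)
            unfold classInner
            have h6 : ∑ g, pRegInd G p g * conj ((χ : G → ℂ) g) =
                conj (∑ g, pRegInd G p g * (χ : G → ℂ) g) := by
              rw [map_sum]
              refine Finset.sum_congr rfl fun g _ => ?_
              rw [map_mul]
              congr 1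
              unfold pRegInd
              split_ifs <;> simp
            rw [h6, h5, map_zero, mul_zero]
          rw [h4, map_zero, zero_mul]
    exact this Finset.univ
  -- the right side does not
  have h3 := omegaF_pRegInd_of_mem_principalBlock hM θ hθ
  apply h3
  have h4 : omegaF (θ : N → ℂ) (pRegInd N p) = 0 := by
    unfold omegaF
    have h5 : ∑ g, pRegInd N p g * (θ : N → ℂ) g = 0 := by
      rw [h2] at h1
      unfold classInner at h1
      have hne : (Nat.card N : ℂ)⁻¹ ≠ 0 := by
        apply inv_ne_zero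
        exact_mod_cast (Nat.card_pos (α := N)).ne'
      have h6 := (mul_eq_zero.mp h1.symm).resolve_left hne
      rw [← h6]
      refine Finset.sum_congr rfl fun g _ => ?_
      rw [mul_comm]
      congr 1
      unfold pRegInd
      split_ifs <;> simp
    rw [h5, zero_div]
  rw [h4]
  exact memLocalIdeal_zero hMtop


omit [Fintype G] in
theorem charDegree_eq_of_one_eq {χ : G → ℂ} {d : ℕ} (h : χ 1 = d) : charDegree χ = d := by
  unfold charDegree
  rw [h, Complex.natCast_re, Nat.floor_natCast]

omit [Fintype G] in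
theorem irr_one_eq_charDegree (χ : IrrCharacter G) :
    (χ : G → ℂ) 1 = (charDegree (χ : G → ℂ) : ℂ) := by
  obtain ⟨d, -, hd⟩ := irr_degree χ.2
  rw [charDegree_eq_of_one_eq hd, hd]

omit [Fintype G] in
theorem irr_charDegree_pos (χ : IrrCharacter G) : 0 < charDegree (χ : G → ℂ) := by
  obtain ⟨d, hd0, hd⟩ := irr_degree χ.2
  rw [charDegree_eq_of_one_eq hd]
  exact hd0

omit hN in
/-- degree of a restriction -/
theorem charDegree_eq_sum_restrict [Fintype (IrrCharacter N)] (χ : IrrCharacter G)
    (m : IrrCharacter N → ℕ)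
    (hm : ∀ θ : IrrCharacter N, classInner ((χ : G → ℂ) ∘ N.subtype) (θ : N → ℂ) = m θ) :
    charDegree (χ : G → ℂ) = ∑ θ : IrrCharacter N, m θ * charDegree (θ : N → ℂ) := by
  have hcf : IsClassFunction N ((χ : G → ℂ) ∘ N.subtype) :=
    Helper26.isClassFunction_of_isCharacter
      (isCharacter_restrict N (Helper26.isCharacter_of_isIrrCharacter χ.2))
  have hexp := Cfsg.Agent.Lib.Helper4.classFunction_expansion _ hcf
  have h1 := congrFun hexp 1
  simp only [Finset.sum_apply, Pi.smul_apply, smul_eq_mul, Function.comp_apply] at h1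
  have h2 : (N.subtype 1 : G) = 1 := map_one _
  rw [h2, irr_one_eq_charDegree χ] at h1
  have h3 : ((charDegree (χ : G → ℂ) : ℕ) : ℂ) =
      ((∑ θ : IrrCharacter N, m θ * charDegree (θ : N → ℂ) : ℕ) : ℂ) := by
    rw [h1]
    push_cast
    refine Finset.sum_congr rfl fun θ _ => ?_
    rw [hm θ, irr_one_eq_charDegree θ]
  exact_mod_cast h3

omit hN in
/-- degree of an induced character -/
theorem index_mul_charDegree_eq_sum [Fintype (IrrCharacter G)] (θ : IrrCharacter N)
    (m : IrrCharacter G → ℕ)
    (hm : ∀ χ : IrrCharacter G, classInner ((χ : G → ℂ) ∘ N.subtype) (θ : N → ℂ) = m χ) :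
    N.index * charDegree (θ : N → ℂ) = ∑ χ : IrrCharacter G, m χ * charDegree (χ : G → ℂ) := by
  have hcf : IsClassFunction G (indFun N (θ : N → ℂ)) := isClassFunction_indFun N _
  have hexp := Cfsg.Agent.Lib.Helper4.classFunction_expansion _ hcf
  have h1 := congrFun hexp 1
  simp only [Finset.sum_apply, Pi.smul_apply, smul_eq_mul] at h1
  have hdeg : indFun N (θ : N → ℂ) 1 = (N.index : ℂ) * (θ : N → ℂ) 1 := by
    have hcK : (Nat.card ↥N : ℂ) ≠ 0 := by
      have : Nat.card ↥N ≠ 0 := Nat.card_pos.ne'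
      exact_mod_cast this
    rw [indFun_one, ← Nat.card_eq_fintype_card, ← Subgroup.card_mul_index N]
    push_cast
    field_simp
  rw [hdeg, irr_one_eq_charDegree θ] at h1
  have h3 : ((N.index * charDegree (θ : N → ℂ) : ℕ) : ℂ) =
      ((∑ χ : IrrCharacter G, m χ * charDegree (χ : G → ℂ) : ℕ) : ℂ) := by
    push_cast
    rw [h1]
    refine Finset.sum_congr rfl fun χ _ => ?_
    rw [classInner_indFun_left' N _ _ (Helper26.isClassFunction_of_isIrrCharacter χ.2),
      ← classInner_conj_symm, hm χ, irr_one_eq_charDegree χ, Complex.conj_natCast]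
  exact_mod_cast h3


/-- **S4708**: the dimension of the principal block and normal subgroups -/
theorem principal_sq_sum_le {p : ℕ} [Fact p.Prime] (hM : IsPModular p M) :
    (∑ᶠ θ ∈ principalBlock M N, charDegree (θ : N → ℂ) ^ 2) ≤
        (∑ᶠ χ ∈ principalBlock M G, charDegree (χ : G → ℂ) ^ 2) ∧
      (∑ᶠ χ ∈ principalBlock M G, charDegree (χ : G → ℂ) ^ 2) ≤
        N.index * ∑ᶠ θ ∈ principalBlock M N, charDegree (θ : N → ℂ) ^ 2 := by
  have hMprime : M.IsPrime := hM.2.1.isPrime
  have : Fintype (IrrCharacter G) := Fintype.ofFinite _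
  have : Fintype (IrrCharacter N) := Fintype.ofFinite _
  have hnat : ∀ (χ : IrrCharacter G) (θ : IrrCharacter N), ∃ n : ℕ,
      classInner ((χ : G → ℂ) ∘ N.subtype) (θ : N → ℂ) = n := fun χ θ =>
    classInner_isCharacter_nat
      (isCharacter_restrict N (Helper26.isCharacter_of_isIrrCharacter χ.2))
      (Helper26.isCharacter_of_isIrrCharacter θ.2)
  choose m hm using hnat
  obtain ⟨A, hA⟩ : ∃ A : Finset (IrrCharacter G), ∀ χ, χ ∈ A ↔ χ ∈ principalBlock M G :=
    ⟨(Set.toFinite (principalBlock M G)).toFinset, fun χ => Set.Finite.mem_toFinset _⟩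
  obtain ⟨C, hC⟩ : ∃ C : Finset (IrrCharacter N), ∀ θ, θ ∈ C ↔ θ ∈ principalBlock M N :=
    ⟨(Set.toFinite (principalBlock M N)).toFinset, fun θ => Set.Finite.mem_toFinset _⟩
  have hsumG : (∑ᶠ χ ∈ principalBlock M G, charDegree (χ : G → ℂ) ^ 2) =
      ∑ χ ∈ A, charDegree (χ : G → ℂ) ^ 2 := by
    apply finsum_mem_eq_sum_of_inter_support_eq
    ext χ
    simp only [Set.mem_inter_iff, Finset.mem_coe, hA]
  have hsumN : (∑ᶠ θ ∈ principalBlock M N, charDegree (θ : N → ℂ) ^ 2) =
      ∑ θ ∈ C, charDegree (θ : N → ℂ) ^ 2 := by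
    apply finsum_mem_eq_sum_of_inter_support_eq
    ext θ
    simp only [Set.mem_inter_iff, Finset.mem_coe, hC]
  rw [hsumG, hsumN]
  -- facts
  have hF1 : ∀ χ ∈ A, charDegree (χ : G → ℂ) =
      ∑ θ ∈ C, m χ θ * charDegree (θ : N → ℂ) := by
    intro χ hχ
    rw [charDegree_eq_sum_restrict N χ (m χ) (hm χ)]
    symm
    apply Finset.sum_subset (Finset.subset_univ C)
    intro θ _ hθ
    have h0 : m χ θ = 0 := by
      by_contra hne
      apply hθ
      rw [hC]
      apply constituent_mem_principalBlock N ((hA χ).mp hχ)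
      rw [hm χ θ]
      exact_mod_cast hne
    rw [h0, zero_mul]
  have hF2 : ∀ θ : IrrCharacter N, N.index * charDegree (θ : N → ℂ) =
      ∑ χ : IrrCharacter G, m χ θ * charDegree (χ : G → ℂ) := fun θ =>
    index_mul_charDegree_eq_sum N θ (fun χ => m χ θ) (fun χ => hm χ θ)
  have hkey : ∑ χ ∈ A, charDegree (χ : G → ℂ) ^ 2 =
      ∑ θ ∈ C, charDegree (θ : N → ℂ) * ∑ χ ∈ A, m χ θ * charDegree (χ : G → ℂ) := by
    calc ∑ χ ∈ A, charDegree (χ : G → ℂ) ^ 2
        = ∑ χ ∈ A, ∑ θ ∈ C, charDegree (θ : N → ℂ) * (m χ θ * charDegree (χ : G → ℂ)) := by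
          refine Finset.sum_congr rfl fun χ hχ => ?_
          rw [sq]
          nth_rewrite 1 [hF1 χ hχ]
          rw [Finset.sum_mul]
          refine Finset.sum_congr rfl fun θ _ => ?_
          ring
      _ = ∑ θ ∈ C, ∑ χ ∈ A, charDegree (θ : N → ℂ) * (m χ θ * charDegree (χ : G → ℂ)) :=
          Finset.sum_comm
      _ = _ := by
          refine Finset.sum_congr rfl fun θ _ => ?_
          rw [Finset.mul_sum]
  rw [hkey]
  constructor
  · apply Finset.sum_le_sum
    intro θ hθ
    rw [sq]
    apply Nat.mul_le_mul_left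
    obtain ⟨χ₀, hχ₀, hcon⟩ := exists_over_principalBlock N hM ((hC θ).mp hθ)
    have hχ₀A : χ₀ ∈ A := (hA χ₀).mpr hχ₀
    have hm0 : 1 ≤ m χ₀ θ := by
      rw [Nat.one_le_iff_ne_zero]
      intro h0
      apply hcon
      rw [hm χ₀ θ, h0]
      simp
    have h1 : m χ₀ θ * charDegree (χ₀ : G → ℂ) ≤
        ∑ χ ∈ A, m χ θ * charDegree (χ : G → ℂ) :=
      Finset.single_le_sum (f := fun χ => m χ θ * charDegree (χ : G → ℂ))
        (fun _ _ => Nat.zero_le _) hχ₀A
    have h2 : m χ₀ θ * charDegree (θ : N → ℂ) ≤ charDegree (χ₀ : G → ℂ) := by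
      rw [hF1 χ₀ hχ₀A]
      exact Finset.single_le_sum (f := fun θ' => m χ₀ θ' * charDegree (θ' : N → ℂ))
        (fun _ _ => Nat.zero_le _) hθ
    calc charDegree (θ : N → ℂ) = 1 * charDegree (θ : N → ℂ) := (one_mul _).symm
      _ ≤ m χ₀ θ * charDegree (θ : N → ℂ) := Nat.mul_le_mul_right _ hm0
      _ ≤ charDegree (χ₀ : G → ℂ) := h2
      _ = 1 * charDegree (χ₀ : G → ℂ) := (one_mul _).symm
      _ ≤ m χ₀ θ * charDegree (χ₀ : G → ℂ) := Nat.mul_le_mul_right _ hm0
      _ ≤ _ := h1
  · rw [Finset.mul_sum]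
    apply Finset.sum_le_sum
    intro θ _
    have h1 : ∑ χ ∈ A, m χ θ * charDegree (χ : G → ℂ) ≤
        ∑ χ : IrrCharacter G, m χ θ * charDegree (χ : G → ℂ) :=
      Finset.sum_le_sum_of_subset (Finset.subset_univ A)
    rw [← hF2 θ] at h1
    calc charDegree (θ : N → ℂ) * ∑ χ ∈ A, m χ θ * charDegree (χ : G → ℂ)
        ≤ charDegree (θ : N → ℂ) * (N.index * charDegree (θ : N → ℂ)) :=
          Nat.mul_le_mul_left _ h1
      _ = N.index * charDegree (θ : N → ℂ) ^ 2 := by ring

end

end Cfsg.Agent.Lib.Helper4
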