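import Cfsg.Prelude
import Cfsg.Agent.Lib.Helper4.GaloisChar
import Cfsg.Agent.Lib.Helper4.CharIntegral
import Cfsg.Agent.Lib.Helper4.CharOrtho
import Cfsg.Agent.Lib.Helper4.CommCount
import Cfsg.Agent.Lib.Helper26.IndChar
import Cfsg.Agent.Lib.Helper26.CharInt
import Cfsg.Agent.Lib.Helper26.CharBasic

set_option autoImplicit false
open Cfsg
open scoped ComplexConjugate

namespace Cfsg.Agent.Lib.Helper4

open Cfsg.Agent.Lib.Helper26

section Galois

variable {G : Type*} [Group G] [Fintype G]

theorem isClassFunction_pow (f : G → ℂ) (hf : IsClassFunction G f) (m : ℕ) :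
    IsClassFunction G (fun g => f (g ^ m)) := by
  intro g k
  show f ((k * g * k⁻¹) ^ m) = f (g ^ m)
  rw [conj_pow]
  exact hf _ _

/-- twisting both arguments by a coprime power preserves the inner product -/
theorem classInner_pow_pow (f h : G → ℂ) (m : ℕ) (hm : m.Coprime (Nat.card G)) :
    classInner (fun g => f (g ^ m)) (fun g => h (g ^ m)) = classInner f h := by
  unfold classInner
  congr 1
  have := Equiv.sum_comp (powCoprime hm.symm) (fun g => f g * conj (h g))
  simpa using this

/-- `Σ_a φ(a⁻¹) κ(a) = |G| ⟨φ, κ⟩` for a character `κ` -/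
theorem sum_inv_mul_char {V : Type*} [AddCommGroup V] [Module ℂ V] [FiniteDimensional ℂ V]
    (τ : Representation ℂ G V) (φ : G → ℂ) :
    ∑ a, φ a⁻¹ * τ.character a = (Nat.card G : ℂ) * classInner φ τ.character := by
  unfold classInner
  have hG : (Nat.card G : ℂ) ≠ 0 := Nat.cast_ne_zero.mpr Nat.card_pos.ne'
  rw [← mul_assoc, mul_inv_cancel₀ hG, one_mul]
  have := Equiv.sum_comp (Equiv.inv G) (fun a => φ a⁻¹ * τ.character a)
  rw [← this]
  refine Finset.sum_congr rfl fun a _ => ?_
  simp only [Equiv.inv_apply, inv_inv]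
  rw [character_inv]

/-- the coefficients of a Galois twist of an irreducible character -/
theorem twist_coeff (n : ℕ) (ρ : Representation ℂ G (Fin n → ℂ)) (hρ : ρ.IsIrreducible)
    (m : ℕ) (hm : m.Coprime (Nat.card G)) (μ : IrrCharacter G) :
    classInner (fun g => ρ.character (g ^ m)) (μ : G → ℂ) = 0 ∨
      classInner (fun g => ρ.character (g ^ m)) (μ : G → ℂ) = (μ : G → ℂ) 1 / (n : ℂ) := by
  classical
  have : Fintype (IrrCharacter G) := Fintype.ofFinite _
  have hN : 0 < Nat.card G := Nat.card_pos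
  have hG : (Nat.card G : ℂ) ≠ 0 := Nat.cast_ne_zero.mpr hN.ne'
  have hn0 : (n : ℂ) ≠ 0 := by
    have := finrank_ne_zero_of_irreducible ρ hρ
    simpa using this
  set φ : G → ℂ := fun g => ρ.character (g ^ m) with hφ
  have hcf : IsClassFunction G ρ.character := fun g h => Representation.char_conj ρ g h
  have hφcf : IsClassFunction G φ := isClassFunction_pow _ hcf m
  -- the idempotent relation
  obtain ⟨σ, hσ⟩ := exists_embedding_pow (Nat.card G) hN m hm
  have hidem : ∀ x, ∑ a, φ a⁻¹ * φ (x * a) = (Nat.card G : ℂ) / (n : ℂ) * φ x := by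
    intro x
    have hK : ∑ a, charK ρ a⁻¹ * charK ρ (x * a) =
        ((Nat.card G : cycK (Nat.card G)) / (n : cycK (Nat.card G))) * charK ρ x := by
      apply Subtype.ext
      have h1 := sum_char_inv_mul_char ρ hρ x
      simp only [Module.finrank_fin_fun] at h1
      rw [AddSubmonoidClass.coe_finsetSum]
      simp only [IntermediateField.coe_mul, IntermediateField.coe_div,
        SubringClass.coe_natCast, coe_charK]
      exact h1
    have h2 := congrArg σ hK
    simp only [map_sum, map_mul, map_div₀, map_natCast, embedding_charK ρ σ m hσ] at h2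
    exact h2
  -- expansion
  have hexp := classFunction_expansion φ hφcf
  set c : IrrCharacter G → ℂ := fun κ => classInner φ (κ : G → ℂ) with hc
  have hκsum : ∀ (κ : IrrCharacter G) (x : G), ∑ a, φ a⁻¹ * (κ : G → ℂ) (x * a) =
      (Nat.card G : ℂ) * c κ / (κ : G → ℂ) 1 * (κ : G → ℂ) x := by
    intro κ x
    obtain ⟨k, τ, hτ, hτκ⟩ := κ.2
    have hF : IsClassFunction G (fun a => φ a⁻¹) := by
      intro g k'
      show φ (k' * g * k'⁻¹)⁻¹ = φ g⁻¹
      have : (k' * g * k'⁻¹)⁻¹ = k' * g⁻¹ * k'⁻¹ := by group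
      rw [this]
      exact hφcf _ _
    have h1 := sum_mul_char_mul τ hτ (fun a => φ a⁻¹) hF x
    rw [sum_inv_mul_char τ φ] at h1
    simp only [hc]
    rw [← hτκ, Representation.char_one]
    exact h1
  -- the two sides
  have hlhs : ∀ x, ∑ a, φ a⁻¹ * φ (x * a) =
      ∑ κ : IrrCharacter G, c κ * ((Nat.card G : ℂ) * c κ / (κ : G → ℂ) 1) * (κ : G → ℂ) x := by
    intro x
    have h1 : ∀ a, φ (x * a) = ∑ κ : IrrCharacter G, c κ * (κ : G → ℂ) (x * a) := by
      intro a
      have := congrFun hexp (x * a)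
      simpa using this
    simp only [h1, Finset.mul_sum]
    rw [Finset.sum_comm]
    refine Finset.sum_congr rfl fun κ _ => ?_
    have h2 : ∀ a, φ a⁻¹ * (c κ * (κ : G → ℂ) (x * a)) = c κ * (φ a⁻¹ * (κ : G → ℂ) (x * a)) := by
      intro a; ring
    simp only [h2]
    rw [← Finset.mul_sum, hκsum κ x]
    ring
  have hrhs : ∀ x, (Nat.card G : ℂ) / (n : ℂ) * φ x =
      ∑ κ : IrrCharacter G, ((Nat.card G : ℂ) / (n : ℂ) * c κ) * (κ : G → ℂ) x := by
    intro x
    have := congrFun hexp x
    simp only [Finset.sum_apply, Pi.smul_apply, smul_eq_mul] at this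
    rw [this, Finset.mul_sum]
    refine Finset.sum_congr rfl fun κ _ => ?_
    ring
  have hfun : (∑ κ : IrrCharacter G,
      (c κ * ((Nat.card G : ℂ) * c κ / (κ : G → ℂ) 1) - (Nat.card G : ℂ) / (n : ℂ) * c κ) •
        (κ : G → ℂ)) = 0 := by
    funext x
    simp only [Finset.sum_apply, Pi.smul_apply, smul_eq_mul, Pi.zero_apply, sub_mul]
    rw [Finset.sum_sub_distrib, ← hlhs x, ← hrhs x, hidem x, sub_self]
  have hcoef := congrArg (fun f => classInner f (μ : G → ℂ)) hfun
  simp only [classInner_sum_left, classInner_smul_left, classInner_zero_left] at hcoef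
  have horth : ∀ κ : IrrCharacter G, classInner (κ : G → ℂ) (μ : G → ℂ) = if κ = μ then 1 else 0 := by
    intro κ
    rw [Cfsg.Agent.Lib.Helper26.classInner_irr κ.2 μ.2]
    congr 1
    exact propext ⟨fun h => Subtype.ext h, fun h => congrArg Subtype.val h⟩
  simp only [horth, mul_ite, mul_one, mul_zero, Finset.sum_ite_eq', Finset.mem_univ, if_true] at hcoef
  obtain ⟨dμ, hdμ, hμ1⟩ := irr_degree μ.2
  have hμ0 : (μ : G → ℂ) 1 ≠ 0 := by
    rw [hμ1]
    exact Nat.cast_ne_zero.mpr hdμ.ne'
  by_cases h0 : c μ = 0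
  · left; exact h0
  · right
    show c μ = _
    have h4 : c μ * (n : ℂ) = (μ : G → ℂ) 1 := by
      have h5 : (Nat.card G : ℂ) * c μ * (c μ * (n : ℂ) - (μ : G → ℂ) 1) = 0 := by
        have h6 : c μ * ((Nat.card G : ℂ) * c μ / (μ : G → ℂ) 1) - (Nat.card G : ℂ) / (n : ℂ) * c μ =
            (Nat.card G : ℂ) * c μ * (c μ * (n : ℂ) - (μ : G → ℂ) 1) / ((μ : G → ℂ) 1 * (n : ℂ)) := by
          field_simp
        rw [h6] at hcoef
        exact (div_eq_zero_iff.mp hcoef).resolve_right (mul_ne_zero hμ0 hn0)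
      rcases mul_eq_zero.mp h5 with h6 | h6
      · rcases mul_eq_zero.mp h6 with h7 | h7
        · exact absurd h7 hG
        · exact absurd h7 h0
      · exact sub_eq_zero.mp h6
    rw [eq_div_iff hn0]
    exact h4

/-- an inverse exponent -/
theorem exists_inv_pow (m : ℕ) (hm : m.Coprime (Nat.card G)) :
    ∃ m' : ℕ, m'.Coprime (Nat.card G) ∧ ∀ g : G, (g ^ m') ^ m = g ∧ (g ^ m) ^ m' = g := by
  have hN : 0 < Nat.card G := Nat.card_pos
  have hφ : 0 < Nat.totient (Nat.card G) := Nat.totient_pos.mpr hN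
  refine ⟨m ^ (Nat.totient (Nat.card G) - 1), Nat.Coprime.pow_left _ hm, ?_⟩
  have hmm : m * m ^ (Nat.totient (Nat.card G) - 1) = m ^ Nat.totient (Nat.card G) := by
    rw [← pow_succ']
    congr 1
    omega
  have hmod : m ^ Nat.totient (Nat.card G) ≡ 1 [MOD Nat.card G] := Nat.ModEq.pow_totient hm
  have key : ∀ g : G, g ^ (m ^ Nat.totient (Nat.card G)) = g := by
    intro g
    have h1 : m ^ Nat.totient (Nat.card G) ≡ 1 [MOD orderOf g] :=
      hmod.of_dvd (orderOf_dvd_natCard g)
    have h2 := pow_eq_pow_iff_modEq.mpr h1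
    rw [h2, pow_one]
  intro g
  constructor
  · rw [← pow_mul, mul_comm, hmm, key]
  · rw [← pow_mul, hmm, key]

/-- a Galois twist of an irreducible character is an irreducible character -/
theorem isIrrCharacter_pow (ν : G → ℂ) (hν : IsIrrCharacter G ν) (m : ℕ)
    (hm : m.Coprime (Nat.card G)) : IsIrrCharacter G (fun g => ν (g ^ m)) := by
  classical
  obtain ⟨n, ρ, hρ, rfl⟩ := hν
  obtain ⟨m', hm', hinv⟩ := exists_inv_pow (G := G) m hm
  set φ : G → ℂ := fun g => ρ.character (g ^ m) with hφ
  have hcf : IsClassFunction G ρ.character := fun g h => Representation.char_conj ρ g h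
  have hφcf : IsClassFunction G φ := isClassFunction_pow _ hcf m
  have hn0 : (n : ℂ) ≠ 0 := by
    have := finrank_ne_zero_of_irreducible ρ hρ
    simpa using this
  have hnat : ∀ μ : IrrCharacter G, ∃ k : ℕ, classInner φ (μ : G → ℂ) = k := by
    intro μ
    rcases twist_coeff n ρ hρ m hm μ with h | h
    · exact ⟨0, by rw [h]; simp⟩
    · obtain ⟨k, τ, hτ, hτμ⟩ := μ.2
      have hk0 : (k : ℂ) ≠ 0 := by
        have := finrank_ne_zero_of_irreducible τ hτ
        simpa using this
      have hsym : classInner φ (μ : G → ℂ) =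
          conj (classInner (fun g => τ.character (g ^ m')) ρ.character) := by
        rw [classInner_conj_symm]
        have h1 := classInner_pow_pow φ (μ : G → ℂ) m' hm'
        rw [← h1, ← hτμ]
        congr 1
        funext g
        simp only [hφ]
        rw [(hinv g).1]
      rcases twist_coeff k τ hτ m' hm' ⟨ρ.character, ⟨n, ρ, hρ, rfl⟩⟩ with h' | h'
      · refine ⟨0, ?_⟩
        rw [hsym]
        have h'' : classInner (fun g => τ.character (g ^ m')) ρ.character = 0 := h'
        rw [h'']
        simp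
      · refine ⟨1, ?_⟩
        have h'' : classInner (fun g => τ.character (g ^ m')) ρ.character =
            ρ.character 1 / (k : ℂ) := h'
        rw [h'', Representation.char_one] at hsym
        simp only [Module.finrank_fin_fun, map_div₀, Complex.conj_natCast] at hsym
        have hμ1 : (μ : G → ℂ) 1 = (k : ℂ) := by
          rw [← hτμ, Representation.char_one]
          simp
        rw [hμ1] at h
        -- k / n = n / k
        have h3 : (k : ℂ) / (n : ℂ) = (n : ℂ) / (k : ℂ) := by rw [← h, hsym]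
        rw [div_eq_div_iff hn0 hk0] at h3
        have h4 : k * k = n * n := by exact_mod_cast h3
        have h5 : k = n := by nlinarith [Nat.zero_le k, Nat.zero_le n]
        rw [h, h5, div_self hn0]
        simp
  have hchar : IsCharacter G φ := isCharacter_of_nat_coeff hφcf hnat
  have hgen := isGeneralizedCharacter_of_isCharacter hchar
  apply isIrrCharacter_of_norm_one hgen
  · rw [classInner_pow_pow ρ.character ρ.character m hm]
    rw [Cfsg.Agent.Lib.Helper26.classInner_irr ⟨n, ρ, hρ, rfl⟩ ⟨n, ρ, hρ, rfl⟩, if_pos rfl]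
  · simp only [hφ, one_pow, Representation.char_one, Module.finrank_fin_fun, Complex.natCast_re]
    have : n ≠ 0 := by
      intro h; apply hn0; rw [h]; simp
    exact_mod_cast Nat.pos_of_ne_zero this

/-- a Galois twist of a character is a character -/
theorem isCharacter_pow (χ : G → ℂ) (hχ : IsCharacter G χ) (m : ℕ)
    (hm : m.Coprime (Nat.card G)) : IsCharacter G (fun g => χ (g ^ m)) := by
  classical
  obtain ⟨m', hm', hinv⟩ := exists_inv_pow (G := G) m hm
  have hcf : IsClassFunction G χ := Cfsg.Agent.Lib.Helper26.isClassFunction_of_isCharacter hχ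
  apply isCharacter_of_nat_coeff (isClassFunction_pow _ hcf m)
  intro μ
  have hμ' : IsIrrCharacter G (fun g => (μ : G → ℂ) (g ^ m')) := isIrrCharacter_pow _ μ.2 m' hm'
  have h1 := classInner_pow_pow χ (fun g => (μ : G → ℂ) (g ^ m')) m hm
  have h2 : (fun g => (fun g => (μ : G → ℂ) (g ^ m')) (g ^ m)) = (μ : G → ℂ) := by
    funext g
    show (μ : G → ℂ) ((g ^ m) ^ m') = _
    rw [(hinv g).2]
  rw [h2] at h1
  rw [h1]
  exact classInner_isCharacter_nat hχ (isCharacter_of_isIrrCharacter hμ')

end Galois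

end Cfsg.Agent.Lib.Helper4
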