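import Mathlib
import Cfsg.Prelude.Def_Characters
import Cfsg.Agent.Lib.Helper4.RepEigen
import Cfsg.Agent.Lib.Helper4.CharIntegral
import Cfsg.Agent.Lib.Helper4.FaithfulIrr

set_option autoImplicit false

/-! `χ(1)² |A| ≤ |G|` for a central subgroup `A` and irreducible `χ`. -/

namespace Cfsg.Agent.Lib.Helper4

open scoped ComplexConjugate

variable {G : Type*} [Group G] [Fintype G]
variable {V : Type*} [AddCommGroup V] [Module ℂ V] [FiniteDimensional ℂ V]

/-- the norm-square sum of an irreducible character -/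
theorem sum_normSq_irr (ρ : Representation ℂ G V) (hirr : ρ.IsIrreducible) :
    ∑ g : G, Complex.normSq (ρ.character g) = (Nat.card G : ℝ) := by
  have h1 := sum_char_mul_char_inv ρ hirr
  have h2 : ∑ g : G, ρ.character g * ρ.character g⁻¹ =
      ((∑ g : G, Complex.normSq (ρ.character g) : ℝ) : ℂ) := by
    rw [Complex.ofReal_sum]
    refine Finset.sum_congr rfl fun g _ => ?_
    rw [character_inv, Complex.mul_conj]
  rw [h2] at h1
  exact_mod_cast h1

/-- `χ(1)² |A| ≤ |G|` for central `A` -/
theorem sq_degree_mul_card_le (ρ : Representation ℂ G V) (hirr : ρ.IsIrreducible)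
    (A : Subgroup G) (hA : A ≤ Subgroup.center G) :
    (Module.finrank ℂ V) ^ 2 * Nat.card A ≤ Nat.card G := by
  classical
  have htot := sum_normSq_irr ρ hirr
  have hA' : ∀ g ∈ A, Complex.normSq (ρ.character g) = ((Module.finrank ℂ V : ℝ)) ^ 2 := by
    intro g hg
    obtain ⟨c, hc⟩ := exists_scalar_of_mem_center ρ hirr g (hA hg)
    have h1 := (norm_character_eq_finrank_iff (ρ := ρ) (g := g)).mpr ⟨c, hc⟩
    rw [Complex.normSq_eq_norm_sq, h1]
  have hsub : ∑ g ∈ Finset.univ.filter (fun g : G => g ∈ A), Complex.normSq (ρ.character g) ≤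
      ∑ g : G, Complex.normSq (ρ.character g) := by
    apply Finset.sum_le_sum_of_subset_of_nonneg (Finset.filter_subset _ _)
    intro g _ _
    exact Complex.normSq_nonneg _
  have hA2 : ∑ g ∈ Finset.univ.filter (fun g : G => g ∈ A), Complex.normSq (ρ.character g) =
      ((Finset.univ.filter (fun g : G => g ∈ A)).card : ℝ) * ((Module.finrank ℂ V : ℝ)) ^ 2 := by
    rw [Finset.sum_congr rfl (fun g hg => hA' g (Finset.mem_filter.mp hg).2), Finset.sum_const,
      nsmul_eq_mul]
  have hcard : (Finset.univ.filter (fun g : G => g ∈ A)).card = Nat.card A := by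
    rw [Nat.card_eq_fintype_card, Fintype.card_subtype]
  rw [hA2, htot, hcard] at hsub
  have : ((Module.finrank ℂ V ^ 2 * Nat.card A : ℕ) : ℝ) ≤ (Nat.card G : ℝ) := by
    push_cast
    linarith
  exact_mod_cast this

end Cfsg.Agent.Lib.Helper4
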