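import Cfsg.Prelude
import Cfsg.Agent.Lib.Helper26.IndChar
import Cfsg.Agent.Lib.Helper26.CharBasic

set_option autoImplicit false
open Cfsg

namespace Cfsg.Agent.Lib.Helper4

open Cfsg.Agent.Lib.Helper26

/-- transitivity of induction for arbitrary functions -/
theorem indFun_trans' {G : Type*} [Group G] [Fintype G] (T : Subgroup G) [Fintype T]
    (K₀ : Subgroup T) (θ₀ : K₀ → ℂ) :
    indFun T (indFun K₀ θ₀) = indFun (K₀.map T.subtype)
      (fun k => θ₀ ((K₀.equivMapOfInjective T.subtype T.subtype_injective).symm k)) := by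
  classical
  set K' := K₀.map T.subtype with hK'
  set θ' : K' → ℂ :=
    fun k => θ₀ ((K₀.equivMapOfInjective T.subtype T.subtype_injective).symm k) with hθ'
  have hE : extendByZero K' θ' = extendByZero T (extendByZero K₀ θ₀) := by
    funext z
    by_cases hz : z ∈ T
    · rw [extendByZero_apply_mem T _ z hz]
      by_cases hz2 : (⟨z, hz⟩ : T) ∈ K₀
      · have hz3 : z ∈ K' := ⟨⟨z, hz⟩, hz2, rfl⟩
        rw [extendByZero_apply_mem K' _ z hz3, extendByZero_apply_mem K₀ _ _ hz2]
        simp only [hθ']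
        congr 1
        apply (K₀.equivMapOfInjective T.subtype T.subtype_injective).injective
        rw [MulEquiv.apply_symm_apply]
        apply Subtype.ext
        rfl
      · have hz3 : z ∉ K' := by
          rintro ⟨t, ht, rfl⟩
          exact hz2 ht
        rw [extendByZero_apply_not_mem K' _ z hz3, extendByZero_apply_not_mem K₀ _ _ hz2]
    · have hz3 : z ∉ K' := by
        rintro ⟨t, ht, rfl⟩
        exact hz t.2
      rw [extendByZero_apply_not_mem T _ z hz, extendByZero_apply_not_mem K' _ z hz3]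
  have hL : ∀ z : G, extendByZero T (indFun K₀ θ₀) z =
      (Nat.card K₀ : ℂ)⁻¹ * ∑ y : T, extendByZero K' θ' ((y : G)⁻¹ * z * y) := by
    intro z
    by_cases hz : z ∈ T
    · rw [extendByZero_apply_mem T _ z hz]
      show (Nat.card K₀ : ℂ)⁻¹ * ∑ y : T, extendByZero K₀ θ₀ (y⁻¹ * ⟨z, hz⟩ * y) = _
      congr 1
      refine Finset.sum_congr rfl fun y _ => ?_
      rw [hE]
      have : ((y : G)⁻¹ * z * y) = ((y⁻¹ * ⟨z, hz⟩ * y : T) : G) := rfl
      rw [this, extendByZero_apply_coe]
    · rw [extendByZero_apply_not_mem T _ z hz]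
      have h0 : ∀ y : T, extendByZero K' θ' ((y : G)⁻¹ * z * y) = 0 := by
        intro y
        apply extendByZero_apply_not_mem
        intro hmem
        apply hz
        have h1 : (y : G)⁻¹ * z * y ∈ T := by
          obtain ⟨t, _, ht⟩ := hmem
          rw [← ht]
          exact t.2
        have h2 := T.mul_mem (T.mul_mem y.2 h1) (T.inv_mem y.2)
        have h3 : (y : G) * ((y : G)⁻¹ * z * y) * (y : G)⁻¹ = z := by group
        rwa [h3] at h2
      simp [h0]
  funext g
  show (Nat.card T : ℂ)⁻¹ * ∑ x : G, extendByZero T (indFun K₀ θ₀) (x⁻¹ * g * x) =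
    (Nat.card K' : ℂ)⁻¹ * ∑ x : G, extendByZero K' θ' (x⁻¹ * g * x)
  simp only [hL]
  rw [← Finset.mul_sum, Finset.sum_comm]
  have hy : ∀ y : T, ∑ x : G, extendByZero K' θ' ((y : G)⁻¹ * (x⁻¹ * g * x) * y) =
      ∑ x : G, extendByZero K' θ' (x⁻¹ * g * x) := by
    intro y
    have := Equiv.sum_comp (Equiv.mulRight (y : G)) (fun x => extendByZero K' θ' (x⁻¹ * g * x))
    rw [← this]
    refine Finset.sum_congr rfl fun x _ => ?_
    simp [mul_assoc]
  simp only [hy]
  rw [Finset.sum_const, Finset.card_univ, nsmul_eq_mul, ← Nat.card_eq_fintype_card]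
  have hcard : Nat.card K' = Nat.card K₀ :=
    (Nat.card_congr (K₀.equivMapOfInjective T.subtype T.subtype_injective).toEquiv).symm
  rw [hcard]
  have hT : (Nat.card T : ℂ) ≠ 0 := Nat.cast_ne_zero.mpr Nat.card_pos.ne'
  field_simp

end Cfsg.Agent.Lib.Helper4
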