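import Cfsg.Prelude
import Cfsg.Agent.Lib.Helper4.IndTrans
import Cfsg.Agent.Lib.Helper4.Decomp
import Cfsg.Agent.Lib.Helper4.FaithfulIrr
import Cfsg.Agent.Lib.Helper4.RepEigen
import Cfsg.Agent.Lib.Helper4.CharIntegral

set_option autoImplicit false
open Cfsg

namespace Cfsg.Agent.Lib.Helper4

section L1

variable {G : Type*} [Group G] [Fintype G]
variable {V : Type*} [AddCommGroup V] [Module ℂ V] [FiniteDimensional ℂ V]

/-- an irreducible representation all of whose operators are scalars has degree one -/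
theorem finrank_eq_one_of_all_scalar (ρ : Representation ℂ G V) (hρ : ρ.IsIrreducible)
    (h : ∀ g, ∃ c : ℂ, ρ g = c • (LinearMap.id : V →ₗ[ℂ] V)) : Module.finrank ℂ V = 1 := by
  have h1 := sum_char_mul_char_inv ρ hρ
  have h2 : ∀ g, ρ.character g * ρ.character g⁻¹ = ((Module.finrank ℂ V : ℂ)) ^ 2 := by
    intro g
    rw [character_inv, Complex.mul_conj, Complex.normSq_eq_norm_sq,
      (norm_character_eq_finrank_iff ρ g).mpr (h g)]
    push_cast
    ring
  simp only [h2] at h1
  rw [Finset.sum_const, Finset.card_univ, nsmul_eq_mul, ← Nat.card_eq_fintype_card] at h1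
  have hG : (Nat.card G : ℂ) ≠ 0 := Nat.cast_ne_zero.mpr Nat.card_pos.ne'
  have h3 : ((Module.finrank ℂ V : ℂ)) ^ 2 = 1 := by
    apply mul_left_cancel₀ hG
    rw [h1, mul_one]
  have h4 : (Module.finrank ℂ V) ^ 2 = 1 := by exact_mod_cast h3
  rcases Nat.pow_eq_one.mp h4 with h5 | h5
  · exact h5
  · omega

/-- an irreducible representation with commuting operators has degree one -/
theorem finrank_eq_one_of_commute (ρ : Representation ℂ G V) (hρ : ρ.IsIrreducible)
    (h : ∀ g k, ρ g * ρ k = ρ k * ρ g) : Module.finrank ℂ V = 1 := by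
  apply finrank_eq_one_of_all_scalar ρ hρ
  intro g
  apply exists_scalar_of_commute ρ hρ
  intro k v
  have := LinearMap.congr_fun (h g k) v
  simpa using this

end L1

section QP

variable {G : Type*} [Group G] [Fintype G]
variable {V : Type*} [AddCommGroup V] [Module ℂ V] [FiniteDimensional ℂ V]

/-- a quasi-primitive irreducible representation of a nilpotent group is linear -/
theorem finrank_eq_one_of_quasiprimitive [Group.IsNilpotent G] (ρ : Representation ℂ G V)
    (hρ : ρ.IsIrreducible)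
    (hB : ∀ (N : Subgroup G) (hN : N.Normal) [Fintype N] (ϑ : N → ℂ), IsIrrCharacter N ϑ →
      classInner (fun n : N => ρ.character n) ϑ ≠ 0 →
      ∀ (g : G) (n : N), ϑ ⟨g * n * g⁻¹, hN.conj_mem (n : G) n.2 g⟩ = ϑ n) :
    Module.finrank ℂ V = 1 := by
  classical
  by_contra hne
  have hnt := nontrivial_of_irreducible ρ hρ
  -- the subgroup of elements acting centrally
  let φ : G →* (V →ₗ[ℂ] V)ˣ := ρ.asGroupHom
  let Z : Subgroup G := (Subgroup.center φ.range).comap φ.rangeRestrict
  have hZn : Z.Normal := Subgroup.Normal.comap inferInstance _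
  have hφ : ∀ g : G, ((φ g : (V →ₗ[ℂ] V)ˣ) : V →ₗ[ℂ] V) = ρ g := fun g => rfl
  have hZmem : ∀ g : G, g ∈ Z ↔ ∀ k : G, ρ k * ρ g = ρ g * ρ k := by
    intro g
    simp only [Z, Subgroup.mem_comap, Subgroup.mem_center_iff]
    constructor
    · intro h k
      have := h (φ.rangeRestrict k)
      have h2 := congrArg (fun x : φ.range => ((x : (V →ₗ[ℂ] V)ˣ) : V →ₗ[ℂ] V)) this
      exact h2
    · rintro h ⟨y, k, rfl⟩
      apply Subtype.ext
      apply Units.ext
      exact h k
  have hZtop : Z ≠ ⊤ := by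
    intro htop
    apply hne
    apply finrank_eq_one_of_commute ρ hρ
    intro g k
    have hg : g ∈ Z := by rw [htop]; trivial
    exact ((hZmem g).mp hg k).symm
  -- a nontrivial central element of the quotient
  have hQnt : Nontrivial (G ⧸ Z) := by
    rw [← not_subsingleton_iff_nontrivial]
    intro hsub
    apply hZtop
    exact QuotientGroup.subgroup_eq_top_of_subsingleton Z hsub
  have hcen := Group.IsNilpotent.center_ne_bot (G := G ⧸ Z)
  obtain ⟨⟨abar, habar⟩, hne1⟩ := (Subgroup.ne_bot_iff_exists_ne_one).mp hcen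
  have hne1' : abar ≠ 1 := fun h => hne1 (Subtype.ext h)
  obtain ⟨a, rfl⟩ := QuotientGroup.mk_surjective abar
  have haZ : a ∉ Z := by
    intro h
    apply hne1'
    exact (QuotientGroup.eq_one_iff a).mpr h
  let A : Subgroup G := (Subgroup.zpowers (a : G ⧸ Z)).comap (QuotientGroup.mk' Z)
  have hAmem : ∀ x : G, x ∈ A ↔ ∃ i : ℤ, (a ^ i)⁻¹ * x ∈ Z := by
    intro x
    simp only [A, Subgroup.mem_comap, Subgroup.mem_zpowers_iff, QuotientGroup.mk'_apply]
    constructor
    · rintro ⟨i, hi⟩
      refine ⟨i, ?_⟩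
      rw [← QuotientGroup.eq]
      rw [← hi]
      rfl
    · rintro ⟨i, hi⟩
      refine ⟨i, ?_⟩
      rw [← QuotientGroup.eq] at hi
      rw [← hi]
      rfl
  have haA : a ∈ A := by
    rw [hAmem]
    exact ⟨1, by simp [Z.one_mem]⟩
  have hAn : A.Normal := by
    constructor
    intro x hx g
    simp only [A, Subgroup.mem_comap, QuotientGroup.mk'_apply] at hx ⊢
    rw [QuotientGroup.mk_mul, QuotientGroup.mk_mul, QuotientGroup.mk_inv]
    have hxc : (x : G ⧸ Z) ∈ Subgroup.center (G ⧸ Z) := by
      obtain ⟨i, hi⟩ := Subgroup.mem_zpowers_iff.mp hx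
      rw [← hi]
      exact Subgroup.zpow_mem _ habar i
    have := (Subgroup.mem_center_iff.mp hxc) (g : G ⧸ Z)
    rw [this, mul_inv_cancel_right]
    exact hx
  -- operators of A commute
  have hAcomm : ∀ x ∈ A, ∀ y ∈ A, ρ x * ρ y = ρ y * ρ x := by
    intro x hx y hy
    obtain ⟨i, hi⟩ := (hAmem x).mp hx
    obtain ⟨j, hj⟩ := (hAmem y).mp hy
    obtain ⟨z₁, hz₁, hx'⟩ : ∃ z₁, z₁ ∈ Z ∧ x = a ^ i * z₁ := ⟨(a ^ i)⁻¹ * x, hi, by group⟩
    obtain ⟨z₂, hz₂, hy'⟩ : ∃ z₂, z₂ ∈ Z ∧ y = a ^ j * z₂ := ⟨(a ^ j)⁻¹ * y, hj, by group⟩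
    have hzi := (hZmem _).mp hz₁
    have hzj := (hZmem _).mp hz₂
    have haij : ρ (a ^ i) * ρ (a ^ j) = ρ (a ^ j) * ρ (a ^ i) := by
      rw [← map_mul, ← map_mul, ← zpow_add, ← zpow_add, add_comm]
    rw [hx', hy', map_mul, map_mul]
    calc ρ (a ^ i) * ρ z₁ * (ρ (a ^ j) * ρ z₂)
        = ρ (a ^ i) * (ρ z₁ * ρ (a ^ j)) * ρ z₂ := by
          simp only [mul_assoc]
      _ = ρ (a ^ i) * (ρ (a ^ j) * ρ z₁) * ρ z₂ := by
          rw [← hzi (a ^ j)]
      _ = ρ (a ^ i) * ρ (a ^ j) * (ρ z₁ * ρ z₂) := by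
          simp only [mul_assoc]
      _ = ρ (a ^ j) * ρ (a ^ i) * (ρ z₂ * ρ z₁) := by
          rw [haij, hzi z₂]
      _ = ρ (a ^ j) * (ρ (a ^ i) * ρ z₂) * ρ z₁ := by
          simp only [mul_assoc]
      _ = ρ (a ^ j) * (ρ z₂ * ρ (a ^ i)) * ρ z₁ := by
          rw [hzj (a ^ i)]
      _ = ρ (a ^ j) * ρ z₂ * (ρ (a ^ i) * ρ z₁) := by
          simp only [mul_assoc]
  -- an irreducible constituent of the restriction to A
  have : Fintype A := Fintype.ofFinite A
  let ρA : Representation ℂ A V := ρ.comp A.subtype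
  have hV : Module.finrank ℂ V ≠ 0 := by
    exact_mod_cast finrank_ne_zero_of_irreducible ρ hρ
  obtain ⟨m, τ, hτ, hcon⟩ := exists_irreducible_injective ρA hV
  obtain ⟨f, hf⟩ := exists_injective_of_classInner_ne_zero τ ρA hτ hcon
  have hτcomm : ∀ x y : A, τ x * τ y = τ y * τ x := by
    intro x y
    apply LinearMap.ext
    intro v
    apply hf
    simp only [Module.End.mul_apply]
    rw [f.isIntertwining, f.isIntertwining, f.isIntertwining, f.isIntertwining]
    have := LinearMap.congr_fun (hAcomm x x.2 y y.2) (f v)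
    simp only [Module.End.mul_apply] at this
    exact this
  have hm1 : Module.finrank ℂ (Fin m → ℂ) = 1 := finrank_eq_one_of_commute τ hτ hτcomm
  have hτsc : ∀ x : A, τ x = τ.character x • (LinearMap.id : (Fin m → ℂ) →ₗ[ℂ] (Fin m → ℂ)) := by
    intro x
    obtain ⟨c, hc⟩ := exists_scalar_of_commute τ hτ (τ x) (by
      intro k v
      have := LinearMap.congr_fun (hτcomm x k) v
      simpa using this)
    have : τ.character x = c := by
      unfold Representation.character
      rw [hc, map_smul, LinearMap.trace_id, hm1]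
      simp
    rw [this, hc]
  have hϑ : IsIrrCharacter A τ.character := ⟨m, τ, hτ, rfl⟩
  have hinv := hB A hAn τ.character hϑ hcon
  -- the isotypic subspace
  let W : Subrepresentation ρ :=
    { toSubmodule := ⨅ x : A, Module.End.eigenspace (ρ (x : G)) (τ.character x)
      apply_mem_toSubmodule := by
        intro g v hv
        rw [Submodule.mem_iInf] at hv ⊢
        intro x
        rw [Module.End.mem_eigenspace_iff]
        have hx' : g⁻¹ * x * g⁻¹⁻¹ ∈ A := hAn.conj_mem (x : G) x.2 g⁻¹
        have h1 := hv ⟨g⁻¹ * x * g⁻¹⁻¹, hx'⟩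
        rw [Module.End.mem_eigenspace_iff] at h1
        have h2 := hinv g⁻¹ x
        have h3 : ρ (x : G) (ρ g v) = ρ g (ρ (g⁻¹ * x * g⁻¹⁻¹) v) := by
          rw [← Module.End.mul_apply, ← Module.End.mul_apply, ← map_mul, ← map_mul]
          congr 2
          group
        rw [h3, h1, h2, map_smul] }
  have hWne : W ≠ ⊥ := by
    have hntT : Nontrivial (Fin m → ℂ) := nontrivial_of_irreducible τ hτ
    obtain ⟨w, hw⟩ := exists_ne (0 : Fin m → ℂ)
    intro hbot
    have hmem : f w ∈ W.toSubmodule := by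
      show f w ∈ ⨅ x : A, Module.End.eigenspace (ρ (x : G)) (τ.character x)
      rw [Submodule.mem_iInf]
      intro x
      rw [Module.End.mem_eigenspace_iff]
      have h1 := f.isIntertwining _ _ x w
      rw [hτsc x] at h1
      simp only [LinearMap.smul_apply, LinearMap.id_apply, map_smul] at h1
      exact h1.symm
    rw [hbot] at hmem
    have h0 : f w = 0 := (Submodule.mem_bot ℂ).mp hmem
    apply hw
    apply hf
    rw [h0, map_zero]
  have hWtop : W = ⊤ := by
    have := hρ
    rcases eq_bot_or_eq_top W with h | h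
    · exact absurd h hWne
    · exact h
  apply haZ
  rw [hZmem]
  intro k
  have hsc : ρ a = τ.character ⟨a, haA⟩ • (LinearMap.id : V →ₗ[ℂ] V) := by
    apply LinearMap.ext
    intro v
    have hv : v ∈ W.toSubmodule := by rw [hWtop]; trivial
    have hv' : v ∈ ⨅ x : A, Module.End.eigenspace (ρ (x : G)) (τ.character x) := hv
    rw [Submodule.mem_iInf] at hv'
    have := hv' ⟨a, haA⟩
    rw [Module.End.mem_eigenspace_iff] at this
    simpa using this
  rw [hsc]
  apply LinearMap.ext
  intro v
  simp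

end QP

section Lin

variable {G : Type*} [Group G]
variable {V : Type*} [AddCommGroup V] [Module ℂ V] [FiniteDimensional ℂ V]

/-- every operator on a one-dimensional space is its trace times the identity -/
theorem end_eq_trace_smul_of_finrank_eq_one (h : Module.finrank ℂ V = 1) (f : V →ₗ[ℂ] V) :
    f = LinearMap.trace ℂ V f • (LinearMap.id : V →ₗ[ℂ] V) := by
  obtain ⟨e, he0, hspan⟩ := finrank_eq_one_iff'.mp h
  obtain ⟨α, hα⟩ := hspan (f e)
  have hf : f = α • (LinearMap.id : V →ₗ[ℂ] V) := by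
    apply LinearMap.ext
    intro w
    obtain ⟨c, rfl⟩ := hspan w
    simp only [map_smul, ← hα, LinearMap.smul_apply, LinearMap.id_apply]
  have htr : LinearMap.trace ℂ V f = α := by
    rw [hf, map_smul, LinearMap.trace_id, h]
    simp
  rw [htr]
  exact hf

/-- the character of a one-dimensional representation is a homomorphism -/
theorem exists_hom_of_finrank_eq_one (ρ : Representation ℂ G V) (h : Module.finrank ℂ V = 1) :
    ∃ lam : G →* ℂˣ, ∀ g, ((lam g : ℂˣ) : ℂ) = ρ.character g := by
  have hsc : ∀ g, ρ g = ρ.character g • (LinearMap.id : V →ₗ[ℂ] V) :=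
    fun g => end_eq_trace_smul_of_finrank_eq_one h (ρ g)
  have h1 : ρ.character 1 = 1 := by
    rw [Representation.char_one, h]
    simp
  have hmul : ∀ a b, ρ.character (a * b) = ρ.character a * ρ.character b := by
    intro a b
    have : ρ (a * b) = (ρ.character a * ρ.character b) • (LinearMap.id : V →ₗ[ℂ] V) := by
      rw [map_mul, hsc a, hsc b]
      apply LinearMap.ext
      intro v
      simp only [Module.End.mul_apply, LinearMap.smul_apply, LinearMap.id_apply, map_smul, mul_smul]
      rw [smul_comm]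
    unfold Representation.character at this ⊢
    rw [this, map_smul, LinearMap.trace_id, h]
    simp
  let f : G →* ℂ := { toFun := ρ.character, map_one' := h1, map_mul' := hmul }
  exact ⟨f.toHomUnits, fun g => rfl⟩

/-- a class function is induced from itself on the whole group -/
theorem eq_indFun_top [Fintype G] (χ : G → ℂ) (hcf : IsClassFunction G χ) :
    χ = indFun (⊤ : Subgroup G) (fun h : (⊤ : Subgroup G) => χ h) := by
  funext g
  unfold indFun
  have h1 : ∀ x : G, extendByZero (⊤ : Subgroup G) (fun h : (⊤ : Subgroup G) => χ h)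
      (x⁻¹ * g * x) = χ g := by
    intro x
    rw [Cfsg.Agent.Lib.Helper26.extendByZero_apply_mem _ _ _ (Subgroup.mem_top _)]
    have := hcf g x⁻¹
    simpa using this
  simp only [h1]
  rw [Finset.sum_const, Finset.card_univ, nsmul_eq_mul, ← Nat.card_eq_fintype_card,
    Nat.card_congr (Subgroup.topEquiv (G := G)).toEquiv]
  have hG : (Nat.card G : ℂ) ≠ 0 := Nat.cast_ne_zero.mpr Nat.card_pos.ne'
  field_simp

end Lin

end Cfsg.Agent.Lib.Helper4
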