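import Cfsg.Prelude
import Cfsg.Agent.Lib.Helper4.Decomp
import Cfsg.Agent.Lib.Helper4.LinConst
import Cfsg.Agent.Lib.Helper4.CharOrtho
import Cfsg.Agent.Lib.Helper26.IndChar
import Cfsg.Agent.Lib.Helper26.TIInd

set_option autoImplicit false
open Cfsg

namespace Cfsg.Agent.Lib.Helper4

variable {G : Type*} [Group G] [Fintype G]
variable {V : Type*} [AddCommGroup V] [Module ℂ V] [FiniteDimensional ℂ V]

/-- if the irreducible `τ` of `H` is a constituent of the restriction of the irreducible `ρ`
of `G`, then `deg ρ ≤ [G:H] deg τ` (Frobenius reciprocity) -/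
theorem degree_le_index_mul (ρ : Representation ℂ G V) (hρ : ρ.IsIrreducible) (H : Subgroup G)
    [Fintype H] {m : ℕ} (τ : Representation ℂ H (Fin m → ℂ))
    (hne : Cfsg.classInner (ρ.character ∘ H.subtype) τ.character ≠ 0) :
    Module.finrank ℂ V ≤ H.index * m := by
  classical
  have hθ : Cfsg.IsCharacter H τ.character := ⟨m, τ, rfl⟩
  obtain ⟨n', ρ', hρ'⟩ := Cfsg.Agent.Lib.Helper26.isCharacter_indFun H hθ
  have hχ : Cfsg.IsIrrCharacter G ρ.character := isIrrCharacter_of_irreducible ρ hρ
  have hcf : Cfsg.IsClassFunction G ρ.character := fun g h => Representation.char_conj ρ g h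
  have hne' : Cfsg.classInner ρ'.character ρ.character ≠ 0 := by
    rw [hρ', ← Cfsg.Agent.Lib.Helper26.classInner_conj_symm,
      Cfsg.Agent.Lib.Helper26.classInner_indFun_right' H ρ.character hcf τ.character]
    intro h
    apply hne
    exact (map_eq_zero _).mp h
  obtain ⟨k, hk, hpos, hle, _⟩ := constituent_degree ρ' ⟨ρ.character, hχ⟩ hne'
  have hk' : Module.finrank ℂ V = k := by
    have h1 : ρ.character 1 = (k : ℂ) := hk
    rw [Representation.char_one] at h1
    exact_mod_cast h1
  have hdeg : (Module.finrank ℂ (Fin n' → ℂ) : ℂ) = ((H.index * m : ℕ) : ℂ) := by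
    rw [← Representation.char_one ρ', hρ', Cfsg.Agent.Lib.Helper26.indFun_one,
      Representation.char_one, ← Nat.card_eq_fintype_card, ← Subgroup.card_mul_index H]
    have hAne : (Nat.card H : ℂ) ≠ 0 := Nat.cast_ne_zero.mpr Nat.card_pos.ne'
    simp only [Module.finrank_fin_fun]
    push_cast
    field_simp
  have hdeg' : Module.finrank ℂ (Fin n' → ℂ) = H.index * m := by exact_mod_cast hdeg
  rw [hk', ← hdeg']
  exact hle

end Cfsg.Agent.Lib.Helper4
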