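import Cfsg.Prelude
import Cfsg.Agent.Lib.Helper4.GaloisChar
import Cfsg.Agent.Lib.Helper4.CharIntegral
import Cfsg.Agent.Lib.Helper4.RepEigen

set_option autoImplicit false
open Cfsg

namespace Cfsg.Agent.Lib.Helper4

/-- a nonzero algebraic integer of `ℚ(ζ_N)`: the sum of `|σ x|` over all embeddings is at
least the number of embeddings (AM-GM) -/
theorem sum_norm_embeddings_ge (N : ℕ) [NeZero N] (x : cycK N) (hx : x ≠ 0)
    (hint : IsIntegral ℤ x) :
    (Fintype.card (cycK N →ₐ[ℚ] ℂ) : ℝ) ≤ ∑ σ : cycK N →ₐ[ℚ] ℂ, ‖σ x‖ := by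
  have hnint : IsIntegral ℤ (Algebra.norm ℚ x) := Algebra.isIntegral_norm ℚ hint
  obtain ⟨z, hz⟩ := IsIntegrallyClosed.isIntegral_iff.mp hnint
  have hn0 : Algebra.norm ℚ x ≠ 0 := Algebra.norm_ne_zero_iff.mpr hx
  have hz0 : z ≠ 0 := by
    intro h
    apply hn0
    rw [← hz, h, map_zero]
  have hprod := Algebra.norm_eq_prod_embeddings ℚ ℂ x
  have hnorm1 : (1 : ℝ) ≤ ‖∏ σ : cycK N →ₐ[ℚ] ℂ, σ x‖ := by
    rw [← hprod, ← hz]
    have h1 : (algebraMap ℚ ℂ) ((algebraMap ℤ ℚ) z) = (z : ℂ) := by simp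
    rw [h1, Complex.norm_intCast]
    have := Int.one_le_abs hz0
    exact_mod_cast this
  rw [norm_prod] at hnorm1
  set k := Fintype.card (cycK N →ₐ[ℚ] ℂ) with hk
  have hkpos : 0 < k := by
    rw [hk, AlgHom.card ℚ (cycK N) ℂ]
    exact Module.finrank_pos
  have hamgm := Real.geom_mean_le_arith_mean (Finset.univ : Finset (cycK N →ₐ[ℚ] ℂ))
    (fun _ => (1 : ℝ)) (fun σ => ‖σ x‖) (fun _ _ => zero_le_one)
    (by rw [Finset.sum_const, Finset.card_univ, nsmul_eq_mul, mul_one]; exact_mod_cast hkpos)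
    (fun σ _ => norm_nonneg _)
  simp only [Real.rpow_one, one_mul, Finset.sum_const, Finset.card_univ, nsmul_eq_mul,
    mul_one] at hamgm
  have h1 : (1 : ℝ) ≤ (∏ σ : cycK N →ₐ[ℚ] ℂ, ‖σ x‖) ^ ((k : ℝ))⁻¹ :=
    Real.one_le_rpow hnorm1 (inv_nonneg.mpr (Nat.cast_nonneg k))
  have h2 := h1.trans hamgm
  have hkR : (0 : ℝ) < k := by exact_mod_cast hkpos
  rwa [le_div_iff₀ hkR, one_mul] at h2

section Comm

variable {G : Type*} [Group G]
variable {V : Type*} [AddCommGroup V] [Module ℂ V]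
variable (ρ : Representation ℂ G V) (N : Subgroup G)

/-- the commutant of `ρ(N)` -/
def commutantN : Submodule ℂ (V →ₗ[ℂ] V) where
  carrier := {a | ∀ n : N, Representation.linHom ρ ρ (n : G) a = a}
  add_mem' := by
    intro a b ha hb n
    rw [map_add, ha n, hb n]
  zero_mem' := by
    intro n
    rw [map_zero]
  smul_mem' := by
    intro c a ha n
    rw [map_smul, ha n]

variable [hN : N.Normal]

theorem linHom_mem_commutantN (g : G) (a : V →ₗ[ℂ] V) (ha : a ∈ commutantN ρ N) :
    Representation.linHom ρ ρ g a ∈ commutantN ρ N := by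
  intro n
  have hn : g⁻¹ * n * g ∈ N := by
    have := hN.conj_mem n n.2 g⁻¹
    simpa using this
  have h1 := ha ⟨g⁻¹ * n * g, hn⟩
  rw [← Module.End.mul_apply, ← map_mul]
  have : (n : G) * g = g * (g⁻¹ * n * g) := by group
  rw [this, map_mul, Module.End.mul_apply, h1]

/-- the representation of `G` on the commutant of `ρ(N)` by conjugation -/
def commRep : Representation ℂ G (commutantN ρ N) where
  toFun g := (Representation.linHom ρ ρ g).restrict
    (fun a ha => linHom_mem_commutantN ρ N g a ha)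
  map_one' := by
    apply LinearMap.ext
    intro a
    apply Subtype.ext
    simp
  map_mul' g h := by
    apply LinearMap.ext
    intro a
    apply Subtype.ext
    simp [LinearMap.restrict_apply]

variable [Fintype N] [FiniteDimensional ℂ V]

theorem commRep_character (g : G) :
    (commRep ρ N).character g = (Nat.card N : ℂ)⁻¹ *
      ∑ n : N, ρ.character ((n : G) * g)⁻¹ * ρ.character ((n : G) * g) := by
  classical
  set L := Representation.linHom ρ ρ with hL
  set W := commutantN ρ N with hW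
  have hNne : (Nat.card N : ℂ) ≠ 0 := Nat.cast_ne_zero.mpr Nat.card_pos.ne'
  let P : (V →ₗ[ℂ] V) →ₗ[ℂ] (V →ₗ[ℂ] V) := (Nat.card N : ℂ)⁻¹ • ∑ n : N, L (n : G)
  have hPmem : ∀ c, P c ∈ W := by
    intro c n'
    simp only [P, LinearMap.smul_apply, LinearMap.sum_apply, map_smul, map_sum]
    congr 1
    have := Equiv.sum_comp (Equiv.mulLeft n') (fun n : N => L (n : G) c)
    rw [← this]
    refine Finset.sum_congr rfl fun n _ => ?_
    rw [← Module.End.mul_apply, ← map_mul]
    rfl
  have hPid : ∀ w ∈ W, P w = w := by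
    intro w hw
    simp only [P, LinearMap.smul_apply, LinearMap.sum_apply]
    have : ∀ n : N, L (n : G) w = w := hw
    simp only [this]
    rw [Finset.sum_const, Finset.card_univ, ← Nat.card_eq_fintype_card,
      ← Nat.cast_smul_eq_nsmul ℂ, smul_smul, inv_mul_cancel₀ hNne, one_smul]
  let π : (V →ₗ[ℂ] V) →ₗ[ℂ] W := P.codRestrict W hPmem
  have h1 : P = W.subtype ∘ₗ π := by
    apply LinearMap.ext
    intro c
    rfl
  have h2 : (commRep ρ N g : W →ₗ[ℂ] W) = (π ∘ₗ L g) ∘ₗ W.subtype := by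
    apply LinearMap.ext
    intro w
    apply Subtype.ext
    have hmem : L g (w : V →ₗ[ℂ] V) ∈ W := linHom_mem_commutantN ρ N g w w.2
    show L g (w : V →ₗ[ℂ] V) = P (L g (w : V →ₗ[ℂ] V))
    rw [hPid _ hmem]
  unfold Representation.character
  rw [h2, LinearMap.trace_comp_comm', ← LinearMap.comp_assoc, ← h1]
  have h4 : P ∘ₗ L g = (Nat.card N : ℂ)⁻¹ • ∑ n : N, L ((n : G) * g) := by
    simp only [P]
    rw [LinearMap.smul_comp]
    congr 1
    rw [← Module.End.mul_eq_comp, Finset.sum_mul]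
    refine Finset.sum_congr rfl fun n _ => ?_
    rw [map_mul]
  rw [h4, map_smul, map_sum, smul_eq_mul]
  congr 1
  refine Finset.sum_congr rfl fun n _ => ?_
  exact Representation.char_linHom ρ ρ _

end Comm

section Psi

variable {G : Type*} [Group G] [Fintype G]
variable {W : Type*} [AddCommGroup W] [Module ℂ W] [FiniteDimensional ℂ W]

/-- a character with nonnegative real values, never zero, and containing the trivial character
exactly once is linear -/
theorem finrank_eq_one_of_nonneg_nonvanishing (ψ : Representation ℂ G W)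
    (r : G → ℝ) (hr0 : ∀ g, 0 ≤ r g) (hr : ∀ g, ψ.character g = (r g : ℂ))
    (hsum : ∑ g, r g = (Nat.card G : ℝ)) (hnz : ∀ g, r g ≠ 0) : Module.finrank ℂ W = 1 := by
  classical
  have hN : 0 < Nat.card G := Nat.card_pos
  have : NeZero (Nat.card G) := ⟨hN.ne'⟩
  set k := Fintype.card (cycK (Nat.card G) →ₐ[ℚ] ℂ) with hk
  have hkpos : 0 < k := by
    rw [hk, AlgHom.card ℚ (cycK (Nat.card G)) ℂ]
    exact Module.finrank_pos
  have hkR : (0 : ℝ) < k := by exact_mod_cast hkpos
  let A : G → ℝ := fun g => ∑ σ : cycK (Nat.card G) →ₐ[ℚ] ℂ, ‖σ (charK ψ g)‖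
  have hlow : ∀ g, (k : ℝ) ≤ A g := by
    intro g
    apply sum_norm_embeddings_ge
    · intro h
      apply hnz g
      have h2 := congrArg (fun x : cycK (Nat.card G) => (x : ℂ)) h
      simp only [coe_charK, hr] at h2
      have h3 : ((r g : ℝ) : ℂ) = ((0 : ℝ) : ℂ) := by rw [h2]; simp
      exact Complex.ofReal_injective h3
    · exact charK_isIntegral ψ g
  have hAσ : ∀ (σ : cycK (Nat.card G) →ₐ[ℚ] ℂ) (m : ℕ),
      (∀ μ : cycK (Nat.card G), (μ : ℂ) ^ Nat.card G = 1 → σ μ = (μ : ℂ) ^ m) →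
        ∀ g, ‖σ (charK ψ g)‖ = r (g ^ m) := by
    intro σ m hσm g
    rw [embedding_charK ψ σ m hσm, hr, Complex.norm_real, Real.norm_of_nonneg (hr0 _)]
  have htot : ∑ g : G, A g = (k : ℝ) * (Nat.card G : ℝ) := by
    simp only [A]
    rw [Finset.sum_comm]
    have hσ : ∀ σ : cycK (Nat.card G) →ₐ[ℚ] ℂ,
        ∑ g : G, ‖σ (charK ψ g)‖ = (Nat.card G : ℝ) := by
      intro σ
      obtain ⟨m, hm, hσm⟩ := embedding_pow (Nat.card G) hN σ
      simp only [hAσ σ m hσm]
      have := Equiv.sum_comp (powCoprime hm.symm) r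
      simp only [powCoprime_apply] at this
      rw [this, hsum]
    simp only [hσ]
    rw [Finset.sum_const, Finset.card_univ, nsmul_eq_mul, ← hk]
  have heq : ∀ g, A g = (k : ℝ) := by
    have h0 : ∑ g : G, (A g - (k : ℝ)) = 0 := by
      rw [Finset.sum_sub_distrib, htot, Finset.sum_const, Finset.card_univ, nsmul_eq_mul,
        ← Nat.card_eq_fintype_card]
      ring
    have := (Finset.sum_eq_zero_iff_of_nonneg (fun g _ => sub_nonneg.mpr (hlow g))).mp h0
    intro g
    linarith [this g (Finset.mem_univ g)]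
  have h1 := heq 1
  simp only [A] at h1
  have hone : ∀ σ : cycK (Nat.card G) →ₐ[ℚ] ℂ, ‖σ (charK ψ 1)‖ = (Module.finrank ℂ W : ℝ) := by
    intro σ
    obtain ⟨m, hm, hσm⟩ := embedding_pow (Nat.card G) hN σ
    have h2 := hAσ σ m hσm 1
    rw [one_pow] at h2
    rw [h2]
    have h3 := hr 1
    rw [Representation.char_one] at h3
    exact_mod_cast h3.symm
  simp only [hone] at h1
  rw [Finset.sum_const, Finset.card_univ, nsmul_eq_mul, ← hk] at h1
  have h4 : (Module.finrank ℂ W : ℝ) = 1 := by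
    have : (k : ℝ) * ((Module.finrank ℂ W : ℝ) - 1) = 0 := by linarith
    rcases mul_eq_zero.mp this with h5 | h5
    · exact absurd h5 hkR.ne'
    · linarith
  exact_mod_cast h4

end Psi

end Cfsg.Agent.Lib.Helper4
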