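import Mathlib
import Cfsg.Agent.Lib.Helper4.BrauerFongP
import Cfsg.Agent.Lib.Helper28.BrauerK
import Cfsg.Agent.S0912

set_option autoImplicit false

/-!
# Blocks of `P C_G(P)` and blocks of `C_G(P)`; the extended first main theorem (helper4)
-/

namespace Cfsg.Agent.Lib.Helper4

open Cfsg Cfsg.Agent.Lib.Helper28 Cfsg.Agent.Lib.Helper26
open scoped ComplexConjugate Classical

section Group

variable {G : Type*} [Group G] (P : Subgroup G)

/-- the set-theoretic product `P C_G(P)` as a subgroup -/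
def prodCentralizer : Subgroup G where
  carrier := {g | ∃ x ∈ P, ∃ c ∈ Subgroup.centralizer (P : Set G), g = x * c}
  mul_mem' := by
    rintro _ _ ⟨x, hx, c, hc, rfl⟩ ⟨x', hx', c', hc', rfl⟩
    refine ⟨x * x', P.mul_mem hx hx', c * c', Subgroup.mul_mem _ hc hc', ?_⟩
    have h1 : x' * c = c * x' := hc x' hx'
    calc x * c * (x' * c') = x * (c * x') * c' := by group
      _ = x * (x' * c) * c' := by rw [h1]
      _ = x * x' * (c * c') := by group
  one_mem' := ⟨1, P.one_mem, 1, Subgroup.one_mem _, by simp⟩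
  inv_mem' := by
    rintro _ ⟨x, hx, c, hc, rfl⟩
    refine ⟨x⁻¹, P.inv_mem hx, c⁻¹, Subgroup.inv_mem _ hc, ?_⟩
    have h1 : x * c = c * x := hc x hx
    calc (x * c)⁻¹ = (c * x)⁻¹ := by rw [h1]
      _ = x⁻¹ * c⁻¹ := by group

theorem exists_mul_of_mem_sup {g : G} (hg : g ∈ P ⊔ Subgroup.centralizer (P : Set G)) :
    ∃ x ∈ P, ∃ c ∈ Subgroup.centralizer (P : Set G), g = x * c := by
  have h : P ⊔ Subgroup.centralizer (P : Set G) ≤ prodCentralizer P := by
    apply sup_le
    · intro x hx
      exact ⟨x, hx, 1, Subgroup.one_mem _, by simp⟩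
    · intro c hc
      exact ⟨1, P.one_mem, c, hc, by simp⟩
  exact h hg

theorem sup_centralizer_le_normalizer :
    P ⊔ Subgroup.centralizer (P : Set G) ≤ Subgroup.normalizer (P : Set G) :=
  sup_le Subgroup.le_normalizer (Subgroup.centralizer_le_normalizer _)

variable {P} {H : Subgroup G}

theorem normal_centralizer_subgroupOf (hHle : H ≤ P ⊔ Subgroup.centralizer (P : Set G)) :
    ((Subgroup.centralizer (P : Set G)).subgroupOf H).Normal :=
  Subgroup.normal_subgroupOf_of_le_normalizer
    (hHle.trans ((sup_centralizer_le_normalizer P).trans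
      (normalizer_le_normalizer_centralizer P)))

/-- `P C_G(P) / C_G(P)` is a `p`-group -/
theorem index_centralizer_subgroupOf [Finite G] {p : ℕ} [Fact p.Prime] (hP : IsPGroup p P)
    (hHle : H ≤ P ⊔ Subgroup.centralizer (P : Set G)) :
    ∃ k : ℕ, ((Subgroup.centralizer (P : Set G)).subgroupOf H).index = p ^ k := by
  have := normal_centralizer_subgroupOf hHle
  have hpg : IsPGroup p (H ⧸ (Subgroup.centralizer (P : Set G)).subgroupOf H) := by
    intro q
    obtain ⟨h, rfl⟩ := QuotientGroup.mk_surjective q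
    obtain ⟨x, hx, c, hc, hxc⟩ := exists_mul_of_mem_sup P (hHle h.2)
    obtain ⟨k, hk⟩ := hP ⟨x, hx⟩
    have hk' : x ^ (p ^ k) = 1 := by
      have := congrArg Subtype.val hk
      simpa using this
    refine ⟨k, ?_⟩
    rw [← QuotientGroup.mk_pow, QuotientGroup.eq_one_iff, Subgroup.mem_subgroupOf]
    have hcomm : Commute x c := hc x hx
    have : ((h ^ (p ^ k) : H) : G) = c ^ (p ^ k) := by
      rw [Subgroup.coe_pow, hxc, hcomm.mul_pow, hk', one_mul]
    rw [this]
    exact Subgroup.pow_mem _ hc _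
  obtain ⟨n, hn⟩ := IsPGroup.iff_card.mp hpg
  exact ⟨n, by rw [Subgroup.index_eq_card, hn]⟩

end Group

section Homog

variable {K : Type*} [Group K] [Fintype K] (N : Subgroup K) [hN : N.Normal]

/-- the restriction of an irreducible character to a normal subgroup is a multiple of any
invariant irreducible constituent -/
theorem restrict_eq_smul_of_invariant {θ : K → ℂ} (hθ : IsIrrCharacter K θ) {ξ : N → ℂ}
    (hξ : IsIrrCharacter N ξ) (hcon : classInner (θ ∘ N.subtype) ξ ≠ 0)
    (hinv : ∀ k : K, conjFunN N ξ k = ξ) :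
    θ ∘ N.subtype = classInner (θ ∘ N.subtype) ξ • ξ := by
  have h := clifford_restrict N hθ hξ hcon
  have himg : Finset.univ.image (conjFunN N ξ) = {ξ} := by
    ext ψ
    simp only [Finset.mem_image, Finset.mem_univ, true_and, Finset.mem_singleton]
    constructor
    · rintro ⟨k, rfl⟩
      exact hinv k
    · rintro rfl
      exact ⟨1, hinv 1⟩
  rw [himg, Finset.sum_singleton] at h
  exact h

theorem div_eq_div_of_invariant {θ : K → ℂ} (hθ : IsIrrCharacter K θ) {ξ : N → ℂ}
    (hξ : IsIrrCharacter N ξ) (hcon : classInner (θ ∘ N.subtype) ξ ≠ 0)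
    (hinv : ∀ k : K, conjFunN N ξ k = ξ) (n : N) :
    θ (n : K) / θ 1 = ξ n / ξ 1 := by
  have h := restrict_eq_smul_of_invariant N hθ hξ hcon hinv
  have h1 : θ (n : K) = classInner (θ ∘ N.subtype) ξ * ξ n := by
    have := congrFun h n
    simpa using this
  have h2 : θ 1 = classInner (θ ∘ N.subtype) ξ * ξ 1 := by
    have := congrFun h 1
    simpa using this
  rw [h1, h2, mul_div_mul_left _ _ hcon]

/-- the central character of `θ` at a function supported on `N`, in terms of an invariant
constituent of `θ_N` -/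
theorem omegaF_extZero_of_invariant {θ : K → ℂ} (hθ : IsIrrCharacter K θ) {ξ : N → ℂ}
    (hξ : IsIrrCharacter N ξ) (hcon : classInner (θ ∘ N.subtype) ξ ≠ 0)
    (hinv : ∀ k : K, conjFunN N ξ k = ξ) (a : N → ℂ) :
    omegaF θ (extZero N a) = omegaF ξ a := by
  unfold omegaF
  rw [sum_extZero_mul' N a θ, Finset.sum_div, Finset.sum_div]
  refine Finset.sum_congr rfl fun n _ => ?_
  rw [mul_div_assoc, div_eq_div_of_invariant N hθ hξ hcon hinv n, mul_div_assoc]

end Homog

section Blocks

variable {G : Type*} [Group G] [Fintype G] {M : Ideal AlgInt} {P H : Subgroup G}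

/-- every element of `P C_G(P)` stabilizes every block of `C_G(P)` -/
theorem stabilizesBlock_of_mem_sup [M.IsPrime]
    {e : Set (IrrCharacter (Subgroup.centralizer (P : Set G)))} (he : IsPBlock M e) {h : G}
    (hh : h ∈ P ⊔ Subgroup.centralizer (P : Set G)) :
    StabilizesBlock (Subgroup.centralizer (P : Set G)) e h := by
  obtain ⟨T, hT⟩ := exists_stabSubgroup P he
  have hle : P ⊔ Subgroup.centralizer (P : Set G) ≤ T := sup_le
    (fun u hu => (hT u).mpr ⟨Subgroup.le_normalizer hu, stabilizesBlock_of_mem P e hu⟩)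
    (fun u hu => (hT u).mpr ⟨Subgroup.centralizer_le_normalizer _ hu,
      stabilizesBlock_of_mem_centralizer P e hu⟩)
  exact ((hT h).mp (hle hh)).2

/-- the block of `H = P C_G(P)` with the idempotent of a block `e` of `C_G(P)` -/
theorem exists_extBlock {p : ℕ} [Fact p.Prime] (hM : IsPModular p M) (hP : IsPGroup p P)
    (hCH : Subgroup.centralizer (P : Set G) ≤ H)
    (hHle : H ≤ P ⊔ Subgroup.centralizer (P : Set G))
    {e : Set (IrrCharacter (Subgroup.centralizer (P : Set G)))} (he : IsPBlock M e) :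
    ∃ b : Set (IrrCharacter H), IsPBlock M b ∧
      ∀ h : H, blockCoeff b h = subgroupBlockCoeff (Subgroup.centralizer (P : Set G)) e (h : G) := by
  have hMprime : M.IsPrime := hM.2.1.isPrime
  haveI := normal_centralizer_subgroupOf hHle
  have hidx := index_centralizer_subgroupOf hP hHle
  have hst : ∀ t : H, StabilizesBlock ((Subgroup.centralizer (P : Set G)).subgroupOf H)
      (subBlock hCH e) t := fun t =>
    stabilizesBlock_subBlock hCH (stabilizesBlock_of_mem_sup he (hHle t.2))
  obtain ⟨⟨b, hb, hbe⟩, -⟩ := stable_block_p_index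
    ((Subgroup.centralizer (P : Set G)).subgroupOf H) hM hidx (isPBlock_subBlock hCH he) hst
  exact ⟨b, hb, fun h => by rw [hbe, subgroupBlockCoeff_subBlock]⟩

omit [Fintype G] in
/-- a block is the support of its idempotent -/
theorem mem_iff_omegaF_of_blockCoeff {K : Type*} [Group K] [Fintype K]
    {b : Set (IrrCharacter K)} {F : K → ℂ}
    (hbF : ∀ h, blockCoeff b h = F h) (θ : IrrCharacter K) :
    θ ∈ b ↔ omegaF (θ : K → ℂ) F = 1 := by
  have : blockCoeff b = F := funext hbF
  rw [← this]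
  conv_lhs => rw [← idemSupport_blockCoeff b]
  rfl

/-- every irreducible character of `C_G(P)`, viewed in `H = P C_G(P)`, is `H`-invariant -/
theorem conjFunN_centralizer_subgroupOf (hCH : Subgroup.centralizer (P : Set G) ≤ H)
    (hHle : H ≤ P ⊔ Subgroup.centralizer (P : Set G))
    [hn : ((Subgroup.centralizer (P : Set G)).subgroupOf H).Normal]
    {ξ : (Subgroup.centralizer (P : Set G)).subgroupOf H → ℂ}
    (hξ : IsClassFunction ((Subgroup.centralizer (P : Set G)).subgroupOf H) ξ) (h : H) :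
    conjFunN ((Subgroup.centralizer (P : Set G)).subgroupOf H) ξ h = ξ := by
  funext n
  obtain ⟨x, hx, c, hc, hxc⟩ := exists_mul_of_mem_sup P (hHle h.2)
  have hn' : ((n : H) : G) ∈ Subgroup.centralizer (P : Set G) := Subgroup.mem_subgroupOf.mp n.2
  let c' : (Subgroup.centralizer (P : Set G)).subgroupOf H :=
    ⟨⟨c, hCH hc⟩, Subgroup.mem_subgroupOf.mpr hc⟩
  have hkey : (⟨h * (n : H) * h⁻¹, hn.conj_mem n n.2 h⟩ :
      (Subgroup.centralizer (P : Set G)).subgroupOf H) = c' * n * c'⁻¹ := by
    apply Subtype.ext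
    apply Subtype.ext
    show (h : G) * ((n : H) : G) * (h : G)⁻¹ = c * ((n : H) : G) * c⁻¹
    have hmem : c * ((n : H) : G) * c⁻¹ ∈ Subgroup.centralizer (P : Set G) :=
      Subgroup.mul_mem _ (Subgroup.mul_mem _ hc hn') (Subgroup.inv_mem _ hc)
    have hcomm : x * (c * ((n : H) : G) * c⁻¹) = (c * ((n : H) : G) * c⁻¹) * x := hmem x hx
    rw [hxc]
    calc x * c * ((n : H) : G) * (x * c)⁻¹ = x * (c * ((n : H) : G) * c⁻¹) * x⁻¹ := by group
      _ = (c * ((n : H) : G) * c⁻¹) * x * x⁻¹ := by rw [hcomm]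
      _ = c * ((n : H) : G) * c⁻¹ := by group
  show ξ ⟨h * (n : H) * h⁻¹, hn.conj_mem n n.2 h⟩ = ξ n
  rw [hkey]
  exact hξ n c'

/-- a block of `H = P C_G(P)` inducing `B` has the idempotent of a block `e` of `C_G(P)` with
`(P, e)` a Brauer pair of `B` -/
theorem exists_pair_of_induced {p : ℕ} [Fact p.Prime] (hM : IsPModular p M) (hP : IsPGroup p P)
    (hPH : P ≤ H) (hCH : Subgroup.centralizer (P : Set G) ≤ H)
    (hHle : H ≤ P ⊔ Subgroup.centralizer (P : Set G))
    {b : Set (IrrCharacter H)} {B : Set (IrrCharacter G)} (hind : IsInducedBlock M H b B) :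
    ∃ e : Set (IrrCharacter (Subgroup.centralizer (P : Set G))), IsBrauerPairOf p M B P e ∧
      ∀ h : H, blockCoeff b h = subgroupBlockCoeff (Subgroup.centralizer (P : Set G)) e (h : G) := by
  have hMprime : M.IsPrime := hM.2.1.isPrime
  have hMtop : M ≠ ⊤ := Ideal.IsPrime.ne_top hMprime
  have hb : IsPBlock M b := hind.1
  have hB : IsPBlock M B := hind.2.1
  haveI hn := normal_centralizer_subgroupOf hHle
  obtain ⟨θ, hθ⟩ := block_nonempty hb
  obtain ⟨ξ', hcon⟩ := exists_constituent_restrict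
    ((Subgroup.centralizer (P : Set G)).subgroupOf H) θ.2
  set φ := (Subgroup.subgroupOfEquivOfLe hCH).symm with hφ
  set ξ : IrrCharacter (Subgroup.centralizer (P : Set G)) := irrEquiv φ ξ' with hξ
  set e : Set (IrrCharacter (Subgroup.centralizer (P : Set G))) :=
    blockOf M (ξ : Subgroup.centralizer (P : Set G) → ℂ) with he'
  have he : IsPBlock M e := ⟨ξ, rfl⟩
  have hξe : ξ ∈ e := sameBlock_refl hMtop _
  have hξ'e : ξ' ∈ subBlock hCH e := hξe
  have hst : ∀ t : H, StabilizesBlock ((Subgroup.centralizer (P : Set G)).subgroupOf H)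
      (subBlock hCH e) t := fun t =>
    stabilizesBlock_subBlock hCH (stabilizesBlock_of_mem_sup he (hHle t.2))
  obtain ⟨b_e, hb_e, hbe⟩ := exists_extBlock hM hP hCH hHle he
  have hFe : (fun h : H => subgroupBlockCoeff (Subgroup.centralizer (P : Set G)) e (h : G)) =
      extZero ((Subgroup.centralizer (P : Set G)).subgroupOf H)
        (blockCoeff (subBlock hCH e)) := by
    funext h
    rw [← subgroupBlockCoeff_subBlock hCH e h, subgroupBlockCoeff_eq_extZero]
  have hθe : θ ∈ b_e := by
    rw [mem_iff_omegaF_of_blockCoeff hbe θ, hFe]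
    exact omegaF_extZero_of_all _ θ.2 _
      (constituents_mem_of_stabilizes _ hst θ.2 hξ'e hcon)
  have hbb : b = b_e := block_eq_of_mem hb hb_e hθ hθe
  refine ⟨e, ⟨⟨hP, he⟩, hB, ?_⟩, fun h => by rw [hbb]; exact hbe h⟩
  intro ξ₂ hξ₂
  rw [brauerOmega_eq_omegaF]
  set a := resTo (Subgroup.centralizer (P : Set G)) (blockCoeff B) with ha
  have hacf : IsClassFunction (Subgroup.centralizer (P : Set G)) a := by
    apply isClassFunction_resTo
    intro x _ g
    exact isClassFunction_blockCoeff B g x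
  have haR : ∀ c, MemLocalRing M (a c) := fun c => osima hB _
  have hsb : SameBlock M (ξ₂ : Subgroup.centralizer (P : Set G) → ℂ)
      (ξ : Subgroup.centralizer (P : Set G) → ℂ) :=
    Cfsg.Agent.Lib.Helper28.sameBlock_symm hξ₂
  have step1 := omegaF_sub_memLocalIdeal
    (Cfsg.Agent.Lib.Helper4.isClassFunction_of_isIrrCharacter ξ₂.2)
    (Cfsg.Agent.Lib.Helper4.isClassFunction_of_isIrrCharacter ξ.2) hsb a hacf haR
  -- transport to `C_G(P)` inside `H`
  have step2 : omegaF (ξ : Subgroup.centralizer (P : Set G) → ℂ) a =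
      omegaF (ξ' : (Subgroup.centralizer (P : Set G)).subgroupOf H → ℂ) (a ∘ φ.symm) := by
    unfold omegaF
    have h1 : (ξ : Subgroup.centralizer (P : Set G) → ℂ) 1 =
        (ξ' : (Subgroup.centralizer (P : Set G)).subgroupOf H → ℂ) 1 := by
      rw [hξ, irrEquiv_apply, map_one]
    rw [h1]
    congr 1
    refine Fintype.sum_equiv φ.toEquiv _ _ (fun c => ?_)
    show a c * (ξ : Subgroup.centralizer (P : Set G) → ℂ) c =
      a (φ.symm (φ c)) * (ξ' : (Subgroup.centralizer (P : Set G)).subgroupOf H → ℂ) (φ c)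
    rw [MulEquiv.symm_apply_apply, hξ, irrEquiv_apply]
  have hinv := fun h : H => conjFunN_centralizer_subgroupOf hCH hHle
    (Cfsg.Agent.Lib.Helper4.isClassFunction_of_isIrrCharacter ξ'.2) h
  have step3 := omegaF_extZero_of_invariant
    ((Subgroup.centralizer (P : Set G)).subgroupOf H) θ.2 ξ'.2 hcon hinv (a ∘ φ.symm)
  have step4 : extZero ((Subgroup.centralizer (P : Set G)).subgroupOf H) (a ∘ φ.symm) =
      brMap P H (blockCoeff B) := by
    funext h
    by_cases hh : (h : G) ∈ Subgroup.centralizer (P : Set G)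
    · have hh' : h ∈ (Subgroup.centralizer (P : Set G)).subgroupOf H :=
        Subgroup.mem_subgroupOf.mpr hh
      have e1 := extZero_mem' ((Subgroup.centralizer (P : Set G)).subgroupOf H)
        (a ∘ φ.symm) ⟨h, hh'⟩
      simp only at e1
      rw [e1, brMap_of_mem P H _ hh]
      rfl
    · have hh' : h ∉ (Subgroup.centralizer (P : Set G)).subgroupOf H := fun h' =>
        hh (Subgroup.mem_subgroupOf.mp h')
      rw [extZero_not_mem' _ _ hh', brMap_of_not_mem P H _ hh]
  obtain ⟨χ, hχ⟩ := block_nonempty hB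
  have step5 := omegaF_brMap_blockCoeff_of_induced hM P H hP hPH
    (hHle.trans (sup_centralizer_le_normalizer P)) hB hind hθ B (fun g => osima hB g) χ hχ
  rw [if_pos hχ, ← step4, step3, ← step2] at step5
  have := memLocalIdeal_add step1 step5
  rwa [sub_add_sub_cancel] at this

omit [Fintype G] in
theorem isPGroup_of_isDefectGroup {p : ℕ} {B : Set (IrrCharacter G)} {D : Subgroup G}
    (hD : IsDefectGroup p M B D) : IsPGroup p D := by
  obtain ⟨g, -, Q, rfl⟩ := hD
  exact Q.isPGroup'.map _

/-- **Extended first main theorem, existence**: a block with defect group `P` is induced from a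
block of `H ⊇ P C_G(P)` (inside `N_G(P)`) with defect group `P` -/
theorem ext_first_main_exists {p : ℕ} [Fact p.Prime] (hM : IsPModular p M)
    {B : Set (IrrCharacter G)} (hB : IsPBlock M B) (hPdef : IsDefectGroup p M B P)
    (hPH : P ≤ H) (hCH : Subgroup.centralizer (P : Set G) ≤ H)
    (hHN : H ≤ Subgroup.normalizer (P : Set G)) :
    ∃ b : Set (IrrCharacter H), IsDefectGroup p M b (P.subgroupOf H) ∧
      IsInducedBlock M H b B := by
  have hPp : IsPGroup p P := isPGroup_of_isDefectGroup hPdef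
  obtain ⟨b, hind⟩ := (exists_induced_iff hM P H hPp hPH hCH hHN hB).mpr
    ⟨P, hPdef, 1, by
      intro g hg
      rw [mem_map_conj_iff] at hg
      simpa using hg⟩
  refine ⟨b, ?_, hind⟩
  have hb := hind.1
  obtain ⟨h0, hh0⟩ := exists_defectClass hM hb
  obtain ⟨P1⟩ : Nonempty (Sylow p (Subgroup.centralizer ({h0} : Set H))) := inferInstance
  have hDb : IsDefectGroup p M b ((P1 : Subgroup (Subgroup.centralizer ({h0} : Set H))).map
      (Subgroup.centralizer ({h0} : Set H)).subtype) := ⟨h0, hh0, P1, rfl⟩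
  have h912 := Cfsg.Agent.S0912.result p M hM b hb _ hDb
  have hn : (P.subgroupOf H).Normal := Subgroup.normal_subgroupOf_of_le_normalizer hHN
  have hp' : IsPGroup p (P.subgroupOf H) := hPp.comap_subtype
  have hle2 := (Cfsg.Agent.Lib.Helper16.le_pCore hn hp').trans h912
  obtain ⟨E, hE, hle⟩ := exists_defectGroup_ge_of_induced hM _ hb hB hind _ hDb
  have hc1 := Cfsg.Agent.S0908.result p M hM B hB E hE
  have hc2 := Cfsg.Agent.S0908.result p M hM B hB P hPdef
  have hcard : Nat.card ((P1 : Subgroup (Subgroup.centralizer ({h0} : Set H))).map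
      (Subgroup.centralizer ({h0} : Set H)).subtype) ≤ Nat.card (P.subgroupOf H) := by
    have h1 := Subgroup.card_le_of_le hle
    rw [Subgroup.card_map_of_injective (Subgroup.subtype_injective _), hc1, ← hc2] at h1
    rwa [card_subgroupOf_of_le hPH]
  have heq := Subgroup.eq_of_le_of_card_ge hle2 hcard
  rw [heq]
  exact hDb

theorem mem_normalizer_of_map_conj_eq {K : Subgroup G} {x : G}
    (h : K.map (MulAut.conj x).toMonoidHom = K) : x ∈ Subgroup.normalizer (K : Set G) := by
  rw [Subgroup.mem_normalizer_iff]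
  intro g
  have := mem_map_conj_iff K x (x * g * x⁻¹)
  rw [h] at this
  rw [this]
  have e1 : x⁻¹ * (x * g * x⁻¹) * x = g := by group
  rw [e1]

theorem normalizer_le_normalizer_of_eq_sup (hPH : P ≤ H)
    (hCH : Subgroup.centralizer (P : Set G) ≤ H)
    (hHle : H ≤ P ⊔ Subgroup.centralizer (P : Set G)) :
    Subgroup.normalizer (P : Set G) ≤ Subgroup.normalizer (H : Set G) := by
  intro x hx
  have hH : H = P ⊔ Subgroup.centralizer (P : Set G) := le_antisymm hHle (sup_le hPH hCH)
  apply mem_normalizer_of_map_conj_eq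
  rw [hH, Subgroup.map_sup, map_conj_eq_of_mem_normalizer hx,
    map_conj_eq_of_mem_normalizer (normalizer_le_normalizer_centralizer P hx)]

/-- **Extended first main theorem, uniqueness**: two blocks of `H = P C_G(P)` inducing the block
`B` with defect group `P` are conjugate under `N_G(P)` -/
theorem ext_first_main_conj {p : ℕ} [Fact p.Prime] (hM : IsPModular p M)
    {B : Set (IrrCharacter G)} (hPdef : IsDefectGroup p M B P)
    (hPH : P ≤ H) (hCH : Subgroup.centralizer (P : Set G) ≤ H)
    (hHle : H ≤ P ⊔ Subgroup.centralizer (P : Set G))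
    {b b' : Set (IrrCharacter H)} (hind : IsInducedBlock M H b B)
    (hind' : IsInducedBlock M H b' B) :
    ∃ n ∈ Subgroup.normalizer (P : Set G), ∀ θ ∈ b, ∃ θ' ∈ b', ∀ x : H,
      ∀ hx : n * (x : G) * n⁻¹ ∈ H, (θ' : H → ℂ) x = (θ : H → ℂ) ⟨n * (x : G) * n⁻¹, hx⟩ := by
  have hMprime : M.IsPrime := hM.2.1.isPrime
  have hB : IsPBlock M B := hind.2.1
  have hPp : IsPGroup p P := isPGroup_of_isDefectGroup hPdef
  obtain ⟨e, hPe, hbe⟩ := exists_pair_of_induced hM hPp hPH hCH hHle hind
  obtain ⟨e', hPe', hbe'⟩ := exists_pair_of_induced hM hPp hPH hCH hHle hind'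
  have hcard : Nat.card P = p ^ blockDefect p B := Cfsg.Agent.S0908.result p M hM B hB P hPdef
  have hmax' : IsMaximalBrauerPair p M B P e' := isMaximalBrauerPair_of_card hM hPe' hcard
  obtain ⟨x, hx⟩ := exists_conj_subpairLE hM hmax' hPe
  have hcard2 : Nat.card P ≤ Nat.card (P.map (MulAut.conj x).toMonoidHom : Subgroup G) := by
    rw [Subgroup.card_map_of_injective (MulAut.conj x).injective]
  have heq := pair_eq_of_subpairLE_of_card
    (a := (⟨P.map (MulAut.conj x).toMonoidHom, conjBlock P x e⟩ : BrauerPairIdx G))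
    (b := (⟨P, e'⟩ : BrauerPairIdx G)) hx hcard2
  have hPx : P.map (MulAut.conj x).toMonoidHom = P := congrArg Sigma.fst heq
  have hxN : x ∈ Subgroup.normalizer (P : Set G) := mem_normalizer_of_map_conj_eq hPx
  have hF : ∀ g : G, subgroupBlockCoeff (Subgroup.centralizer (P : Set G)) e' g =
      subgroupBlockCoeff (Subgroup.centralizer (P : Set G)) e (x⁻¹ * g * x) := by
    intro g
    have h1 := congrArg (fun a : BrauerPairIdx G =>
      subgroupBlockCoeff (Subgroup.centralizer (a.1 : Set G)) a.2) heq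
    have h2 := congrFun h1 g
    simp only at h2
    rw [← h2, subgroupBlockCoeff_conjBlock]
  have hxH : x ∈ Subgroup.normalizer (H : Set G) :=
    normalizer_le_normalizer_of_eq_sup hPH hCH hHle hxN
  refine ⟨x⁻¹, Subgroup.inv_mem _ hxN, fun θ hθ => ?_⟩
  refine ⟨conjIrr H x hxH θ, ?_, ?_⟩
  · rw [mem_iff_omegaF_of_blockCoeff hbe' _, omegaF_conjIrr]
    have h1 := (mem_iff_omegaF_of_blockCoeff hbe θ).mp hθ
    rw [← h1]
    congr 1
    funext k
    show subgroupBlockCoeff (Subgroup.centralizer (P : Set G)) e'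
      ((conjK H x hxH k : H) : G) = _
    rw [hF, conjK_apply]
    congr 1
    group
  · intro k hk
    rw [conjIrr_apply]
    refine congrArg (θ : H → ℂ) (Subtype.ext ?_)
    rw [conjK_symm_apply]
    show x⁻¹ * (k : G) * x = x⁻¹ * (k : G) * x⁻¹⁻¹
    rw [inv_inv]

end Blocks

end Cfsg.Agent.Lib.Helper4
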