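import Mathlib
import Cfsg.Agent.Lib.Helper4.BrauerExt
import Cfsg.Agent.Lib.Helper28.BrauerL

set_option autoImplicit false

/-!
# The inertial index of a block of `P C_G(P)` and the defect groups of the induced block (helper4)
-/

namespace Cfsg.Agent.Lib.Helper4

open Cfsg Cfsg.Agent.Lib.Helper28 Cfsg.Agent.Lib.Helper26
open scoped ComplexConjugate Classical

section

variable {G : Type*} [Group G] [Fintype G] {M : Ideal AlgInt}

/-- Fong's theorem for the block with the idempotent of a stable block of a normal subgroup -/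
theorem fong_same_idem {p : ℕ} [Fact p.Prime] (hM : IsPModular p M) (N : Subgroup G)
    [hN : N.Normal] {c : Set (IrrCharacter N)} (hc : IsPBlock M c)
    (hst : ∀ t : G, StabilizesBlock N c t) {B : Set (IrrCharacter G)} (hB : IsPBlock M B)
    (hBc : ∀ g : G, blockCoeff B g = subgroupBlockCoeff N c g) {P : Subgroup G}
    (hP : IsDefectGroup p M B P) :
    ¬ p ∣ (P ⊔ N).index ∧ IsDefectGroup p M c ((P ⊓ N).subgroupOf N) ∧
      blockDefect p B = blockDefect p c + N.index.factorization p := by
  have hMprime : M.IsPrime := hM.2.1.isPrime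
  have hBF : blockCoeff B = extZero N (blockCoeff c) := by
    funext g
    rw [hBc g]
    rfl
  have hBS : B = idemSupport (extZero N (blockCoeff c)) := by
    rw [← hBF, idemSupport_blockCoeff]
  have hover : ∀ χ ∈ B, ∃ θ ∈ c,
      classInner ((χ : G → ℂ) ∘ N.subtype) ((θ : IrrCharacter N) : N → ℂ) ≠ 0 := by
    intro χ hχ
    by_contra hnone
    push Not at hnone
    have h0 := omegaF_extZero_of_none N (χ : G → ℂ) c hnone
    rw [hBS] at hχ
    have h1 : omegaF (χ : G → ℂ) (extZero N (blockCoeff c)) = 1 := hχ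
    rw [h0] at h1
    exact zero_ne_one h1
  obtain ⟨χ₀, hχ₀⟩ := block_nonempty hB
  have hcov : ∃ χ ∈ B, ∃ θ ∈ c,
      classInner ((χ : G → ℂ) ∘ N.subtype) ((θ : IrrCharacter N) : N → ℂ) ≠ 0 :=
    ⟨χ₀, hχ₀, hover χ₀ hχ₀⟩
  have hmax : ∀ B' : Set (IrrCharacter G), IsPBlock M B' →
      (∃ χ ∈ B', ∃ θ ∈ c,
        classInner ((χ : G → ℂ) ∘ N.subtype) ((θ : IrrCharacter N) : N → ℂ) ≠ 0) →
      blockDefect p B' ≤ blockDefect p B := by
    intro B' hB' ⟨χ', hχ', θ', hθ', hcon'⟩
    have hall := constituents_mem_of_stabilizes N hst χ'.2 hθ' hcon'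
    have h1 := omegaF_extZero_of_all N χ'.2 c hall
    have hmem : χ' ∈ B := by
      rw [hBS]
      exact h1
    rw [block_eq_of_mem hB' hB hχ' hmem]
  exact fong N hM hc hst hB hcov hmax hP

/-- the defect of the block of `T` with the idempotent of a `T`-stable block of `K ⊴ T` -/
theorem defect_of_same_idem_sub {p : ℕ} [Fact p.Prime] (hM : IsPModular p M)
    {K T : Subgroup G} (hKT : K ≤ T) [hn : (K.subgroupOf T).Normal]
    {e : Set (IrrCharacter K)} (he : IsPBlock M e)
    (hst : ∀ t : T, StabilizesBlock K e (t : G)) {E : Set (IrrCharacter T)}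
    (hE : IsPBlock M E)
    (hEe : ∀ t : T, blockCoeff E t = subgroupBlockCoeff K e (t : G)) {D : Subgroup T}
    (hD : IsDefectGroup p M E D) :
    ¬ p ∣ (D ⊔ K.subgroupOf T).index ∧
      blockDefect p E = blockDefect p e + (K.relIndex T).factorization p := by
  obtain ⟨h1, -, h3⟩ := fong_same_idem hM (K.subgroupOf T) (isPBlock_subBlock hKT he)
    (fun t => stabilizesBlock_subBlock hKT (hst t)) hE
    (fun t => by rw [hEe, subgroupBlockCoeff_subBlock]) hD
  refine ⟨h1, ?_⟩
  rw [h3]
  unfold subBlock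
  rw [blockDefect_preimage_irrEquiv]
  rfl

/-- the idempotent of a conjugated set of characters, as a function on `G` -/
theorem subgroupBlockCoeff_image_conjIrr (K : Subgroup G) (x : G)
    (hx : x ∈ Subgroup.normalizer (K : Set G)) (b : Set (IrrCharacter K)) (y : G) :
    subgroupBlockCoeff K (conjIrr K x hx '' b) y = subgroupBlockCoeff K b (x⁻¹ * y * x) := by
  rw [subgroupBlockCoeff_eq_extZero, subgroupBlockCoeff_eq_extZero]
  have hx' : x⁻¹ ∈ Subgroup.normalizer (K : Set G) := Subgroup.inv_mem _ hx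
  by_cases hy : y ∈ K
  · have hy' : x⁻¹ * y * x ∈ K := by
      have := (Subgroup.mem_normalizer_iff.mp hx' y).mp hy
      rwa [inv_inv] at this
    have e1 := extZero_mem' K (blockCoeff (conjIrr K x hx '' b)) ⟨y, hy⟩
    have e2 := extZero_mem' K (blockCoeff b) ⟨x⁻¹ * y * x, hy'⟩
    simp only at e1 e2
    rw [e1, e2, blockCoeff_image_conjIrr]
    congr 1
  · have hy' : x⁻¹ * y * x ∉ K := by
      intro h
      apply hy
      have := (Subgroup.mem_normalizer_iff.mp hx (x⁻¹ * y * x)).mp h
      have e : x * (x⁻¹ * y * x) * x⁻¹ = y := by group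
      rwa [e] at this
    rw [extZero_not_mem' K _ hy, extZero_not_mem' K _ hy']

variable {P H : Subgroup G}

/-- an element of `N_G(P)` stabilizes a block of `H = P C_G(P)` iff it stabilizes the block of
`C_G(P)` with the same idempotent -/
theorem stab_iff {p : ℕ} [Fact p.Prime] (hM : IsPModular p M) (hP : IsPGroup p P)
    (hPH : P ≤ H) (hCH : Subgroup.centralizer (P : Set G) ≤ H)
    (hHle : H ≤ P ⊔ Subgroup.centralizer (P : Set G))
    {e : Set (IrrCharacter (Subgroup.centralizer (P : Set G)))} (he : IsPBlock M e)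
    {b : Set (IrrCharacter H)} (hb : IsPBlock M b)
    (hbe : ∀ h : H, blockCoeff b h =
      subgroupBlockCoeff (Subgroup.centralizer (P : Set G)) e (h : G))
    {g : G} (hg : g ∈ Subgroup.normalizer (P : Set G)) :
    (∀ θ ∈ b, ∀ θ' : IrrCharacter H,
      (∀ h h' : H, (h' : G) = g * h * g⁻¹ → (θ' : H → ℂ) h' = (θ : H → ℂ) h) → θ' ∈ b) ↔
      StabilizesBlock (Subgroup.centralizer (P : Set G)) e g := by
  have hMprime : M.IsPrime := hM.2.1.isPrime
  have hgH : g ∈ Subgroup.normalizer (H : Set G) :=
    normalizer_le_normalizer_of_eq_sup hPH hCH hHle hg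
  have hgC : g ∈ Subgroup.normalizer
      ((Subgroup.centralizer (P : Set G) : Subgroup G) : Set G) :=
    normalizer_le_normalizer_centralizer P hg
  have hconjEq : ∀ θ θ' : IrrCharacter H,
      (∀ h h' : H, (h' : G) = g * h * g⁻¹ → (θ' : H → ℂ) h' = (θ : H → ℂ) h) →
      θ' = conjIrr H g hgH θ := by
    intro θ θ' h
    apply Subtype.ext
    funext k
    rw [conjIrr_apply]
    apply h
    rw [conjK_symm_apply]
    group
  have hconjSat : ∀ θ : IrrCharacter H, ∀ h h' : H, (h' : G) = g * h * g⁻¹ →
      (conjIrr H g hgH θ : H → ℂ) h' = (θ : H → ℂ) h := by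
    intro θ h h' hh
    rw [conjIrr_apply]
    refine congrArg (θ : H → ℂ) (Subtype.ext ?_)
    rw [conjK_symm_apply, hh]
    group
  constructor
  · intro hstab
    set e_g := conjIrr (Subgroup.centralizer (P : Set G)) g hgC '' e with he_g'
    have he_g : IsPBlock M e_g := isPBlock_image_conjIrr _ g hgC he
    obtain ⟨b_g, hb_g, hbg⟩ := exists_extBlock hM hP hCH hHle he_g
    obtain ⟨θ, hθ⟩ := block_nonempty hb
    have hθ' : conjIrr H g hgH θ ∈ b := hstab θ hθ _ (hconjSat θ)
    have hθ'g : conjIrr H g hgH θ ∈ b_g := by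
      rw [mem_iff_omegaF_of_blockCoeff hbg _, omegaF_conjIrr]
      have h1 := (mem_iff_omegaF_of_blockCoeff hbe θ).mp hθ
      rw [← h1]
      congr 1
      funext k
      show subgroupBlockCoeff (Subgroup.centralizer (P : Set G)) e_g
        ((conjK H g hgH k : H) : G) = _
      rw [he_g', subgroupBlockCoeff_image_conjIrr, conjK_apply]
      congr 1
      group
    have hbb : b = b_g := block_eq_of_mem hb hb_g hθ' hθ'g
    have hcoef : blockCoeff e_g = blockCoeff e := by
      funext c
      have h1 := hbe ⟨(c : G), hCH c.2⟩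
      have h2 := hbg ⟨(c : G), hCH c.2⟩
      rw [← hbb, h1] at h2
      rw [subgroupBlockCoeff_eq_extZero, subgroupBlockCoeff_eq_extZero] at h2
      have e1 := extZero_mem' (Subgroup.centralizer (P : Set G)) (blockCoeff e) c
      have e2 := extZero_mem' (Subgroup.centralizer (P : Set G)) (blockCoeff e_g) c
      simp only at h2
      rw [e1, e2] at h2
      exact h2.symm
    have heq : e_g = e := blockCoeff_injective hcoef
    exact (image_conjIrr_eq_iff _ he g hgC).mp heq
  · intro hs θ hθ θ' hθ'
    rw [hconjEq θ θ' hθ', mem_iff_omegaF_of_blockCoeff hbe _, omegaF_conjIrr]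
    have h1 := (mem_iff_omegaF_of_blockCoeff hbe θ).mp hθ
    rw [← h1]
    congr 1
    funext k
    show subgroupBlockCoeff (Subgroup.centralizer (P : Set G)) e
      ((conjK H g hgH k : H) : G) = _
    rw [conjK_apply]
    have hinv := invUnder_extZero_of_stabilizes (Subgroup.centralizer (P : Set G))
      (Subgroup.zpowers g) e (by
        obtain ⟨T', hT'⟩ := exists_stabSubgroup P he
        have hgT : g ∈ T' := (hT' g).mpr ⟨hg, hs⟩
        intro x hx
        have : x ∈ T' := (Subgroup.zpowers_le.mpr hgT) hx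
        exact ((hT' x).mp this).2)
    exact hinv g (Subgroup.mem_zpowers g) (k : G)

/-- **The inertial index criterion** (statement S4437): for a block `b` of `H = P C_G(P)` with
defect group `P` and `T` its stabilizer in `N_G(P)`, the induced block has defect group `P` iff
`p ∤ [T : H]`. -/
theorem inertial_index_iff {p : ℕ} [Fact p.Prime] (hM : IsPModular p M) (hP : IsPGroup p P)
    (hH : H = P ⊔ Subgroup.centralizer (P : Set G))
    {b : Set (IrrCharacter H)} (hb : IsPBlock M b)
    (hbP : IsDefectGroup p M b (P.subgroupOf H)) {B : Set (IrrCharacter G)}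
    (hind : IsInducedBlock M H b B) {T : Subgroup G}
    (hT : ∀ g : G, g ∈ T ↔ (g ∈ Subgroup.normalizer (P : Set G) ∧ ∀ θ ∈ b,
      ∀ θ' : IrrCharacter H,
        (∀ h h' : H, (h' : G) = g * h * g⁻¹ → (θ' : H → ℂ) h' = (θ : H → ℂ) h) → θ' ∈ b)) :
    IsDefectGroup p M B P ↔ ¬ p ∣ H.relIndex T := by
  have hMprime : M.IsPrime := hM.2.1.isPrime
  have hp : p.Prime := hM.1
  have hPH : P ≤ H := hH ▸ le_sup_left
  have hCH : Subgroup.centralizer (P : Set G) ≤ H := hH ▸ le_sup_right
  have hHle : H ≤ P ⊔ Subgroup.centralizer (P : Set G) := hH.le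
  have hB : IsPBlock M B := hind.2.1
  obtain ⟨e, hPe, hbe⟩ := exists_pair_of_induced hM hP hPH hCH hHle hind
  have he : IsPBlock M e := hPe.1.2
  have hT' : ∀ y : G, y ∈ T ↔ y ∈ Subgroup.normalizer (P : Set G) ∧
      StabilizesBlock (Subgroup.centralizer (P : Set G)) e y := by
    intro y
    rw [hT]
    constructor
    · rintro ⟨h1, h2⟩
      exact ⟨h1, (stab_iff hM hP hPH hCH hHle he hb hbe h1).mp h2⟩
    · rintro ⟨h1, h2⟩
      exact ⟨h1, (stab_iff hM hP hPH hCH hHle he hb hbe h1).mpr h2⟩
  have hHT : H ≤ T := fun h hh =>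
    (hT' h).mpr ⟨sup_centralizer_le_normalizer P (hHle hh),
      stabilizesBlock_of_mem_sup he (hHle hh)⟩
  have hCT : Subgroup.centralizer (P : Set G) ≤ T := hCH.trans hHT
  have hTN : T ≤ Subgroup.normalizer
      ((Subgroup.centralizer (P : Set G) : Subgroup G) : Set G) := fun t ht =>
    normalizer_le_normalizer_centralizer P ((hT' t).mp ht).1
  haveI hnT : ((Subgroup.centralizer (P : Set G)).subgroupOf T).Normal :=
    (Subgroup.normal_subgroupOf_iff_le_normalizer hCT).mpr hTN
  haveI hnH : ((Subgroup.centralizer (P : Set G)).subgroupOf H).Normal :=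
    normal_centralizer_subgroupOf hHle
  have hdb := (defect_of_same_idem_sub hM hCH he
    (fun t => stabilizesBlock_of_mem_sup he (hHle t.2)) hb hbe hbP).2
  have hcardP : Nat.card P = p ^ blockDefect p b := by
    rw [← card_subgroupOf_of_le hPH]
    exact Cfsg.Agent.S0908.result p M hM b hb _ hbP
  have hrel : (Subgroup.centralizer (P : Set G)).relIndex T =
      (Subgroup.centralizer (P : Set G)).relIndex H * H.relIndex T :=
    (Subgroup.relIndex_mul_relIndex _ H T hCH hHT).symm
  constructor
  · intro hPdef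
    have hcard : Nat.card P = p ^ blockDefect p B := Cfsg.Agent.S0908.result p M hM B hB P hPdef
    have hmax := isMaximalBrauerPair_of_card hM hPe hcard
    obtain ⟨E, hE, hEe⟩ := exists_stab_block hM hP he hT'
    have hPT := isDefectGroup_stab_of_maximal hM hmax hT' hE hEe
    have h1 := (defect_of_same_idem_sub hM hCT he (fun t => ((hT' t).mp t.2).2) hE hEe hPT).1
    have h2 : P.subgroupOf T ⊔ (Subgroup.centralizer (P : Set G)).subgroupOf T =
        H.subgroupOf T := by
      rw [← Subgroup.subgroupOf_sup (hPH.trans hHT) hCT, ← hH]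
    rw [h2] at h1
    exact h1
  · intro hnd
    obtain ⟨D, f, hmaxD, hle⟩ := exists_maximal_ge hM (Nat.card G - Nat.card P) P e hPe le_rfl
    have hPD : P ≤ D := subpairLE_le hle
    have hDf : IsBrauerPair p M D f := hmaxD.1.1
    obtain ⟨⟨F, hF, hFe, D_E, hD_E, hsub⟩, -⟩ := normalizer_defect hM hmaxD hPD he hle hT'
    have hdF := (defect_of_same_idem_sub hM hCT he (fun t => ((hT' t).mp t.2).2) hF hFe hD_E).2
    have hne1 : (Subgroup.centralizer (P : Set G)).relIndex H ≠ 0 := by
      unfold Subgroup.relIndex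
      exact Subgroup.index_ne_zero_of_finite
    have hne2 : H.relIndex T ≠ 0 := by
      unfold Subgroup.relIndex
      exact Subgroup.index_ne_zero_of_finite
    have hdeq : blockDefect p F = blockDefect p b := by
      rw [hdF, hdb, hrel, Nat.factorization_mul hne1 hne2, Finsupp.add_apply,
        Nat.factorization_eq_zero_of_not_dvd hnd, add_zero]
    have hcardDE : Nat.card D_E = Nat.card P := by
      rw [Cfsg.Agent.S0908.result p M hM F hF D_E hD_E, hdeq, hcardP]
    have hNle : D ⊓ Subgroup.normalizer (P : Set G) ≤ T :=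
      normalizerIn_le_stab hM hDf hPD he hle hT'
    have hcardN : Nat.card (D ⊓ Subgroup.normalizer (P : Set G) : Subgroup G) ≤ Nat.card P := by
      rw [← hcardDE, ← card_subgroupOf_of_le hNle]
      exact Subgroup.card_le_of_le hsub
    have hPN : P ≤ D ⊓ Subgroup.normalizer (P : Set G) := le_inf hPD Subgroup.le_normalizer
    have hNeq : P = D ⊓ Subgroup.normalizer (P : Set G) :=
      Subgroup.eq_of_le_of_card_ge hPN hcardN
    have hDP : D ≤ P := by
      apply le_of_normalizer_condition P D hDf.1 hPD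
      intro Q _ _ hQD hQN
      rw [hNeq]
      exact le_inf hQD hQN
    have hDeq : D = P := le_antisymm hDP hPD
    rw [← hDeq]
    exact isDefectGroup_of_maximal hM hmaxD

end

end Cfsg.Agent.Lib.Helper4
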