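import Mathlib
import Cfsg.Agent.Lib.Helper4.BrauerInert
import Cfsg.Agent.Lib.Helper28.DefectGen
import Cfsg.Agent.Lib.Helper28.BrauerR
import Cfsg.Agent.Lib.Helper28.BlockRankA
import Cfsg.Agent.Lib.Helper26.CharInt
import Cfsg.Agent.Lib.Helper4.CenterBound
import Cfsg.Agent.S0911
import Cfsg.Agent.S0912
import Cfsg.Agent.S0908

set_option autoImplicit false

/-!
# Blocks with a central defect group (helper4)

Laradji's theorem on characters of central defect and its consequences.
-/

namespace Cfsg.Agent.Lib.Helper4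

open Cfsg Cfsg.Agent.Lib.Helper28 Cfsg.Agent.Lib.Helper26
open scoped ComplexConjugate Classical

section Grp

variable {G : Type*} [Group G]

/-- a central `p`-element times a `p`-regular element: the decomposition is unique -/
theorem central_mul_preg_inj [Finite G] {p : ℕ} [Fact p.Prime] {D : Subgroup G}
    (hD : IsPGroup p D) (hDZ : D ≤ Subgroup.center G) {z z' y y' : G} (hz : z ∈ D) (hz' : z' ∈ D)
    (hy : ¬ p ∣ orderOf y) (hy' : ¬ p ∣ orderOf y') (h : z * y = z' * y') : z = z' ∧ y = y' := by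
  have hp : p.Prime := Fact.out
  have hw : z'⁻¹ * z ∈ D := D.mul_mem (D.inv_mem hz') hz
  have hwy : (z'⁻¹ * z) * y = y' := by rw [mul_assoc, h, inv_mul_cancel_left]
  obtain ⟨k, hk⟩ := hD ⟨_, hw⟩
  have hk' : (z'⁻¹ * z) ^ p ^ k = 1 := by
    have := congrArg Subtype.val hk
    simpa using this
  have hcomm : Commute (z'⁻¹ * z) y := by
    have := Subgroup.mem_center_iff.mp (hDZ hw) y
    exact this.symm
  have h1 : (z'⁻¹ * z) ^ (orderOf y * orderOf y') = 1 := by
    have h2 : y' ^ (orderOf y * orderOf y') = 1 := by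
      rw [mul_comm, pow_mul, pow_orderOf_eq_one, one_pow]
    have h3 : y ^ (orderOf y * orderOf y') = 1 := by
      rw [pow_mul, pow_orderOf_eq_one, one_pow]
    generalize orderOf y * orderOf y' = m at h2 h3 ⊢
    rw [← hwy, hcomm.mul_pow, h3, mul_one] at h2
    exact h2
  have hd1 : orderOf (z'⁻¹ * z) ∣ p ^ k := orderOf_dvd_of_pow_eq_one hk'
  have hd2 : orderOf (z'⁻¹ * z) ∣ orderOf y * orderOf y' := orderOf_dvd_of_pow_eq_one h1
  have hcop : Nat.Coprime (p ^ k) (orderOf y * orderOf y') := by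
    apply Nat.Coprime.pow_left
    apply Nat.Coprime.mul_right
    · exact (Nat.Prime.coprime_iff_not_dvd hp).mpr hy
    · exact (Nat.Prime.coprime_iff_not_dvd hp).mpr hy'
  have h3 : orderOf (z'⁻¹ * z) = 1 := Nat.eq_one_of_dvd_coprimes hcop hd1 hd2
  have h4 : z'⁻¹ * z = 1 := orderOf_eq_one_iff.mp h3
  have h5 : z = z' := by
    have := congrArg (fun t => z' * t) h4
    simpa using this
  refine ⟨h5, ?_⟩
  rw [h4, one_mul] at hwy
  exact hwy

/-- if `g = z y` with `z` in the central `p`-subgroup `D` and `y` a `p`-regular element, then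
the `p`-part of `g` lies in `D` -/
theorem pPart_mem_of_eq_central_mul [Finite G] {p : ℕ} [Fact p.Prime] {D : Subgroup G}
    (hD : IsPGroup p D) (hDZ : D ≤ Subgroup.center G) {z y g x : G} (hz : z ∈ D)
    (hy : ¬ p ∣ orderOf y) (hg : g = z * y) (hx : IsPPart p g x) : x ∈ D := by
  have hp : p.Prime := Fact.out
  obtain ⟨i, hi⟩ := exists_pow_eq_of_isPPart hp hx
  obtain ⟨y', hxy', hcomm', ⟨k', hk'⟩, hy'⟩ := hx
  have hzy : Commute z y := by
    have := Subgroup.mem_center_iff.mp (hDZ hz) y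
    exact this.symm
  -- `x = z ^ i * y ^ i`
  have h1 : x = z ^ i * y ^ i := by rw [← hi, hg, hzy.mul_pow]
  -- `y ^ i = (z ^ i)⁻¹ * x` is a `p`-element and `p`-regular
  obtain ⟨k, hk⟩ := hD ⟨_, hz⟩
  have hk2 : z ^ p ^ k = 1 := by
    have := congrArg Subtype.val hk
    simpa using this
  have hzx : Commute (z ^ i)⁻¹ x := by
    have hm : (z ^ i)⁻¹ ∈ Subgroup.center G :=
      (Subgroup.center G).inv_mem ((Subgroup.center G).pow_mem (hDZ hz) i)
    have := Subgroup.mem_center_iff.mp hm x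
    exact this.symm
  have h2 : y ^ i = (z ^ i)⁻¹ * x := by rw [h1, inv_mul_cancel_left]
  have h3 : (y ^ i) ^ (p ^ (k + k')) = 1 := by
    rw [h2, hzx.mul_pow, inv_pow, ← pow_mul, pow_add, ← mul_assoc, mul_comm i, mul_assoc,
      pow_mul z, hk2, one_pow, inv_one, one_mul, mul_comm (p ^ k), pow_mul x, ← hk',
      pow_orderOf_eq_one, one_pow]
  have h4 : (y ^ i) ^ orderOf y = 1 := by
    rw [← pow_mul, mul_comm, pow_mul, pow_orderOf_eq_one, one_pow]
  have hd1 : orderOf (y ^ i) ∣ p ^ (k + k') := orderOf_dvd_of_pow_eq_one h3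
  have hd2 : orderOf (y ^ i) ∣ orderOf y := orderOf_dvd_of_pow_eq_one h4
  have hcop : Nat.Coprime (p ^ (k + k')) (orderOf y) :=
    Nat.Coprime.pow_left _ ((Nat.Prime.coprime_iff_not_dvd hp).mpr hy)
  have h5 : y ^ i = 1 := orderOf_eq_one_iff.mp (Nat.eq_one_of_dvd_coprimes hcop hd1 hd2)
  rw [h1, h5, mul_one]
  exact D.pow_mem hz i

end Grp

section Fin

variable {G : Type*} [Group G] [Fintype G]

/-- multiplying by a central element does not change the absolute value of an irreducible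
character -/
theorem normSq_char_central_mul {χ : G → ℂ} (hχ : IsIrrCharacter G χ) {z : G}
    (hz : z ∈ Subgroup.center G) (g : G) :
    Complex.normSq (χ (z * g)) = Complex.normSq (χ g) := by
  obtain ⟨n, ρ, hirr, rfl⟩ := hχ
  obtain ⟨ζ, hζ⟩ := exists_scalar_of_mem_center ρ hirr z hz
  have hnt := nontrivial_of_irreducible ρ hirr
  rw [← Module.End.one_eq_id] at hζ
  have hpow : ζ ^ (Nat.card G) = 1 := by
    have h1 : ρ (z ^ Nat.card G) = 1 := by rw [pow_card_eq_one', map_one]
    rw [map_pow, hζ, smul_pow, one_pow] at h1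
    obtain ⟨v, hv⟩ := exists_ne (0 : Fin n → ℂ)
    have h3 := LinearMap.congr_fun h1 v
    rw [LinearMap.smul_apply, Module.End.one_apply] at h3
    have h4 : (ζ ^ Nat.card G - 1) • v = 0 := by
      rw [sub_smul, one_smul, h3, sub_self]
    rcases smul_eq_zero.1 h4 with h5 | h5
    · exact sub_eq_zero.1 h5
    · exact absurd h5 hv
  have hnorm : ‖ζ‖ = 1 := Complex.norm_eq_one_of_pow_eq_one hpow Nat.card_pos.ne'
  show Complex.normSq (LinearMap.trace ℂ _ (ρ (z * g))) = Complex.normSq (LinearMap.trace ℂ _ (ρ g))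
  rw [map_mul, hζ, smul_mul_assoc, one_mul, map_smul, smul_eq_mul, Complex.normSq_mul,
    Complex.normSq_eq_norm_sq ζ, hnorm, one_pow, one_mul]

/-- the sum of the squared absolute values of an irreducible character -/
theorem sum_normSq_irrChar {χ : G → ℂ} (hχ : IsIrrCharacter G χ) :
    ∑ g : G, Complex.normSq (χ g) = (Nat.card G : ℝ) := by
  obtain ⟨n, ρ, hirr, rfl⟩ := hχ
  exact sum_normSq_irr ρ hirr

/-- for a central `p`-subgroup `D` and an irreducible character `χ`:
`|D| ∑_{y p-regular} |χ(y)|² ≤ |G|`, and equality forces `χ` to vanish off `D G_{p'}` -/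
theorem card_mul_sum_preg_le {p : ℕ} [Fact p.Prime] {D : Subgroup G} (hD : IsPGroup p D)
    (hDZ : D ≤ Subgroup.center G) {χ : G → ℂ} (hχ : IsIrrCharacter G χ) :
    (Nat.card D : ℝ) * ∑ y : G, (if p ∣ orderOf y then 0 else Complex.normSq (χ y)) ≤ Nat.card G ∧
    ((Nat.card D : ℝ) * ∑ y : G, (if p ∣ orderOf y then 0 else Complex.normSq (χ y)) = Nat.card G →
      ∀ g : G, χ g ≠ 0 → ∃ z ∈ D, ∃ y : G, ¬ p ∣ orderOf y ∧ g = z * y) := by
  set Rp : Finset G := Finset.univ.filter (fun y : G => ¬ p ∣ orderOf y) with hRp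
  set f : ↥D × G → G := fun zy => (zy.1 : G) * zy.2 with hf
  set Im : Finset G := Finset.image f ((Finset.univ : Finset ↥D) ×ˢ Rp) with hIm
  have hinj : Set.InjOn f (((Finset.univ : Finset ↥D) ×ˢ Rp : Finset (↥D × G)) : Set (↥D × G)) := by
    rintro ⟨z, y⟩ h1 ⟨z', y'⟩ h2 h
    simp only [Finset.coe_product, Finset.coe_univ, Set.mem_prod, Set.mem_univ, true_and,
      Finset.mem_coe, hRp, Finset.mem_filter, Finset.mem_univ] at h1 h2
    obtain ⟨h3, h4⟩ := central_mul_preg_inj hD hDZ z.2 z'.2 h1 h2 h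
    exact Prod.ext (Subtype.ext h3) h4
  have h1 : ∑ g ∈ Im, Complex.normSq (χ g) =
      (Nat.card D : ℝ) * ∑ y : G, (if p ∣ orderOf y then 0 else Complex.normSq (χ y)) := by
    rw [hIm, Finset.sum_image hinj, Finset.sum_product]
    have h2 : ∀ z : ↥D, ∑ y ∈ Rp, Complex.normSq (χ (f (z, y))) =
        ∑ y : G, (if p ∣ orderOf y then 0 else Complex.normSq (χ y)) := by
      intro z
      rw [hRp, Finset.sum_filter]
      refine Finset.sum_congr rfl fun y _ => ?_
      by_cases hy : p ∣ orderOf y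
      · rw [if_neg (not_not.mpr hy), if_pos hy]
      · rw [if_pos hy, if_neg hy]
        exact normSq_char_central_mul hχ (hDZ z.2) y
    rw [Finset.sum_congr rfl fun z _ => h2 z, Finset.sum_const, Finset.card_univ,
      nsmul_eq_mul, Nat.card_eq_fintype_card]
  have h2 : ∑ g ∈ Im, Complex.normSq (χ g) + ∑ g ∈ Imᶜ, Complex.normSq (χ g) = Nat.card G := by
    rw [Finset.sum_add_sum_compl, sum_normSq_irrChar hχ]
  have h3 : 0 ≤ ∑ g ∈ Imᶜ, Complex.normSq (χ g) :=
    Finset.sum_nonneg fun g _ => Complex.normSq_nonneg _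
  refine ⟨by rw [← h1]; linarith, ?_⟩
  intro heq g hg
  rw [← h1] at heq
  have h4 : ∑ g ∈ Imᶜ, Complex.normSq (χ g) = 0 := by linarith
  rw [Finset.sum_eq_zero_iff_of_nonneg fun g _ => Complex.normSq_nonneg _] at h4
  by_contra hcon
  apply hg
  have h5 : g ∈ Imᶜ := by
    rw [Finset.mem_compl, hIm, Finset.mem_image]
    rintro ⟨⟨z, y⟩, h6, h7⟩
    simp only [Finset.mem_product, Finset.mem_univ, true_and, hRp, Finset.mem_filter] at h6
    exact hcon ⟨z, z.2, y, h6, h7.symm⟩
  exact Complex.normSq_eq_zero.mp (h4 g h5)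

/-- `|D| = p ^ (a - ν(χ(1)))` under Laradji's hypothesis -/
theorem card_eq_pow_of_degree {p : ℕ} [Fact p.Prime] {D : Subgroup G} (hD : IsPGroup p D)
    (χ : IrrCharacter G)
    (hdeg : (charDegree (χ : G → ℂ)).factorization p = D.index.factorization p) :
    Nat.card D = p ^ ((Nat.card G).factorization p -
      (charDegree (χ : G → ℂ)).factorization p) := by
  have hp : p.Prime := Fact.out
  obtain ⟨n, hn⟩ := hD.exists_card_eq
  have h1 : Nat.card D * D.index = Nat.card G := Subgroup.card_mul_index D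
  have h2 : (Nat.card G).factorization p = n + D.index.factorization p := by
    rw [← h1, Nat.factorization_mul (by rw [hn]; exact pow_ne_zero _ hp.ne_zero)
      Subgroup.index_ne_zero_of_finite, Finsupp.add_apply, hn, hp.factorization_pow]
    simp
  rw [hn, h2, hdeg, Nat.add_sub_cancel]

/-- Laradji: `|D| ∑_{y p-regular} |χ(y)|² = |G|` -/
theorem laradji_sum {p : ℕ} [Fact p.Prime] {D : Subgroup G} (hD : IsPGroup p D)
    (hDZ : D ≤ Subgroup.center G) (χ : IrrCharacter G)
    (hdeg : (charDegree (χ : G → ℂ)).factorization p = D.index.factorization p) :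
    (Nat.card D : ℝ) * ∑ y : G, (if p ∣ orderOf y then 0 else Complex.normSq ((χ : G → ℂ) y)) =
      Nat.card G := by
  have hp : p.Prime := Fact.out
  obtain ⟨hle, -⟩ := card_mul_sum_preg_le hD hDZ χ.2
  have hgen := irr_pPart_isGeneralizedCharacter hp χ
  rw [← card_eq_pow_of_degree hD χ hdeg] at hgen
  obtain ⟨k, hk⟩ := classInner_generalized_int hgen
    (isGeneralizedCharacter_of_isCharacter (isCharacter_of_isIrrCharacter χ.2))
  set T : ℝ := ∑ y : G, (if p ∣ orderOf y then 0 else Complex.normSq ((χ : G → ℂ) y)) with hT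
  have hGpos : (0 : ℝ) < Nat.card G := by exact_mod_cast Nat.card_pos
  have hDpos : (0 : ℝ) < Nat.card D := by exact_mod_cast Nat.card_pos
  have h1 : ((Nat.card D : ℝ) * T : ℂ) = (k : ℂ) * (Nat.card G : ℂ) := by
    rw [← hk]
    unfold classInner
    have hG0 : (Nat.card G : ℂ) ≠ 0 := by exact_mod_cast Nat.card_pos.ne'
    rw [mul_comm ((Nat.card G : ℂ)⁻¹), mul_assoc, inv_mul_cancel₀ hG0, mul_one, hT,
      Complex.ofReal_sum, Finset.mul_sum]
    refine Finset.sum_congr rfl fun y _ => ?_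
    show _ = (if p ∣ orderOf y then (0 : ℂ) else ↑(Nat.card ↥D) * (χ : G → ℂ) y) *
      (starRingEnd ℂ) ((χ : G → ℂ) y)
    by_cases hy : p ∣ orderOf y
    · rw [if_pos hy, if_pos hy]
      simp
    · rw [if_neg hy, if_neg hy, mul_assoc, Complex.mul_conj]
      push_cast
      rfl
  have h2 : (Nat.card D : ℝ) * T = (k : ℝ) * (Nat.card G : ℝ) := by
    have : (((Nat.card D : ℝ) * T : ℝ) : ℂ) = (((k : ℝ) * (Nat.card G : ℝ) : ℝ) : ℂ) := by
      push_cast
      exact h1
    exact Complex.ofReal_injective this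
  have hTpos : 0 < T := by
    rw [hT]
    apply Finset.sum_pos'
    · intro y _
      split_ifs
      · exact le_refl _
      · exact Complex.normSq_nonneg _
    · refine ⟨1, Finset.mem_univ _, ?_⟩
      rw [if_neg (by rw [orderOf_one]; exact hp.one_lt.ne' ∘ Nat.dvd_one.mp)]
      apply Complex.normSq_pos.mpr
      obtain ⟨hne, h1, _⟩ := irr_degree_nat χ.2
      rw [h1]
      exact_mod_cast hne
  have hk1 : (0 : ℝ) < k := by
    by_contra hcon
    push Not at hcon
    have : (k : ℝ) * (Nat.card G : ℝ) ≤ 0 := mul_nonpos_of_nonpos_of_nonneg hcon hGpos.le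
    have h3 : 0 < (Nat.card D : ℝ) * T := mul_pos hDpos hTpos
    linarith
  have hk2 : (k : ℝ) ≤ 1 := by
    by_contra hcon
    push Not at hcon
    have : (Nat.card G : ℝ) < (k : ℝ) * (Nat.card G : ℝ) := by
      nlinarith
    linarith
  have hk3 : k = 1 := by
    have h4 : 0 < k := by exact_mod_cast hk1
    have h5 : k ≤ 1 := by exact_mod_cast hk2
    omega
  rw [h2, hk3]
  simp

/-- Laradji: `χ` vanishes off `D G_{p'}` -/
theorem laradji_support {p : ℕ} [Fact p.Prime] {D : Subgroup G} (hD : IsPGroup p D)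
    (hDZ : D ≤ Subgroup.center G) (χ : IrrCharacter G)
    (hdeg : (charDegree (χ : G → ℂ)).factorization p = D.index.factorization p) (g : G)
    (hg : (χ : G → ℂ) g ≠ 0) : ∃ z ∈ D, ∃ y : G, ¬ p ∣ orderOf y ∧ g = z * y :=
  (card_mul_sum_preg_le hD hDZ χ.2).2 (laradji_sum hD hDZ χ hdeg) g hg

/-- Laradji: `χ` vanishes at the elements whose `p`-part is outside `D` -/
theorem laradji_vanish {p : ℕ} [Fact p.Prime] {D : Subgroup G} (hD : IsPGroup p D)
    (hDZ : D ≤ Subgroup.center G) (χ : IrrCharacter G)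
    (hdeg : (charDegree (χ : G → ℂ)).factorization p = D.index.factorization p) (g x : G)
    (hx : IsPPart p g x) (hxD : x ∉ D) : (χ : G → ℂ) g = 0 := by
  by_contra hg
  obtain ⟨z, hz, y, hy, hgzy⟩ := laradji_support hD hDZ χ hdeg g hg
  exact hxD (pPart_mem_of_eq_central_mul hD hDZ hz hy hgzy hx)

end Fin

section Loc

variable {G : Type*} [Group G] [Fintype G] {M : Ideal AlgInt}

omit [Group G] [Fintype G] in
/-- `a / b` lies in the local ideal when `v_p(b) < v_p(a)` -/
theorem natCast_div_memLocalIdeal {p : ℕ} (hM : IsPModular p M) {a b : ℕ} (ha : a ≠ 0)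
    (hb : b ≠ 0) (h : b.factorization p < a.factorization p) :
    MemLocalIdeal M ((a : ℂ) / (b : ℂ)) := by
  have hprime : M.IsPrime := hM.2.1.isPrime
  have hp : p.Prime := hM.1
  have hpa : p ∣ a := by
    apply Nat.dvd_of_factorization_pos
    omega
  obtain ⟨a', rfl⟩ := hpa
  have ha' : a' ≠ 0 := by
    rintro rfl
    exact ha (mul_zero _)
  have h1 : (p * a').factorization p = a'.factorization p + 1 := by
    rw [Nat.factorization_mul hp.ne_zero ha', Finsupp.add_apply, hp.factorization_self]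
    ring
  have h2 : ((p * a' : ℕ) : ℂ) / (b : ℂ) = (p : ℂ) * ((a' : ℂ) / (b : ℂ)) := by
    push_cast
    ring
  rw [h2]
  exact memLocalIdeal_mul_right (memLocalIdeal_natCast_p hM)
    (natCast_div_memLocalRing hM ha' hb (by omega))

/-- a unit value forces the `p`-part of the degree to be at most that of the class size -/
theorem degree_factorization_le_of_value {p : ℕ} (hM : IsPModular p M) (χ : IrrCharacter G)
    (y : G) (hy : ¬ MemLocalIdeal M ((χ : G → ℂ) y)) :
    (charDegree (χ : G → ℂ)).factorization p ≤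
      ((Subgroup.centralizer ({y} : Set G)).index).factorization p := by
  by_contra hcon
  push Not at hcon
  apply hy
  obtain ⟨hne, h1, _⟩ := irr_degree_nat χ.2
  have hidx : ((Subgroup.centralizer ({y} : Set G)).index : ℂ) ≠ 0 := by
    exact_mod_cast Subgroup.index_ne_zero_of_finite
  have hdeg : ((charDegree (χ : G → ℂ) : ℕ) : ℂ) ≠ 0 := by exact_mod_cast hne
  have h2 : (χ : G → ℂ) y = centralChar (χ : G → ℂ) y *
      (((charDegree (χ : G → ℂ) : ℕ) : ℂ) / ((Subgroup.centralizer ({y} : Set G)).index : ℂ)) := by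
    unfold centralChar
    rw [h1]
    field_simp
  rw [h2]
  exact memLocalIdeal_isIntegral_mul (isIntegral_centralChar χ.2 y)
    (natCast_div_memLocalIdeal hM hne Subgroup.index_ne_zero_of_finite hcon)

omit [Fintype G] in
/-- the values of an irreducible character are algebraic integers -/
theorem irrChar_isIntegral [Finite G] {χ : G → ℂ} (hχ : IsIrrCharacter G χ) (g : G) :
    IsIntegral ℤ (χ g) := by
  obtain ⟨n, ρ, _, rfl⟩ := hχ
  exact character_isIntegral ρ g

/-- Laradji: some `p`-regular class has unit central character and a centralizer whose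
`p`-part is at most `|D|` -/
theorem laradji_class {p : ℕ} [Fact p.Prime] (hM : IsPModular p M) {D : Subgroup G}
    (hD : IsPGroup p D) (hDZ : D ≤ Subgroup.center G) (χ : IrrCharacter G)
    (hdeg : (charDegree (χ : G → ℂ)).factorization p = D.index.factorization p) :
    ∃ y : G, ¬ p ∣ orderOf y ∧ ¬ MemLocalIdeal M (centralChar (χ : G → ℂ) y) ∧
      (Nat.card (Subgroup.centralizer ({y} : Set G))).factorization p ≤
        (Nat.card D).factorization p := by
  have hp : p.Prime := Fact.out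
  have hprime : M.IsPrime := hM.2.1.isPrime
  have hMtop : M ≠ ⊤ := hM.2.1.ne_top
  obtain ⟨hne, hχ1, _⟩ := irr_degree_nat χ.2
  have hcardD := card_eq_pow_of_degree hD χ hdeg
  have hDG : Nat.card D * D.index = Nat.card G := Subgroup.card_mul_index D
  have hD0 : Nat.card D ≠ 0 := Nat.card_pos.ne'
  have hG0 : Nat.card G ≠ 0 := Nat.card_pos.ne'
  have hfac : (Nat.card G).factorization p =
      (Nat.card D).factorization p + (charDegree (χ : G → ℂ)).factorization p := by
    rw [← hDG, Nat.factorization_mul hD0 Subgroup.index_ne_zero_of_finite, Finsupp.add_apply,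
      hdeg]
  -- the unit `c = |D| χ(1) / |G|`
  have hc : MemLocalRing M (((Nat.card D * charDegree (χ : G → ℂ) : ℕ) : ℂ) /
      ((Nat.card G : ℕ) : ℂ)) := by
    apply natCast_div_memLocalRing hM (Nat.mul_ne_zero hD0 hne) hG0
    rw [Nat.factorization_mul hD0 hne, Finsupp.add_apply, hfac]
  set c : ℂ := ((Nat.card D * charDegree (χ : G → ℂ) : ℕ) : ℂ) / ((Nat.card G : ℕ) : ℂ) with hcdef
  set F : G → ℂ := fun g => if p ∣ orderOf g then 0 else c * (χ : G → ℂ) g⁻¹ with hF
  have hcl := Cfsg.Agent.Lib.Helper4.isClassFunction_of_isIrrCharacter χ.2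
  have hF1 : IsClassFunction G F := by
    intro g h
    simp only [hF]
    have h1 : orderOf (h * g * h⁻¹) = orderOf g := by
      have := orderOf_injective (MulAut.conj h).toMonoidHom (MulAut.conj h).injective g
      simpa using this
    rw [h1]
    have h2 : (h * g * h⁻¹)⁻¹ = h * g⁻¹ * h⁻¹ := by group
    rw [h2, hcl]
  have hF2 : ∀ g, MemLocalRing M (F g) := by
    intro g
    simp only [hF]
    split_ifs
    · exact memLocalRing_zero hMtop
    · exact memLocalRing_mul hc (memLocalRing_of_isIntegral hMtop (irrChar_isIntegral χ.2 _))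
  have hω : omegaF (χ : G → ℂ) F = 1 := by
    have hsum := laradji_sum hD hDZ χ hdeg
    have hsumC : ((Nat.card D : ℂ)) * ∑ y : G,
        (if p ∣ orderOf y then (0 : ℂ) else ((Complex.normSq ((χ : G → ℂ) y) : ℝ) : ℂ)) =
          (Nat.card G : ℂ) := by
      have := congrArg (fun r : ℝ => (r : ℂ)) hsum
      push_cast at this
      rw [← this]
      congr 1
      refine Finset.sum_congr rfl fun y _ => ?_
      split_ifs <;> simp
    unfold omegaF
    have h1 : ∑ g : G, F g * (χ : G → ℂ) g = c * ∑ y : G,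
        (if p ∣ orderOf y then (0 : ℂ) else ((Complex.normSq ((χ : G → ℂ) y) : ℝ) : ℂ)) := by
      rw [Finset.mul_sum]
      refine Finset.sum_congr rfl fun y _ => ?_
      simp only [hF]
      by_cases hy : p ∣ orderOf y
      · rw [if_pos hy, if_pos hy, zero_mul, mul_zero]
      · rw [if_neg hy, if_neg hy, mul_assoc,
          ← isCharacter_conj_eq_inv (isCharacter_of_isIrrCharacter χ.2), mul_comm (conj _),
          Complex.mul_conj]
    rw [h1, hχ1, hcdef]
    have hdC : ((charDegree (χ : G → ℂ) : ℕ) : ℂ) ≠ 0 := by exact_mod_cast hne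
    have hGC : ((Nat.card G : ℕ) : ℂ) ≠ 0 := by exact_mod_cast hG0
    rw [div_mul_eq_mul_div, div_div, div_eq_one_iff_eq (mul_ne_zero hGC hdC)]
    push_cast
    linear_combination (charDegree (χ : G → ℂ) : ℂ) * hsumC
  have hnot : ¬ MemLocalIdeal M (omegaF (χ : G → ℂ) F) := by
    rw [hω]
    exact not_memLocalIdeal_one hMtop
  obtain ⟨y, hy1, hy2⟩ := exists_class_of_omegaF_not_memLocalIdeal χ.2 F hF1 hF2 hnot
  have hyreg : ¬ p ∣ orderOf y := by
    intro hy
    apply hy1
    simp only [hF]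
    rw [if_pos hy]
    exact memLocalIdeal_zero hMtop
  have hyinv : ¬ MemLocalIdeal M ((χ : G → ℂ) y⁻¹) := by
    intro hmem
    apply hy1
    simp only [hF]
    rw [if_neg hyreg]
    exact memLocalIdeal_mul_left hc hmem
  refine ⟨y, hyreg, hy2, ?_⟩
  have h3 := degree_factorization_le_of_value hM χ y⁻¹ hyinv
  have h4 : Subgroup.centralizer ({y⁻¹} : Set G) = Subgroup.centralizer ({y} : Set G) := by
    ext t
    rw [Subgroup.mem_centralizer_singleton_iff, Subgroup.mem_centralizer_singleton_iff]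
    constructor
    · intro h
      have : t * y⁻¹ * y = y⁻¹ * t * y := by rw [h]
      calc t * y = y * (y⁻¹ * t * y) := by group
        _ = y * (t * y⁻¹ * y) := by rw [this]
        _ = y * t := by group
    · intro h
      calc t * y⁻¹ = y⁻¹ * (y * t) * y⁻¹ := by group
        _ = y⁻¹ * (t * y) * y⁻¹ := by rw [h]
        _ = y⁻¹ * t := by group
  rw [h4] at h3
  have h5 : Nat.card (Subgroup.centralizer ({y} : Set G)) *
      (Subgroup.centralizer ({y} : Set G)).index = Nat.card G := Subgroup.card_mul_index _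
  have h6 : (Nat.card G).factorization p =
      (Nat.card (Subgroup.centralizer ({y} : Set G))).factorization p +
        ((Subgroup.centralizer ({y} : Set G)).index).factorization p := by
    rw [← h5, Nat.factorization_mul Nat.card_pos.ne' Subgroup.index_ne_zero_of_finite,
      Finsupp.add_apply]
  omega

omit [Fintype G] in
/-- a central subgroup is normal -/
theorem normal_of_le_center' {D : Subgroup G} (hDZ : D ≤ Subgroup.center G) : D.Normal := by
  constructor
  intro n hn g
  have h := Subgroup.mem_center_iff.mp (hDZ hn) g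
  rw [h, mul_inv_cancel_right]
  exact hn

/-- **Laradji's theorem** (defect group part): `D` is a defect group of the block of `χ` -/
theorem laradji_defect {p : ℕ} [Fact p.Prime] (hM : IsPModular p M) {D : Subgroup G}
    (hD : IsPGroup p D) (hDZ : D ≤ Subgroup.center G) (χ : IrrCharacter G)
    (hdeg : (charDegree (χ : G → ℂ)).factorization p = D.index.factorization p) :
    IsDefectGroup p M (blockOf M (χ : G → ℂ)) D := by
  have hp : p.Prime := Fact.out
  have hMtop : M ≠ ⊤ := hM.2.1.ne_top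
  have hB : IsPBlock M (blockOf M (χ : G → ℂ)) := ⟨χ, rfl⟩
  have hχB : χ ∈ blockOf M (χ : G → ℂ) := sameBlock_refl hMtop _
  obtain ⟨y, hyreg, hy2, hycard⟩ := laradji_class hM hD hDZ χ hdeg
  obtain ⟨g, hg⟩ := exists_defectClass hM hB
  obtain ⟨P0⟩ : Nonempty (Sylow p (Subgroup.centralizer ({g} : Set G))) := inferInstance
  obtain ⟨x, Q, hxQ⟩ := (Cfsg.Agent.S0911.result p M hM _ hB g hg P0 y).2 ⟨χ, hχB, hy2⟩
  have hPdef : IsDefectGroup p M (blockOf M (χ : G → ℂ))
      ((P0 : Subgroup (Subgroup.centralizer ({g} : Set G))).map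
        (Subgroup.centralizer ({g} : Set G)).subtype) := ⟨g, hg, P0, rfl⟩
  set P : Subgroup G := (P0 : Subgroup (Subgroup.centralizer ({g} : Set G))).map
        (Subgroup.centralizer ({g} : Set G)).subtype with hPdef'
  have h1 : Nat.card P ≤ Nat.card ((Q : Subgroup (Subgroup.centralizer ({y} : Set G))).map
      (Subgroup.centralizer ({y} : Set G)).subtype) := by
    rw [← Subgroup.card_map_of_injective (K := P) (f := (MulAut.conj x).toMonoidHom)
      (MulAut.conj x).injective]
    exact Subgroup.card_le_of_le hxQ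
  have h2 : Nat.card ((Q : Subgroup (Subgroup.centralizer ({y} : Set G))).map
      (Subgroup.centralizer ({y} : Set G)).subtype) =
        p ^ (Nat.card (Subgroup.centralizer ({y} : Set G))).factorization p := by
    rw [Subgroup.card_map_of_injective (Subgroup.subtype_injective _)]
    exact Q.card_eq_multiplicity
  have h3 : D ≤ P :=
    (Cfsg.Agent.Lib.Helper16.le_pCore (normal_of_le_center' hDZ) hD).trans
      (Cfsg.Agent.S0912.result p M hM _ hB P hPdef)
  have h4 : Nat.card P ≤ Nat.card D := by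
    obtain ⟨n, hn⟩ := hD.exists_card_eq
    rw [hn, hp.factorization_pow] at hycard
    simp only [Finsupp.single_eq_same] at hycard
    calc Nat.card P ≤ p ^ (Nat.card (Subgroup.centralizer ({y} : Set G))).factorization p :=
          h2 ▸ h1
      _ ≤ p ^ n := Nat.pow_le_pow_right hp.pos hycard
      _ = Nat.card D := hn.symm
  have h5 : D = P := Subgroup.eq_of_le_of_card_ge h3 h4
  rw [h5]
  exact hPdef

/-- the class function `F_ψ(g) = |D| ψ(1) ψ(g⁻¹) / |G|` on the `p`-regular elements -/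
noncomputable def laradjiF (p : ℕ) (D : Subgroup G) (ψ : G → ℂ) : G → ℂ :=
  fun g => if p ∣ orderOf g then 0 else
    (((Nat.card D * charDegree ψ : ℕ) : ℂ) / ((Nat.card G : ℕ) : ℂ)) * ψ g⁻¹

theorem laradjiF_classFunction (p : ℕ) (D : Subgroup G) {ψ : G → ℂ} (hψ : IsIrrCharacter G ψ) :
    IsClassFunction G (laradjiF p D ψ) := by
  have hcl := Cfsg.Agent.Lib.Helper4.isClassFunction_of_isIrrCharacter hψ
  intro g h
  unfold laradjiF
  have h1 : orderOf (h * g * h⁻¹) = orderOf g := by
    have := orderOf_injective (MulAut.conj h).toMonoidHom (MulAut.conj h).injective g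
    simpa using this
  rw [h1]
  have h2 : (h * g * h⁻¹)⁻¹ = h * g⁻¹ * h⁻¹ := by group
  rw [h2, hcl]

theorem laradjiF_memLocalRing {p : ℕ} [Fact p.Prime] (hM : IsPModular p M) {D : Subgroup G}
    (ψ : IrrCharacter G)
    (hdeg : (charDegree (ψ : G → ℂ)).factorization p = D.index.factorization p) (g : G) :
    MemLocalRing M (laradjiF p D (ψ : G → ℂ) g) := by
  have hprime : M.IsPrime := hM.2.1.isPrime
  have hMtop : M ≠ ⊤ := hM.2.1.ne_top
  obtain ⟨hne, hχ1, _⟩ := irr_degree_nat ψ.2
  have hDG : Nat.card D * D.index = Nat.card G := Subgroup.card_mul_index D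
  have hD0 : Nat.card D ≠ 0 := Nat.card_pos.ne'
  have hG0 : Nat.card G ≠ 0 := Nat.card_pos.ne'
  have hc : MemLocalRing M (((Nat.card D * charDegree (ψ : G → ℂ) : ℕ) : ℂ) /
      ((Nat.card G : ℕ) : ℂ)) := by
    apply natCast_div_memLocalRing hM (Nat.mul_ne_zero hD0 hne) hG0
    rw [Nat.factorization_mul hD0 hne, Finsupp.add_apply, ← hDG,
      Nat.factorization_mul hD0 Subgroup.index_ne_zero_of_finite, Finsupp.add_apply, hdeg]
  unfold laradjiF
  split_ifs
  · exact memLocalRing_zero hMtop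
  · exact memLocalRing_mul hc (memLocalRing_of_isIntegral hMtop (irrChar_isIntegral ψ.2 _))

/-- `ω_χ(F_ψ)` in terms of the inner product on the `p`-regular elements -/
theorem omegaF_laradjiF (p : ℕ) (D : Subgroup G) (ψ χ : IrrCharacter G) :
    omegaF (χ : G → ℂ) (laradjiF p D (ψ : G → ℂ)) =
      (((Nat.card D * charDegree (ψ : G → ℂ) : ℕ) : ℂ) / ((Nat.card G : ℕ) : ℂ)) *
        (∑ g : G, if p ∣ orderOf g then 0 else (χ : G → ℂ) g * conj ((ψ : G → ℂ) g)) /
          (χ : G → ℂ) 1 := by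
  unfold omegaF
  congr 1
  rw [Finset.mul_sum]
  refine Finset.sum_congr rfl fun g _ => ?_
  unfold laradjiF
  by_cases hg : p ∣ orderOf g
  · rw [if_pos hg, if_pos hg, zero_mul, mul_zero]
  · rw [if_neg hg, if_neg hg, mul_assoc,
      ← isCharacter_conj_eq_inv (isCharacter_of_isIrrCharacter ψ.2), mul_comm (conj _)]

/-- `|D| ∑_{g p-regular} χ(g) conj ψ(g)` is an integer multiple of `|G|` -/
theorem laradji_inner_int {p : ℕ} [Fact p.Prime] {D : Subgroup G} (hD : IsPGroup p D)
    (ψ : IrrCharacter G)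
    (hdeg : (charDegree (ψ : G → ℂ)).factorization p = D.index.factorization p)
    (χ : IrrCharacter G) :
    ∃ k : ℤ, (Nat.card D : ℂ) *
      (∑ g : G, if p ∣ orderOf g then 0 else (χ : G → ℂ) g * conj ((ψ : G → ℂ) g)) =
        (k : ℂ) * (Nat.card G : ℂ) := by
  have hp : p.Prime := Fact.out
  have hgen := irr_pPart_isGeneralizedCharacter hp ψ
  rw [← card_eq_pow_of_degree hD ψ hdeg] at hgen
  obtain ⟨k, hk⟩ := classInner_generalized_int
    (isGeneralizedCharacter_of_isCharacter (isCharacter_of_isIrrCharacter χ.2)) hgen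
  refine ⟨k, ?_⟩
  rw [← hk]
  unfold classInner
  have hG0 : (Nat.card G : ℂ) ≠ 0 := by exact_mod_cast Nat.card_pos.ne'
  rw [mul_comm ((Nat.card G : ℂ)⁻¹), mul_assoc, inv_mul_cancel₀ hG0, mul_one, Finset.mul_sum]
  refine Finset.sum_congr rfl fun y _ => ?_
  show _ = (χ : G → ℂ) y * (starRingEnd ℂ) (if p ∣ orderOf y then (0 : ℂ) else
    ↑(Nat.card ↥D) * (ψ : G → ℂ) y)
  by_cases hy : p ∣ orderOf y
  · rw [if_pos hy, if_pos hy]
    simp
  · rw [if_neg hy, if_neg hy, map_mul, Complex.conj_natCast]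
    ring

/-- `ω_ψ(F_ψ) = 1` -/
theorem omegaF_laradjiF_self {p : ℕ} [Fact p.Prime] {D : Subgroup G} (hD : IsPGroup p D)
    (hDZ : D ≤ Subgroup.center G) (ψ : IrrCharacter G)
    (hdeg : (charDegree (ψ : G → ℂ)).factorization p = D.index.factorization p) :
    omegaF (ψ : G → ℂ) (laradjiF p D (ψ : G → ℂ)) = 1 := by
  obtain ⟨hne, hχ1, _⟩ := irr_degree_nat ψ.2
  have hG0 : Nat.card G ≠ 0 := Nat.card_pos.ne'
  have hsum := laradji_sum hD hDZ ψ hdeg
  have hsumC : ((Nat.card D : ℂ)) * ∑ y : G,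
      (if p ∣ orderOf y then (0 : ℂ) else (ψ : G → ℂ) y * conj ((ψ : G → ℂ) y)) =
        (Nat.card G : ℂ) := by
    have := congrArg (fun r : ℝ => (r : ℂ)) hsum
    push_cast at this
    rw [← this]
    congr 1
    refine Finset.sum_congr rfl fun y _ => ?_
    split_ifs
    · rfl
    · rw [Complex.mul_conj]
  rw [omegaF_laradjiF, hχ1]
  have hdC : ((charDegree (ψ : G → ℂ) : ℕ) : ℂ) ≠ 0 := by exact_mod_cast hne
  have hGC : ((Nat.card G : ℕ) : ℂ) ≠ 0 := by exact_mod_cast hG0
  rw [div_mul_eq_mul_div, div_div, div_eq_one_iff_eq (mul_ne_zero hGC hdC)]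
  push_cast
  linear_combination (charDegree (ψ : G → ℂ) : ℂ) * hsumC

omit [Fintype G] in
theorem sum_ite_pdvd_eq_filter [Fintype G] {β : Type*} [AddCommMonoid β] (p : ℕ) (f : G → β) :
    (∑ g : G, if p ∣ orderOf g then 0 else f g) =
      ∑ g ∈ Finset.univ.filter (fun y : G => ¬ p ∣ orderOf y), f g := by
  rw [Finset.sum_filter]
  refine Finset.sum_congr rfl fun g _ => ?_
  rw [ite_not]

/-- a character in the block of a character `ψ` of central defect agrees with an integer
multiple of `ψ` on the `p`-regular elements -/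
theorem preg_eq_int_mul_of_sameBlock {p : ℕ} [Fact p.Prime] (hM : IsPModular p M)
    {D : Subgroup G} (hD : IsPGroup p D) (hDZ : D ≤ Subgroup.center G) (ψ : IrrCharacter G)
    (hdeg : (charDegree (ψ : G → ℂ)).factorization p = D.index.factorization p)
    (χ : IrrCharacter G) (hχ : SameBlock M (ψ : G → ℂ) (χ : G → ℂ)) :
    ∃ k : ℤ, ∀ g : G, ¬ p ∣ orderOf g → (χ : G → ℂ) g = (k : ℂ) * (ψ : G → ℂ) g := by
  have hprime : M.IsPrime := hM.2.1.isPrime
  have hMtop : M ≠ ⊤ := hM.2.1.ne_top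
  obtain ⟨k, hk⟩ := laradji_inner_int hD ψ hdeg χ
  have hD0 : (Nat.card D : ℂ) ≠ 0 := by exact_mod_cast Nat.card_pos.ne'
  have hG0 : (Nat.card G : ℂ) ≠ 0 := by exact_mod_cast Nat.card_pos.ne'
  have hGpos : (0 : ℝ) < Nat.card G := by exact_mod_cast Nat.card_pos
  have hDpos : (0 : ℝ) < Nat.card D := by exact_mod_cast Nat.card_pos
  -- `k ≠ 0`
  have hk0 : k ≠ 0 := by
    rintro rfl
    have hS : (∑ g : G, if p ∣ orderOf g then 0 else
        (χ : G → ℂ) g * conj ((ψ : G → ℂ) g)) = 0 := by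
      rw [Int.cast_zero, zero_mul] at hk
      exact (mul_eq_zero.mp hk).resolve_left hD0
    have h1 : omegaF (χ : G → ℂ) (laradjiF p D (ψ : G → ℂ)) = 0 := by
      rw [omegaF_laradjiF, hS, mul_zero, zero_div]
    have h2 := omegaF_sub_memLocalIdeal
      (Cfsg.Agent.Lib.Helper4.isClassFunction_of_isIrrCharacter ψ.2)
      (Cfsg.Agent.Lib.Helper4.isClassFunction_of_isIrrCharacter χ.2) hχ
      (laradjiF p D (ψ : G → ℂ)) (laradjiF_classFunction p D ψ.2)
      (laradjiF_memLocalRing hM ψ hdeg)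
    rw [h1, omegaF_laradjiF_self hD hDZ ψ hdeg, sub_zero] at h2
    exact not_memLocalIdeal_one hMtop h2
  refine ⟨k, ?_⟩
  set Rp : Finset G := Finset.univ.filter (fun y : G => ¬ p ∣ orderOf y) with hRp
  have hA : (Nat.card D : ℝ) * ∑ g ∈ Rp, Complex.normSq ((χ : G → ℂ) g) ≤ Nat.card G := by
    have := (card_mul_sum_preg_le hD hDZ χ.2).1
    rwa [sum_ite_pdvd_eq_filter] at this
  have hB : (Nat.card D : ℝ) * ∑ g ∈ Rp, Complex.normSq ((ψ : G → ℂ) g) = Nat.card G := by
    have := laradji_sum hD hDZ ψ hdeg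
    rwa [sum_ite_pdvd_eq_filter] at this
  have hS : (Nat.card D : ℝ) * (∑ g ∈ Rp, (χ : G → ℂ) g * conj ((ψ : G → ℂ) g)).re =
      (k : ℝ) * Nat.card G := by
    rw [sum_ite_pdvd_eq_filter] at hk
    have := congrArg Complex.re hk
    simpa [Complex.mul_re] using this
  have hterm : ∀ g : G, Complex.normSq ((χ : G → ℂ) g - (k : ℂ) * (ψ : G → ℂ) g) =
      Complex.normSq ((χ : G → ℂ) g) + (k : ℝ) ^ 2 * Complex.normSq ((ψ : G → ℂ) g) -
        2 * (k : ℝ) * ((χ : G → ℂ) g * conj ((ψ : G → ℂ) g)).re := by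
    intro g
    rw [Complex.normSq_sub, Complex.normSq_mul, map_mul]
    have h1 : Complex.normSq (k : ℂ) = (k : ℝ) ^ 2 := by
      have : (k : ℂ) = ((k : ℝ) : ℂ) := by push_cast; rfl
      rw [this, Complex.normSq_ofReal]
      ring
    have h2 : (starRingEnd ℂ) (k : ℂ) = (k : ℂ) := map_intCast _ k
    rw [h1, h2]
    have h3 : ((χ : G → ℂ) g * ((k : ℂ) * (starRingEnd ℂ) ((ψ : G → ℂ) g))).re =
        (k : ℝ) * ((χ : G → ℂ) g * (starRingEnd ℂ) ((ψ : G → ℂ) g)).re := by
      have : (χ : G → ℂ) g * ((k : ℂ) * (starRingEnd ℂ) ((ψ : G → ℂ) g)) =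
          ((k : ℝ) : ℂ) * ((χ : G → ℂ) g * (starRingEnd ℂ) ((ψ : G → ℂ) g)) := by
        push_cast
        ring
      rw [this, Complex.re_ofReal_mul]
    rw [h3]
    ring
  have htot : ∑ g ∈ Rp, Complex.normSq ((χ : G → ℂ) g - (k : ℂ) * (ψ : G → ℂ) g) =
      ∑ g ∈ Rp, Complex.normSq ((χ : G → ℂ) g) +
        (k : ℝ) ^ 2 * ∑ g ∈ Rp, Complex.normSq ((ψ : G → ℂ) g) -
          2 * (k : ℝ) * (∑ g ∈ Rp, (χ : G → ℂ) g * conj ((ψ : G → ℂ) g)).re := by
    rw [Finset.sum_congr rfl fun g _ => hterm g, Finset.sum_sub_distrib, Finset.sum_add_distrib,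
      ← Finset.mul_sum, ← Finset.mul_sum, Complex.re_sum]
  have hk2 : (1 : ℝ) ≤ (k : ℝ) ^ 2 := by
    have h1 : (1 : ℤ) ≤ k ^ 2 := by
      have := Int.one_le_abs hk0
      rw [← sq_abs]
      nlinarith
    exact_mod_cast h1
  have hnonneg : 0 ≤ ∑ g ∈ Rp, Complex.normSq ((χ : G → ℂ) g - (k : ℂ) * (ψ : G → ℂ) g) :=
    Finset.sum_nonneg fun g _ => Complex.normSq_nonneg _
  have hle : (Nat.card D : ℝ) *
      ∑ g ∈ Rp, Complex.normSq ((χ : G → ℂ) g - (k : ℂ) * (ψ : G → ℂ) g) ≤ 0 := by
    rw [htot]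
    have e1 : (Nat.card D : ℝ) * (∑ g ∈ Rp, Complex.normSq ((χ : G → ℂ) g) +
        (k : ℝ) ^ 2 * ∑ g ∈ Rp, Complex.normSq ((ψ : G → ℂ) g) -
          2 * (k : ℝ) * (∑ g ∈ Rp, (χ : G → ℂ) g * conj ((ψ : G → ℂ) g)).re) =
        (Nat.card D : ℝ) * ∑ g ∈ Rp, Complex.normSq ((χ : G → ℂ) g) +
        (k : ℝ) ^ 2 * ((Nat.card D : ℝ) * ∑ g ∈ Rp, Complex.normSq ((ψ : G → ℂ) g)) -
          2 * (k : ℝ) * ((Nat.card D : ℝ) *
            (∑ g ∈ Rp, (χ : G → ℂ) g * conj ((ψ : G → ℂ) g)).re) := by ring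
    rw [e1, hB, hS]
    nlinarith
  have hzero : ∑ g ∈ Rp, Complex.normSq ((χ : G → ℂ) g - (k : ℂ) * (ψ : G → ℂ) g) = 0 := by
    have : ∑ g ∈ Rp, Complex.normSq ((χ : G → ℂ) g - (k : ℂ) * (ψ : G → ℂ) g) ≤ 0 := by
      by_contra hcon
      push Not at hcon
      have := mul_pos hDpos hcon
      linarith
    linarith
  rw [Finset.sum_eq_zero_iff_of_nonneg fun g _ => Complex.normSq_nonneg _] at hzero
  intro g hg
  have h1 := hzero g (by rw [hRp, Finset.mem_filter]; exact ⟨Finset.mem_univ _, hg⟩)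
  exact sub_eq_zero.mp (Complex.normSq_eq_zero.mp h1)

/-- a height zero character of a block with central defect group `P` satisfies Laradji's
hypothesis -/
theorem degree_factorization_of_height_zero {p : ℕ} [Fact p.Prime] (hM : IsPModular p M)
    {B : Set (IrrCharacter G)} (hB : IsPBlock M B) {P : Subgroup G}
    (hD : IsDefectGroup p M B P) {ψ : IrrCharacter G}
    (hψ0 : (charDegree (ψ : G → ℂ)).factorization p =
      sInf ((fun χ : IrrCharacter G => (charDegree (χ : G → ℂ)).factorization p) '' B)) :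
    (charDegree (ψ : G → ℂ)).factorization p = P.index.factorization p := by
  have hp : p.Prime := Fact.out
  have hcard : Nat.card P = p ^ blockDefect p B := Cfsg.Agent.S0908.result p M hM B hB P hD
  obtain ⟨hne, _, hdvd⟩ := irr_degree_nat ψ.2
  have hG0 : Nat.card G ≠ 0 := Nat.card_pos.ne'
  have h1 : (charDegree (ψ : G → ℂ)).factorization p ≤ (Nat.card G).factorization p :=
    (Nat.factorization_le_iff_dvd hne hG0).mpr hdvd p
  have hPG : Nat.card P * P.index = Nat.card G := Subgroup.card_mul_index P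
  have h2 : (Nat.card G).factorization p = blockDefect p B + P.index.factorization p := by
    rw [← hPG, Nat.factorization_mul Nat.card_pos.ne' Subgroup.index_ne_zero_of_finite,
      Finsupp.add_apply, hcard, hp.factorization_pow]
    simp
  have h3 : blockDefect p B = (Nat.card G).factorization p -
      (charDegree (ψ : G → ℂ)).factorization p := by
    unfold blockDefect
    rw [hψ0]
  omega

/-- **a block with central defect group has a single irreducible Brauer character** -/
theorem blockRank_eq_one_of_central_defect {p : ℕ} [Fact p.Prime] (hM : IsPModular p M)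
    {B : Set (IrrCharacter G)} (hB : IsPBlock M B) {P : Subgroup G}
    (hD : IsDefectGroup p M B P) (hPZ : P ≤ Subgroup.center G) : blockRank p B = 1 := by
  have hp : p.Prime := Fact.out
  have hprime : M.IsPrime := hM.2.1.isPrime
  have hPp : IsPGroup p P := isPGroup_of_isDefectGroup hD
  obtain ⟨ψ, hψB, hψ0⟩ := exists_height_zero (p := p) (block_nonempty hB)
  have hdeg := degree_factorization_of_height_zero hM hB hD hψ0
  have hspan : Submodule.span ℂ ((fun χ : IrrCharacter G => pRegularPart p (χ : G → ℂ)) '' B) =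
      Submodule.span ℂ {pRegularPart p (ψ : G → ℂ)} := by
    apply le_antisymm
    · rw [Submodule.span_le]
      rintro _ ⟨χ, hχB, rfl⟩
      have hsb : SameBlock M (ψ : G → ℂ) (χ : G → ℂ) := (mem_block_iff hB hψB χ).mp hχB
      obtain ⟨k, hk⟩ := preg_eq_int_mul_of_sameBlock hM hPp hPZ ψ hdeg χ hsb
      have : pRegularPart p (χ : G → ℂ) = (k : ℂ) • pRegularPart p (ψ : G → ℂ) := by
        funext g
        rw [Pi.smul_apply, smul_eq_mul, pRegularPart_apply, pRegularPart_apply]
        by_cases hg : p ∣ orderOf g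
        · rw [if_pos hg, if_pos hg, mul_zero]
        · rw [if_neg hg, if_neg hg, hk g hg]
      show pRegularPart p (χ : G → ℂ) ∈ Submodule.span ℂ {pRegularPart p (ψ : G → ℂ)}
      rw [this]
      exact Submodule.smul_mem _ _ (Submodule.mem_span_singleton_self _)
    · rw [Submodule.span_le]
      rintro _ rfl
      exact Submodule.subset_span ⟨ψ, hψB, rfl⟩
  unfold blockRank
  rw [hspan]
  apply finrank_span_singleton
  intro h0
  have h1 : pRegularPart p (ψ : G → ℂ) 1 = 0 := by rw [h0]; rfl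
  rw [pRegularPart_apply, if_neg (by rw [orderOf_one]; exact hp.one_lt.ne' ∘ Nat.dvd_one.mp)] at h1
  obtain ⟨hne, hχ1, _⟩ := irr_degree_nat ψ.2
  rw [hχ1] at h1
  exact hne (by exact_mod_cast h1)

/-- the value of an irreducible character at a central multiple -/
theorem char_central_mul_eq {χ : G → ℂ} (hχ : IsIrrCharacter G χ) {z : G}
    (hz : z ∈ Subgroup.center G) (g : G) : χ (z * g) = χ z / χ 1 * χ g := by
  obtain ⟨c, -, hc⟩ := char_mul_central hχ hz
  obtain ⟨hne, h1, _⟩ := irr_degree_nat hχ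
  have h10 : χ 1 ≠ 0 := by rw [h1]; exact_mod_cast hne
  have h2 := hc 1
  rw [one_mul] at h2
  have h3 : c = χ z / χ 1 := by rw [h2, mul_div_cancel_right₀ _ h10]
  rw [← h3, ← hc g, Subgroup.mem_center_iff.mp hz g]

/-- the sum of an irreducible character over a central subgroup -/
theorem sum_central_char {χ : G → ℂ} (hχ : IsIrrCharacter G χ) {Z : Subgroup G}
    (hZc : Z ≤ Subgroup.center G) :
    ∑ z : Z, χ (z : G) = if ∀ z ∈ Z, χ z = χ 1 then (Nat.card Z : ℂ) * χ 1 else 0 := by
  split_ifs with h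
  · rw [Finset.sum_congr rfl fun (z : Z) _ => h (z : G) z.2, Finset.sum_const, Finset.card_univ,
      nsmul_eq_mul, Nat.card_eq_fintype_card]
  · push Not at h
    obtain ⟨z₀, hz₀, hne⟩ := h
    obtain ⟨hne1, h1, _⟩ := irr_degree_nat hχ
    have h10 : χ 1 ≠ 0 := by rw [h1]; exact_mod_cast hne1
    have hS : ∑ z : Z, χ ((z : G)) = χ z₀ / χ 1 * ∑ z : Z, χ (z : G) := by
      rw [Finset.mul_sum]
      have := Fintype.sum_equiv (Equiv.mulLeft (⟨z₀, hz₀⟩ : Z)) (fun z : Z => χ (z₀ * (z : G)))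
        (fun z : Z => χ (z : G)) (fun z => rfl)
      rw [← this]
      exact Finset.sum_congr rfl fun z _ => char_central_mul_eq hχ (hZc hz₀) _
    have hc : χ z₀ / χ 1 ≠ 1 := by
      intro h
      rw [div_eq_one_iff_eq h10] at h
      exact hne h
    have h2 : (1 - χ z₀ / χ 1) * ∑ z : Z, χ (z : G) = 0 := by
      rw [sub_mul, one_mul, ← hS, sub_self]
    rcases mul_eq_zero.mp h2 with h3 | h3
    · exact absurd (sub_eq_zero.mp h3).symm hc
    · exact h3

end Loc

end Cfsg.Agent.Lib.Helper4
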