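import Mathlib
import Cfsg.Agent.Lib.Helper4.CentralDefect

set_option autoImplicit false

/-!
# The canonical character of a block with central defect group (helper4)
-/

namespace Cfsg.Agent.Lib.Helper4

open Cfsg Cfsg.Agent.Lib.Helper28 Cfsg.Agent.Lib.Helper26
open scoped ComplexConjugate Classical

section

variable {G : Type*} [Group G] [Fintype G] {M : Ideal AlgInt}

omit [Fintype G] in
/-- a nontrivial central `p`-element times a `p`-regular element is `p`-singular -/
theorem dvd_orderOf_central_mul [Finite G] {p : ℕ} [Fact p.Prime] {Z : Subgroup G}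
    (hZ : IsPGroup p Z) (hZc : Z ≤ Subgroup.center G) {z g : G} (hz : z ∈ Z) (hz1 : z ≠ 1)
    (hg : ¬ p ∣ orderOf g) : p ∣ orderOf (z * g) := by
  by_contra hcon
  exact hz1 (central_mul_preg_inj hZ hZc hz Z.one_mem hg hcon
    (show z * g = 1 * (z * g) by rw [one_mul])).1

/-- the idempotent coefficient of a block at a `p`-regular element, in terms of the characters
trivial on a central `p`-subgroup -/
theorem blockCoeff_eq_sum_trivial {p : ℕ} [Fact p.Prime] (hM : IsPModular p M)
    {e : Set (IrrCharacter G)} (he : IsPBlock M e) {Z : Subgroup G} (hZ : IsPGroup p Z)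
    (hZc : Z ≤ Subgroup.center G) [Fintype (IrrCharacter G)] {g : G} (hg : ¬ p ∣ orderOf g) :
    blockCoeff e g = ∑ χ : IrrCharacter G,
      if χ ∈ e ∧ ∀ z ∈ Z, (χ : G → ℂ) z = (χ : G → ℂ) 1 then
        ((Nat.card Z * charDegree (χ : G → ℂ) : ℕ) : ℂ) / ((Nat.card G : ℕ) : ℂ) *
          conj ((χ : G → ℂ) g) else 0 := by
  have hprime : M.IsPrime := hM.2.1.isPrime
  have h1 : ∑ z : Z, blockCoeff e ((z : G) * g) = blockCoeff e g := by
    rw [Finset.sum_eq_single (1 : Z)]
    · simp
    · intro z _ hz1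
      apply Cfsg.Agent.Lib.Helper4.blockCoeff_eq_zero_of_pSingular hM he
      apply dvd_orderOf_central_mul hZ hZc z.2 _ hg
      intro h
      exact hz1 (Subtype.ext h)
    · intro h
      exact absurd (Finset.mem_univ _) h
  rw [← h1]
  simp only [blockCoeff_eq_sum]
  rw [← Finset.mul_sum, Finset.sum_comm, Finset.mul_sum]
  refine Finset.sum_congr rfl fun χ _ => ?_
  obtain ⟨hne, hχ1, _⟩ := irr_degree_nat χ.2
  have h10 : (χ : G → ℂ) 1 ≠ 0 := by rw [hχ1]; exact_mod_cast hne
  by_cases hχ : χ ∈ e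
  · simp only [if_pos hχ]
    have h2 : ∑ z : Z, (χ : G → ℂ) 1 * conj ((χ : G → ℂ) ((z : G) * g)) =
        conj (∑ z : Z, (χ : G → ℂ) (z : G)) * conj ((χ : G → ℂ) g) := by
      rw [map_sum, Finset.sum_mul]
      refine Finset.sum_congr rfl fun z _ => ?_
      rw [char_central_mul_eq χ.2 (hZc z.2), map_mul, map_div₀, hχ1, Complex.conj_natCast]
      field_simp
    rw [h2, sum_central_char χ.2 hZc]
    by_cases htriv : ∀ z ∈ Z, (χ : G → ℂ) z = (χ : G → ℂ) 1
    · rw [if_pos htriv, if_pos ⟨hχ, htriv⟩, hχ1, map_mul, Complex.conj_natCast,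
        Complex.conj_natCast]
      push_cast
      ring
    · rw [if_neg htriv, if_neg (fun h => htriv h.2), map_zero, zero_mul, mul_zero]
  · simp only [if_neg hχ, Finset.sum_const_zero, mul_zero]
    rw [if_neg (fun h => hχ h.1)]

/-- **the canonical character**: a block with central defect group `Z` contains a character
trivial on `Z` whose degree has `p`-part `|G|_p / |Z|` -/
theorem exists_canonical_character {p : ℕ} [Fact p.Prime] (hM : IsPModular p M)
    {e : Set (IrrCharacter G)} (he : IsPBlock M e) {Z : Subgroup G}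
    (hZdef : IsDefectGroup p M e Z) (hZc : Z ≤ Subgroup.center G) :
    ∃ θ ∈ e, (∀ z ∈ Z, (θ : G → ℂ) z = (θ : G → ℂ) 1) ∧
      (charDegree (θ : G → ℂ)).factorization p + (Nat.card Z).factorization p =
        (Nat.card G).factorization p := by
  have hp : p.Prime := Fact.out
  have hprime : M.IsPrime := hM.2.1.isPrime
  have hMtop : M ≠ ⊤ := hM.2.1.ne_top
  have : Fintype (IrrCharacter G) := Fintype.ofFinite _
  have hZ : IsPGroup p Z := isPGroup_of_isDefectGroup hZdef
  have hcard : Nat.card Z = p ^ blockDefect p e := Cfsg.Agent.S0908.result p M hM e he Z hZdef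
  obtain ⟨g₀, hg1, hg2, hg3⟩ := exists_defectClass hM he
  have hreg : ¬ p ∣ orderOf g₀ := by
    intro h
    apply hg2
    rw [Cfsg.Agent.Lib.Helper4.blockCoeff_eq_zero_of_pSingular hM he g₀ h]
    exact memLocalIdeal_zero hMtop
  rw [blockCoeff_eq_sum_trivial hM he hZ hZc hreg] at hg2
  obtain ⟨θ, hθ⟩ : ∃ θ : IrrCharacter G, ¬ MemLocalIdeal M
      (if θ ∈ e ∧ ∀ z ∈ Z, (θ : G → ℂ) z = (θ : G → ℂ) 1 then
        ((Nat.card Z * charDegree (θ : G → ℂ) : ℕ) : ℂ) / ((Nat.card G : ℕ) : ℂ) *
          conj ((θ : G → ℂ) g₀) else 0) := by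
    by_contra hcon
    push Not at hcon
    exact hg2 (memLocalIdeal_sum _ _ fun θ _ => hcon θ)
  have hθ1 : θ ∈ e ∧ ∀ z ∈ Z, (θ : G → ℂ) z = (θ : G → ℂ) 1 := by
    by_contra h
    rw [if_neg h] at hθ
    exact hθ (memLocalIdeal_zero hMtop)
  rw [if_pos hθ1] at hθ
  obtain ⟨hne, _, _⟩ := irr_degree_nat θ.2
  have hZ0 : Nat.card Z ≠ 0 := Nat.card_pos.ne'
  have hG0 : Nat.card G ≠ 0 := Nat.card_pos.ne'
  refine ⟨θ, hθ1.1, hθ1.2, ?_⟩
  apply le_antisymm
  · by_contra hcon
    push Not at hcon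
    apply hθ
    apply memLocalIdeal_mul_right
    · apply natCast_div_memLocalIdeal hM (Nat.mul_ne_zero hZ0 hne) hG0
      rw [Nat.factorization_mul hZ0 hne, Finsupp.add_apply]
      omega
    · rw [isCharacter_conj_eq_inv (isCharacter_of_isIrrCharacter θ.2)]
      exact memLocalRing_of_isIntegral hMtop (irrChar_isIntegral θ.2 _)
  · have h1 := sub_factorization_le_blockDefect (p := p) hθ1.1
    have h2 : (Nat.card Z).factorization p = blockDefect p e := by
      rw [hcard, hp.factorization_pow]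
      simp
    omega

end

end Cfsg.Agent.Lib.Helper4
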