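import Mathlib
import Cfsg.Agent.Lib.Helper4.CentralCanon
import Cfsg.Agent.Lib.Helper4.BrauerLocalC
import Cfsg.Agent.Lib.Helper4.BrauerInert

set_option autoImplicit false

/-!
# A criterion for a Brauer pair to be maximal (helper4)
-/

namespace Cfsg.Agent.Lib.Helper4

open Cfsg Cfsg.Agent.Lib.Helper28 Cfsg.Agent.Lib.Helper26
open scoped ComplexConjugate Classical

section

variable {G : Type*} [Group G] [Fintype G] {M : Ideal AlgInt}

/-- for a maximal Brauer pair `(Q, e)` the centre `Z(Q)` is a defect group of `e` -/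
theorem center_defect_of_maximal {p : ℕ} [Fact p.Prime] (hM : IsPModular p M)
    {B : Set (IrrCharacter G)} {Q : Subgroup G}
    {e : Set (IrrCharacter (Subgroup.centralizer (Q : Set G)))}
    (hmax : IsMaximalBrauerPair p M B Q e) :
    IsDefectGroup p M e
      ((Q ⊓ Subgroup.centralizer (Q : Set G)).subgroupOf (Subgroup.centralizer (Q : Set G))) := by
  have hMprime : M.IsPrime := hM.2.1.isPrime
  have hPe : IsBrauerPair p M Q e := hmax.1.1
  have hQ : IsPGroup p Q := hPe.1
  have hf : IsPBlock M e := hPe.2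
  have hB : IsPBlock M B := hmax.1.2.1
  have hle : SubpairLE p M Q e Q e := Relation.ReflTransGen.refl
  obtain ⟨D, d, hmaxD, hSD⟩ := exists_maximal_local_ge hM hPe le_rfl hf hle
  have hDdef : IsDefectGroup p M e D := isDefectGroup_of_maximal hM hmaxD
  have hDp : IsPGroup p D := hmaxD.1.1.1
  set D' : Subgroup G := D.map (Subgroup.centralizer (Q : Set G)).subtype with hD'
  have hD'H : D' ≤ Subgroup.centralizer (Q : Set G) := by
    rintro _ ⟨c, _, rfl⟩
    exact c.2
  have hD'p : IsPGroup p D' := hDp.map _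
  set R₂ : Subgroup G := Q ⊔ D' with hR₂
  have hR₂p : IsPGroup p R₂ :=
    IsPGroup.to_sup_of_normal_left' hQ hD'p (hD'H.trans (centralizer_le_normalizer' Q))
  obtain ⟨y', hy'C, hy'ne⟩ := exists_blockCoeff_not_mem hM hmaxD.1
  have hyR₂ : (y' : G) ∈ Subgroup.centralizer (R₂ : Set G) := by
    have h1 : R₂ ≤ Subgroup.centralizer ({(y' : G)} : Set G) := by
      apply sup_le
      · intro u hu
        rw [Subgroup.mem_centralizer_singleton_iff]
        exact y'.2 u hu
      · rintro _ ⟨c, hc, rfl⟩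
        rw [Subgroup.mem_centralizer_singleton_iff]
        exact congrArg Subtype.val (hy'C c hc)
    intro r hr
    have := h1 hr
    rw [Subgroup.mem_centralizer_singleton_iff] at this
    exact this
  have hne : ¬ MemLocalIdeal M
      (subgroupBlockCoeff (Subgroup.centralizer (Q : Set G)) e (y' : G)) := by
    rw [subgroupBlockCoeff_mem]
    exact hy'ne
  obtain ⟨T, hT⟩ := exists_stabSubgroup Q hf
  have hQT : Q ≤ T := fun u hu =>
    (hT u).mpr ⟨Subgroup.le_normalizer hu, stabilizesBlock_of_mem Q e hu⟩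
  have hHT : Subgroup.centralizer (Q : Set G) ≤ T := fun u hu =>
    (hT u).mpr ⟨centralizer_le_normalizer' Q hu, stabilizesBlock_of_mem_centralizer Q e hu⟩
  have hR₂T : R₂ ≤ T := sup_le hQT (hD'H.trans hHT)
  obtain ⟨d', hnorm2⟩ := exists_normalSuperpair hM (⟨hQ, hf⟩ : IsBrauerPair p M Q e) hR₂p
    le_sup_left (fun x hx => ((hT x).mp (hR₂T hx)).1) (fun x hx => ((hT x).mp (hR₂T hx)).2)
    (y' : G) hyR₂ hne
  have hR₂B : IsBrauerPairOf p M B R₂ d' :=
    (isBrauerPairOf_iff_of_isNormalSubpair hM hnorm2 hB).mpr hmax.1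
  have hle2 : SubpairLE p M Q e R₂ d' :=
    Relation.ReflTransGen.single (show NormalSubpairRel p M ⟨Q, e⟩ ⟨R₂, d'⟩ from hnorm2)
  have hR₂Q : R₂ = Q := hmax.2 R₂ d' hR₂B hle2
  have hDle : D ≤ (Q ⊓ Subgroup.centralizer (Q : Set G)).subgroupOf
      (Subgroup.centralizer (Q : Set G)) := by
    intro c hc
    rw [Subgroup.mem_subgroupOf]
    refine ⟨?_, c.2⟩
    have h1 : (c : G) ∈ R₂ := le_sup_right (a := Q) ⟨c, hc, rfl⟩
    exact hR₂Q.le h1
  rw [le_antisymm hSD hDle]
  exact hDdef

omit [Fintype G] in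
/-- `Z(Q)` is central in `C_G(Q)` -/
theorem center_subgroupOf_le_center (Q : Subgroup G) :
    (Q ⊓ Subgroup.centralizer (Q : Set G)).subgroupOf (Subgroup.centralizer (Q : Set G)) ≤
      Subgroup.center (Subgroup.centralizer (Q : Set G)) := by
  intro z hz
  rw [Subgroup.mem_subgroupOf] at hz
  rw [Subgroup.mem_center_iff]
  intro c
  apply Subtype.ext
  exact (c.2 (z : G) hz.1).symm

/-- the forward direction of the criterion: the canonical character of a maximal Brauer pair -/
theorem maximal_imp_character {p : ℕ} [Fact p.Prime] (hM : IsPModular p M)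
    {B : Set (IrrCharacter G)} {Q : Subgroup G}
    {e : Set (IrrCharacter (Subgroup.centralizer (Q : Set G)))}
    (hmax : IsMaximalBrauerPair p M B Q e) :
    ∃ θ ∈ e, (∀ z : Subgroup.centralizer (Q : Set G), (z : G) ∈ Q →
        (θ : Subgroup.centralizer (Q : Set G) → ℂ) z =
          (θ : Subgroup.centralizer (Q : Set G) → ℂ) 1) ∧
      (charDegree (θ : Subgroup.centralizer (Q : Set G) → ℂ)).factorization p +
        (Nat.card ↥(Q ⊓ Subgroup.centralizer (Q : Set G))).factorization p =
          (Nat.card (Subgroup.centralizer (Q : Set G))).factorization p := by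
  have hZdef := center_defect_of_maximal hM hmax
  obtain ⟨θ, hθe, hθZ, hθdeg⟩ := exists_canonical_character hM hmax.1.1.2 hZdef
    (center_subgroupOf_le_center Q)
  refine ⟨θ, hθe, ?_, ?_⟩
  · intro z hz
    apply hθZ z
    rw [Subgroup.mem_subgroupOf]
    exact ⟨hz, z.2⟩
  · rw [card_subgroupOf_of_le inf_le_right] at hθdeg
    exact hθdeg

/-- the forward direction of the criterion: the `p`-elements of the stabilizer -/
theorem maximal_imp_pElements {p : ℕ} [Fact p.Prime] (hM : IsPModular p M)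
    {B : Set (IrrCharacter G)} {Q : Subgroup G}
    {e : Set (IrrCharacter (Subgroup.centralizer (Q : Set G)))}
    (hmax : IsMaximalBrauerPair p M B Q e) {g : G} (hgN : g ∈ Subgroup.normalizer (Q : Set G))
    (hgs : StabilizesBlock (Subgroup.centralizer (Q : Set G)) e g) {k : ℕ}
    (hgo : orderOf g = p ^ k) : g ∈ Q ⊔ Subgroup.centralizer (Q : Set G) := by
  have hp : p.Prime := Fact.out
  have hMprime : M.IsPrime := hM.2.1.isPrime
  have hPe : IsBrauerPair p M Q e := hmax.1.1
  have he : IsPBlock M e := hPe.2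
  obtain ⟨T, hT⟩ := exists_stabSubgroup Q he
  have hQT : Q ≤ T := fun u hu =>
    (hT u).mpr ⟨Subgroup.le_normalizer hu, stabilizesBlock_of_mem Q e hu⟩
  have hCT : Subgroup.centralizer (Q : Set G) ≤ T := fun u hu =>
    (hT u).mpr ⟨centralizer_le_normalizer' Q hu, stabilizesBlock_of_mem_centralizer Q e hu⟩
  have hTN : T ≤ Subgroup.normalizer
      ((Subgroup.centralizer (Q : Set G) : Subgroup G) : Set G) := fun t ht =>
    normalizer_le_normalizer_centralizer Q ((hT t).mp ht).1
  haveI hnT : ((Subgroup.centralizer (Q : Set G)).subgroupOf T).Normal :=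
    (Subgroup.normal_subgroupOf_iff_le_normalizer hCT).mpr hTN
  obtain ⟨E, hE, hEe⟩ := exists_stab_block hM hPe.1 he hT
  have hPT := isDefectGroup_stab_of_maximal hM hmax hT hE hEe
  have h1 := (defect_of_same_idem_sub hM hCT he (fun t => ((hT t).mp t.2).2) hE hEe hPT).1
  have h2 : Q.subgroupOf T ⊔ (Subgroup.centralizer (Q : Set G)).subgroupOf T =
      (Q ⊔ Subgroup.centralizer (Q : Set G)).subgroupOf T := by
    rw [← Subgroup.subgroupOf_sup hQT hCT]
  rw [h2] at h1
  have hHT : Q ⊔ Subgroup.centralizer (Q : Set G) ≤ T := sup_le hQT hCT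
  have hTNH : T ≤ Subgroup.normalizer
      ((Q ⊔ Subgroup.centralizer (Q : Set G) : Subgroup G) : Set G) := fun t ht =>
    normalizer_le_normalizer_of_eq_sup (P := Q) le_sup_left le_sup_right le_rfl ((hT t).mp ht).1
  haveI hnH : ((Q ⊔ Subgroup.centralizer (Q : Set G)).subgroupOf T).Normal :=
    (Subgroup.normal_subgroupOf_iff_le_normalizer hHT).mpr hTNH
  have hgT : g ∈ T := (hT g).mpr ⟨hgN, hgs⟩
  have h3 : (⟨g, hgT⟩ : T) ^ ((Q ⊔ Subgroup.centralizer (Q : Set G)).subgroupOf T).index ∈
      (Q ⊔ Subgroup.centralizer (Q : Set G)).subgroupOf T := Subgroup.pow_index_mem _ _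
  rw [Subgroup.mem_subgroupOf] at h3
  have h4 : g ^ (p ^ k) ∈ Q ⊔ Subgroup.centralizer (Q : Set G) := by
    rw [← hgo, pow_orderOf_eq_one]
    exact Subgroup.one_mem _
  apply mem_of_pow_mem_of_coprime (a := p ^ k)
    (b := ((Q ⊔ Subgroup.centralizer (Q : Set G)).subgroupOf T).index) _ h4 h3
  exact Nat.Coprime.pow_left _ ((Nat.Prime.coprime_iff_not_dvd hp).mpr h1)

omit [Fintype G] in
/-- `|Q| = |Q ∩ C_G(Q)| [Q C_G(Q) : C_G(Q)]` -/
theorem card_eq_card_inf_mul_relIndex [Finite G] (Q : Subgroup G) :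
    Nat.card Q = Nat.card ↥(Q ⊓ Subgroup.centralizer (Q : Set G)) *
      (Subgroup.centralizer (Q : Set G)).relIndex (Q ⊔ Subgroup.centralizer (Q : Set G)) := by
  set C := Subgroup.centralizer (Q : Set G) with hC
  set H := Q ⊔ C with hH
  haveI hn : (C.subgroupOf H).Normal := normal_centralizer_subgroupOf (P := Q) le_rfl
  have h1 : Q.subgroupOf H ⊔ C.subgroupOf H = ⊤ := by
    rw [← Subgroup.subgroupOf_sup le_sup_left le_sup_right, Subgroup.subgroupOf_self]
  have h2 : (C.subgroupOf H).relIndex (Q.subgroupOf H ⊔ C.subgroupOf H) =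
      (C.subgroupOf H).relIndex (Q.subgroupOf H) := Subgroup.relIndex_sup_right _ _
  rw [h1, Subgroup.relIndex_top_right] at h2
  have h3 : C.relIndex H = (C.subgroupOf H).index := rfl
  rw [h3, h2]
  have h4 := Subgroup.card_mul_index ((C.subgroupOf H).subgroupOf (Q.subgroupOf H))
  have h5 : Nat.card ((C.subgroupOf H).subgroupOf (Q.subgroupOf H)) = Nat.card ↥(Q ⊓ C) := by
    have h7 : (C.subgroupOf H).subgroupOf (Q.subgroupOf H) =
        (C.subgroupOf H ⊓ Q.subgroupOf H).subgroupOf (Q.subgroupOf H) :=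
      (Subgroup.inf_subgroupOf_right _ _).symm
    rw [h7, card_subgroupOf_of_le inf_le_right]
    have h6 : C.subgroupOf H ⊓ Q.subgroupOf H = (Q ⊓ C).subgroupOf H := by
      ext x
      simp only [Subgroup.mem_inf, Subgroup.mem_subgroupOf]
      tauto
    rw [h6, card_subgroupOf_of_le (inf_le_left.trans le_sup_left)]
  rw [h5, card_subgroupOf_of_le le_sup_left] at h4
  exact h4.symm

/-- the backward direction of the criterion -/
theorem criterion_imp_maximal {p : ℕ} [Fact p.Prime] (hM : IsPModular p M)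
    {Q : Subgroup G} {e : Set (IrrCharacter (Subgroup.centralizer (Q : Set G)))}
    (he : IsBrauerPair p M Q e) {θ : IrrCharacter (Subgroup.centralizer (Q : Set G))}
    (hθe : θ ∈ e)
    (hdeg : (charDegree (θ : Subgroup.centralizer (Q : Set G) → ℂ)).factorization p +
        (Nat.card ↥(Q ⊓ Subgroup.centralizer (Q : Set G))).factorization p =
          (Nat.card (Subgroup.centralizer (Q : Set G))).factorization p)
    (hpel : ∀ g : G, g ∈ Subgroup.normalizer (Q : Set G) →
      StabilizesBlock (Subgroup.centralizer (Q : Set G)) e g → (∃ k : ℕ, orderOf g = p ^ k) →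
        g ∈ Q ⊔ Subgroup.centralizer (Q : Set G)) :
    ∃ B : Set (IrrCharacter G), IsMaximalBrauerPair p M B Q e := by
  have hp : p.Prime := Fact.out
  have hMprime : M.IsPrime := hM.2.1.isPrime
  have hMtop : M ≠ ⊤ := hM.2.1.ne_top
  have hQ : IsPGroup p Q := he.1
  have heB : IsPBlock M e := he.2
  -- `Z(Q)` is a defect group of `e`
  set Z : Subgroup (Subgroup.centralizer (Q : Set G)) :=
    (Q ⊓ Subgroup.centralizer (Q : Set G)).subgroupOf (Subgroup.centralizer (Q : Set G)) with hZ
  have hZp : IsPGroup p Z := (hQ.to_le inf_le_left).comap_subtype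
  have hZc : Z ≤ Subgroup.center (Subgroup.centralizer (Q : Set G)) :=
    center_subgroupOf_le_center Q
  have hZcard : Nat.card Z = Nat.card ↥(Q ⊓ Subgroup.centralizer (Q : Set G)) :=
    card_subgroupOf_of_le inf_le_right
  have hdeg' : (charDegree (θ : Subgroup.centralizer (Q : Set G) → ℂ)).factorization p =
      Z.index.factorization p := by
    have h1 : Nat.card Z * Z.index = Nat.card (Subgroup.centralizer (Q : Set G)) :=
      Subgroup.card_mul_index Z
    have h2 : (Nat.card (Subgroup.centralizer (Q : Set G))).factorization p =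
        (Nat.card Z).factorization p + Z.index.factorization p := by
      rw [← h1, Nat.factorization_mul Nat.card_pos.ne' Subgroup.index_ne_zero_of_finite,
        Finsupp.add_apply]
    rw [hZcard] at h2
    omega
  have hZdef0 := laradji_defect hM hZp hZc θ hdeg'
  have hee : e = blockOf M (θ : Subgroup.centralizer (Q : Set G) → ℂ) :=
    Cfsg.Agent.Lib.Helper28.block_eq_of_mem heB ⟨θ, rfl⟩ hθe (sameBlock_refl hMtop _)
  have hZdef : IsDefectGroup p M e Z := by rw [hee]; exact hZdef0
  -- the block `b` of `H = Q C_G(Q)`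
  set H : Subgroup G := Q ⊔ Subgroup.centralizer (Q : Set G) with hH
  have hQH : Q ≤ H := le_sup_left
  have hCH : Subgroup.centralizer (Q : Set G) ≤ H := le_sup_right
  have hHle : H ≤ Q ⊔ Subgroup.centralizer (Q : Set G) := le_rfl
  have hHN : H ≤ Subgroup.normalizer (Q : Set G) := sup_centralizer_le_normalizer Q
  obtain ⟨b, hb, hbe⟩ := exists_extBlock hM hQ hCH hHle heB
  haveI hnH : ((Subgroup.centralizer (Q : Set G)).subgroupOf H).Normal :=
    normal_centralizer_subgroupOf hHle
  -- `Q` is a defect group of `b`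
  obtain ⟨Pb, hPb⟩ := exists_isDefectGroup hM hb
  have hdb := (defect_of_same_idem_sub hM hCH heB
    (fun t => stabilizesBlock_of_mem_sup heB (hHle t.2)) hb hbe hPb).2
  have hZcard2 : Nat.card Z = p ^ blockDefect p e :=
    Cfsg.Agent.S0908.result p M hM e heB Z hZdef
  have hPbcard : Nat.card Pb = p ^ blockDefect p b :=
    Cfsg.Agent.S0908.result p M hM b hb Pb hPb
  have hQcard := card_eq_card_inf_mul_relIndex Q
  have hrel0 : (Subgroup.centralizer (Q : Set G)).relIndex H ≠ 0 := by
    unfold Subgroup.relIndex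
    exact Subgroup.index_ne_zero_of_finite
  have hQfac : (Nat.card Q).factorization p = blockDefect p b := by
    rw [hQcard, Nat.factorization_mul Nat.card_pos.ne' hrel0, Finsupp.add_apply, hdb, ← hZcard,
      hZcard2, hp.factorization_pow]
    simp
  have hQcard2 : Nat.card Q = p ^ blockDefect p b := by
    obtain ⟨n, hn⟩ := hQ.exists_card_eq
    rw [hn, hp.factorization_pow] at hQfac
    simp only [Finsupp.single_eq_same] at hQfac
    rw [hn, hQfac]
  have hbQ : IsDefectGroup p M b (Q.subgroupOf H) := by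
    have h912 := Cfsg.Agent.S0912.result p M hM b hb _ hPb
    have hn : (Q.subgroupOf H).Normal := Subgroup.normal_subgroupOf_of_le_normalizer hHN
    have hp' : IsPGroup p (Q.subgroupOf H) := hQ.comap_subtype
    have hle2 := (Cfsg.Agent.Lib.Helper16.le_pCore hn hp').trans h912
    have hcard : Nat.card Pb ≤ Nat.card (Q.subgroupOf H) := by
      rw [card_subgroupOf_of_le hQH, hPbcard, hQcard2]
    rw [Subgroup.eq_of_le_of_card_ge hle2 hcard]
    exact hPb
  -- the induced block
  obtain ⟨B, hind⟩ := exists_induced_block hM Q H hQ hQH hCH hHN hb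
  have hB : IsPBlock M B := hind.2.1
  obtain ⟨e', hPe', hbe'⟩ := exists_pair_of_induced hM hQ hQH hCH hHle hind
  have hcoef : blockCoeff e' = blockCoeff e := by
    funext c
    have h1 := hbe ⟨(c : G), hCH c.2⟩
    have h2 := hbe' ⟨(c : G), hCH c.2⟩
    rw [h1] at h2
    rw [subgroupBlockCoeff_eq_extZero, subgroupBlockCoeff_eq_extZero] at h2
    have e1 := extZero_mem' (Subgroup.centralizer (Q : Set G)) (blockCoeff e) c
    have e2 := extZero_mem' (Subgroup.centralizer (Q : Set G)) (blockCoeff e') c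
    simp only at h2
    rw [e1, e2] at h2
    exact h2.symm
  have hee' : e' = e := blockCoeff_injective hcoef
  rw [hee'] at hPe'
  -- the stabilizer
  obtain ⟨T, hT⟩ := exists_stabSubgroup Q heB
  have hT' : ∀ g : G, g ∈ T ↔ (g ∈ Subgroup.normalizer (Q : Set G) ∧ ∀ θ ∈ b,
      ∀ θ' : IrrCharacter H,
        (∀ h h' : H, (h' : G) = g * h * g⁻¹ → (θ' : H → ℂ) h' = (θ : H → ℂ) h) → θ' ∈ b) := by
    intro g
    rw [hT]
    constructor
    · rintro ⟨h1, h2⟩
      exact ⟨h1, (stab_iff hM hQ hQH hCH hHle heB hb hbe h1).mpr h2⟩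
    · rintro ⟨h1, h2⟩
      exact ⟨h1, (stab_iff hM hQ hQH hCH hHle heB hb hbe h1).mp h2⟩
  have hnd : ¬ p ∣ H.relIndex T := by
    obtain ⟨S⟩ : Nonempty (Sylow p T) := inferInstance
    have hSle : (S : Subgroup T) ≤ H.subgroupOf T := by
      intro s hs
      rw [Subgroup.mem_subgroupOf]
      obtain ⟨k, hk⟩ := (IsPGroup.iff_orderOf.mp S.2) ⟨s, hs⟩
      have hk' : orderOf (s : G) = p ^ k := by
        rw [Subgroup.orderOf_coe]
        have : orderOf (⟨s, hs⟩ : (S : Subgroup T)) = orderOf s := Subgroup.orderOf_mk s hs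
        rw [← this]
        exact hk
      exact hpel (s : G) ((hT _).mp s.2).1 ((hT _).mp s.2).2 ⟨k, hk'⟩
    have h1 : (H.subgroupOf T).index ∣ (S : Subgroup T).index := Subgroup.index_dvd_of_le hSle
    intro hdvd
    exact S.not_dvd_index (dvd_trans hdvd h1)
  have hQdef : IsDefectGroup p M B Q :=
    (inertial_index_iff hM hQ rfl hb hbQ hind hT').mpr hnd
  exact ⟨B, isMaximalBrauerPair_of_card hM hPe' (Cfsg.Agent.S0908.result p M hM B hB Q hQdef)⟩

end

end Cfsg.Agent.Lib.Helper4
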