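import Mathlib
import Cfsg.Agent.Lib.Helper7.CliffordCorr
import Cfsg.Agent.Lib.Helper26.TIInd

set_option autoImplicit false

/-!
# The Clifford correspondence over a subgroup containing the inertia group (helper4)
-/

namespace Cfsg.Agent.Lib.Helper4

open Cfsg Cfsg.Agent.Lib.Helper26 Cfsg.Agent.Lib.Helper2 Cfsg.Agent.Lib.Helper7
open scoped ComplexConjugate Classical

section

variable {G : Type*} [Group G] [Fintype G]

/-- expansion of the restriction of a class function of `I` to a subgroup `H ≤ I` -/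
theorem classInner_restrict_expand {I H : Subgroup G} (hHI : H ≤ I) (X : I → ℂ)
    (hX : IsClassFunction I X) (ϑ : H → ℂ) [Fintype (IrrCharacter I)] :
    classInner (fun n : H => X ⟨(n : G), hHI n.2⟩) ϑ = ∑ η : IrrCharacter I,
      classInner X (η : I → ℂ) *
        classInner (fun n : H => (η : I → ℂ) ⟨(n : G), hHI n.2⟩) ϑ := by
  have hexp := Cfsg.Agent.Lib.Helper4.classFunction_expansion X hX
  have h1 : (fun n : H => X ⟨(n : G), hHI n.2⟩) = ∑ η : IrrCharacter I,
      classInner X (η : I → ℂ) • (fun n : H => (η : I → ℂ) ⟨(n : G), hHI n.2⟩) := by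
    funext n
    have := congrFun hexp ⟨(n : G), hHI n.2⟩
    simp only [Finset.sum_apply, Pi.smul_apply] at this ⊢
    exact this
  conv_lhs => rw [h1]
  rw [classInner_sum_left]
  refine Finset.sum_congr rfl fun η _ => ?_
  rw [classInner_smul_left]

/-- inner products on `I.subgroupOf T` and on `I` -/
theorem classInner_subgroupOf' {I T : Subgroup G} (hIT : I ≤ T) (η : I → ℂ) (ψ : T → ℂ) :
    classInner (fun x : I.subgroupOf T => η ⟨((x : T) : G), Subgroup.mem_subgroupOf.mp x.2⟩)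
      (fun x : I.subgroupOf T => ψ x) =
    classInner η (fun n : I => ψ ⟨(n : G), hIT n.2⟩) := by
  let e : I.subgroupOf T ≃* I := Subgroup.subgroupOfEquivOfLe hIT
  unfold classInner
  rw [Nat.card_congr e.toEquiv]
  congr 1
  refine Fintype.sum_equiv e.toEquiv _ _ (fun x => ?_)
  show η ⟨((x : T) : G), _⟩ * conj (ψ (x : T)) = η (e x) * conj (ψ ⟨((e x : I) : G), hIT (e x).2⟩)
  congr 2

/-- a nonzero sum of products of natural numbers has a nonzero term -/
theorem exists_ne_zero_of_sum_mul_ne_zero {ι : Type*} [Fintype ι] (a c : ι → ℂ)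
    (h : ∑ i, a i * c i ≠ 0) : ∃ i, a i ≠ 0 ∧ c i ≠ 0 := by
  by_contra hcon
  push Not at hcon
  apply h
  apply Finset.sum_eq_zero
  intro i _
  by_cases hi : a i = 0
  · rw [hi, zero_mul]
  · rw [hcon i hi, mul_zero]

/-- a constituent of the restriction of a constituent is a constituent of the restriction -/
theorem classInner_restrict_ne_zero_of_constituent {T K : Subgroup G} (hKT : K ≤ T) {X : T → ℂ}
    (hX : IsCharacter T X) {ν : T → ℂ} (hν : IsIrrCharacter T ν) (hXν : classInner X ν ≠ 0)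
    {η : K → ℂ} (hη : IsCharacter K η)
    (hνη : classInner (fun k : K => ν ⟨(k : G), hKT k.2⟩) η ≠ 0) :
    classInner (fun k : K => X ⟨(k : G), hKT k.2⟩) η ≠ 0 := by
  have : Fintype (IrrCharacter T) := Fintype.ofFinite _
  rw [classInner_restrict_expand hKT X (isClassFunction_of_isCharacter hX) η]
  have hnat1 : ∀ μ : IrrCharacter T, ∃ a : ℕ, classInner X (μ : T → ℂ) = a :=
    fun μ => classInner_isCharacter_nat hX (isCharacter_of_isIrrCharacter μ.2)
  have hnat2 : ∀ μ : IrrCharacter T, ∃ c : ℕ,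
      classInner (fun k : K => (μ : T → ℂ) ⟨(k : G), hKT k.2⟩) η = c := fun μ =>
    classInner_isCharacter_nat
      (isCharacter_comp_hom (isCharacter_of_isIrrCharacter μ.2) (Subgroup.inclusion hKT)) hη
  choose a ha using hnat1
  choose c hc using hnat2
  simp_rw [ha, hc]
  let ν₀ : IrrCharacter T := ⟨ν, hν⟩
  have ha0 : a ν₀ ≠ 0 := by
    intro h0
    apply hXν
    have := ha ν₀
    simp only [ν₀] at this
    rw [this, h0]
    simp
  have hc0 : c ν₀ ≠ 0 := by
    intro h0
    apply hνη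
    have := hc ν₀
    simp only [ν₀] at this
    rw [this, h0]
    simp
  have hle : a ν₀ * c ν₀ ≤ ∑ μ : IrrCharacter T, a μ * c μ :=
    Finset.single_le_sum (f := fun μ => a μ * c μ) (fun _ _ => Nat.zero_le _)
      (Finset.mem_univ ν₀)
  have hpos : 0 < a ν₀ * c ν₀ := Nat.mul_pos (Nat.pos_of_ne_zero ha0) (Nat.pos_of_ne_zero hc0)
  have : (∑ μ : IrrCharacter T, a μ * c μ) ≠ 0 := by omega
  exact_mod_cast this

/-- the degree of a constituent is at most the degree of the character -/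
theorem degree_le_of_constituent {K : Type*} [Group K] [Fintype K] {Φ : K → ℂ}
    (hΦ : IsCharacter K Φ) {ν : K → ℂ} (hν : IsIrrCharacter K ν)
    (hcon : classInner Φ ν ≠ 0) {dΦ dν : ℕ} (h1 : Φ 1 = dΦ) (h2 : ν 1 = dν) : dν ≤ dΦ := by
  have : Fintype (IrrCharacter K) := Fintype.ofFinite _
  have hb : ∀ μ : IrrCharacter K, ∃ b : ℕ, classInner Φ (μ : K → ℂ) = b :=
    fun μ => classInner_isCharacter_nat hΦ (isCharacter_of_isIrrCharacter μ.2)
  choose b hb using hb
  have hexp := Cfsg.Agent.Lib.Helper4.classFunction_expansion Φ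
    (isClassFunction_of_isCharacter hΦ)
  simp_rw [hb] at hexp
  have hd : ∀ μ : IrrCharacter K, ∃ d : ℕ, 0 < d ∧ (μ : K → ℂ) 1 = d := fun μ => irr_degree μ.2
  choose d hdpos hd using hd
  have hsum : dΦ = ∑ μ : IrrCharacter K, b μ * d μ := by
    have h3 : Φ 1 = ∑ μ : IrrCharacter K, (b μ : ℂ) * (d μ : ℂ) := by
      conv_lhs => rw [hexp]
      simp [Finset.sum_apply, hd]
    rw [h1] at h3
    exact_mod_cast h3
  let ν₀ : IrrCharacter K := ⟨ν, hν⟩
  have hbν : b ν₀ ≠ 0 := by
    intro h0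
    apply hcon
    have := hb ν₀
    simp only [ν₀] at this
    rw [this, h0]
    simp
  have hdν : d ν₀ = dν := by
    have := hd ν₀
    simp only [ν₀] at this
    rw [h2] at this
    exact_mod_cast this.symm
  rw [hsum, ← hdν]
  calc d ν₀ = 1 * d ν₀ := (one_mul _).symm
    _ ≤ b ν₀ * d ν₀ := Nat.mul_le_mul_right _ (Nat.one_le_iff_ne_zero.mpr hbν)
    _ ≤ _ := Finset.single_le_sum (f := fun μ => b μ * d μ) (fun _ _ => Nat.zero_le _)
        (Finset.mem_univ ν₀)

/-- a character whose degree is at most that of an irreducible constituent is that constituent -/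
theorem eq_of_constituent_of_degree_le {K : Type*} [Group K] [Fintype K] {Φ : K → ℂ}
    (hΦ : IsCharacter K Φ) {ν : K → ℂ} (hν : IsIrrCharacter K ν)
    (hcon : classInner Φ ν ≠ 0) {dΦ dν : ℕ} (h1 : Φ 1 = dΦ) (h2 : ν 1 = dν) (hle : dΦ ≤ dν) :
    ν = Φ := by
  have : Fintype (IrrCharacter K) := Fintype.ofFinite _
  have hb : ∀ μ : IrrCharacter K, ∃ b : ℕ, classInner Φ (μ : K → ℂ) = b :=
    fun μ => classInner_isCharacter_nat hΦ (isCharacter_of_isIrrCharacter μ.2)
  choose b hb using hb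
  have hexp := Cfsg.Agent.Lib.Helper4.classFunction_expansion Φ
    (isClassFunction_of_isCharacter hΦ)
  simp_rw [hb] at hexp
  have hd : ∀ μ : IrrCharacter K, ∃ d : ℕ, 0 < d ∧ (μ : K → ℂ) 1 = d := fun μ => irr_degree μ.2
  choose d hdpos hd using hd
  have hsum : dΦ = ∑ μ : IrrCharacter K, b μ * d μ := by
    have h3 : Φ 1 = ∑ μ : IrrCharacter K, (b μ : ℂ) * (d μ : ℂ) := by
      conv_lhs => rw [hexp]
      simp [Finset.sum_apply, hd]
    rw [h1] at h3
    exact_mod_cast h3
  let ν₀ : IrrCharacter K := ⟨ν, hν⟩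
  have hbν : b ν₀ ≠ 0 := by
    intro h0
    apply hcon
    have := hb ν₀
    simp only [ν₀] at this
    rw [this, h0]
    simp
  have hdν : d ν₀ = dν := by
    have := hd ν₀
    simp only [ν₀] at this
    rw [h2] at this
    exact_mod_cast this.symm
  have hsplit := Finset.add_sum_erase Finset.univ (fun μ => b μ * d μ) (Finset.mem_univ ν₀)
  set R := ∑ μ ∈ Finset.univ.erase ν₀, b μ * d μ with hR
  have hdpos0 := hdpos ν₀
  have hb1 : b ν₀ = 1 ∧ R = 0 := by
    have h3 : dΦ = b ν₀ * d ν₀ + R := by rw [hsum, ← hsplit]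
    have h4 : 1 ≤ b ν₀ := Nat.one_le_iff_ne_zero.mpr hbν
    rw [← hdν] at hle
    have h5 : b ν₀ * d ν₀ + R ≤ d ν₀ := by rw [← h3]; exact hle
    have h6 : d ν₀ ≤ b ν₀ * d ν₀ := by
      calc d ν₀ = 1 * d ν₀ := (one_mul _).symm
        _ ≤ b ν₀ * d ν₀ := Nat.mul_le_mul_right _ h4
    have h7 : R = 0 := by omega
    have h8 : b ν₀ * d ν₀ = d ν₀ := by omega
    have h9 : b ν₀ = 1 := by
      have : b ν₀ * d ν₀ = 1 * d ν₀ := by rw [h8, one_mul]
      exact Nat.eq_of_mul_eq_mul_right hdpos0 this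
    exact ⟨h9, h7⟩
  rw [hexp, ← Finset.add_sum_erase Finset.univ _ (Finset.mem_univ ν₀)]
  have hz : ∀ μ ∈ Finset.univ.erase ν₀, b μ = 0 := by
    intro μ hμ
    have h3 := (Finset.sum_eq_zero_iff.mp hb1.2) μ hμ
    rcases Nat.mul_eq_zero.mp h3 with h | h
    · exact h
    · exact absurd h (hdpos μ).ne'
  have hrest : ∑ μ ∈ Finset.univ.erase ν₀, (b μ : ℂ) • (μ : K → ℂ) = 0 := by
    apply Finset.sum_eq_zero
    intro μ hμ
    rw [hz μ hμ]
    simp
  rw [hrest, add_zero, hb1.1]
  simp [ν₀]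

end

section

variable {G : Type*} [Group G] [Fintype G] (H : Subgroup G) [hN : H.Normal]

/-- the inertia subgroup of a function on a normal subgroup -/
def inertiaSub (ϑ : H → ℂ) : Subgroup G where
  carrier := {g | ∀ n : H, ϑ ⟨g * n * g⁻¹, hN.conj_mem (n : G) n.2 g⟩ = ϑ n}
  one_mem' := by
    intro n
    congr 1
    apply Subtype.ext
    simp
  mul_mem' := by
    intro a b ha hb n
    have h1 := hb n
    have h2 := ha ⟨b * n * b⁻¹, hN.conj_mem (n : G) n.2 b⟩
    rw [← h1, ← h2]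
    congr 1
    apply Subtype.ext
    simp [mul_assoc]
  inv_mem' := by
    intro a ha n
    have := ha ⟨a⁻¹ * n * a⁻¹⁻¹, hN.conj_mem (n : G) n.2 a⁻¹⟩
    rw [← this]
    congr 1
    apply Subtype.ext
    simp [mul_assoc]

omit [Fintype G] in
theorem mem_inertiaSub (ϑ : H → ℂ) (g : G) :
    g ∈ inertiaSub H ϑ ↔ ∀ n : H, ϑ ⟨g * n * g⁻¹, hN.conj_mem (n : G) n.2 g⟩ = ϑ n := Iff.rfl

omit [Fintype G] in
theorem le_inertiaSub {ϑ : H → ℂ} (hϑ : IsClassFunction H ϑ) : H ≤ inertiaSub H ϑ := by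
  intro h hh n
  have := hϑ n ⟨h, hh⟩
  rw [← this]
  congr 1

/-- **Clifford correspondence** over a subgroup `T` containing the inertia group: an irreducible
character of `T` over `ϑ` induces irreducibly to `G` -/
theorem clifford_corr_general {T : Subgroup G} (hHT : H ≤ T) (ϑ : H → ℂ)
    (hϑ : IsIrrCharacter H ϑ) (hIT : inertiaSub H ϑ ≤ T)
    (ψ : T → ℂ) (hψ : IsIrrCharacter T ψ)
    (hcon : classInner (fun n : H => ψ ⟨(n : G), hHT n.2⟩) ϑ ≠ 0)
    (χ : G → ℂ) (hχ : IsIrrCharacter G χ) (hχψ : classInner (indFun T ψ) χ ≠ 0) :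
    χ = indFun T ψ ∧ classInner (fun n : H => χ n) ϑ ≠ 0 := by
  have : Fintype (IrrCharacter G) := Fintype.ofFinite _
  have : Fintype (IrrCharacter T) := Fintype.ofFinite _
  have : Fintype (IrrCharacter (inertiaSub H ϑ)) := Fintype.ofFinite _
  obtain ⟨I, hIdef⟩ : ∃ I : Subgroup G, I = inertiaSub H ϑ := ⟨_, rfl⟩
  have hI : ∀ g : G, g ∈ I ↔ ∀ n : H, ϑ ⟨g * n * g⁻¹, hN.conj_mem (n : G) n.2 g⟩ = ϑ n := by
    intro g
    rw [hIdef]
    exact mem_inertiaSub H ϑ g
  rw [← hIdef] at hIT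
  have : Fintype (IrrCharacter I) := Fintype.ofFinite _
  have hϑcl := isClassFunction_of_isIrrCharacter hϑ
  have hHI : H ≤ I := by
    rw [hIdef]
    exact le_inertiaSub H hϑcl
  have hχc := isCharacter_of_isIrrCharacter hχ
  have hψc := isCharacter_of_isIrrCharacter hψ
  have hϑc := isCharacter_of_isIrrCharacter hϑ
  have hχcl := isClassFunction_of_isCharacter hχc
  have hψcl := isClassFunction_of_isCharacter hψc
  -- `ψ` is a constituent of `χ_T`
  have haψ : classInner (fun t : T => χ t) ψ ≠ 0 := by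
    rw [classInner_indFun_left' T ψ χ hχcl, ← classInner_conj_symm] at hχψ
    intro h0
    apply hχψ
    have : classInner (χ ∘ T.subtype) ψ = 0 := h0
    rw [this, map_zero]
  -- the restriction of `ψ` to `I`
  have hψI : IsCharacter I (fun i : I => ψ ⟨(i : G), hIT i.2⟩) :=
    isCharacter_comp_hom hψc (Subgroup.inclusion hIT)
  have hψIcl := isClassFunction_of_isCharacter hψI
  have hexp1 := classInner_restrict_expand hHI (fun i : I => ψ ⟨(i : G), hIT i.2⟩) hψIcl ϑ
  have hexp1' : classInner (fun n : H => ψ ⟨(n : G), hHT n.2⟩) ϑ = ∑ η : IrrCharacter I,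
      classInner (fun i : I => ψ ⟨(i : G), hIT i.2⟩) (η : I → ℂ) *
        classInner (fun n : H => (η : I → ℂ) ⟨(n : G), hHI n.2⟩) ϑ := hexp1
  have hcon0 := hcon
  rw [hexp1'] at hcon
  obtain ⟨η, hη1, hη2⟩ := exists_ne_zero_of_sum_mul_ne_zero _ _ hcon
  -- `η` is a constituent of `χ_I`
  have hχT : IsCharacter T (fun t : T => χ t) := isCharacter_comp_hom hχc T.subtype
  have hχI : classInner (fun i : I => χ i) (η : I → ℂ) ≠ 0 :=
    classInner_restrict_ne_zero_of_constituent hIT hχT hψ haψ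
      (isCharacter_of_isIrrCharacter η.2) hη1
  -- Clifford correspondence for the inertia group
  have hIndη : classInner (indFun I (η : I → ℂ)) χ ≠ 0 := by
    rw [classInner_indFun_left' I _ χ hχcl, ← classInner_conj_symm]
    intro h0
    apply hχI
    have h1 : classInner (χ ∘ I.subtype) (η : I → ℂ) = 0 := by
      have := congrArg conj h0
      rwa [Complex.conj_conj, map_zero] at this
    exact h1
  obtain ⟨hχη, hmult, -⟩ := corr_main H I hHI ϑ hϑ hI (η : I → ℂ) η.2 hη2 χ hχ hIndη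
  -- degrees
  obtain ⟨dη, hdηpos, hdη⟩ := irr_degree η.2
  obtain ⟨dψ, hdψpos, hdψ⟩ := irr_degree hψ
  obtain ⟨dχ, hdχpos, hdχ⟩ := irr_degree hχ
  -- `ψ` is a constituent of the character induced from `η`
  have hη' : IsIrrCharacter (I.subgroupOf T)
      (fun x : I.subgroupOf T => (η : I → ℂ)
        ⟨((x : T) : G), Subgroup.mem_subgroupOf.mp x.2⟩) :=
    isIrrCharacter_comp_mulEquiv η.2 (Subgroup.subgroupOfEquivOfLe hIT)
  have hΦ : IsCharacter T (indFun (I.subgroupOf T) (fun x : I.subgroupOf T => (η : I → ℂ)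
        ⟨((x : T) : G), Subgroup.mem_subgroupOf.mp x.2⟩)) :=
    isCharacter_indFun _ (isCharacter_of_isIrrCharacter hη')
  have hΦψ : classInner (indFun (I.subgroupOf T) (fun x : I.subgroupOf T => (η : I → ℂ)
        ⟨((x : T) : G), Subgroup.mem_subgroupOf.mp x.2⟩)) ψ ≠ 0 := by
    rw [classInner_indFun_left' (I.subgroupOf T) _ ψ hψcl]
    have := classInner_subgroupOf' hIT (η : I → ℂ) ψ
    have e : (ψ ∘ (I.subgroupOf T).subtype) = (fun x : I.subgroupOf T => ψ x) := rfl
    rw [e, this, ← classInner_conj_symm]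
    intro h0
    apply hη1
    have := congrArg conj h0
    rwa [Complex.conj_conj, map_zero] at this
  have hΦ1 : indFun (I.subgroupOf T) (fun x : I.subgroupOf T => (η : I → ℂ)
        ⟨((x : T) : G), Subgroup.mem_subgroupOf.mp x.2⟩) 1 =
      ((I.relIndex T * dη : ℕ) : ℂ) := by
    have hcK : (Nat.card ↥(I.subgroupOf T) : ℂ) ≠ 0 := by
      have : Nat.card ↥(I.subgroupOf T) ≠ 0 := Nat.card_pos.ne'
      exact_mod_cast this
    rw [indFun_one, ← Nat.card_eq_fintype_card, ← Subgroup.card_mul_index (I.subgroupOf T)]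
    have e1 : (η : I → ℂ) ⟨(((1 : I.subgroupOf T) : T) : G),
        Subgroup.mem_subgroupOf.mp (1 : I.subgroupOf T).2⟩ = (η : I → ℂ) 1 := rfl
    rw [e1, hdη]
    unfold Subgroup.relIndex
    push_cast
    field_simp
  have hle1 : dψ ≤ I.relIndex T * dη := degree_le_of_constituent hΦ hψ hΦψ hΦ1 hdψ
  -- degree of `χ`
  have hχ1 : dχ = I.index * dη := by
    have h1 : χ 1 = ((I.index * dη : ℕ) : ℂ) := by
      have hcK : (Nat.card ↥I : ℂ) ≠ 0 := by
        have : Nat.card ↥I ≠ 0 := Nat.card_pos.ne'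
        exact_mod_cast this
      rw [hχη, indFun_one, ← Nat.card_eq_fintype_card, ← Subgroup.card_mul_index I, hdη]
      push_cast
      field_simp
    rw [hdχ] at h1
    exact_mod_cast h1
  -- degree of the induced character
  have hΨ : IsCharacter G (indFun T ψ) := isCharacter_indFun T hψc
  have hΨ1 : indFun T ψ 1 = ((T.index * dψ : ℕ) : ℂ) := by
    have hcK : (Nat.card ↥T : ℂ) ≠ 0 := by
      have : Nat.card ↥T ≠ 0 := Nat.card_pos.ne'
      exact_mod_cast this
    rw [indFun_one, ← Nat.card_eq_fintype_card, ← Subgroup.card_mul_index T, hdψ]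
    push_cast
    field_simp
  have hle2 : T.index * dψ ≤ dχ := by
    rw [hχ1, ← Subgroup.relIndex_mul_index hIT]
    calc T.index * dψ ≤ T.index * (I.relIndex T * dη) := Nat.mul_le_mul_left _ hle1
      _ = I.relIndex T * T.index * dη := by ring
  have hfinal := eq_of_constituent_of_degree_le hΨ hχ hχψ hΨ1 hdχ hle2
  refine ⟨hfinal, ?_⟩
  exact classInner_restrict_ne_zero_of_constituent hHT hχT hψ haψ hϑc hcon0

end


end Cfsg.Agent.Lib.Helper4
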