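import Mathlib
import Cfsg.Agent.Lib.Helper4.CliffordGen
import Cfsg.Agent.Lib.Helper4.BlockPIndex
import Cfsg.Agent.Lib.Helper4.BrauerSub
import Cfsg.Agent.Lib.Helper28.BrauerH
import Cfsg.Agent.Lib.Helper26.TIInd

set_option autoImplicit false

/-!
# Fong–Reynolds, part A: convolution tools and induction of class functions (helper4)
-/

namespace Cfsg.Agent.Lib.Helper4

open Cfsg Cfsg.Agent.Lib.Helper28 Cfsg.Agent.Lib.Helper26
open scoped ComplexConjugate Classical

section

variable {G : Type*} [Group G] [Fintype G]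

/-- conjugate of a function on `G` -/
def cjF (g : G) (F : G → ℂ) : G → ℂ := fun x => F (g⁻¹ * x * g)

theorem conv_assoc' (A B C : G → ℂ) : conv (conv A B) C = conv A (conv B C) := by
  funext x
  show ∑ g, (∑ h, A h * B (h⁻¹ * g)) * C (g⁻¹ * x) = ∑ h, A h * ∑ g, B g * C (g⁻¹ * (h⁻¹ * x))
  simp only [Finset.sum_mul, Finset.mul_sum]
  rw [Finset.sum_comm]
  refine Finset.sum_congr rfl fun h _ => ?_
  refine Fintype.sum_equiv (Equiv.mulLeft h⁻¹) _ _ (fun g => ?_)
  show A h * B (h⁻¹ * g) * C (g⁻¹ * x) = A h * (B (h⁻¹ * g) * C ((h⁻¹ * g)⁻¹ * (h⁻¹ * x)))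
  have : (h⁻¹ * g)⁻¹ * (h⁻¹ * x) = g⁻¹ * x := by group
  rw [this]
  ring

theorem conv_zero_right (A : G → ℂ) : conv A (0 : G → ℂ) = 0 := by
  funext x
  show ∑ g, A g * (0 : ℂ) = 0
  simp

theorem conv_cjF (g : G) (A B : G → ℂ) : conv (cjF g A) (cjF g B) = cjF g (conv A B) := by
  funext x
  show ∑ h, A (g⁻¹ * h * g) * B (g⁻¹ * (h⁻¹ * x) * g) = ∑ h, A h * B (h⁻¹ * (g⁻¹ * x * g))
  refine Fintype.sum_equiv (MulAut.conj g⁻¹).toEquiv _ _ (fun h => ?_)
  show A (g⁻¹ * h * g) * B (g⁻¹ * (h⁻¹ * x) * g) =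
    A (MulAut.conj g⁻¹ h) * B ((MulAut.conj g⁻¹ h)⁻¹ * (g⁻¹ * x * g))
  rw [MulAut.conj_apply, inv_inv]
  have : (g⁻¹ * h * g)⁻¹ * (g⁻¹ * x * g) = g⁻¹ * (h⁻¹ * x) * g := by group
  rw [this]

/-- the induced function as an average of conjugates -/
theorem indFun_eq_sum_cjF (T : Subgroup G) (y : T → ℂ) (x : G) :
    indFun T y x = (Nat.card T : ℂ)⁻¹ * ∑ g : G, cjF g (extendByZero T y) x := rfl

omit [Fintype G] in
/-- the extension by zero of a class function of `T` is invariant under `T` -/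
theorem cjF_extendByZero_of_mem {T : Subgroup G} {y : T → ℂ} (hy : IsClassFunction T y)
    {t : G} (ht : t ∈ T) : cjF t (extendByZero T y) = extendByZero T y := by
  funext x
  show extendByZero T y (t⁻¹ * x * t) = extendByZero T y x
  by_cases hx : x ∈ T
  · have hx' : t⁻¹ * x * t ∈ T := T.mul_mem (T.mul_mem (T.inv_mem ht) hx) ht
    rw [extendByZero_apply_mem T y _ hx', extendByZero_apply_mem T y _ hx]
    have := hy ⟨x, hx⟩ ⟨t⁻¹, T.inv_mem ht⟩
    rw [← this]
    congr 1
    apply Subtype.ext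
    simp
  · have hx' : t⁻¹ * x * t ∉ T := by
      intro h
      apply hx
      have := T.mul_mem (T.mul_mem ht h) (T.inv_mem ht)
      have e : t * (t⁻¹ * x * t) * t⁻¹ = x := by group
      rwa [e] at this
    rw [extendByZero_apply_not_mem T y _ hx', extendByZero_apply_not_mem T y _ hx]

/-- sums over a group of a function invariant under right translation by a subgroup -/
theorem sum_eq_card_mul_sum_transversal (T : Subgroup G) (f : G → ℂ)
    (hf : ∀ (g : G) (t : T), f (g * t) = f g) :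
    ∃ S : Finset G, ∑ g, f g = (Nat.card T : ℂ) * ∑ s ∈ S, f s := by
  obtain ⟨S, hS, -⟩ := T.exists_isComplement_left 1
  have : Fintype S := Fintype.ofFinite _
  refine ⟨S.toFinset, ?_⟩
  let e : S × T ≃ G := Equiv.ofBijective (fun x : S × T => x.1.1 * x.2.1) hS
  rw [← e.sum_comp, Fintype.sum_prod_type]
  have h1 : ∀ s : S, ∑ t : T, f (e (s, t)) = (Nat.card T : ℂ) * f s := by
    intro s
    have : ∀ t : T, f (e (s, t)) = f s := fun t => hf s t
    rw [Finset.sum_congr rfl (fun t _ => this t), Finset.sum_const, Finset.card_univ,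
      nsmul_eq_mul, Nat.card_eq_fintype_card]
  rw [Finset.sum_congr rfl (fun s _ => h1 s), ← Finset.mul_sum]
  congr 1
  exact Finset.sum_set_coe S


/-- the function induced from a class function with local values has local values -/
theorem indFun_memLocalRing {M : Ideal AlgInt} [M.IsPrime] (T : Subgroup G) {y : T → ℂ}
    (hy : IsClassFunction T y) (hR : ∀ t, MemLocalRing M (y t)) (x : G) :
    MemLocalRing M (indFun T y x) := by
  have hMtop : M ≠ ⊤ := Ideal.IsPrime.ne_top inferInstance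
  obtain ⟨S, hS⟩ := sum_eq_card_mul_sum_transversal T
    (fun g => cjF g (extendByZero T y) x) (by
      intro g t
      show extendByZero T y ((g * (t : G))⁻¹ * x * (g * (t : G))) =
        extendByZero T y (g⁻¹ * x * g)
      have h1 := congrFun (cjF_extendByZero_of_mem hy t.2) (g⁻¹ * x * g)
      have e : (g * (t : G))⁻¹ * x * (g * (t : G)) = (t : G)⁻¹ * (g⁻¹ * x * g) * (t : G) := by
        group
      rw [e]
      exact h1)
  rw [indFun_eq_sum_cjF, hS]
  have hcK : (Nat.card ↥T : ℂ) ≠ 0 := by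
    have : Nat.card ↥T ≠ 0 := Nat.card_pos.ne'
    exact_mod_cast this
  rw [← mul_assoc, inv_mul_cancel₀ hcK, one_mul]
  apply memLocalRing_sum
  intro s _
  show MemLocalRing M (extendByZero T y (s⁻¹ * x * s))
  by_cases h : s⁻¹ * x * s ∈ T
  · rw [extendByZero_apply_mem T y _ h]
    exact hR _
  · rw [extendByZero_apply_not_mem T y _ h]
    exact memLocalRing_zero hMtop

/-- the central character of an induced character -/
theorem omegaF_indFun (T : Subgroup G) (ψ : T → ℂ) (hψ1 : ψ 1 ≠ 0) (a : G → ℂ)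
    (ha : IsClassFunction G a) :
    omegaF (indFun T ψ) a = omegaF ψ (resMap T a) := by
  have hF : IsClassFunction G (fun g => conj (a g)) := by
    intro g k
    show conj (a (k * g * k⁻¹)) = conj (a g)
    rw [ha g k]
  have h1 := classInner_indFun_left' T ψ _ hF
  unfold classInner at h1
  have hcG : (Nat.card G : ℂ) ≠ 0 := by
    have : Nat.card G ≠ 0 := Nat.card_pos.ne'
    exact_mod_cast this
  have hcT : (Nat.card ↥T : ℂ) ≠ 0 := by
    have : Nat.card ↥T ≠ 0 := Nat.card_pos.ne'
    exact_mod_cast this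
  have h2 : ∑ g, a g * indFun T ψ g = (Nat.card G : ℂ) * ((Nat.card ↥T : ℂ)⁻¹ *
      ∑ t : T, resMap T a t * ψ t) := by
    have e1 : ∑ g, indFun T ψ g * conj (conj (a g)) = ∑ g, a g * indFun T ψ g := by
      refine Finset.sum_congr rfl fun g _ => ?_
      rw [Complex.conj_conj, mul_comm]
    have e2 : ∑ t : T, ψ t * conj (((fun g => conj (a g)) ∘ T.subtype) t) =
        ∑ t : T, resMap T a t * ψ t := by
      refine Finset.sum_congr rfl fun t _ => ?_
      show ψ t * conj (conj (a (t : G))) = a (t : G) * ψ t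
      rw [Complex.conj_conj, mul_comm]
    rw [e1, e2] at h1
    rw [← h1]
    field_simp
  unfold omegaF
  rw [h2, indFun_one, ← Nat.card_eq_fintype_card]
  field_simp

end

end Cfsg.Agent.Lib.Helper4
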