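import Mathlib
import Cfsg.Agent.Lib.Helper4.FongReynoldsA
import Cfsg.Agent.Lib.Helper4.BrauerInert
import Cfsg.Agent.Lib.Helper4.BrauerTrace

set_option autoImplicit false

/-!
# Fong–Reynolds, part B: the idempotent of a block of a normal subgroup and its stabilizer (helper4)
-/

namespace Cfsg.Agent.Lib.Helper4

open Cfsg Cfsg.Agent.Lib.Helper28 Cfsg.Agent.Lib.Helper26
open scoped ComplexConjugate Classical

section

variable {G : Type*} [Group G] [Fintype G] {M : Ideal AlgInt} (N : Subgroup G) [hN : N.Normal]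

omit [Fintype G] in
theorem conjIrr_eq_conjFunN (g : G) (θ : IrrCharacter N) :
    (conjIrr N g (normal_le_normalizer N g) θ : N → ℂ) = conjFunN N (θ : N → ℂ) g⁻¹ := by
  funext k
  rw [conjIrr_apply]
  unfold conjFunN
  refine congrArg _ (Subtype.ext ?_)
  show g⁻¹ * (k : G) * g = g⁻¹ * (k : G) * g⁻¹⁻¹
  rw [inv_inv]

/-- the stabilizer of a block, in the form used by the statements -/
def IsBlockStab (b : Set (IrrCharacter N)) (T : Subgroup G) : Prop :=
  ∀ g : G, g ∈ T ↔ ∀ θ ∈ b, ∀ θ' : IrrCharacter N,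
    (θ' : N → ℂ) = conjFunN N (θ : N → ℂ) g → θ' ∈ b

theorem conjIrr_image_eq_of_mem [M.IsPrime] {b : Set (IrrCharacter N)} (hb : IsPBlock M b)
    {T : Subgroup G} (hT : IsBlockStab N b T) {g : G} (hg : g ∈ T) :
    conjIrr N g (normal_le_normalizer N g) '' b = b := by
  have hsub : ∀ θ ∈ b, conjIrr N g (normal_le_normalizer N g) θ ∈ b := by
    intro θ hθ
    exact (hT g⁻¹).mp (T.inv_mem hg) θ hθ _ (conjIrr_eq_conjFunN N g θ)
  obtain ⟨θ₀, hθ₀⟩ := block_nonempty hb
  exact Cfsg.Agent.Lib.Helper4.block_eq_of_mem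
    (isPBlock_image_conjIrr N g (normal_le_normalizer N g) hb) hb
    ⟨θ₀, hθ₀, rfl⟩ (hsub θ₀ hθ₀)

theorem conjIrr_image_inter_eq_empty [M.IsPrime] {b : Set (IrrCharacter N)} (hb : IsPBlock M b)
    {T : Subgroup G} (hT : IsBlockStab N b T) {g : G} (hg : g ∉ T) :
    conjIrr N g (normal_le_normalizer N g) '' b ∩ b = ∅ := by
  by_contra hne
  apply hg
  have heq : conjIrr N g (normal_le_normalizer N g) '' b = b := by
    by_contra hneq
    exact hne (block_inter_eq_empty
      (isPBlock_image_conjIrr N g (normal_le_normalizer N g) hb) hb hneq)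
  have hinv : g⁻¹ ∈ T := by
    rw [hT g⁻¹]
    intro θ hθ θ' hθ'
    have h1 : conjIrr N g (normal_le_normalizer N g) θ ∈ b := by
      rw [← heq]
      exact ⟨θ, hθ, rfl⟩
    have h2 : θ' = conjIrr N g (normal_le_normalizer N g) θ := by
      apply Subtype.ext
      rw [hθ', conjIrr_eq_conjFunN]
    rw [h2]
    exact h1
  have := T.inv_mem hinv
  rwa [inv_inv] at this

/-- the conjugate of the idempotent of `b` is the idempotent of the conjugate block -/
theorem cjF_subgroupBlockCoeff (b : Set (IrrCharacter N)) (g : G) :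
    cjF g (subgroupBlockCoeff N b) =
      subgroupBlockCoeff N (conjIrr N g (normal_le_normalizer N g) '' b) := by
  funext x
  show subgroupBlockCoeff N b (g⁻¹ * x * g) = _
  rw [subgroupBlockCoeff_image_conjIrr]

theorem cjF_idem_of_mem [M.IsPrime] {b : Set (IrrCharacter N)} (hb : IsPBlock M b)
    {T : Subgroup G} (hT : IsBlockStab N b T) {g : G} (hg : g ∈ T) :
    cjF g (subgroupBlockCoeff N b) = subgroupBlockCoeff N b := by
  rw [cjF_subgroupBlockCoeff, conjIrr_image_eq_of_mem N hb hT hg]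

omit hN in
theorem conv_idem_self (b : Set (IrrCharacter N)) :
    conv (subgroupBlockCoeff N b) (subgroupBlockCoeff N b) = subgroupBlockCoeff N b := by
  rw [subgroupBlockCoeff_eq_extZero, conv_extZero, conv_blockCoeff_inter, Set.inter_self]

theorem conv_cjF_idem_of_not_mem [M.IsPrime] {b : Set (IrrCharacter N)} (hb : IsPBlock M b)
    {T : Subgroup G} (hT : IsBlockStab N b T) {g : G} (hg : g ∉ T) :
    conv (cjF g (subgroupBlockCoeff N b)) (subgroupBlockCoeff N b) = 0 := by
  rw [cjF_subgroupBlockCoeff, subgroupBlockCoeff_eq_extZero, subgroupBlockCoeff_eq_extZero,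
    conv_extZero, conv_blockCoeff_inter, conjIrr_image_inter_eq_empty N hb hT hg]
  funext x
  by_cases hx : x ∈ N
  · have := extZero_mem' N (blockCoeff (∅ : Set (IrrCharacter N))) ⟨x, hx⟩
    simp only at this
    rw [this, blockCoeff_empty]
    rfl
  · rw [extZero_not_mem' N _ hx]
    rfl

omit hN in
theorem idem_memLocalRing [M.IsPrime] {b : Set (IrrCharacter N)} (hb : IsPBlock M b) (x : G) :
    MemLocalRing M (subgroupBlockCoeff N b x) := by
  have hMtop : M ≠ ⊤ := Ideal.IsPrime.ne_top inferInstance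
  rw [subgroupBlockCoeff_eq_extZero]
  by_cases hx : x ∈ N
  · have := extZero_mem' N (blockCoeff b) ⟨x, hx⟩
    simp only at this
    rw [this]
    exact osima hb _
  · rw [extZero_not_mem' N _ hx]
    exact memLocalRing_zero hMtop

omit hN in
theorem idem_eq_zero_of_not_mem (b : Set (IrrCharacter N)) {x : G} (hx : x ∉ N) :
    subgroupBlockCoeff N b x = 0 := by
  rw [subgroupBlockCoeff_eq_extZero, extZero_not_mem' N _ hx]

end

end Cfsg.Agent.Lib.Helper4
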