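import Mathlib
import Cfsg.Agent.Lib.Helper4.FongReynoldsB

set_option autoImplicit false

/-!
# Fong–Reynolds, part C: characters of the stabilizer lying over the block (helper4)
-/

namespace Cfsg.Agent.Lib.Helper4

open Cfsg Cfsg.Agent.Lib.Helper28 Cfsg.Agent.Lib.Helper26
open scoped ComplexConjugate Classical

section

variable {G : Type*} [Group G] [Fintype G] {M : Ideal AlgInt} (N : Subgroup G) [hN : N.Normal]

/-- a sum over `G` of a function vanishing off `T` -/
theorem sum_eq_sum_subgroup_of_vanish (T : Subgroup G) (F : G → ℂ) (h : ∀ g, g ∉ T → F g = 0) :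
    ∑ g, F g = ∑ t : T, F t := by
  rw [← Finset.sum_subtype (Finset.univ.filter (fun g : G => g ∈ T)) (by simp) F,
    Finset.sum_filter]
  refine Finset.sum_congr rfl fun g _ => ?_
  by_cases hg : g ∈ T
  · rw [if_pos hg]
  · rw [if_neg hg, h g hg]

/-- the idempotent of `b` restricted to the stabilizer is a class function -/
theorem isClassFunction_resMap_idem [M.IsPrime] {b : Set (IrrCharacter N)} (hb : IsPBlock M b)
    {T : Subgroup G} (hT : IsBlockStab N b T) :
    IsClassFunction T (resMap T (subgroupBlockCoeff N b)) := by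
  intro g k
  show subgroupBlockCoeff N b ((k * g * k⁻¹ : T) : G) = subgroupBlockCoeff N b (g : G)
  have h1 := congrFun (cjF_idem_of_mem N hb hT (T.inv_mem k.2)) (g : G)
  rw [← h1]
  show _ = subgroupBlockCoeff N b ((k : G)⁻¹⁻¹ * (g : G) * (k : G)⁻¹)
  rw [inv_inv]
  rfl

omit hN in
/-- convolution with the idempotent commutes with restriction to `T ≥ N` -/
theorem conv_resMap_idem (b : Set (IrrCharacter N)) {T : Subgroup G} (hNT : N ≤ T)
    (a : G → ℂ) :
    conv (resMap T a) (resMap T (subgroupBlockCoeff N b)) =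
      resMap T (conv a (subgroupBlockCoeff N b)) := by
  funext t
  show ∑ s : T, a (s : G) * subgroupBlockCoeff N b ((s⁻¹ * t : T) : G) =
    ∑ g : G, a g * subgroupBlockCoeff N b (g⁻¹ * (t : G))
  rw [sum_eq_sum_subgroup_of_vanish T (fun g => a g * subgroupBlockCoeff N b (g⁻¹ * (t : G)))]
  · rfl
  · intro g hg
    have : g⁻¹ * (t : G) ∉ N := by
      intro h
      apply hg
      have h1 := T.mul_mem t.2 (T.inv_mem (hNT h))
      have e : (t : G) * (g⁻¹ * (t : G))⁻¹ = g := by group
      rwa [e] at h1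
    show a g * subgroupBlockCoeff N b (g⁻¹ * (t : G)) = 0
    rw [idem_eq_zero_of_not_mem N b this, mul_zero]

/-- the central character of a character of `T` at the idempotent of `b` is `0` or `1` -/
theorem omegaF_idem_zero_or_one [M.IsPrime] {b : Set (IrrCharacter N)} (hb : IsPBlock M b)
    {T : Subgroup G} (hT : IsBlockStab N b T) (hNT : N ≤ T) {ψ : T → ℂ}
    (hψ : IsIrrCharacter T ψ) :
    omegaF ψ (resMap T (subgroupBlockCoeff N b)) = 0 ∨
      omegaF ψ (resMap T (subgroupBlockCoeff N b)) = 1 := by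
  have hcf := isClassFunction_resMap_idem N hb hT
  have h1 := omegaF_conv hψ _ _ hcf hcf
  rw [conv_resMap_idem N b hNT, conv_idem_self] at h1
  set w := omegaF ψ (resMap T (subgroupBlockCoeff N b)) with hw
  have h2 : w * (w - 1) = 0 := by
    rw [mul_sub, mul_one, ← h1, sub_self]
  rcases mul_eq_zero.mp h2 with h | h
  · left; exact h
  · right; exact sub_eq_zero.mp h

/-- the central character at the idempotent in terms of the constituents -/
theorem omegaF_idem_eq_sum [Fintype (IrrCharacter N)] (b : Set (IrrCharacter N))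
    {T : Subgroup G} (hNT : N ≤ T) (ψ : T → ℂ) :
    omegaF ψ (resMap T (subgroupBlockCoeff N b)) =
      (∑ φ : IrrCharacter N, if φ ∈ b then (φ : N → ℂ) 1 *
        classInner (fun n : N => ψ ⟨(n : G), hNT n.2⟩) (φ : N → ℂ) else 0) / ψ 1 := by
  unfold omegaF
  congr 1
  have h1 := sum_extZero_blockCoeff N b (extendByZero T ψ)
  have h2 : (extendByZero T ψ) ∘ N.subtype = fun n : N => ψ ⟨(n : G), hNT n.2⟩ := by
    funext n
    show extendByZero T ψ (n : G) = _
    rw [extendByZero_apply_mem T ψ _ (hNT n.2)]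
  rw [h2] at h1
  rw [← h1, sum_eq_sum_subgroup_of_vanish T]
  · refine Finset.sum_congr rfl fun t _ => ?_
    show subgroupBlockCoeff N b (t : G) * ψ t = _
    rw [subgroupBlockCoeff_eq_extZero, extendByZero_apply_coe]
  · intro g hg
    rw [extendByZero_apply_not_mem T ψ g hg, mul_zero]

/-- a character of `T` lies over `b` iff its central character is `1` at the idempotent -/
theorem omegaF_idem_eq_one_iff [M.IsPrime] {b : Set (IrrCharacter N)} (hb : IsPBlock M b)
    {T : Subgroup G} (hT : IsBlockStab N b T) (hNT : N ≤ T) {ψ : T → ℂ}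
    (hψ : IsIrrCharacter T ψ) :
    omegaF ψ (resMap T (subgroupBlockCoeff N b)) = 1 ↔
      ∃ φ ∈ b, classInner (fun n : N => ψ ⟨(n : G), hNT n.2⟩) (φ : N → ℂ) ≠ 0 := by
  have : Fintype (IrrCharacter N) := Fintype.ofFinite _
  have hψ1 : ψ 1 ≠ 0 := irr_one_ne_zero hψ
  have hψN : IsCharacter N (fun n : N => ψ ⟨(n : G), hNT n.2⟩) :=
    Cfsg.Agent.Lib.Helper2.isCharacter_comp_hom
      (Helper26.isCharacter_of_isIrrCharacter hψ) (Subgroup.inclusion hNT)
  have hnat : ∀ φ : IrrCharacter N, ∃ m : ℕ,
      classInner (fun n : N => ψ ⟨(n : G), hNT n.2⟩) (φ : N → ℂ) = m := fun φ =>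
    classInner_isCharacter_nat hψN (Helper26.isCharacter_of_isIrrCharacter φ.2)
  choose m hm using hnat
  have hd : ∀ φ : IrrCharacter N, ∃ d : ℕ, 0 < d ∧ (φ : N → ℂ) 1 = d := fun φ => irr_degree φ.2
  choose d hdpos hd using hd
  have hsum : (∑ φ : IrrCharacter N, if φ ∈ b then (φ : N → ℂ) 1 *
      classInner (fun n : N => ψ ⟨(n : G), hNT n.2⟩) (φ : N → ℂ) else 0) =
      ((∑ φ : IrrCharacter N, if φ ∈ b then d φ * m φ else 0 : ℕ) : ℂ) := by
    push_cast
    refine Finset.sum_congr rfl fun φ _ => ?_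
    split_ifs
    · rw [hd φ, hm φ]
    · rfl
  rw [omegaF_idem_eq_sum N b hNT ψ, hsum]
  constructor
  · intro h1
    by_contra hcon
    push Not at hcon
    have h0 : (∑ φ : IrrCharacter N, if φ ∈ b then d φ * m φ else 0) = 0 := by
      apply Finset.sum_eq_zero
      intro φ _
      split_ifs with hφ
      · have := hcon φ hφ
        rw [hm φ] at this
        have hm0 : m φ = 0 := by exact_mod_cast this
        rw [hm0, mul_zero]
      · rfl
    rw [h0] at h1
    simp at h1
  · rintro ⟨φ, hφ, hne⟩
    have hm0 : m φ ≠ 0 := by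
      intro h0
      apply hne
      rw [hm φ, h0]
      simp
    have hpos : 0 < ∑ φ : IrrCharacter N, if φ ∈ b then d φ * m φ else 0 := by
      have h1 : d φ * m φ ≤ ∑ φ : IrrCharacter N, if φ ∈ b then d φ * m φ else 0 := by
        have := Finset.single_le_sum (f := fun φ : IrrCharacter N =>
          if φ ∈ b then d φ * m φ else 0) (fun _ _ => Nat.zero_le _) (Finset.mem_univ φ)
        simp only [if_pos hφ] at this
        exact this
      have h2 : 0 < d φ * m φ := Nat.mul_pos (hdpos φ) (Nat.pos_of_ne_zero hm0)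
      omega
    rcases omegaF_idem_zero_or_one N hb hT hNT hψ with h | h
    · exfalso
      rw [omegaF_idem_eq_sum N b hNT ψ, hsum] at h
      rcases div_eq_zero_iff.mp h with h' | h'
      · have : (∑ φ : IrrCharacter N, if φ ∈ b then d φ * m φ else 0) = 0 := by
          exact_mod_cast h'
        omega
      · exact hψ1 h'
    · rw [omegaF_idem_eq_sum N b hNT ψ, hsum] at h
      exact h

/-- characters of `T` in the same block lie over `b` simultaneously -/
theorem omegaF_idem_eq_of_sameBlock [M.IsPrime] {b : Set (IrrCharacter N)} (hb : IsPBlock M b)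
    {T : Subgroup G} (hT : IsBlockStab N b T) (hNT : N ≤ T) {ψ ψ' : T → ℂ}
    (hψ : IsIrrCharacter T ψ) (hψ' : IsIrrCharacter T ψ') (hsb : SameBlock M ψ ψ') :
    omegaF ψ (resMap T (subgroupBlockCoeff N b)) =
      omegaF ψ' (resMap T (subgroupBlockCoeff N b)) := by
  have hMtop : M ≠ ⊤ := Ideal.IsPrime.ne_top inferInstance
  have hcf := isClassFunction_resMap_idem N hb hT
  have h1 := omegaF_sub_memLocalIdeal (Helper26.isClassFunction_of_isIrrCharacter hψ)
    (Helper26.isClassFunction_of_isIrrCharacter hψ') hsb _ hcf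
    (fun t => idem_memLocalRing N hb (t : G))
  rcases omegaF_idem_zero_or_one N hb hT hNT hψ with h | h <;>
  rcases omegaF_idem_zero_or_one N hb hT hNT hψ' with h' | h'
  · rw [h, h']
  · exfalso
    rw [h, h'] at h1
    have : MemLocalIdeal M (1 : ℂ) := by
      have := memLocalIdeal_sub (memLocalIdeal_zero hMtop) h1
      simpa using this
    exact not_memLocalIdeal_one hMtop this
  · exfalso
    rw [h, h'] at h1
    have : MemLocalIdeal M (1 : ℂ) := by simpa using h1
    exact not_memLocalIdeal_one hMtop this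
  · rw [h, h']

end

end Cfsg.Agent.Lib.Helper4
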