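import Mathlib
import Cfsg.Agent.Lib.Helper4.FongReynoldsC

set_option autoImplicit false

/-!
# Fong–Reynolds, part D: the key trace computation (helper4)
-/

namespace Cfsg.Agent.Lib.Helper4

open Cfsg Cfsg.Agent.Lib.Helper28 Cfsg.Agent.Lib.Helper26
open scoped ComplexConjugate Classical

section

variable {G : Type*} [Group G] [Fintype G] {M : Ideal AlgInt} (N : Subgroup G) [hN : N.Normal]

omit [Fintype G] in
theorem extendByZero_eq_extZero (T : Subgroup G) (y : T → ℂ) :
    extendByZero T y = extZero T y := by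
  funext x
  by_cases hx : x ∈ T
  · rw [extendByZero_apply_mem T y x hx]
    exact (extZero_mem' T y ⟨x, hx⟩).symm
  · rw [extendByZero_apply_not_mem T y x hx, extZero_not_mem' T y hx]

omit hN in
theorem extZero_resMap_idem (b : Set (IrrCharacter N)) {T : Subgroup G} (hNT : N ≤ T) :
    extZero T (resMap T (subgroupBlockCoeff N b)) = subgroupBlockCoeff N b := by
  funext x
  by_cases hx : x ∈ T
  · exact extZero_mem' T _ ⟨x, hx⟩
  · rw [extZero_not_mem' T _ hx, idem_eq_zero_of_not_mem N b (fun h => hx (hNT h))]

omit hN in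
/-- `y = L * e_b` is fixed by right multiplication with `e_b` -/
theorem conv_extendByZero_idem (b : Set (IrrCharacter N)) {T : Subgroup G} (hNT : N ≤ T)
    (L : T → ℂ) :
    conv (extendByZero T (conv L (resMap T (subgroupBlockCoeff N b)))) (subgroupBlockCoeff N b) =
      extendByZero T (conv L (resMap T (subgroupBlockCoeff N b))) := by
  rw [extendByZero_eq_extZero]
  have h1 : conv (extZero T (conv L (resMap T (subgroupBlockCoeff N b))))
      (subgroupBlockCoeff N b) =
      conv (extZero T (conv L (resMap T (subgroupBlockCoeff N b))))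
        (extZero T (resMap T (subgroupBlockCoeff N b))) := by
    rw [extZero_resMap_idem N b hNT]
  rw [h1, conv_extZero, conv_assoc', conv_resMap_idem N b hNT, conv_idem_self]

/-- **key computation**: `Tr_T^G(y) e_b = y` for `y = L e_b` -/
theorem conv_indFun_idem [M.IsPrime] {b : Set (IrrCharacter N)} (hb : IsPBlock M b)
    {T : Subgroup G} (hT : IsBlockStab N b T) (hNT : N ≤ T) {L : T → ℂ}
    (hL : IsClassFunction T L) :
    conv (indFun T (conv L (resMap T (subgroupBlockCoeff N b)))) (subgroupBlockCoeff N b) =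
      extendByZero T (conv L (resMap T (subgroupBlockCoeff N b))) := by
  obtain ⟨y, hy⟩ : ∃ y : T → ℂ, y = conv L (resMap T (subgroupBlockCoeff N b)) := ⟨_, rfl⟩
  obtain ⟨ε, hε⟩ : ∃ ε : G → ℂ, ε = subgroupBlockCoeff N b := ⟨_, rfl⟩
  rw [← hy, ← hε]
  have hycf : IsClassFunction T y := by
    rw [hy]
    exact isClassFunction_conv hL (isClassFunction_resMap_idem N hb hT)
  have hfix : conv (extendByZero T y) ε = extendByZero T y := by
    rw [hy, hε]
    exact conv_extendByZero_idem N b hNT L
  have hterm : ∀ g : G, conv (cjF g (extendByZero T y)) ε =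
      if g ∈ T then extendByZero T y else 0 := by
    intro g
    by_cases hg : g ∈ T
    · rw [if_pos hg, cjF_extendByZero_of_mem hycf hg, hfix]
    · rw [if_neg hg]
      have h1 : cjF g (extendByZero T y) = conv (cjF g (extendByZero T y)) (cjF g ε) := by
        rw [conv_cjF, hfix]
      rw [h1, conv_assoc', hε, conv_cjF_idem_of_not_mem N hb hT hg, conv_zero_right]
  funext x
  have hcT : (Nat.card ↥T : ℂ) ≠ 0 := by
    have : Nat.card ↥T ≠ 0 := Nat.card_pos.ne'
    exact_mod_cast this
  have h2 : conv (indFun T y) ε x =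
      (Nat.card T : ℂ)⁻¹ * ∑ g : G, conv (cjF g (extendByZero T y)) ε x := by
    show ∑ h, indFun T y h * ε (h⁻¹ * x) =
      (Nat.card T : ℂ)⁻¹ * ∑ g : G, ∑ h, cjF g (extendByZero T y) h * ε (h⁻¹ * x)
    rw [Finset.sum_comm, Finset.mul_sum]
    refine Finset.sum_congr rfl fun h _ => ?_
    rw [indFun_eq_sum_cjF, ← Finset.sum_mul]
    ring
  rw [h2]
  have h3 : ∑ g : G, conv (cjF g (extendByZero T y)) ε x =
      (Nat.card T : ℂ) * extendByZero T y x := by
    rw [sum_eq_sum_subgroup_of_vanish T]
    · have : ∀ t : T, conv (cjF (t : G) (extendByZero T y)) ε x = extendByZero T y x := by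
        intro t
        rw [hterm, if_pos t.2]
      rw [Finset.sum_congr rfl (fun t _ => this t), Finset.sum_const, Finset.card_univ,
        nsmul_eq_mul, Nat.card_eq_fintype_card]
    · intro g hg
      rw [hterm, if_neg hg]
      rfl
  rw [h3, ← mul_assoc, inv_mul_cancel₀ hcT, one_mul]

/-- the central character of `ψ` over `b` at the restriction of `Tr_T^G(L e_b)` -/
theorem omegaF_resMap_indFun [M.IsPrime] {b : Set (IrrCharacter N)} (hb : IsPBlock M b)
    {T : Subgroup G} (hT : IsBlockStab N b T) (hNT : N ≤ T) {ψ : T → ℂ}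
    (hψ : IsIrrCharacter T ψ)
    (hover : omegaF ψ (resMap T (subgroupBlockCoeff N b)) = 1) {L : T → ℂ}
    (hL : IsClassFunction T L) :
    omegaF ψ (resMap T (indFun T (conv L (resMap T (subgroupBlockCoeff N b))))) =
      omegaF ψ L := by
  have hcf := isClassFunction_resMap_idem N hb hT
  have hres : IsClassFunction T
      (resMap T (indFun T (conv L (resMap T (subgroupBlockCoeff N b))))) := by
    intro g k
    exact isClassFunction_indFun T _ (g : G) (k : G)
  have h1 := omegaF_conv hψ _ _ hres hcf
  rw [hover, mul_one, conv_resMap_idem N b hNT, conv_indFun_idem N hb hT hNT hL] at h1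
  rw [← h1]
  have h2 : resMap T (extendByZero T (conv L (resMap T (subgroupBlockCoeff N b)))) =
      conv L (resMap T (subgroupBlockCoeff N b)) := by
    funext t
    exact extendByZero_apply_coe T _ t
  rw [h2, omegaF_conv hψ _ _ hL hcf, hover, mul_one]

end

end Cfsg.Agent.Lib.Helper4
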