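import Mathlib
import Cfsg.Agent.Lib.Helper4.FongReynoldsD
import Cfsg.Agent.Lib.Helper28.BrauerG

set_option autoImplicit false

/-!
# Fong–Reynolds, part E: the correspondence (helper4)
-/

namespace Cfsg.Agent.Lib.Helper4

open Cfsg Cfsg.Agent.Lib.Helper28 Cfsg.Agent.Lib.Helper26
open scoped ComplexConjugate Classical

section

variable {G : Type*} [Group G] [Fintype G] {M : Ideal AlgInt} (N : Subgroup G) [hN : N.Normal]

/-- the inertia group of a member of `b` lies in the stabilizer of `b` -/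
theorem inertiaSub_le_of_mem [M.IsPrime] {b : Set (IrrCharacter N)} (hb : IsPBlock M b)
    {T : Subgroup G} (hT : IsBlockStab N b T) {θ : IrrCharacter N} (hθ : θ ∈ b) :
    inertiaSub N (θ : N → ℂ) ≤ T := by
  intro g hg
  rw [hT g]
  intro θ₁ hθ₁ θ' hθ'
  have h1 : conjFunN N (θ : N → ℂ) g = (θ : N → ℂ) := by
    funext n
    exact (mem_inertiaSub N _ g).mp hg n
  have h2 : SameBlock M (θ : N → ℂ) (θ₁ : N → ℂ) := (mem_block_iff hb hθ θ₁).mp hθ₁
  have h3 := sameBlock_conjFunN N h2 g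
  rw [h1, ← hθ'] at h3
  exact (mem_block_iff hb hθ θ').mpr h3

/-- a character of `T` over `b` induces irreducibly, to a character over `b` -/
theorem irr_indFun_of_over [M.IsPrime] {b : Set (IrrCharacter N)} (hb : IsPBlock M b)
    {T : Subgroup G} (hT : IsBlockStab N b T) (hNT : N ≤ T) {ξ : T → ℂ}
    (hξ : IsIrrCharacter T ξ)
    (hover : omegaF ξ (resMap T (subgroupBlockCoeff N b)) = 1) :
    IsIrrCharacter G (indFun T ξ) ∧
      ∃ θ ∈ b, classInner (fun n : N => indFun T ξ n) (θ : N → ℂ) ≠ 0 := by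
  obtain ⟨θ, hθ, hcon⟩ := (omegaF_idem_eq_one_iff N hb hT hNT hξ).mp hover
  have hIT := inertiaSub_le_of_mem N hb hT hθ
  have hΨ : IsCharacter G (indFun T ξ) :=
    isCharacter_indFun T (Helper26.isCharacter_of_isIrrCharacter hξ)
  have hΨ1 : indFun T ξ 1 ≠ 0 := by
    rw [indFun_one]
    have hcT : (Nat.card ↥T : ℂ)⁻¹ ≠ 0 := by
      apply inv_ne_zero
      have : Nat.card ↥T ≠ 0 := Nat.card_pos.ne'
      exact_mod_cast this
    have hcG : (Fintype.card G : ℂ) ≠ 0 := by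
      have : Fintype.card G ≠ 0 := Fintype.card_ne_zero
      exact_mod_cast this
    exact mul_ne_zero hcT (mul_ne_zero hcG (irr_one_ne_zero hξ))
  obtain ⟨χ, hχ⟩ := Cfsg.Agent.Lib.Helper7.exists_constituent hΨ hΨ1
  obtain ⟨h1, h2⟩ := clifford_corr_general N hNT (θ : N → ℂ) θ.2 hIT ξ hξ hcon
    (χ : G → ℂ) χ.2 hχ
  rw [← h1]
  exact ⟨χ.2, θ, hθ, h2⟩

/-- the central character of the induced character in terms of induced central characters -/
theorem centralChar_indFun {T : Subgroup G} {ξ : T → ℂ} (hξ : IsIrrCharacter T ξ) (g : G) :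
    centralChar (indFun T ξ) g = inducedCentralChar T ξ g := by
  rw [inducedCentralChar_eq_omegaF, ← omegaF_indFun T ξ (irr_one_ne_zero hξ) _
    (isClassFunction_classInd g), omegaF_classInd (isClassFunction_indFun T ξ)]

/-- characters of `T` in one block induce to characters in one block -/
theorem sameBlock_indFun [M.IsPrime] {T : Subgroup G} {ξ ψ : T → ℂ} (hξ : IsIrrCharacter T ξ)
    (hψ : IsIrrCharacter T ψ) (hsb : SameBlock M ξ ψ) :
    SameBlock M (indFun T ξ) (indFun T ψ) := by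
  have hMtop : M ≠ ⊤ := Ideal.IsPrime.ne_top inferInstance
  intro g
  rw [centralChar_indFun hξ, centralChar_indFun hψ, inducedCentralChar_eq_omegaF,
    inducedCentralChar_eq_omegaF]
  refine omegaF_sub_memLocalIdeal (Helper26.isClassFunction_of_isIrrCharacter hξ)
    (Helper26.isClassFunction_of_isIrrCharacter hψ) hsb _ ?_ ?_
  · intro t k
    exact isClassFunction_classInd g (t : G) (k : G)
  · intro t
    exact Cfsg.Agent.Lib.Helper4.classInd_memLocalRing hMtop g (t : G)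

omit hN in
/-- a block of `T` induces the block of an irreducible induced member -/
theorem isInducedBlock_of_irr [M.IsPrime] {T : Subgroup G} {B' : Set (IrrCharacter T)}
    (hB' : IsPBlock M B') {ψ₀ : IrrCharacter T} (hψ₀ : ψ₀ ∈ B')
    (hirr : IsIrrCharacter G (indFun T (ψ₀ : T → ℂ))) :
    IsInducedBlock M T B' (blockOf M (indFun T (ψ₀ : T → ℂ))) := by
  refine ⟨hB', ⟨⟨indFun T (ψ₀ : T → ℂ), hirr⟩, rfl⟩, ?_⟩
  intro ξ hξ χ hχ g
  have h1 : SameBlock M (ψ₀ : T → ℂ) (ξ : T → ℂ) := (mem_block_iff hB' hψ₀ ξ).mp hξ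
  have h2 := sameBlock_indFun ψ₀.2 ξ.2 h1
  have h3 : SameBlock M (indFun T (ψ₀ : T → ℂ)) (χ : G → ℂ) := hχ
  have h4 := sameBlock_trans (sameBlock_symm h2) h3 g
  rw [centralChar_indFun ξ.2] at h4
  exact h4

/-- **injectivity**: blocks of `T` over `b` inducing the same block coincide -/
theorem block_eq_of_induced_eq [M.IsPrime] {b : Set (IrrCharacter N)} (hb : IsPBlock M b)
    {T : Subgroup G} (hT : IsBlockStab N b T) (hNT : N ≤ T)
    {B'₁ B'₂ : Set (IrrCharacter T)} {B : Set (IrrCharacter G)}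
    (h1 : IsInducedBlock M T B'₁ B) (h2 : IsInducedBlock M T B'₂ B)
    (hov1 : ∀ ξ ∈ B'₁, omegaF (ξ : T → ℂ) (resMap T (subgroupBlockCoeff N b)) = 1)
    (hov2 : ∀ ξ ∈ B'₂, omegaF (ξ : T → ℂ) (resMap T (subgroupBlockCoeff N b)) = 1) :
    B'₁ = B'₂ := by
  have hMtop : M ≠ ⊤ := Ideal.IsPrime.ne_top inferInstance
  obtain ⟨ψ₁, hψ₁⟩ := block_nonempty h1.1
  obtain ⟨ψ₂, hψ₂⟩ := block_nonempty h2.1
  obtain ⟨χ, hχ⟩ := block_nonempty h1.2.1
  have hsb : SameBlock M (ψ₁ : T → ℂ) (ψ₂ : T → ℂ) := by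
    intro t₀
    have hL : IsClassFunction T (classInd t₀) := isClassFunction_classInd t₀
    have hycf : IsClassFunction T (conv (classInd t₀) (resMap T (subgroupBlockCoeff N b))) :=
      isClassFunction_conv hL (isClassFunction_resMap_idem N hb hT)
    have hyR : ∀ t, MemLocalRing M
        (conv (classInd t₀) (resMap T (subgroupBlockCoeff N b)) t) := fun t =>
      conv_memLocalRing (fun x => Cfsg.Agent.Lib.Helper4.classInd_memLocalRing hMtop t₀ x)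
        (fun x => idem_memLocalRing N hb (x : G)) t
    have hacf := isClassFunction_indFun T
      (conv (classInd t₀) (resMap T (subgroupBlockCoeff N b)))
    have haR := indFun_memLocalRing (M := M) T hycf hyR
    have e1 := omegaF_resMap_sub_of_induced T h1 hψ₁ hχ _ hacf haR
    have e2 := omegaF_resMap_sub_of_induced T h2 hψ₂ hχ _ hacf haR
    rw [omegaF_resMap_indFun N hb hT hNT ψ₁.2 (hov1 ψ₁ hψ₁) hL,
      omegaF_classInd (Helper26.isClassFunction_of_isIrrCharacter ψ₁.2)] at e1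
    rw [omegaF_resMap_indFun N hb hT hNT ψ₂.2 (hov2 ψ₂ hψ₂) hL,
      omegaF_classInd (Helper26.isClassFunction_of_isIrrCharacter ψ₂.2)] at e2
    have := memLocalIdeal_sub e1 e2
    rwa [sub_sub_sub_cancel_right] at this
  have hψ₂' : ψ₂ ∈ B'₁ := (mem_block_iff h1.1 hψ₁ ψ₂).mpr hsb
  exact Cfsg.Agent.Lib.Helper4.block_eq_of_mem h1.1 h2.1 hψ₂' hψ₂


/-- every member of a block of `G` covering `b` lies over `b` -/
theorem exists_over_of_covers [M.IsPrime] {b : Set (IrrCharacter N)} (hb : IsPBlock M b)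
    {B : Set (IrrCharacter G)} (hB : IsPBlock M B)
    (hcov : ∃ χ ∈ B, ∃ θ ∈ b, classInner (fun n : N => (χ : G → ℂ) n) (θ : N → ℂ) ≠ 0)
    {χ : IrrCharacter G} (hχ : χ ∈ B) :
    ∃ θ ∈ b, classInner (fun n : N => (χ : G → ℂ) n) (θ : N → ℂ) ≠ 0 := by
  obtain ⟨χ₁, hχ₁, θ₁, hθ₁, hcon₁⟩ := hcov
  obtain ⟨θ₂, hcon₂⟩ := exists_constituent_restrict N χ.2
  have hBl : SameBlock M (χ₁ : G → ℂ) (χ : G → ℂ) := (mem_block_iff hB hχ₁ χ).mp hχ
  obtain ⟨x, hx⟩ := exists_conj_sameBlock N hBl (θ := θ₁) (θ₂ := θ₂) hcon₁ hcon₂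
  refine ⟨⟨conjFunN N (θ₂ : N → ℂ) x⁻¹, isIrrCharacter_conjFunN N θ₂.2 x⁻¹⟩, ?_, ?_⟩
  · have h1 := sameBlock_conjFunN N hx x⁻¹
    rw [conjFunN_conjFunN_inv] at h1
    exact (mem_block_iff hb hθ₁ _).mpr h1
  · have h1 := classInner_restrict_conjFunN N
      (Helper26.isClassFunction_of_isIrrCharacter χ.2) (θ₂ : N → ℂ) x⁻¹
    have h2 : classInner ((χ : G → ℂ) ∘ N.subtype) (conjFunN N (θ₂ : N → ℂ) x⁻¹) ≠ 0 := by
      rw [h1]
      exact hcon₂
    exact h2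

/-- a character of `G` over `θ ∈ b` is induced from a character of `T` over `θ` -/
theorem exists_indFun_eq_of_over [M.IsPrime] {b : Set (IrrCharacter N)} (hb : IsPBlock M b)
    {T : Subgroup G} (hT : IsBlockStab N b T) (hNT : N ≤ T) (χ : IrrCharacter G)
    {θ : IrrCharacter N} (hθ : θ ∈ b)
    (hcon : classInner (fun n : N => (χ : G → ℂ) n) (θ : N → ℂ) ≠ 0) :
    ∃ ξ : IrrCharacter T, (χ : G → ℂ) = indFun T (ξ : T → ℂ) ∧
      omegaF (ξ : T → ℂ) (resMap T (subgroupBlockCoeff N b)) = 1 ∧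
      classInner (fun n : N => (ξ : T → ℂ) ⟨(n : G), hNT n.2⟩) (θ : N → ℂ) ≠ 0 := by
  have : Fintype (IrrCharacter T) := Fintype.ofFinite _
  have hχT : IsCharacter T (fun t : T => (χ : G → ℂ) t) :=
    Cfsg.Agent.Lib.Helper2.isCharacter_comp_hom
      (Helper26.isCharacter_of_isIrrCharacter χ.2) T.subtype
  have hexp := classInner_restrict_expand hNT (fun t : T => (χ : G → ℂ) t)
    (Helper26.isClassFunction_of_isCharacter hχT) (θ : N → ℂ)
  have hcon' : classInner (fun n : N => (fun t : T => (χ : G → ℂ) t) ⟨(n : G), hNT n.2⟩)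
      (θ : N → ℂ) ≠ 0 := hcon
  rw [hexp] at hcon'
  obtain ⟨ξ, hξ1, hξ2⟩ := exists_ne_zero_of_sum_mul_ne_zero _ _ hcon'
  have hIT := inertiaSub_le_of_mem N hb hT hθ
  have hInd : classInner (indFun T (ξ : T → ℂ)) (χ : G → ℂ) ≠ 0 := by
    rw [classInner_indFun_left' T _ _ (Helper26.isClassFunction_of_isIrrCharacter χ.2),
      ← classInner_conj_symm]
    intro h0
    apply hξ1
    have := congrArg conj h0
    rwa [Complex.conj_conj, map_zero] at this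
  obtain ⟨h1, -⟩ := clifford_corr_general N hNT (θ : N → ℂ) θ.2 hIT ξ ξ.2 hξ2
    (χ : G → ℂ) χ.2 hInd
  exact ⟨ξ, h1, (omegaF_idem_eq_one_iff N hb hT hNT ξ.2).mpr ⟨θ, hθ, hξ2⟩, hξ2⟩

/-- members of a block of `T` covering `b` all lie over `b` -/
theorem over_of_covers [M.IsPrime] {b : Set (IrrCharacter N)} (hb : IsPBlock M b)
    {T : Subgroup G} (hT : IsBlockStab N b T) (hNT : N ≤ T) {B' : Set (IrrCharacter T)}
    (hB' : IsPBlock M B')
    (hcov : ∃ ψ ∈ B', ∃ θ ∈ b,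
      classInner (fun n : N => (ψ : T → ℂ) ⟨(n : G), hNT n.2⟩) (θ : N → ℂ) ≠ 0) :
    ∀ ξ ∈ B', omegaF (ξ : T → ℂ) (resMap T (subgroupBlockCoeff N b)) = 1 := by
  obtain ⟨ψ, hψ, θ, hθ, hcon⟩ := hcov
  have h1 := (omegaF_idem_eq_one_iff N hb hT hNT ψ.2).mpr ⟨θ, hθ, hcon⟩
  intro ξ hξ
  rw [← omegaF_idem_eq_of_sameBlock N hb hT hNT ψ.2 ξ.2 ((mem_block_iff hB' hψ ξ).mp hξ)]
  exact h1

/-- **Fong–Reynolds (S4435)** -/
theorem fong_reynolds {p : ℕ} [Fact p.Prime] (hM : IsPModular p M)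
    {b : Set (IrrCharacter N)} (hb : IsPBlock M b)
    {T : Subgroup G} (hT : IsBlockStab N b T) (hNT : N ≤ T) :
    (∀ B' : Set (IrrCharacter T), IsPBlock M B' →
      (∃ ψ ∈ B', ∃ θ ∈ b,
        classInner (fun n : N => (ψ : T → ℂ) ⟨(n : G), hNT n.2⟩) (θ : N → ℂ) ≠ 0) →
      ∃ B : Set (IrrCharacter G), IsInducedBlock M T B' B ∧
        (∃ χ ∈ B, ∃ θ ∈ b, classInner (fun n : N => (χ : G → ℂ) n) (θ : N → ℂ) ≠ 0) ∧
        (∀ ψ ∈ B', IsIrrCharacter G (indFun T (ψ : T → ℂ))) ∧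
        ∀ χ : IrrCharacter G, χ ∈ B ↔ ∃ ψ ∈ B', (χ : G → ℂ) = indFun T (ψ : T → ℂ)) ∧
    (∀ B'₁ B'₂ : Set (IrrCharacter T), IsPBlock M B'₁ → IsPBlock M B'₂ →
      (∃ ψ ∈ B'₁, ∃ θ ∈ b,
        classInner (fun n : N => (ψ : T → ℂ) ⟨(n : G), hNT n.2⟩) (θ : N → ℂ) ≠ 0) →
      (∃ ψ ∈ B'₂, ∃ θ ∈ b,
        classInner (fun n : N => (ψ : T → ℂ) ⟨(n : G), hNT n.2⟩) (θ : N → ℂ) ≠ 0) →
      ∀ B : Set (IrrCharacter G), IsInducedBlock M T B'₁ B → IsInducedBlock M T B'₂ B →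
        B'₁ = B'₂) ∧
    (∀ B : Set (IrrCharacter G), IsPBlock M B →
      (∃ χ ∈ B, ∃ θ ∈ b, classInner (fun n : N => (χ : G → ℂ) n) (θ : N → ℂ) ≠ 0) →
      ∃ B' : Set (IrrCharacter T), IsPBlock M B' ∧
        (∃ ψ ∈ B', ∃ θ ∈ b,
          classInner (fun n : N => (ψ : T → ℂ) ⟨(n : G), hNT n.2⟩) (θ : N → ℂ) ≠ 0) ∧
        IsInducedBlock M T B' B) := by
  have hMprime : M.IsPrime := hM.2.1.isPrime
  have hMtop : M ≠ ⊤ := Ideal.IsPrime.ne_top hMprime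
  have hinj : ∀ B'₁ B'₂ : Set (IrrCharacter T), IsPBlock M B'₁ → IsPBlock M B'₂ →
      (∃ ψ ∈ B'₁, ∃ θ ∈ b,
        classInner (fun n : N => (ψ : T → ℂ) ⟨(n : G), hNT n.2⟩) (θ : N → ℂ) ≠ 0) →
      (∃ ψ ∈ B'₂, ∃ θ ∈ b,
        classInner (fun n : N => (ψ : T → ℂ) ⟨(n : G), hNT n.2⟩) (θ : N → ℂ) ≠ 0) →
      ∀ B : Set (IrrCharacter G), IsInducedBlock M T B'₁ B → IsInducedBlock M T B'₂ B →
        B'₁ = B'₂ := by
    intro B'₁ B'₂ hB'₁ hB'₂ hc1 hc2 B h1 h2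
    exact block_eq_of_induced_eq N hb hT hNT h1 h2 (over_of_covers N hb hT hNT hB'₁ hc1)
      (over_of_covers N hb hT hNT hB'₂ hc2)
  refine ⟨?_, hinj, ?_⟩
  · intro B' hB' hcov
    have hover := over_of_covers N hb hT hNT hB' hcov
    obtain ⟨ψ₀, hψ₀⟩ := block_nonempty hB'
    obtain ⟨hirr₀, θ₀, hθ₀, hcon₀⟩ := irr_indFun_of_over N hb hT hNT ψ₀.2 (hover ψ₀ hψ₀)
    have hind := isInducedBlock_of_irr hB' hψ₀ hirr₀
    have hχ₀mem : (⟨indFun T (ψ₀ : T → ℂ), hirr₀⟩ : IrrCharacter G) ∈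
        blockOf M (indFun T (ψ₀ : T → ℂ)) := sameBlock_refl hMtop _
    have hcovB : ∃ χ ∈ blockOf M (indFun T (ψ₀ : T → ℂ)), ∃ θ ∈ b,
        classInner (fun n : N => (χ : G → ℂ) n) (θ : N → ℂ) ≠ 0 :=
      ⟨⟨indFun T (ψ₀ : T → ℂ), hirr₀⟩, hχ₀mem, θ₀, hθ₀, hcon₀⟩
    refine ⟨blockOf M (indFun T (ψ₀ : T → ℂ)), hind, hcovB, ?_, ?_⟩
    · intro ψ hψ
      exact (irr_indFun_of_over N hb hT hNT ψ.2 (hover ψ hψ)).1
    · intro χ
      constructor
      · intro hχ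
        obtain ⟨θ, hθ, hcon⟩ := exists_over_of_covers N hb hind.2.1 hcovB hχ
        obtain ⟨ξ, hξ1, hξ2, hξ3⟩ := exists_indFun_eq_of_over N hb hT hNT χ hθ hcon
        refine ⟨ξ, ?_, hξ1⟩
        -- the block of `ξ` induces the same block
        have hB'' : IsPBlock M (blockOf M (ξ : T → ℂ)) := ⟨ξ, rfl⟩
        have hξmem : ξ ∈ blockOf M (ξ : T → ℂ) := sameBlock_refl hMtop _
        have hirrξ : IsIrrCharacter G (indFun T (ξ : T → ℂ)) := by
          rw [← hξ1]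
          exact χ.2
        have hind2 := isInducedBlock_of_irr hB'' hξmem hirrξ
        have hBeq : blockOf M (indFun T (ξ : T → ℂ)) = blockOf M (indFun T (ψ₀ : T → ℂ)) := by
          rw [← hξ1]
          exact (block_eq_blockOf hind.2.1 hχ).symm
        rw [hBeq] at hind2
        have hcov'' : ∃ ψ ∈ blockOf M (ξ : T → ℂ), ∃ θ ∈ b,
            classInner (fun n : N => (ψ : T → ℂ) ⟨(n : G), hNT n.2⟩) (θ : N → ℂ) ≠ 0 :=
          ⟨ξ, hξmem, θ, hθ, hξ3⟩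
        have := hinj _ _ hB'' hB' hcov'' hcov _ hind2 hind
        rw [← this]
        exact hξmem
      · rintro ⟨ψ, hψ, hχψ⟩
        show SameBlock M (indFun T (ψ₀ : T → ℂ)) (χ : G → ℂ)
        rw [hχψ]
        exact sameBlock_indFun ψ₀.2 ψ.2 ((mem_block_iff hB' hψ₀ ψ).mp hψ)
  · intro B hB hcov
    obtain ⟨χ, hχ, θ, hθ, hcon⟩ := hcov
    obtain ⟨ξ, hξ1, hξ2, hξ3⟩ := exists_indFun_eq_of_over N hb hT hNT χ hθ hcon
    have hB'' : IsPBlock M (blockOf M (ξ : T → ℂ)) := ⟨ξ, rfl⟩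
    have hξmem : ξ ∈ blockOf M (ξ : T → ℂ) := sameBlock_refl hMtop _
    have hirrξ : IsIrrCharacter G (indFun T (ξ : T → ℂ)) := by
      rw [← hξ1]
      exact χ.2
    have hind2 := isInducedBlock_of_irr hB'' hξmem hirrξ
    have hBeq : blockOf M (indFun T (ξ : T → ℂ)) = B := by
      rw [← hξ1]
      exact (block_eq_blockOf hB hχ).symm
    rw [hBeq] at hind2
    exact ⟨blockOf M (ξ : T → ℂ), hB'', ⟨ξ, hξmem, θ, hθ, hξ3⟩, hind2⟩

end

end Cfsg.Agent.Lib.Helper4
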