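import Mathlib
import Cfsg.Agent.Lib.Helper4.FongReynoldsE
import Cfsg.Agent.Lib.Helper4.PrincipalNormal
import Cfsg.Agent.S0908

set_option autoImplicit false

/-!
# Fong–Reynolds, part F: defect groups and heights (helper4)
-/

namespace Cfsg.Agent.Lib.Helper4

open Cfsg Cfsg.Agent.Lib.Helper28 Cfsg.Agent.Lib.Helper26
open scoped ComplexConjugate Classical

section

variable {G : Type*} [Group G] [Fintype G] {M : Ideal AlgInt} (N : Subgroup G) [hN : N.Normal]

omit hN in
/-- the induced block is unique -/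
theorem induced_block_unique [M.IsPrime] {T : Subgroup G} {B' : Set (IrrCharacter T)}
    {B₁ B₂ : Set (IrrCharacter G)} (h1 : IsInducedBlock M T B' B₁)
    (h2 : IsInducedBlock M T B' B₂) : B₁ = B₂ := by
  obtain ⟨ξ, hξ⟩ := block_nonempty h1.1
  obtain ⟨χ₁, hχ₁⟩ := block_nonempty h1.2.1
  obtain ⟨χ₂, hχ₂⟩ := block_nonempty h2.2.1
  have hsb : SameBlock M (χ₁ : G → ℂ) (χ₂ : G → ℂ) := by
    intro g
    have e1 := h1.2.2 ξ hξ χ₁ hχ₁ g
    have e2 := h2.2.2 ξ hξ χ₂ hχ₂ g
    have := memLocalIdeal_sub e2 e1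
    rwa [sub_sub_sub_cancel_left] at this
  have : χ₂ ∈ B₁ := (mem_block_iff h1.2.1 hχ₁ χ₂).mpr hsb
  exact Cfsg.Agent.Lib.Helper4.block_eq_of_mem h1.2.1 h2.2.1 this hχ₂

omit hN in
/-- the degree of an induced irreducible character -/
theorem charDegree_indFun {T : Subgroup G} (ψ : IrrCharacter T) :
    charDegree (indFun T (ψ : T → ℂ)) = T.index * charDegree (ψ : T → ℂ) := by
  apply charDegree_eq_of_one_eq
  have hcK : (Nat.card ↥T : ℂ) ≠ 0 := by
    have : Nat.card ↥T ≠ 0 := Nat.card_pos.ne'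
    exact_mod_cast this
  rw [indFun_one, ← Nat.card_eq_fintype_card, ← Subgroup.card_mul_index T,
    irr_one_eq_charDegree ψ]
  push_cast
  field_simp

omit hN in
/-- the `p`-part of the degree of an induced irreducible character -/
theorem factorization_charDegree_indFun (p : ℕ) {T : Subgroup G} (ψ : IrrCharacter T) :
    (charDegree (indFun T (ψ : T → ℂ))).factorization p =
      T.index.factorization p + (charDegree (ψ : T → ℂ)).factorization p := by
  rw [charDegree_indFun, Nat.factorization_mul Subgroup.index_ne_zero_of_finite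
    (irr_charDegree_pos ψ).ne']
  rfl

/-- **S4436** -/
theorem fong_reynolds_defect {p : ℕ} [Fact p.Prime] (hM : IsPModular p M)
    {b : Set (IrrCharacter N)} (hb : IsPBlock M b)
    {T : Subgroup G} (hT : IsBlockStab N b T) (hNT : N ≤ T)
    {B' : Set (IrrCharacter T)} (hB' : IsPBlock M B')
    (hcov : ∃ ψ ∈ B', ∃ θ ∈ b,
      classInner (fun n : N => (ψ : T → ℂ) ⟨(n : G), hNT n.2⟩) (θ : N → ℂ) ≠ 0)
    {B : Set (IrrCharacter G)} (hind : IsInducedBlock M T B' B) :
    (∀ D : Subgroup T, IsDefectGroup p M B' D → IsDefectGroup p M B (D.map T.subtype)) ∧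
      ∀ ψ ∈ B', ∃ χ ∈ B, (χ : G → ℂ) = indFun T (ψ : T → ℂ) ∧
        blockHeight p B (χ : G → ℂ) = blockHeight p B' (ψ : T → ℂ) := by
  have hMprime : M.IsPrime := hM.2.1.isPrime
  have hp : p.Prime := Fact.out
  have hB : IsPBlock M B := hind.2.1
  obtain ⟨B₀, hind₀, -, hirr, hmem⟩ := (fong_reynolds N hM hb hT hNT).1 B' hB' hcov
  have hB₀ : B₀ = B := induced_block_unique hind₀ hind
  rw [hB₀] at hmem
  -- the sets of `p`-parts of degrees
  obtain ⟨c, hc⟩ : ∃ c : ℕ, c = T.index.factorization p := ⟨_, rfl⟩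
  have himage : (fun χ : IrrCharacter G => (charDegree (χ : G → ℂ)).factorization p) '' B =
      (fun s => c + s) ''
        ((fun ψ : IrrCharacter T => (charDegree (ψ : T → ℂ)).factorization p) '' B') := by
    ext k
    constructor
    · rintro ⟨χ, hχ, rfl⟩
      obtain ⟨ψ, hψ, hχψ⟩ := (hmem χ).mp hχ
      refine ⟨_, ⟨ψ, hψ, rfl⟩, ?_⟩
      show c + (charDegree (ψ : T → ℂ)).factorization p =
        (charDegree (χ : G → ℂ)).factorization p
      rw [hχψ, factorization_charDegree_indFun, hc]
    · rintro ⟨_, ⟨ψ, hψ, rfl⟩, rfl⟩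
      refine ⟨⟨indFun T (ψ : T → ℂ), hirr ψ hψ⟩, (hmem _).mpr ⟨ψ, hψ, rfl⟩, ?_⟩
      show (charDegree (indFun T (ψ : T → ℂ))).factorization p =
        c + (charDegree (ψ : T → ℂ)).factorization p
      rw [factorization_charDegree_indFun, hc]
  have hne : ((fun ψ : IrrCharacter T => (charDegree (ψ : T → ℂ)).factorization p) ''
      B').Nonempty := by
    obtain ⟨ψ, hψ⟩ := block_nonempty hB'
    exact ⟨_, ψ, hψ, rfl⟩
  have hsInf : sInf ((fun χ : IrrCharacter G => (charDegree (χ : G → ℂ)).factorization p) '' B) =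
      c + sInf ((fun ψ : IrrCharacter T => (charDegree (ψ : T → ℂ)).factorization p) '' B') := by
    rw [himage]
    apply le_antisymm
    · have hmemInf := Nat.sInf_mem hne
      exact Nat.sInf_le ⟨_, hmemInf, rfl⟩
    · have hne2 : ((fun s => c + s) ''
          ((fun ψ : IrrCharacter T => (charDegree (ψ : T → ℂ)).factorization p) '' B')).Nonempty :=
        hne.image _
      obtain ⟨s, hs, hs2⟩ := Nat.sInf_mem hne2
      rw [← hs2]
      exact Nat.add_le_add_left (Nat.sInf_le hs) c
  constructor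
  · intro D hD
    obtain ⟨E, hE, hle⟩ := exists_defectGroup_ge_of_induced hM T hB' hB hind D hD
    have hcardE := Cfsg.Agent.S0908.result p M hM B hB E hE
    have hcardD := Cfsg.Agent.S0908.result p M hM B' hB' D hD
    have hdef : blockDefect p B = blockDefect p B' := by
      unfold blockDefect
      rw [hsInf]
      have h1 : (Nat.card G).factorization p = (Nat.card T).factorization p + c := by
        rw [← Subgroup.card_mul_index T, Nat.factorization_mul Nat.card_pos.ne'
          Subgroup.index_ne_zero_of_finite, hc]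
        rfl
      rw [h1]
      omega
    have hcardmap : Nat.card (D.map T.subtype) = Nat.card D :=
      Nat.card_congr (D.equivMapOfInjective T.subtype T.subtype_injective).symm.toEquiv
    have heq : D.map T.subtype = E := by
      apply Subgroup.eq_of_le_of_card_ge hle
      rw [hcardmap, hcardD, hcardE, hdef]
    rw [heq]
    exact hE
  · intro ψ hψ
    refine ⟨⟨indFun T (ψ : T → ℂ), hirr ψ hψ⟩, (hmem _).mpr ⟨ψ, hψ, rfl⟩, rfl, ?_⟩
    unfold blockHeight
    rw [hsInf]
    show (charDegree (indFun T (ψ : T → ℂ))).factorization p - _ = _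
    rw [factorization_charDegree_indFun, ← hc]
    omega

end

end Cfsg.Agent.Lib.Helper4
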