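import Mathlib
import Cfsg.Agent.Lib.Helper4.BrauerInert
import Cfsg.Agent.Lib.Helper4.BrauerFusion
import Cfsg.Agent.Lib.Helper4.BrauerSylow
import Cfsg.Agent.Lib.Helper4.FongReynoldsF
import Cfsg.Agent.Lib.Helper4.BrauerMaxCrit

set_option autoImplicit false

/-!
# Transitivity of block induction and blocks of subgroups containing `C_G(D₀)` (helper4, S4726)
-/

namespace Cfsg.Agent.Lib.Helper4

open Cfsg Cfsg.Agent.Lib.Helper28 Cfsg.Agent.Lib.Helper26
open scoped ComplexConjugate Classical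

section

variable {G : Type*} [Group G] [Fintype G] {M : Ideal AlgInt}

/-- **transitivity of block induction**: if `b₀` (a block of `K₀ ≤ H`) induces `b` in `H` and,
viewed as a block of the subgroup `K` of `G`, induces `B` in `G`, then `b` induces `B` -/
theorem isInducedBlock_trans [M.IsPrime] (H : Subgroup G) (K₀ : Subgroup H) (K : Subgroup G)
    (φ : K₀ ≃* K) (hφ : ∀ k : K₀, ((φ k : K) : G) = ((k : H) : G))
    {b₀ : Set (IrrCharacter K₀)} {b : Set (IrrCharacter H)} {B : Set (IrrCharacter G)}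
    (h1 : IsInducedBlock M K₀ b₀ b) (h2 : IsInducedBlock M K ((irrEquiv φ) ⁻¹' b₀) B) :
    IsInducedBlock M H b B := by
  have hMtop : M ≠ ⊤ := Ideal.IsPrime.ne_top inferInstance
  refine ⟨h1.2.1, h2.2.1, ?_⟩
  intro ξ hξ χ hχ g
  obtain ⟨ξ₀, hξ₀⟩ := block_nonempty h1.1
  have hξ₀' : (irrEquiv φ).symm ξ₀ ∈ (irrEquiv φ) ⁻¹' b₀ := by
    show irrEquiv φ ((irrEquiv φ).symm ξ₀) ∈ b₀
    rw [Equiv.apply_symm_apply]
    exact hξ₀
  have hcl := isClassFunction_classInd g
  have hR : ∀ x, MemLocalRing M (classInd g x) := fun x =>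
    Cfsg.Agent.Lib.Helper28.classInd_memLocalRing g x
  have e1 := omegaF_resMap_sub_of_induced (G := H) K₀ h1 hξ₀ hξ (resMap H (classInd g))
    (isClassFunction_resMap H hcl) (fun x => hR _)
  have e2 := omegaF_resMap_sub_of_induced K h2 hξ₀' hχ (classInd g) hcl hR
  have e3 : omegaF ((irrEquiv φ).symm ξ₀ : K → ℂ) (resMap K (classInd g)) =
      omegaF (ξ₀ : K₀ → ℂ) (resMap K₀ (resMap H (classInd g))) := by
    unfold omegaF
    rw [irrEquiv_symm_apply, map_one]
    congr 1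
    symm
    refine Fintype.sum_equiv φ.toEquiv _ _ (fun k => ?_)
    rw [irrEquiv_symm_apply]
    show resMap K₀ (resMap H (classInd g)) k * (ξ₀ : K₀ → ℂ) k =
      resMap K (classInd g) (φ k) * (ξ₀ : K₀ → ℂ) (φ.symm (φ k))
    rw [MulEquiv.symm_apply_apply]
    unfold resMap
    rw [hφ]
  rw [inducedCentralChar_eq_omegaF, ← omegaF_classInd
    (Cfsg.Agent.Lib.Helper4.isClassFunction_of_isIrrCharacter χ.2) g]
  rw [e3] at e2
  have := memLocalIdeal_sub e2 e1
  convert this using 1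
  ring

/-- the subgroup `D₀ C_H(D₀)` of `H`, viewed in `G`, when `C_G(D₀) ≤ H` -/
theorem map_sup_centralizer_eq (H : Subgroup G) (D₀ : Subgroup H)
    (hC : Subgroup.centralizer ((D₀.map H.subtype : Subgroup G) : Set G) ≤ H) :
    (D₀ ⊔ Subgroup.centralizer (D₀ : Set H)).map H.subtype =
      D₀.map H.subtype ⊔ Subgroup.centralizer ((D₀.map H.subtype : Subgroup G) : Set G) := by
  rw [Subgroup.map_sup]
  congr 1
  ext c
  constructor
  · rintro ⟨c₀, hc₀, rfl⟩
    rw [Subgroup.mem_centralizer_iff]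
    rintro _ ⟨d₀, hd₀, rfl⟩
    have := (Subgroup.mem_centralizer_iff.mp hc₀) d₀ hd₀
    exact congrArg Subtype.val this
  · intro hc
    refine ⟨⟨c, hC hc⟩, ?_, rfl⟩
    show (⟨c, hC hc⟩ : H) ∈ Subgroup.centralizer (D₀ : Set H)
    rw [Subgroup.mem_centralizer_iff]
    intro d₀ hd₀
    apply Subtype.ext
    exact (Subgroup.mem_centralizer_iff.mp hc) (d₀ : G) ⟨d₀, hd₀, rfl⟩

/-- **S4726, first part**: the induced block is defined, with the intermediate data -/
theorem exists_induced_of_centralizer_le {p : ℕ} [Fact p.Prime] (hM : IsPModular p M)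
    (H : Subgroup G) {b : Set (IrrCharacter H)} (hb : IsPBlock M b) (D₀ : Subgroup H)
    (hD₀ : IsDefectGroup p M b D₀)
    (hC : Subgroup.centralizer ((D₀.map H.subtype : Subgroup G) : Set G) ≤ H) :
    ∃ (B : Set (IrrCharacter G))
      (e : Set (IrrCharacter (Subgroup.centralizer ((D₀.map H.subtype : Subgroup G) : Set G)))),
      IsInducedBlock M H b B ∧ IsBrauerPairOf p M B (D₀.map H.subtype) e ∧
      blockDefect p e + ((D₀.map H.subtype ⊓
        Subgroup.centralizer ((D₀.map H.subtype : Subgroup G) : Set G)).relIndex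
          (D₀.map H.subtype)).factorization p = blockDefect p b := by
  have hMprime : M.IsPrime := hM.2.1.isPrime
  have hp : p.Prime := Fact.out
  have hD₀p : IsPGroup p D₀ := isPGroup_of_isDefectGroup hD₀
  obtain ⟨D, hD⟩ : ∃ D : Subgroup G, D = D₀.map H.subtype := ⟨_, rfl⟩
  rw [← hD] at hC ⊢
  have hDp : IsPGroup p D := by
    rw [hD]
    exact hD₀p.map _
  obtain ⟨K₀, hK₀⟩ : ∃ K₀ : Subgroup H, K₀ = D₀ ⊔ Subgroup.centralizer (D₀ : Set H) := ⟨_, rfl⟩
  obtain ⟨K, hK⟩ : ∃ K : Subgroup G, K = K₀.map H.subtype := ⟨_, rfl⟩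
  have hKeq : K = D ⊔ Subgroup.centralizer (D : Set G) := by
    rw [hK, hK₀, hD]
    exact map_sup_centralizer_eq H D₀ (hD ▸ hC)
  have hDK : D ≤ K := hKeq ▸ le_sup_left
  have hCK : Subgroup.centralizer (D : Set G) ≤ K := hKeq ▸ le_sup_right
  have hKle : K ≤ D ⊔ Subgroup.centralizer (D : Set G) := hKeq.le
  have hKN : K ≤ Subgroup.normalizer (D : Set G) := hKle.trans (sup_centralizer_le_normalizer D)
  -- first main theorem in `H`
  obtain ⟨b₀, hb₀def, hind₀⟩ := ext_first_main_exists (G := H) (P := D₀) (H := K₀) hM hb hD₀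
    (hK₀ ▸ le_sup_left) (hK₀ ▸ le_sup_right) (hK₀ ▸ sup_centralizer_le_normalizer D₀)
  have hb₀ : IsPBlock M b₀ := hind₀.1
  obtain ⟨φ, hφ⟩ : ∃ φ : K₀ ≃* K,
      ∀ k : K₀, ((φ k : K) : G) = ((k : H) : G) := by
    rw [hK]
    exact ⟨K₀.equivMapOfInjective H.subtype H.subtype_injective,
      fun k => Subgroup.coe_equivMapOfInjective_apply _ _ _ k⟩
  have hb₀' : IsPBlock M ((irrEquiv φ) ⁻¹' b₀) := isPBlock_preimage_irrEquiv φ hb₀
  obtain ⟨B, hindK⟩ := exists_induced_block hM D K hDp hDK hCK hKN hb₀'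
  have hind : IsInducedBlock M H b B := isInducedBlock_trans H K₀ K φ hφ hind₀ hindK
  obtain ⟨e, hDe, hbe⟩ := exists_pair_of_induced hM hDp hDK hCK hKle hindK
  refine ⟨B, e, hind, hDe, ?_⟩
  have he : IsPBlock M e := hDe.1.2
  have hn : ((Subgroup.centralizer (D : Set G)).subgroupOf K).Normal :=
    normal_centralizer_subgroupOf hKle
  obtain ⟨D', hD'⟩ := exists_isDefectGroup hM hb₀'
  have hdb := (defect_of_same_idem_sub hM hCK he
    (fun t => stabilizesBlock_of_mem_sup he (hKle t.2)) hb₀' hbe hD').2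
  -- the defect of `b₀` is that of `b`
  have h1 : blockDefect p ((irrEquiv φ) ⁻¹' b₀) = blockDefect p b₀ :=
    blockDefect_preimage_irrEquiv p φ b₀
  have h2 : Nat.card D₀ = p ^ blockDefect p b₀ := by
    rw [← Cfsg.Agent.Lib.Helper4.card_subgroupOf_of_le (hK₀ ▸ le_sup_left : D₀ ≤ K₀)]
    exact Cfsg.Agent.S0908.result p M hM b₀ hb₀ _ hb₀def
  have h3 : Nat.card D₀ = p ^ blockDefect p b := Cfsg.Agent.S0908.result p M hM b hb D₀ hD₀
  have h4 : blockDefect p b₀ = blockDefect p b :=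
    Nat.pow_right_injective hp.two_le (h2.symm.trans h3)
  have h5 := card_eq_card_inf_mul_relIndex D
  rw [← hKeq] at h5
  have h6 : Nat.card ↥(D ⊓ Subgroup.centralizer (D : Set G)) *
      (D ⊓ Subgroup.centralizer (D : Set G)).relIndex D = Nat.card D := by
    have h := Subgroup.card_mul_index ((D ⊓ Subgroup.centralizer (D : Set G)).subgroupOf D)
    rwa [Cfsg.Agent.Lib.Helper4.card_subgroupOf_of_le inf_le_left] at h
  have h7 : (D ⊓ Subgroup.centralizer (D : Set G)).relIndex D =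
      (Subgroup.centralizer (D : Set G)).relIndex K := by
    have hpos : 0 < Nat.card ↥(D ⊓ Subgroup.centralizer (D : Set G)) := Nat.card_pos
    apply Nat.eq_of_mul_eq_mul_left hpos
    rw [h6, h5]
  rw [h7, ← h4, ← h1, hdb]

/-- any two defect groups of a block are conjugate -/
theorem isDefectGroup_conj {p : ℕ} [Fact p.Prime] (hM : IsPModular p M)
    {B : Set (IrrCharacter G)} (hB : IsPBlock M B) {D₁ D₂ : Subgroup G}
    (h1 : IsDefectGroup p M B D₁) (h2 : IsDefectGroup p M B D₂) :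
    ∃ x : G, D₁.map (MulAut.conj x).toMonoidHom = D₂ := by
  have hMprime : M.IsPrime := hM.2.1.isPrime
  have hc1 := Cfsg.Agent.S0908.result p M hM B hB D₁ h1
  have hc2 := Cfsg.Agent.S0908.result p M hM B hB D₂ h2
  obtain ⟨g₁, hg₁, P₁, rfl⟩ := h1
  obtain ⟨g₂, hg₂, P₂, rfl⟩ := h2
  obtain ⟨χ, hχ⟩ := block_nonempty hB
  obtain ⟨x, Q, hle⟩ := (Cfsg.Agent.S0911.result p M hM B hB g₁ hg₁ P₁ g₂).2
    ⟨χ, hχ, hg₂.2.2 χ hχ⟩
  obtain ⟨c, hc⟩ := MulAction.exists_smul_eq (Subgroup.centralizer ({g₂} : Set G)) Q P₂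
  refine ⟨(c : G) * x, ?_⟩
  apply Subgroup.eq_of_le_of_card_ge
  · have h3 : (P₂ : Subgroup (Subgroup.centralizer ({g₂} : Set G))) =
        (Q : Subgroup (Subgroup.centralizer ({g₂} : Set G))).map (MulAut.conj c).toMonoidHom := by
      rw [← hc, Sylow.coe_subgroup_smul, Subgroup.pointwise_smul_def]
      rfl
    rw [h3]
    rintro _ ⟨d, hd, rfl⟩
    have hd' := hle ⟨d, hd, rfl⟩
    obtain ⟨q, hq, hqd⟩ := hd'
    refine ⟨(MulAut.conj c) q, ⟨q, hq, rfl⟩, ?_⟩
    show ((c * q * c⁻¹ : Subgroup.centralizer ({g₂} : Set G)) : G) = (c : G) * x * d * ((c : G) * x)⁻¹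
    push_cast
    have hqd' : (q : G) = x * d * x⁻¹ := hqd
    rw [hqd']
    group
  · have h4 : ∀ X : Subgroup G, Nat.card (X.map (MulAut.conj ((c : G) * x)).toMonoidHom) =
        Nat.card X := fun X => Subgroup.card_map_of_injective (MulAut.conj ((c : G) * x)).injective
    rw [h4, hc1, hc2]

/-- auxiliary form of the second part of S4726, for a general Brauer pair `(D, e)` of `B`
whose defect is `d(e) + ν_p |D : Z(D)| = log_p |D|` -/
theorem defect_chain_aux {p : ℕ} [Fact p.Prime] (hM : IsPModular p M)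
    {B : Set (IrrCharacter G)} (hB : IsPBlock M B) (D : Subgroup G)
    (e : Set (IrrCharacter (Subgroup.centralizer (D : Set G))))
    (hDe : IsBrauerPairOf p M B D e) (d : ℕ) (hcardD : Nat.card D = p ^ d)
    (hdef : blockDefect p e +
      ((D ⊓ Subgroup.centralizer (D : Set G)).relIndex D).factorization p = d) :
    (∃ E : Subgroup G, IsDefectGroup p M B E ∧
      (Subgroup.center E).map E.subtype ≤ D ⊓ Subgroup.centralizer (D : Set G) ∧ D ≤ E) ∧
    ∀ E₁ : Subgroup G, IsDefectGroup p M B E₁ → IsMulCommutative E₁ →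
      IsDefectGroup p M B D := by
  have hMprime : M.IsPrime := hM.2.1.isPrime
  have hp : p.Prime := Fact.out
  have he : IsPBlock M e := hDe.1.2
  have hDp : IsPGroup p D := hDe.1.1
  obtain ⟨E, f, hmaxE, hle⟩ := exists_maximal_ge hM (Nat.card G - Nat.card D) D e hDe le_rfl
  have hDE : D ≤ E := subpairLE_le hle
  have hEf : IsBrauerPair p M E f := hmaxE.1.1
  have hEdef : IsDefectGroup p M B E := isDefectGroup_of_maximal hM hmaxE
  have hcard := card_centralizerIn_le hM hEf hDE he hle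
  have h6 : Nat.card ↥(D ⊓ Subgroup.centralizer (D : Set G)) *
      (D ⊓ Subgroup.centralizer (D : Set G)).relIndex D = Nat.card D := by
    have h := Subgroup.card_mul_index ((D ⊓ Subgroup.centralizer (D : Set G)).subgroupOf D)
    rwa [Cfsg.Agent.Lib.Helper4.card_subgroupOf_of_le inf_le_left] at h
  have hcardZ : Nat.card ↥(D ⊓ Subgroup.centralizer (D : Set G)) = p ^ blockDefect p e := by
    obtain ⟨i, hi⟩ := IsPGroup.iff_card.mp (hDp.to_le (inf_le_left :
      D ⊓ Subgroup.centralizer (D : Set G) ≤ D))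
    have hdvd : (D ⊓ Subgroup.centralizer (D : Set G)).relIndex D ∣ p ^ d := by
      rw [← hcardD, ← h6]
      exact dvd_mul_left _ _
    obtain ⟨j, -, hj⟩ := (Nat.dvd_prime_pow hp).mp hdvd
    rw [hi, hj, hcardD, ← pow_add] at h6
    have h7 := Nat.pow_right_injective hp.two_le h6
    rw [hj, Nat.Prime.factorization_pow hp, Finsupp.single_eq_same] at hdef
    rw [hi]
    congr 1
    omega
  have hZle : D ⊓ Subgroup.centralizer (D : Set G) ≤ FusionSystem.centralizerIn E D :=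
    inf_le_inf_right _ hDE
  have heq : D ⊓ Subgroup.centralizer (D : Set G) = FusionSystem.centralizerIn E D :=
    Subgroup.eq_of_le_of_card_ge hZle (by rw [hcardZ]; exact hcard)
  have hZE : (Subgroup.center E).map E.subtype ≤ D ⊓ Subgroup.centralizer (D : Set G) := by
    rw [heq]
    rintro _ ⟨z, hz, rfl⟩
    refine ⟨z.2, ?_⟩
    show E.subtype z ∈ Subgroup.centralizer (D : Set G)
    rw [Subgroup.mem_centralizer_iff]
    intro d hd
    have := (Subgroup.mem_center_iff.mp hz) ⟨d, hDE hd⟩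
    exact congrArg Subtype.val this
  refine ⟨⟨E, hEdef, hZE, hDE⟩, ?_⟩
  intro E₁ hE₁ hab
  obtain ⟨x, hx⟩ := isDefectGroup_conj hM hB hE₁ hEdef
  have hEab : ∀ u ∈ E, ∀ v ∈ E, u * v = v * u := by
    intro u hu v hv
    rw [← hx] at hu hv
    obtain ⟨u₁, hu₁, rfl⟩ := hu
    obtain ⟨v₁, hv₁, rfl⟩ := hv
    have h1 : (⟨u₁, hu₁⟩ : E₁) * ⟨v₁, hv₁⟩ = ⟨v₁, hv₁⟩ * ⟨u₁, hu₁⟩ := hab.is_comm.comm _ _
    have h2 : u₁ * v₁ = v₁ * u₁ := congrArg Subtype.val h1
    show (MulAut.conj x) u₁ * (MulAut.conj x) v₁ = (MulAut.conj x) v₁ * (MulAut.conj x) u₁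
    rw [← map_mul, ← map_mul, h2]
  have hED : E ≤ D := by
    intro u hu
    have h1 : u ∈ (Subgroup.center E).map E.subtype := by
      refine ⟨⟨u, hu⟩, ?_, rfl⟩
      show (⟨u, hu⟩ : E) ∈ Subgroup.center E
      rw [Subgroup.mem_center_iff]
      intro v
      apply Subtype.ext
      exact hEab v v.2 u hu
    exact (hZE h1).1
  have hEeq : E = D := le_antisymm hED hDE
  rw [← hEeq]
  exact hEdef

/-- **S4726, second part** -/
theorem induced_defect_chain {p : ℕ} [Fact p.Prime] (hM : IsPModular p M)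
    (H : Subgroup G) {b : Set (IrrCharacter H)} (hb : IsPBlock M b) (D₀ : Subgroup H)
    (hD₀ : IsDefectGroup p M b D₀)
    (hC : Subgroup.centralizer ((D₀.map H.subtype : Subgroup G) : Set G) ≤ H)
    {B : Set (IrrCharacter G)} (hind : IsInducedBlock M H b B) :
    (∃ E : Subgroup G, IsDefectGroup p M B E ∧
      (Subgroup.center E).map E.subtype ≤ ((Subgroup.center D₀).map D₀.subtype).map H.subtype ∧
      ((Subgroup.center D₀).map D₀.subtype).map H.subtype ≤ D₀.map H.subtype ∧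
      D₀.map H.subtype ≤ E) ∧
    ∀ E₁ : Subgroup G, IsDefectGroup p M B E₁ → IsMulCommutative E₁ →
      IsDefectGroup p M B (D₀.map H.subtype) := by
  have hMprime : M.IsPrime := hM.2.1.isPrime
  have hB : IsPBlock M B := hind.2.1
  obtain ⟨B', e, hind', hDe, hdef⟩ := exists_induced_of_centralizer_le hM H hb D₀ hD₀ hC
  have hBB : B' = B := induced_block_unique hind' hind
  rw [hBB] at hDe
  have hcardD : Nat.card (D₀.map H.subtype) = p ^ blockDefect p b := by
    rw [Subgroup.card_map_of_injective H.subtype_injective]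
    exact Cfsg.Agent.S0908.result p M hM b hb D₀ hD₀
  obtain ⟨⟨E, hEdef, hZE, hDE⟩, hab⟩ :=
    defect_chain_aux hM hB (D₀.map H.subtype) e hDe (blockDefect p b) hcardD hdef
  have hZD : (D₀.map H.subtype) ⊓ Subgroup.centralizer ((D₀.map H.subtype : Subgroup G) : Set G) ≤
      ((Subgroup.center D₀).map D₀.subtype).map H.subtype := by
    intro x hx
    obtain ⟨hxD, hxC⟩ := hx
    obtain ⟨h, hh, rfl⟩ := hxD
    refine ⟨h, ⟨⟨h, hh⟩, ?_, rfl⟩, rfl⟩
    show (⟨h, hh⟩ : D₀) ∈ Subgroup.center D₀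
    rw [Subgroup.mem_center_iff]
    intro d'
    apply Subtype.ext
    apply Subtype.ext
    have hd'D : ((d' : H) : G) ∈ D₀.map H.subtype := ⟨d', d'.2, rfl⟩
    exact (Subgroup.mem_centralizer_iff.mp hxC) _ hd'D
  have hZD₀ : ((Subgroup.center D₀).map D₀.subtype).map H.subtype ≤ D₀.map H.subtype :=
    Subgroup.map_mono (Subgroup.map_subtype_le _)
  exact ⟨⟨E, hEdef, hZE.trans hZD, hZD₀, hDE⟩, hab⟩

end

end Cfsg.Agent.Lib.Helper4
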