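import Mathlib
import Cfsg.Agent.Lib.Helper4.BrauerNorm
import Cfsg.Agent.Lib.Helper4.BrauerInert

set_option autoImplicit false

/-!
# Brauer pairs of a subgroup `H` and Brauer pairs of `G` (helper4)

When the centralizer in `G` of a subgroup `R` is the centralizer in `H` of a subgroup `S` of `H`,
blocks of the two centralizers correspond, and the Brauer maps, the idempotents and the
stabilizers agree.
-/

namespace Cfsg.Agent.Lib.Helper4

open Cfsg Cfsg.Agent.Lib.Helper28
open scoped ComplexConjugate Classical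

section

variable {G : Type*} [Group G] [Fintype G] {M : Ideal AlgInt}

/-- the centralizer of `R` in `G` is the centralizer of `S` in `H` -/
def CentCompat (H : Subgroup G) (S : Subgroup H) (R : Subgroup G) : Prop :=
  ∀ x : G, x ∈ Subgroup.centralizer (R : Set G) ↔
    ∃ hx : x ∈ H, (⟨x, hx⟩ : H) ∈ Subgroup.centralizer (S : Set H)

/-- the two centralizers as isomorphic groups -/
noncomputable def resCentEquiv {H : Subgroup G} {S : Subgroup H} {R : Subgroup G}
    (h : CentCompat H S R) :
    Subgroup.centralizer (S : Set H) ≃* Subgroup.centralizer (R : Set G) where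
  toFun c := ⟨((c : H) : G), (h _).mpr ⟨(c : H).2, c.2⟩⟩
  invFun c := ⟨⟨(c : G), ((h _).mp c.2).1⟩, ((h _).mp c.2).2⟩
  left_inv _ := rfl
  right_inv _ := rfl
  map_mul' _ _ := rfl

omit [Fintype G] in
theorem resCentEquiv_apply {H : Subgroup G} {S : Subgroup H} {R : Subgroup G}
    (h : CentCompat H S R) (c : Subgroup.centralizer (S : Set H)) :
    ((resCentEquiv h c : Subgroup.centralizer (R : Set G)) : G) = ((c : H) : G) := rfl

omit [Fintype G] in
theorem resCentEquiv_symm_apply {H : Subgroup G} {S : Subgroup H} {R : Subgroup G}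
    (h : CentCompat H S R) (c : Subgroup.centralizer (R : Set G)) :
    ((((resCentEquiv h).symm c : Subgroup.centralizer (S : Set H)) : H) : G) = (c : G) := rfl

/-- a block of `C_H(S)` as a block of `C_G(R)` -/
noncomputable def resBlock {H : Subgroup G} {S : Subgroup H} {R : Subgroup G}
    (h : CentCompat H S R) (s : Set (IrrCharacter (Subgroup.centralizer (S : Set H)))) :
    Set (IrrCharacter (Subgroup.centralizer (R : Set G))) :=
  (irrEquiv (resCentEquiv h)) ⁻¹' s

omit [Fintype G] in
theorem isPBlock_resBlock {H : Subgroup G} {S : Subgroup H} {R : Subgroup G}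
    (h : CentCompat H S R) {s : Set (IrrCharacter (Subgroup.centralizer (S : Set H)))}
    (hs : IsPBlock M s) : IsPBlock M (resBlock h s) :=
  isPBlock_preimage_irrEquiv _ hs

omit [Fintype G] in
/-- the Brauer maps agree -/
theorem brauerOmega_res {H : Subgroup G} {S : Subgroup H} {R : Subgroup G}
    (h : CentCompat H S R) (β : H → ℂ) (ξ : IrrCharacter (Subgroup.centralizer (R : Set G))) :
    brauerOmega R (extZero H β) (ξ : Subgroup.centralizer (R : Set G) → ℂ) =
      brauerOmega S β (irrEquiv (resCentEquiv h) ξ : Subgroup.centralizer (S : Set H) → ℂ) := by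
  unfold brauerOmega
  rw [← finsum_comp_equiv (resCentEquiv h).toEquiv]
  refine finsum_congr fun c => ?_
  show extZero H β ((resCentEquiv h c : Subgroup.centralizer (R : Set G)) : G) *
      (ξ : Subgroup.centralizer (R : Set G) → ℂ) (resCentEquiv h c) /
        (ξ : Subgroup.centralizer (R : Set G) → ℂ) 1 =
    β (c : H) * (ξ : Subgroup.centralizer (R : Set G) → ℂ) (resCentEquiv h c) /
      (ξ : Subgroup.centralizer (R : Set G) → ℂ) (resCentEquiv h 1)
  rw [map_one, resCentEquiv_apply, extZero_mem']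

/-- the idempotents agree -/
theorem subgroupBlockCoeff_resBlock {H : Subgroup G} {S : Subgroup H} {R : Subgroup G}
    (h : CentCompat H S R) (s : Set (IrrCharacter (Subgroup.centralizer (S : Set H)))) :
    subgroupBlockCoeff (Subgroup.centralizer (R : Set G)) (resBlock h s) =
      extZero H (subgroupBlockCoeff (Subgroup.centralizer (S : Set H)) s) := by
  funext g
  rw [subgroupBlockCoeff_eq_extZero]
  by_cases hg : g ∈ Subgroup.centralizer (R : Set G)
  · obtain ⟨hgH, hgS⟩ := (h g).mp hg
    have e1 := extZero_mem' (Subgroup.centralizer (R : Set G))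
      (blockCoeff (resBlock h s)) ⟨g, hg⟩
    have e2 := extZero_mem' H
      (subgroupBlockCoeff (Subgroup.centralizer (S : Set H)) s) ⟨g, hgH⟩
    have e3 := subgroupBlockCoeff_mem (Subgroup.centralizer (S : Set H)) s ⟨⟨g, hgH⟩, hgS⟩
    simp only at e1 e2 e3
    rw [e1, e2, e3]
    unfold resBlock
    rw [blockCoeff_preimage_irrEquiv]
    rfl
  · rw [extZero_not_mem' _ _ hg]
    by_cases hgH : g ∈ H
    · have e2 := extZero_mem' H
        (subgroupBlockCoeff (Subgroup.centralizer (S : Set H)) s) ⟨g, hgH⟩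
      simp only at e2
      rw [e2, subgroupBlockCoeff_eq_extZero, extZero_not_mem']
      intro hcon
      exact hg ((h g).mpr ⟨hgH, hcon⟩)
    · rw [extZero_not_mem' _ _ hgH]

omit [Fintype G] in
/-- the stabilizers agree -/
theorem stabilizesBlock_resBlock {H : Subgroup G} {S : Subgroup H} {R : Subgroup G}
    (h : CentCompat H S R) {s : Set (IrrCharacter (Subgroup.centralizer (S : Set H)))} {y : H}
    (hy : StabilizesBlock (Subgroup.centralizer (S : Set H)) s y) :
    StabilizesBlock (Subgroup.centralizer (R : Set G)) (resBlock h s) (y : G) := by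
  obtain ⟨hyN, hst⟩ := hy
  constructor
  · rw [Subgroup.mem_normalizer_iff]
    intro x
    constructor
    · intro hx
      obtain ⟨hxH, hxS⟩ := (h x).mp hx
      have := (Subgroup.mem_normalizer_iff.mp hyN ⟨x, hxH⟩).mp hxS
      exact (h _).mpr ⟨(y * ⟨x, hxH⟩ * y⁻¹ : H).2, this⟩
    · intro hx
      obtain ⟨hxH, hxS⟩ := (h _).mp hx
      have hxH' : x ∈ H := by
        have e : x = (y : G)⁻¹ * ((y : G) * x * (y : G)⁻¹) * (y : G) := by group
        rw [e]
        exact H.mul_mem (H.mul_mem (H.inv_mem y.2) hxH) y.2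
      have e2 : (⟨(y : G) * x * (y : G)⁻¹, hxH⟩ : H) = y * ⟨x, hxH'⟩ * y⁻¹ := Subtype.ext rfl
      rw [e2] at hxS
      exact (h x).mpr ⟨hxH', (Subgroup.mem_normalizer_iff.mp hyN ⟨x, hxH'⟩).mpr hxS⟩
  · intro ξ hξ
    have hξ' : irrEquiv (resCentEquiv h) ξ ∈ s := hξ
    obtain ⟨η', hη', hconj⟩ := hst _ hξ'
    refine ⟨(irrEquiv (resCentEquiv h)).symm η', ?_, ?_⟩
    · show irrEquiv (resCentEquiv h) ((irrEquiv (resCentEquiv h)).symm η') ∈ s
      rw [Equiv.apply_symm_apply]
      exact hη'
    · intro k k' hk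
      rw [irrEquiv_symm_apply]
      have h1 := hconj ((resCentEquiv h).symm k) ((resCentEquiv h).symm k') (by
        apply Subtype.ext
        exact hk)
      rw [h1, irrEquiv_apply, MulEquiv.apply_symm_apply]

omit [Fintype G] in
/-- a subgroup `S` of `H` whose image has its centralizer inside `H` -/
theorem centCompat_map {H : Subgroup G} (S : Subgroup H)
    (hC : Subgroup.centralizer ((S.map H.subtype : Subgroup G) : Set G) ≤ H) :
    CentCompat H S (S.map H.subtype) := by
  intro x
  constructor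
  · intro hx
    refine ⟨hC hx, ?_⟩
    intro s hs
    apply Subtype.ext
    exact hx (s : G) ⟨s, hs, rfl⟩
  · rintro ⟨hxH, hxS⟩ _ ⟨s, hs, rfl⟩
    exact congrArg Subtype.val (hxS s hs)

omit [Fintype G] in
/-- a subgroup `R` of `G` inside `H` with its centralizer inside `H` -/
theorem centCompat_subgroupOf {H R : Subgroup G} (hRH : R ≤ H)
    (hC : Subgroup.centralizer (R : Set G) ≤ H) :
    CentCompat H (R.subgroupOf H) R := by
  intro x
  constructor
  · intro hx
    refine ⟨hC hx, ?_⟩
    intro s hs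
    apply Subtype.ext
    exact hx (s : G) (Subgroup.mem_subgroupOf.mp hs)
  · rintro ⟨hxH, hxS⟩ r hr
    exact congrArg Subtype.val (hxS ⟨r, hRH hr⟩ (Subgroup.mem_subgroupOf.mpr hr))

/-- blocks of `C_H(S)` as blocks of `C_G(S)` -/
def indBlock (H : Subgroup G) (S : Subgroup H)
    (s : Set (IrrCharacter (Subgroup.centralizer (S : Set H)))) :
    Set (IrrCharacter (Subgroup.centralizer ((S.map H.subtype : Subgroup G) : Set G))) :=
  {ξ | ∃ ξH ∈ s, ∀ (c : Subgroup.centralizer (S : Set H))
      (c' : Subgroup.centralizer ((S.map H.subtype : Subgroup G) : Set G)),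
      ((c : H) : G) = (c' : G) →
        (ξ : Subgroup.centralizer ((S.map H.subtype : Subgroup G) : Set G) → ℂ) c' =
          (ξH : Subgroup.centralizer (S : Set H) → ℂ) c}

/-- Brauer pairs of `H` as Brauer pairs of `G` -/
def indPair (H : Subgroup G) (a : BrauerPairIdx H) : BrauerPairIdx G :=
  ⟨a.1.map H.subtype, indBlock H a.1 a.2⟩

omit [Fintype G] in
theorem mem_indBlock_iff {H : Subgroup G} (S : Subgroup H)
    (s : Set (IrrCharacter (Subgroup.centralizer (S : Set H))))
    (hC : Subgroup.centralizer ((S.map H.subtype : Subgroup G) : Set G) ≤ H)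
    (ξ : IrrCharacter (Subgroup.centralizer ((S.map H.subtype : Subgroup G) : Set G))) :
    ξ ∈ indBlock H S s ↔ irrEquiv (resCentEquiv (centCompat_map S hC)) ξ ∈ s := by
  constructor
  · rintro ⟨ξH, hξH, hag⟩
    have : irrEquiv (resCentEquiv (centCompat_map S hC)) ξ = ξH := by
      apply Subtype.ext
      funext c
      rw [irrEquiv_apply]
      exact hag c _ rfl
    rw [this]
    exact hξH
  · intro hξ
    refine ⟨_, hξ, ?_⟩
    intro c c' hcc'
    rw [irrEquiv_apply]
    have e : c' = resCentEquiv (centCompat_map S hC) c := Subtype.ext hcc'.symm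
    rw [e]

omit [Fintype G] in
theorem indBlock_eq {H : Subgroup G} (S : Subgroup H)
    (s : Set (IrrCharacter (Subgroup.centralizer (S : Set H))))
    (hC : Subgroup.centralizer ((S.map H.subtype : Subgroup G) : Set G) ≤ H) :
    indBlock H S s = resBlock (centCompat_map S hC) s := by
  ext ξ
  exact mem_indBlock_iff S s hC ξ

/-- normal inclusions of Brauer pairs of `H` are normal inclusions of Brauer pairs of `G` -/
theorem isNormalSubpair_indPair {p : ℕ} {H : Subgroup G} {a b : BrauerPairIdx H}
    (hC : Subgroup.centralizer ((a.1.map H.subtype : Subgroup G) : Set G) ≤ H)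
    (h : IsNormalSubpair p M a.1 a.2 b.1 b.2) :
    IsNormalSubpair p M (a.1.map H.subtype) (indBlock H a.1 a.2) (b.1.map H.subtype)
      (indBlock H b.1 b.2) := by
  obtain ⟨ha, hb, hab, hbN, hst, hone⟩ := h
  have hCb : Subgroup.centralizer ((b.1.map H.subtype : Subgroup G) : Set G) ≤ H :=
    (Subgroup.centralizer_le (by exact_mod_cast Subgroup.map_mono hab)).trans hC
  refine ⟨⟨ha.1.map _, ?_⟩, ⟨hb.1.map _, ?_⟩, Subgroup.map_mono hab, ?_, ?_, ?_⟩
  · rw [indBlock_eq a.1 a.2 hC]
    exact isPBlock_resBlock _ ha.2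
  · rw [indBlock_eq b.1 b.2 hCb]
    exact isPBlock_resBlock _ hb.2
  · rintro _ ⟨y, hy, rfl⟩
    exact Subgroup.le_normalizer_map H.subtype ⟨y, hbN hy, rfl⟩
  · rintro _ ⟨y, hy, rfl⟩
    rw [indBlock_eq a.1 a.2 hC]
    exact stabilizesBlock_resBlock _ (hst y hy)
  · intro ξ hξ
    rw [mem_indBlock_iff b.1 b.2 hCb] at hξ
    have := hone _ hξ
    rw [indBlock_eq a.1 a.2 hC, subgroupBlockCoeff_resBlock,
      brauerOmega_res (centCompat_map b.1 hCb)]
    exact this

/-- inclusions of Brauer pairs of `H` are inclusions of Brauer pairs of `G` -/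
theorem subpairLE_indPair {p : ℕ} {H : Subgroup G} {a b : BrauerPairIdx H}
    (hC : Subgroup.centralizer ((a.1.map H.subtype : Subgroup G) : Set G) ≤ H)
    (h : Relation.ReflTransGen (NormalSubpairRel p M) a b) :
    Relation.ReflTransGen (NormalSubpairRel p M) (indPair H a) (indPair H b) := by
  induction h with
  | refl => exact Relation.ReflTransGen.refl
  | tail hab hbc ih =>
    rename_i b' c'
    have hle : a.1 ≤ b'.1 := subpairLE_le hab
    have hCb : Subgroup.centralizer ((b'.1.map H.subtype : Subgroup G) : Set G) ≤ H :=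
      (Subgroup.centralizer_le (by exact_mod_cast Subgroup.map_mono hle)).trans hC
    exact Relation.ReflTransGen.tail ih (isNormalSubpair_indPair hCb hbc)

omit [Fintype G] in
theorem map_subtype_map_conj {H : Subgroup G} (t : H) (S : Subgroup H) :
    (S.map (MulAut.conj t).toMonoidHom).map H.subtype =
      (S.map H.subtype).map (MulAut.conj (t : G)).toMonoidHom := by
  rw [Subgroup.map_map, Subgroup.map_map]
  congr 1

/-- conjugation commutes with the passage from `H` to `G` -/
theorem indPair_conjPair {H : Subgroup G} (t : H) (a : BrauerPairIdx H)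
    (hC : Subgroup.centralizer ((a.1.map H.subtype : Subgroup G) : Set G) ≤ H) :
    indPair H (conjPair t a) = conjPair (t : G) (indPair H a) := by
  show (⟨(a.1.map (MulAut.conj t).toMonoidHom).map H.subtype,
      indBlock H (a.1.map (MulAut.conj t).toMonoidHom) (conjBlock a.1 t a.2)⟩ :
        BrauerPairIdx G) =
    ⟨(a.1.map H.subtype).map (MulAut.conj (t : G)).toMonoidHom,
      conjBlock (a.1.map H.subtype) (t : G) (indBlock H a.1 a.2)⟩
  have h1 := map_subtype_map_conj t a.1
  have hC' : Subgroup.centralizer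
      (((a.1.map (MulAut.conj t).toMonoidHom).map H.subtype : Subgroup G) : Set G) ≤ H := by
    rw [h1]
    intro x hx
    have h2 := hC (centConj_mem' (a.1.map H.subtype) (t : G) hx)
    have e : x = (t : G) * ((t : G)⁻¹ * x * (t : G)) * (t : G)⁻¹ := by group
    rw [e]
    exact H.mul_mem (H.mul_mem t.2 h2) (H.inv_mem t.2)
  apply brauerPairIdx_ext h1
  intro ξa ξb hab
  rw [mem_indBlock_iff _ _ hC', mem_conjBlock_iff, mem_conjBlock_iff, mem_indBlock_iff _ _ hC]
  have key : irrEquiv (centConj a.1 t)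
      (irrEquiv (resCentEquiv (centCompat_map (a.1.map (MulAut.conj t).toMonoidHom) hC')) ξa) =
      irrEquiv (resCentEquiv (centCompat_map a.1 hC))
        (irrEquiv (centConj (a.1.map H.subtype) (t : G)) ξb) := by
    apply Subtype.ext
    funext c
    rw [irrEquiv_apply, irrEquiv_apply, irrEquiv_apply, irrEquiv_apply]
    exact hab _ _ _
  rw [key]

omit [Fintype G] in
theorem irrEquiv_irrEquiv_symm {K K' : Type*} [Group K] [Group K'] (φ : K ≃* K')
    (ξ : IrrCharacter K) : irrEquiv φ (irrEquiv φ.symm ξ) = ξ := by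
  apply Subtype.ext
  funext k
  rw [irrEquiv_apply, irrEquiv_apply, MulEquiv.symm_apply_apply]

omit [Fintype G] in
theorem irrEquiv_symm_irrEquiv {K K' : Type*} [Group K] [Group K'] (φ : K ≃* K')
    (ξ : IrrCharacter K') : irrEquiv φ.symm (irrEquiv φ ξ) = ξ := by
  apply Subtype.ext
  funext k
  rw [irrEquiv_apply, irrEquiv_apply, MulEquiv.apply_symm_apply]

/-- a block of `C_G(R)` as a block of the centralizer of `R` in `H` -/
noncomputable def cutBlock (H : Subgroup G) {R : Subgroup G} (hRH : R ≤ H)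
    (hC : Subgroup.centralizer (R : Set G) ≤ H)
    (h : Set (IrrCharacter (Subgroup.centralizer (R : Set G)))) :
    Set (IrrCharacter (Subgroup.centralizer ((R.subgroupOf H : Subgroup H) : Set H))) :=
  (irrEquiv (resCentEquiv (centCompat_subgroupOf hRH hC)).symm) ⁻¹' h

/-- Brauer pairs of `G` inside `H` as Brauer pairs of `H` -/
noncomputable def resPair (H : Subgroup G) {R : Subgroup G} (hRH : R ≤ H)
    (hC : Subgroup.centralizer (R : Set G) ≤ H)
    (h : Set (IrrCharacter (Subgroup.centralizer (R : Set G)))) : BrauerPairIdx H :=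
  ⟨R.subgroupOf H, cutBlock H hRH hC h⟩

theorem indPair_resPair (H : Subgroup G) {R : Subgroup G} (hRH : R ≤ H)
    (hC : Subgroup.centralizer (R : Set G) ≤ H)
    (h : Set (IrrCharacter (Subgroup.centralizer (R : Set G)))) :
    indPair H (resPair H hRH hC h) = ⟨R, h⟩ := by
  show (⟨(R.subgroupOf H).map H.subtype, indBlock H (R.subgroupOf H) (cutBlock H hRH hC h)⟩ :
    BrauerPairIdx G) = ⟨R, h⟩
  have h1 : (R.subgroupOf H).map H.subtype = R := Subgroup.map_subgroupOf_eq_of_le hRH
  have hC' : Subgroup.centralizer (((R.subgroupOf H).map H.subtype : Subgroup G) : Set G) ≤ H := by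
    rw [h1]
    exact hC
  apply brauerPairIdx_ext h1
  intro ξa ξb hab
  rw [mem_indBlock_iff _ _ hC']
  show irrEquiv (resCentEquiv (centCompat_subgroupOf hRH hC)).symm
    (irrEquiv (resCentEquiv (centCompat_map (R.subgroupOf H) hC')) ξa) ∈ h ↔ ξb ∈ h
  have key : irrEquiv (resCentEquiv (centCompat_subgroupOf hRH hC)).symm
      (irrEquiv (resCentEquiv (centCompat_map (R.subgroupOf H) hC')) ξa) = ξb := by
    apply Subtype.ext
    funext c
    rw [irrEquiv_apply, irrEquiv_apply]
    exact hab _ _ _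
  rw [key]

/-- the idempotent of `f` as the extension of the idempotent of a block of `T` -/
theorem subgroupBlockCoeff_eq_extZero_of_stab {Q T : Subgroup G}
    (hCT : Subgroup.centralizer (Q : Set G) ≤ T)
    {f : Set (IrrCharacter (Subgroup.centralizer (Q : Set G)))} {F : Set (IrrCharacter T)}
    (hFf : ∀ t : T, blockCoeff F t =
      subgroupBlockCoeff (Subgroup.centralizer (Q : Set G)) f (t : G)) :
    subgroupBlockCoeff (Subgroup.centralizer (Q : Set G)) f = extZero T (blockCoeff F) := by
  funext g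
  by_cases hg : g ∈ T
  · have e1 := extZero_mem' T (blockCoeff F) ⟨g, hg⟩
    simp only at e1
    rw [e1, hFf]
  · rw [extZero_not_mem' _ _ hg, subgroupBlockCoeff_eq_extZero,
      extZero_not_mem' _ _ (fun h => hg (hCT h))]

/-- a normal superpair of `(Q, f)` inside `T` is a Brauer pair of the block of `T` with the
idempotent of `f` -/
theorem isBrauerPairOf_resPair {p : ℕ} {Q T : Subgroup G}
    (hCT : Subgroup.centralizer (Q : Set G) ≤ T)
    {f : Set (IrrCharacter (Subgroup.centralizer (Q : Set G)))} {F : Set (IrrCharacter T)}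
    (hF : IsPBlock M F)
    (hFf : ∀ t : T, blockCoeff F t =
      subgroupBlockCoeff (Subgroup.centralizer (Q : Set G)) f (t : G))
    {R : Subgroup G} {h : Set (IrrCharacter (Subgroup.centralizer (R : Set G)))}
    (hn : IsNormalSubpair p M Q f R h) (hRT : R ≤ T)
    (hC : Subgroup.centralizer (R : Set G) ≤ T) :
    IsBrauerPairOf p M F (R.subgroupOf T) (cutBlock T hRT hC h) := by
  obtain ⟨hQf, hRh, hQR, hRN, hst, hone⟩ := hn
  refine ⟨⟨hRh.1.comap_subtype, isPBlock_preimage_irrEquiv _ hRh.2⟩, hF, ?_⟩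
  intro ξT hξT
  have hξ : irrEquiv (resCentEquiv (centCompat_subgroupOf hRT hC)).symm ξT ∈ h := hξT
  have := hone _ hξ
  rw [subgroupBlockCoeff_eq_extZero_of_stab hCT hFf,
    brauerOmega_res (centCompat_subgroupOf hRT hC), irrEquiv_irrEquiv_symm] at this
  exact this

/-- a Brauer pair of the block of `T = N_G(Q, f)` with the idempotent of `f`, containing `Q`,
is a normal superpair of `(Q, f)` -/
theorem isNormalSubpair_indPair_of_isBrauerPairOf {p : ℕ} {Q T : Subgroup G}
    {f : Set (IrrCharacter (Subgroup.centralizer (Q : Set G)))} (hQf : IsBrauerPair p M Q f)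
    (hT : ∀ y : G, y ∈ T ↔ y ∈ Subgroup.normalizer (Q : Set G) ∧
      StabilizesBlock (Subgroup.centralizer (Q : Set G)) f y)
    {F : Set (IrrCharacter T)}
    (hFf : ∀ t : T, blockCoeff F t =
      subgroupBlockCoeff (Subgroup.centralizer (Q : Set G)) f (t : G))
    {b : BrauerPairIdx T} (hb : IsBrauerPairOf p M F b.1 b.2) (hQb : Q.subgroupOf T ≤ b.1) :
    IsNormalSubpair p M Q f (b.1.map T.subtype) (indBlock T b.1 b.2) := by
  have hCT : Subgroup.centralizer (Q : Set G) ≤ T := fun u hu =>
    (hT u).mpr ⟨centralizer_le_normalizer' Q hu, stabilizesBlock_of_mem_centralizer Q f hu⟩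
  have hQT : Q ≤ T := fun u hu =>
    (hT u).mpr ⟨Subgroup.le_normalizer hu, stabilizesBlock_of_mem Q f hu⟩
  have hQb' : Q ≤ b.1.map T.subtype := by
    intro q hq
    exact ⟨⟨q, hQT hq⟩, hQb (Subgroup.mem_subgroupOf.mpr hq), rfl⟩
  have hCb : Subgroup.centralizer ((b.1.map T.subtype : Subgroup G) : Set G) ≤ T :=
    (Subgroup.centralizer_le (by exact_mod_cast hQb')).trans hCT
  refine ⟨hQf, ⟨hb.1.1.map _, ?_⟩, hQb', ?_, ?_, ?_⟩
  · rw [indBlock_eq b.1 b.2 hCb]
    exact isPBlock_resBlock _ hb.1.2
  · rintro _ ⟨y, _, rfl⟩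
    exact ((hT y).mp y.2).1
  · rintro _ ⟨y, _, rfl⟩
    exact ((hT y).mp y.2).2
  · intro ξ hξ
    rw [mem_indBlock_iff b.1 b.2 hCb] at hξ
    have := hb.2.2 _ hξ
    rw [subgroupBlockCoeff_eq_extZero_of_stab hCT hFf, brauerOmega_res (centCompat_map b.1 hCb)]
    exact this

end

end Cfsg.Agent.Lib.Helper4
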