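import Mathlib
import Cfsg.Prelude.Def_Characters
import Cfsg.Agent.Lib.Helper2.CharConj

set_option autoImplicit false

/-!
# The action of the normalizer of a subgroup `N` on the irreducible characters of `N`
-/

namespace Cfsg.Agent.Lib.Helper4

open Cfsg

section

variable {Γ : Type*} [Group Γ] (N : Subgroup Γ)

theorem conj_mem_of_mem_normalizer {x : Γ} (hx : x ∈ Subgroup.normalizer (N : Set Γ)) {n : Γ}
    (hn : n ∈ N) : x * n * x⁻¹ ∈ N :=
  (Subgroup.mem_normalizer_iff.mp hx n).mp hn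

theorem conj_mem_of_mem_normalizer' {x : Γ} (hx : x ∈ Subgroup.normalizer (N : Set Γ)) {n : Γ}
    (hn : n ∈ N) : x⁻¹ * n * x ∈ N := by
  have := conj_mem_of_mem_normalizer N (Subgroup.inv_mem _ hx) hn
  rwa [inv_inv] at this

/-- conjugation by an element of the normalizer, as an automorphism of `N` -/
def conjNorm (x : Subgroup.normalizer (N : Set Γ)) : ↥N ≃* ↥N where
  toFun n := ⟨(x : Γ) * n * (x : Γ)⁻¹, conj_mem_of_mem_normalizer N x.2 n.2⟩
  invFun n := ⟨(x : Γ)⁻¹ * n * (x : Γ), conj_mem_of_mem_normalizer' N x.2 n.2⟩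
  left_inv n := by
    apply Subtype.ext
    show (x : Γ)⁻¹ * ((x : Γ) * n * (x : Γ)⁻¹) * (x : Γ) = n
    group
  right_inv n := by
    apply Subtype.ext
    show (x : Γ) * ((x : Γ)⁻¹ * n * (x : Γ)) * (x : Γ)⁻¹ = n
    group
  map_mul' a b := by
    apply Subtype.ext
    show (x : Γ) * ((a : Γ) * (b : Γ)) * (x : Γ)⁻¹ =
      ((x : Γ) * a * (x : Γ)⁻¹) * ((x : Γ) * b * (x : Γ)⁻¹)
    group

theorem conjNorm_apply (x : Subgroup.normalizer (N : Set Γ)) (n : ↥N) :
    ((conjNorm N x n : ↥N) : Γ) = (x : Γ) * n * (x : Γ)⁻¹ := rfl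

theorem conjNorm_symm_apply (x : Subgroup.normalizer (N : Set Γ)) (n : ↥N) :
    (((conjNorm N x).symm n : ↥N) : Γ) = (x : Γ)⁻¹ * n * (x : Γ) := rfl

/-- the action of the normalizer of `N` on the irreducible characters of `N`:
`(x • θ) (x n x⁻¹) = θ n` -/
@[reducible] noncomputable def normalizerIrrAction :
    MulAction (Subgroup.normalizer (N : Set Γ)) (IrrCharacter ↥N) where
  smul x θ := ⟨(θ : ↥N → ℂ) ∘ (conjNorm N x).symm,
    Cfsg.Agent.Lib.Helper2.isIrrCharacter_comp_mulEquiv θ.2 (conjNorm N x).symm⟩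
  one_smul θ := by
    apply Subtype.ext
    funext n
    show (θ : ↥N → ℂ) ((conjNorm N 1).symm n) = (θ : ↥N → ℂ) n
    refine congrArg (θ : ↥N → ℂ) (Subtype.ext ?_)
    rw [conjNorm_symm_apply]
    simp
  mul_smul x y θ := by
    apply Subtype.ext
    funext n
    show (θ : ↥N → ℂ) ((conjNorm N (x * y)).symm n) =
      (θ : ↥N → ℂ) ((conjNorm N y).symm ((conjNorm N x).symm n))
    refine congrArg (θ : ↥N → ℂ) (Subtype.ext ?_)
    rw [conjNorm_symm_apply, conjNorm_symm_apply, conjNorm_symm_apply]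
    simp only [Subgroup.coe_mul, mul_inv_rev]
    group

theorem normalizerIrrAction_apply (x : Subgroup.normalizer (N : Set Γ)) (θ : IrrCharacter ↥N)
    (n : ↥N) :
    letI := normalizerIrrAction N
    ((x • θ : IrrCharacter ↥N) : ↥N → ℂ) n = (θ : ↥N → ℂ) ((conjNorm N x).symm n) := rfl

/-- `x • θ = θ` says that `θ` is invariant under conjugation by `x` -/
theorem normalizerIrrAction_eq_iff (x : Subgroup.normalizer (N : Set Γ)) (θ η : IrrCharacter ↥N) :
    letI := normalizerIrrAction N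
    x • θ = η ↔ ∀ n n' : ↥N, (n' : Γ) = (x : Γ) * n * (x : Γ)⁻¹ →
      (η : ↥N → ℂ) n' = (θ : ↥N → ℂ) n := by
  letI := normalizerIrrAction N
  constructor
  · intro h n n' hn'
    rw [← h, normalizerIrrAction_apply]
    refine congrArg (θ : ↥N → ℂ) (Subtype.ext ?_)
    rw [conjNorm_symm_apply, hn']
    group
  · intro h
    apply Subtype.ext
    funext n
    rw [normalizerIrrAction_apply]
    symm
    apply h
    rw [conjNorm_symm_apply]
    group

open scoped ComplexConjugate in
/-- the inner product with a function invariant under `x` is unchanged by the action of `x` -/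
theorem classInner_smul_of_invariant [Fintype N] (x : Subgroup.normalizer (N : Set Γ))
    (f : ↥N → ℂ) (hf : ∀ n : ↥N, f (conjNorm N x n) = f n) (θ : IrrCharacter ↥N) :
    letI := normalizerIrrAction N
    classInner f ((x • θ : IrrCharacter ↥N) : ↥N → ℂ) = classInner f (θ : ↥N → ℂ) := by
  letI := normalizerIrrAction N
  unfold classInner
  congr 1
  symm
  refine Fintype.sum_equiv (conjNorm N x).toEquiv _ _ (fun m => ?_)
  show f m * conj ((θ : ↥N → ℂ) m) =
    f (conjNorm N x m) * conj ((θ : ↥N → ℂ) ((conjNorm N x).symm (conjNorm N x m)))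
  rw [hf, MulEquiv.symm_apply_apply]

end

end Cfsg.Agent.Lib.Helper4
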