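import Mathlib
import Cfsg.Prelude.Def_Characters
import Cfsg.Agent.Lib.Helper7.CliffordCorr

set_option autoImplicit false

/-!
# Clifford's theorem for subgroups `N ≤ G` of an ambient group
-/

namespace Cfsg.Agent.Lib.Helper4

open Cfsg Cfsg.Agent.Lib.Helper26 Cfsg.Agent.Lib.Helper2 Cfsg.Agent.Lib.Helper7
open scoped ComplexConjugate

section

variable {Γ : Type*} [Group Γ] (G N : Subgroup Γ) [Fintype G] [Fintype N]

/-- inner products with a restriction, computed on `N.subgroupOf G` or on `N` -/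
theorem classInner_restrict_subgroupOf (hNG : N ≤ G) (χ : G → ℂ) (θ : N → ℂ)
    [Fintype (N.subgroupOf G)] :
    classInner (χ ∘ (N.subgroupOf G).subtype)
      (θ ∘ (Subgroup.subgroupOfEquivOfLe hNG : (N.subgroupOf G) ≃* N)) =
    classInner (fun n : N => χ ⟨(n : Γ), hNG n.2⟩) θ := by
  let e : N.subgroupOf G ≃* N := Subgroup.subgroupOfEquivOfLe hNG
  unfold classInner
  rw [Nat.card_congr e.toEquiv]
  congr 1
  refine Fintype.sum_equiv e.toEquiv _ _ (fun x => ?_)
  show χ (x : G) * conj (θ (e x)) = χ ⟨((e x : N) : Γ), hNG (e x).2⟩ * conj (θ (e x))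
  congr 2

/-- two irreducible constituents of the restriction of an irreducible character to a normal
subgroup are conjugate -/
theorem rel_constituents_conj (hNG : N ≤ G) [hNn : (N.subgroupOf G).Normal]
    (χ : G → ℂ) (hχ : IsIrrCharacter G χ) (θ₁ θ₂ : N → ℂ) (h₁ : IsIrrCharacter N θ₁)
    (h₂ : IsIrrCharacter N θ₂)
    (hc₁ : classInner (fun n : N => χ ⟨(n : Γ), hNG n.2⟩) θ₁ ≠ 0)
    (hc₂ : classInner (fun n : N => χ ⟨(n : Γ), hNG n.2⟩) θ₂ ≠ 0) :
    ∃ g ∈ G, ∀ n n' : N, (n' : Γ) = g * (n : Γ) * g⁻¹ → θ₂ n = θ₁ n' := by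
  classical
  have : Fintype (N.subgroupOf G) := Fintype.ofFinite _
  let e : (N.subgroupOf G) ≃* N := Subgroup.subgroupOfEquivOfLe hNG
  have he : ∀ x : N.subgroupOf G, ((e x : N) : Γ) = ((x : G) : Γ) := fun x => rfl
  have h₁' : IsIrrCharacter (N.subgroupOf G) (θ₁ ∘ e) := isIrrCharacter_comp_mulEquiv h₁ e
  have h₂' : IsIrrCharacter (N.subgroupOf G) (θ₂ ∘ e) := isIrrCharacter_comp_mulEquiv h₂ e
  have hc₁' : classInner (χ ∘ (N.subgroupOf G).subtype) (θ₁ ∘ e) ≠ 0 := by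
    rw [classInner_restrict_subgroupOf G N hNG χ θ₁]
    exact hc₁
  have hc₂' : classInner (χ ∘ (N.subgroupOf G).subtype) (θ₂ ∘ e) ≠ 0 := by
    rw [classInner_restrict_subgroupOf G N hNG χ θ₂]
    exact hc₂
  by_contra hcon
  push Not at hcon
  apply hc₂'
  apply classInner_restrict_eq_zero (N.subgroupOf G) hχ h₁' h₂' hc₁'
  intro g hg
  obtain ⟨n, n', hn', hne⟩ := hcon (g : Γ) g.2
  apply hne
  have h3 := congrFun hg (e.symm n)
  simp only [Function.comp_apply, MulEquiv.apply_symm_apply] at h3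
  rw [h3]
  unfold conjFunN
  simp only [Function.comp_apply]
  refine congrArg θ₁ (Subtype.ext ?_)
  rw [he, hn']
  show (g : Γ) * (((e.symm n : N.subgroupOf G) : G) : Γ) * ((g : G) : Γ)⁻¹ = _
  rw [← he (e.symm n), MulEquiv.apply_symm_apply]

end

end Cfsg.Agent.Lib.Helper4
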