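import Mathlib
import Cfsg.Prelude.Def_Characters
import Cfsg.Agent.Lib.Helper4.RelAction
import Cfsg.Agent.Lib.Helper4.RelClifford
import Cfsg.Agent.Lib.Helper4.Artin
import Cfsg.Agent.Lib.Helper13.Glauberman
import Cfsg.Agent.S0857
import Cfsg.Agent.S4798
import Cfsg.Agent.S0868
import Cfsg.Agent.Lib.Helper26.TIInd

set_option autoImplicit false

/-!
# Going up over an abelian quotient under a coprime action

`N ⊴ G` subgroups of `Γ` with `G/N` abelian, `S` normalizing both with `|S|` coprime to `|G:N|`: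
every `S`-invariant irreducible character of `N` lies under an `S`-invariant irreducible character
of `G`.
-/

namespace Cfsg.Agent.Lib.Helper4

open Cfsg Cfsg.Agent.Lib.Helper26 Cfsg.Agent.Lib.Helper7
open scoped ComplexConjugate

section Dual''

variable {A : Type*} [Group A] [Finite A]

theorem sum_monoidHom_apply' (hcomm : ∀ a b : A, a * b = b * a) [Fintype (A →* ℂˣ)]
    [DecidableEq A] (x : A) :
    ∑ lam : A →* ℂˣ, ((lam x : ℂˣ) : ℂ) = if x = 1 then (Nat.card A : ℂ) else 0 := by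
  let _ : CommGroup A := { (inferInstance : Group A) with mul_comm := hcomm }
  exact sum_monoidHom_apply x

/-- the order of the dual group is coprime to anything coprime to the group order -/
theorem card_monoidHom_coprime (hcomm : ∀ a b : A, a * b = b * a) (m : ℕ)
    (hm : (Nat.card A).Coprime m) : (Nat.card (A →* ℂˣ)).Coprime m := by
  have hfin : Finite (A →* ℂˣ) := finite_monoidHom_units' hcomm
  by_contra hcon
  obtain ⟨q, hq, hq1, hq2⟩ := Nat.Prime.not_coprime_iff_dvd.mp hcon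
  have : Fact q.Prime := ⟨hq⟩
  obtain ⟨lam, hlam⟩ := exists_prime_orderOf_dvd_card' q hq1
  have h1 : lam ^ Nat.card A = 1 := by
    ext x
    rw [MonoidHom.pow_apply, ← map_pow, pow_card_eq_one', map_one, MonoidHom.one_apply]
  have h2 : q ∣ Nat.card A := hlam ▸ orderOf_dvd_of_pow_eq_one h1
  have h3 := Nat.dvd_gcd h2 hq2
  rw [hm] at h3
  exact hq.one_lt.ne' (Nat.dvd_one.mp h3)

end Dual''

section Twist

variable {K : Type*} [Group K] [Fintype K] {Q : Type*} [Group Q]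

/-- the dual group of a quotient acts on the irreducible characters by multiplication -/
@[reducible] noncomputable def twistAction (π : K →* Q) :
    MulAction (Q →* ℂˣ) (IrrCharacter K) where
  smul lam χ := ⟨fun g => ((lam (π g) : ℂˣ) : ℂ) * (χ : K → ℂ) g,
    Cfsg.Agent.S0857.isIrr_twist (lam.comp π) _ χ.2⟩
  one_smul χ := by
    apply Subtype.ext
    funext g
    show (((1 : Q →* ℂˣ) (π g) : ℂˣ) : ℂ) * (χ : K → ℂ) g = (χ : K → ℂ) g
    simp
  mul_smul a b χ := by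
    apply Subtype.ext
    funext g
    show (((a * b) (π g) : ℂˣ) : ℂ) * (χ : K → ℂ) g =
      ((a (π g) : ℂˣ) : ℂ) * (((b (π g) : ℂˣ) : ℂ) * (χ : K → ℂ) g)
    rw [MonoidHom.mul_apply, Units.val_mul, mul_assoc]

theorem twistAction_apply (π : K →* Q) (lam : Q →* ℂˣ) (χ : IrrCharacter K) (g : K) :
    letI := twistAction π
    ((lam • χ : IrrCharacter K) : K → ℂ) g = ((lam (π g) : ℂˣ) : ℂ) * (χ : K → ℂ) g := rfl

end Twist

section Common

variable {H : Type*} [Group H] [Fintype H]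

/-- two characters with a common irreducible constituent are not orthogonal -/
theorem classInner_ne_zero_of_common (X Y : H → ℂ) (hX : IsCharacter H X) (hY : IsCharacter H Y)
    (μ : IrrCharacter H) (h1 : classInner X (μ : H → ℂ) ≠ 0)
    (h2 : classInner Y (μ : H → ℂ) ≠ 0) : classInner X Y ≠ 0 := by
  classical
  have : Fintype (IrrCharacter H) := Fintype.ofFinite _
  obtain ⟨c, hc, _⟩ := Cfsg.Agent.S4798.char_decomp X hX
  obtain ⟨d, hd, hYd⟩ := Cfsg.Agent.S4798.char_decomp Y hY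
  have hY' : Y = ∑ ν : IrrCharacter H, (d ν : ℂ) • (ν : H → ℂ) := by
    funext h
    rw [hYd h, Finset.sum_apply]
    rfl
  rw [hY', classInner_sum_right]
  simp only [classInner_smul_right, hc, Complex.conj_natCast]
  have h3 : (∑ ν : IrrCharacter H, (d ν : ℂ) * (c ν : ℂ)) =
      ((∑ ν : IrrCharacter H, d ν * c ν : ℕ) : ℂ) := by
    push_cast
    rfl
  rw [h3]
  have hpos : 0 < ∑ ν : IrrCharacter H, d ν * c ν := by
    apply Finset.sum_pos' (fun _ _ => Nat.zero_le _) ⟨μ, Finset.mem_univ _, ?_⟩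
    apply Nat.mul_pos
    · apply Nat.pos_of_ne_zero
      intro h0
      apply h2
      rw [hd, h0, Nat.cast_zero]
    · apply Nat.pos_of_ne_zero
      intro h0
      apply h1
      rw [hc, h0, Nat.cast_zero]
  exact_mod_cast hpos.ne'

end Common

section Dual3

variable {K : Type*} [Group K] [Fintype K] (N : Subgroup K) [hN : N.Normal] [Fintype N]

theorem sum_twist_inner' (hcomm : ∀ a b : K ⧸ N, a * b = b * a) [Fintype ((K ⧸ N) →* ℂˣ)]
    (ϑ ϑ' : K → ℂ) :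
    ∑ lam : (K ⧸ N) →* ℂˣ,
        classInner (fun k => ((lam (QuotientGroup.mk k) : ℂˣ) : ℂ) * ϑ k) ϑ' =
      classInner (fun n : N => ϑ n) (fun n : N => ϑ' n) := by
  classical
  unfold classInner
  rw [← Finset.mul_sum, Finset.sum_comm]
  have h1 : ∀ k : K, ∑ lam : (K ⧸ N) →* ℂˣ,
      ((lam (QuotientGroup.mk k) : ℂˣ) : ℂ) * ϑ k * conj (ϑ' k) =
      if k ∈ N then (N.index : ℂ) * (ϑ k * conj (ϑ' k)) else 0 := by
    intro k
    have : ∑ lam : (K ⧸ N) →* ℂˣ, ((lam (QuotientGroup.mk k) : ℂˣ) : ℂ) * ϑ k * conj (ϑ' k) =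
        (∑ lam : (K ⧸ N) →* ℂˣ, ((lam (QuotientGroup.mk k) : ℂˣ) : ℂ)) *
          (ϑ k * conj (ϑ' k)) := by
      rw [Finset.sum_mul]
      refine Finset.sum_congr rfl fun lam _ => by ring
    rw [this]
    split_ifs with hk
    · rw [Cfsg.Agent.S0857.sum_hom_quot_mem N hcomm hk]
    · rw [Cfsg.Agent.S0857.sum_hom_quot_not_mem N hcomm hk, zero_mul]
  simp only [h1]
  rw [← Cfsg.Agent.S0868.sum_subtype_eq_sum_ite N (fun k => (N.index : ℂ) * (ϑ k * conj (ϑ' k)))]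
  rw [← Finset.mul_sum, ← mul_assoc]
  congr 1
  have hN0 : (Nat.card N : ℂ) ≠ 0 := Nat.cast_ne_zero.mpr Nat.card_pos.ne'
  have hi0 : (N.index : ℂ) ≠ 0 := Nat.cast_ne_zero.mpr N.index_ne_zero_of_finite
  have hK : (Nat.card K : ℂ) = (N.index : ℂ) * (Nat.card N : ℂ) := by
    rw [← N.index_mul_card]; push_cast; ring
  rw [hK]; field_simp

/-- over an abelian quotient, two irreducible characters whose restrictions are not orthogonal
differ by a linear character of the quotient -/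
theorem exists_twist_eq (hcomm : ∀ a b : K ⧸ N, a * b = b * a)
    (ϑ ϑ' : K → ℂ) (hϑ : IsIrrCharacter K ϑ) (hϑ' : IsIrrCharacter K ϑ')
    (h : classInner (fun n : N => ϑ n) (fun n : N => ϑ' n) ≠ 0) :
    ∃ lam : (K ⧸ N) →* ℂˣ, ∀ k : K, ((lam (QuotientGroup.mk k) : ℂˣ) : ℂ) * ϑ k = ϑ' k := by
  classical
  have : Finite ((K ⧸ N) →* ℂˣ) := finite_monoidHom_units' hcomm
  have : Fintype ((K ⧸ N) →* ℂˣ) := Fintype.ofFinite _
  by_contra hcon
  push Not at hcon
  apply h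
  rw [← sum_twist_inner' N hcomm ϑ ϑ']
  apply Finset.sum_eq_zero
  intro lam _
  have hirr : IsIrrCharacter K (fun k => ((lam (QuotientGroup.mk k) : ℂˣ) : ℂ) * ϑ k) :=
    Cfsg.Agent.S0857.isIrr_twist (lam.comp (QuotientGroup.mk' N)) ϑ hϑ
  have := Cfsg.Agent.Lib.Helper26.classInner_irr hirr hϑ'
  rw [if_neg] at this
  · exact this
  · intro heq
    obtain ⟨k, hk⟩ := hcon lam
    exact hk (congrFun heq k)

end Dual3

section AB

variable {Γ : Type*} [Group Γ] (G S N : Subgroup Γ) [Fintype G] [Fintype N]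

theorem le_normalizer_of_conj_mem (S G : Subgroup Γ)
    (hnorm : ∀ s ∈ S, ∀ g ∈ G, s * g * s⁻¹ ∈ G) : S ≤ Subgroup.normalizer (G : Set Γ) := by
  intro s hs
  rw [Subgroup.mem_normalizer_iff]
  intro n
  constructor
  · intro hn
    exact hnorm s hs n hn
  · intro hn
    have h1 := hnorm s⁻¹ (S.inv_mem hs) _ hn
    have h2 : s⁻¹ * (s * n * s⁻¹) * s⁻¹⁻¹ = n := by group
    rwa [h2] at h1

/-- going up over an abelian quotient: an `S`-invariant irreducible character of `N` lies under an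
`S`-invariant irreducible character of `G` when `G/N` is abelian of order coprime to `|S|` -/
theorem exists_invariant_above_of_abelian
    (hnorm : ∀ s ∈ S, ∀ g ∈ G, s * g * s⁻¹ ∈ G) (hNG : N ≤ G) [hNn : (N.subgroupOf G).Normal]
    (hNS : ∀ s ∈ S, ∀ n ∈ N, s * n * s⁻¹ ∈ N) (hcop : (N.relIndex G).Coprime (Nat.card S))
    (hab : ∀ a b : ↥G, a * b * a⁻¹ * b⁻¹ ∈ N.subgroupOf G)
    (θ : IrrCharacter N)
    (hinv : ∀ s ∈ S, ∀ g g' : N, (g' : Γ) = s * g * s⁻¹ → (θ : N → ℂ) g' = (θ : N → ℂ) g) :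
    ∃ χ : IrrCharacter G, classInner (fun n : N => (χ : G → ℂ) ⟨n, hNG n.2⟩) (θ : N → ℂ) ≠ 0 ∧
      ∀ s ∈ S, ∀ g g' : G, (g' : Γ) = s * g * s⁻¹ → (χ : G → ℂ) g' = (χ : G → ℂ) g := by
  classical
  have hfinN' : Fintype (N.subgroupOf G) := Fintype.ofFinite _
  have hSG : S ≤ Subgroup.normalizer (G : Set Γ) := le_normalizer_of_conj_mem S G hnorm
  have hSN : S ≤ Subgroup.normalizer (N : Set Γ) := le_normalizer_of_conj_mem S N hNS
  have hcommQ : ∀ a b : ↥G ⧸ N.subgroupOf G, a * b = b * a := by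
    intro a b
    induction a using QuotientGroup.induction_on with
    | H x =>
      induction b using QuotientGroup.induction_on with
      | H y =>
        rw [← QuotientGroup.mk_mul, ← QuotientGroup.mk_mul, QuotientGroup.eq]
        have h1 := hab y⁻¹ x⁻¹
        have h2 : (x * y)⁻¹ * (y * x) = y⁻¹ * x⁻¹ * y⁻¹⁻¹ * x⁻¹⁻¹ := by group
        rw [h2]
        exact h1
  have hfinΛ : Finite ((↥G ⧸ N.subgroupOf G) →* ℂˣ) := finite_monoidHom_units' hcommQ
  let π : ↥G →* ↥G ⧸ N.subgroupOf G := QuotientGroup.mk' _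
  letI actΛ := twistAction π
  letI actN := normalizerIrrAction G
  let ψΛ : ((↥G ⧸ N.subgroupOf G) →* ℂˣ) →* Equiv.Perm (IrrCharacter G) :=
    MulAction.toPermHom _ _
  let φ : ↥(Subgroup.normalizer (G : Set Γ)) →* Equiv.Perm (IrrCharacter G) :=
    MulAction.toPermHom _ _
  let ψS : ↥S →* Equiv.Perm (IrrCharacter G) := φ.comp (Subgroup.inclusion hSG)
  have hψΛ : ∀ (lam : (↥G ⧸ N.subgroupOf G) →* ℂˣ) (χ : IrrCharacter G) (g : G),
      ((ψΛ lam χ : IrrCharacter G) : G → ℂ) g = ((lam (π g) : ℂˣ) : ℂ) * (χ : G → ℂ) g :=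
    fun lam χ g => rfl
  have hψS : ∀ (s : ↥S) (χ : IrrCharacter G),
      ψS s χ = (⟨(s : Γ), hSG s.2⟩ : ↥(Subgroup.normalizer (G : Set Γ))) • χ := fun s χ => rfl
  -- conjugating a twist
  have hconj : ∀ (s : ↥S) (lam : (↥G ⧸ N.subgroupOf G) →* ℂˣ),
      ∃ lam' : (↥G ⧸ N.subgroupOf G) →* ℂˣ, ψS s * ψΛ lam * (ψS s)⁻¹ = ψΛ lam' := by
    intro s lam
    have hle : N.subgroupOf G ≤ (N.subgroupOf G).comap
        ((conjNorm G ⟨(s : Γ), hSG s.2⟩).symm.toMonoidHom) := by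
      intro x hx
      rw [Subgroup.mem_comap, Subgroup.mem_subgroupOf]
      have h1 := hNS (s : Γ)⁻¹ (S.inv_mem s.2) x (Subgroup.mem_subgroupOf.mp hx)
      rw [inv_inv] at h1
      exact h1
    refine ⟨lam.comp (QuotientGroup.map (N.subgroupOf G) (N.subgroupOf G)
      ((conjNorm G ⟨(s : Γ), hSG s.2⟩).symm.toMonoidHom) hle), ?_⟩
    rw [mul_inv_eq_iff_eq_mul]
    ext χ : 1
    rw [Equiv.Perm.mul_apply, Equiv.Perm.mul_apply]
    apply Subtype.ext
    funext g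
    rw [hψΛ, hψS, hψS, normalizerIrrAction_apply, normalizerIrrAction_apply, hψΛ]
    rfl
  have hAK : ψS.range ≤
      Subgroup.normalizer (ψΛ.range : Set (Equiv.Perm (IrrCharacter G))) := by
    rintro a ⟨s, rfl⟩
    rw [Subgroup.mem_normalizer_iff]
    intro k
    constructor
    · rintro ⟨lam, rfl⟩
      obtain ⟨lam', h⟩ := hconj s lam
      rw [h]
      exact ⟨_, rfl⟩
    · intro hk
      obtain ⟨lam, hlam⟩ := hk
      have h1 : k = ψS s⁻¹ * ψΛ lam * (ψS s⁻¹)⁻¹ := by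
        rw [hlam, map_inv]
        group
      obtain ⟨lam', h⟩ := hconj s⁻¹ lam
      rw [h1, h]
      exact ⟨_, rfl⟩
  have hcopAK : (Nat.card ψS.range).Coprime (Nat.card ψΛ.range) := by
    have h1 : Nat.card ψS.range ∣ Nat.card S := Subgroup.card_range_dvd ψS
    have h2 : Nat.card ψΛ.range ∣ Nat.card ((↥G ⧸ N.subgroupOf G) →* ℂˣ) :=
      Subgroup.card_range_dvd ψΛ
    have h3 : (Nat.card ((↥G ⧸ N.subgroupOf G) →* ℂˣ)).Coprime (Nat.card S) :=
      card_monoidHom_coprime hcommQ _ hcop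
    exact (Nat.Coprime.coprime_dvd_left h2 (Nat.Coprime.coprime_dvd_right h1 h3)).symm
  have hsolvK : Group.IsSolvable ψΛ.range := by
    apply Group.isSolvable_of_comm
    rintro ⟨a, x, rfl⟩ ⟨b, y, rfl⟩
    apply Subtype.ext
    show ψΛ x * ψΛ y = ψΛ y * ψΛ x
    rw [← map_mul, ← map_mul, mul_comm x y]
  -- the set of characters over θ
  let SΩ : Set (IrrCharacter G) :=
    {χ | classInner (fun n : N => (χ : G → ℂ) ⟨n, hNG n.2⟩) (θ : N → ℂ) ≠ 0}
  let e : (N.subgroupOf G) ≃* N := Subgroup.subgroupOfEquivOfLe hNG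
  have hSne : SΩ.Nonempty := by
    have hθ' : IsIrrCharacter (N.subgroupOf G) ((θ : N → ℂ) ∘ e) :=
      Cfsg.Agent.Lib.Helper2.isIrrCharacter_comp_mulEquiv θ.2 e
    have hX : IsCharacter G (indFun (N.subgroupOf G) ((θ : N → ℂ) ∘ e)) :=
      isCharacter_indFun _ (isCharacter_of_isIrrCharacter hθ')
    have hX1 : indFun (N.subgroupOf G) ((θ : N → ℂ) ∘ e) 1 ≠ 0 := by
      rw [indFun_one]
      obtain ⟨d, hd0, hd⟩ := irr_degree hθ'
      rw [hd]
      have h1 : (Nat.card (N.subgroupOf G) : ℂ) ≠ 0 := Nat.cast_ne_zero.mpr Nat.card_pos.ne'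
      have h2 : (Fintype.card G : ℂ) ≠ 0 := Nat.cast_ne_zero.mpr Fintype.card_pos.ne'
      have h3 : (d : ℂ) ≠ 0 := Nat.cast_ne_zero.mpr hd0.ne'
      exact mul_ne_zero (inv_ne_zero h1) (mul_ne_zero h2 h3)
    obtain ⟨χ, hχ⟩ := exists_constituent hX hX1
    refine ⟨χ, ?_⟩
    show classInner (fun n : N => (χ : G → ℂ) ⟨n, hNG n.2⟩) (θ : N → ℂ) ≠ 0
    rw [classInner_indFun_left' _ _ _ (Cfsg.Agent.Lib.Helper26.isClassFunction_of_isIrrCharacter χ.2),
      ← classInner_conj_symm, classInner_restrict_subgroupOf G N hNG] at hχ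
    intro h0
    apply hχ
    rw [h0, map_zero]
  have hK : ∀ k ∈ ψΛ.range, ∀ x ∈ SΩ, k • x ∈ SΩ := by
    rintro k ⟨lam, rfl⟩ x hx
    show classInner (fun n : N => ((ψΛ lam x : IrrCharacter G) : G → ℂ) ⟨n, hNG n.2⟩)
      (θ : N → ℂ) ≠ 0
    have h1 : (fun n : N => ((ψΛ lam x : IrrCharacter G) : G → ℂ) ⟨n, hNG n.2⟩) =
        (fun n : N => (x : G → ℂ) ⟨n, hNG n.2⟩) := by
      funext n
      rw [hψΛ]
      have h2 : π ⟨n, hNG n.2⟩ = 1 :=
        (QuotientGroup.eq_one_iff _).mpr (Subgroup.mem_subgroupOf.mpr n.2)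
      rw [h2, map_one, Units.val_one, one_mul]
    rw [h1]
    exact hx
  have hA : ∀ a ∈ ψS.range, ∀ x ∈ SΩ, a • x ∈ SΩ := by
    rintro a ⟨s, rfl⟩ x hx
    show classInner (fun n : N => ((ψS s x : IrrCharacter G) : G → ℂ) ⟨n, hNG n.2⟩)
      (θ : N → ℂ) ≠ 0
    have h1 : classInner (fun n : N => ((ψS s x : IrrCharacter G) : G → ℂ) ⟨n, hNG n.2⟩)
        (θ : N → ℂ) = classInner (fun n : N => (x : G → ℂ) ⟨n, hNG n.2⟩) (θ : N → ℂ) := by
      unfold classInner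
      congr 1
      refine Fintype.sum_equiv (conjNorm N ⟨(s : Γ), hSN s.2⟩).symm.toEquiv _ _ (fun n => ?_)
      have h2 : (θ : N → ℂ) n = (θ : N → ℂ) ((conjNorm N ⟨(s : Γ), hSN s.2⟩).symm n) := by
        apply hinv s s.2
        rw [conjNorm_symm_apply]
        show (n : Γ) = (s : Γ) * ((s : Γ)⁻¹ * n * (s : Γ)) * (s : Γ)⁻¹
        group
      show ((ψS s x : IrrCharacter G) : G → ℂ) ⟨n, hNG n.2⟩ * conj ((θ : N → ℂ) n) =
        (x : G → ℂ) ⟨((conjNorm N ⟨(s : Γ), hSN s.2⟩).symm n : N), _⟩ *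
        conj ((θ : N → ℂ) ((conjNorm N ⟨(s : Γ), hSN s.2⟩).symm n))
      rw [← h2, hψS, normalizerIrrAction_apply]
      rfl
    rw [h1]
    exact hx
  have htrans : ∀ x ∈ SΩ, ∀ y ∈ SΩ, ∃ k ∈ ψΛ.range, k • x = y := by
    intro x hx y hy
    have hxN : IsCharacter N (fun n : N => (x : G → ℂ) ⟨n, hNG n.2⟩) :=
      Cfsg.Agent.Lib.Helper2.isCharacter_comp_hom (isCharacter_of_isIrrCharacter x.2)
        (Subgroup.inclusion hNG)
    have hyN : IsCharacter N (fun n : N => (y : G → ℂ) ⟨n, hNG n.2⟩) :=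
      Cfsg.Agent.Lib.Helper2.isCharacter_comp_hom (isCharacter_of_isIrrCharacter y.2)
        (Subgroup.inclusion hNG)
    have h1 := classInner_ne_zero_of_common _ _ hxN hyN θ hx hy
    rw [← classInner_restrict_subgroupOf G N hNG] at h1
    obtain ⟨lam, hlam⟩ := exists_twist_eq (N.subgroupOf G) hcommQ (x : G → ℂ) (y : G → ℂ)
      x.2 y.2 h1
    refine ⟨ψΛ lam, ⟨_, rfl⟩, ?_⟩
    apply Subtype.ext
    funext g
    show ((ψΛ lam x : IrrCharacter G) : G → ℂ) g = (y : G → ℂ) g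
    rw [hψΛ]
    exact hlam g
  obtain ⟨χ, hχ, hfix⟩ := Cfsg.Agent.Lib.Helper13.glauberman_exists ψS.range ψΛ.range hAK hcopAK
    (Or.inr hsolvK) SΩ hSne htrans hK hA
  refine ⟨χ, hχ, ?_⟩
  intro s hs
  have h1 := hfix (ψS ⟨s, hs⟩) ⟨_, rfl⟩
  have h2 : (⟨s, hSG hs⟩ : ↥(Subgroup.normalizer (G : Set Γ))) • χ = χ := h1
  rw [normalizerIrrAction_eq_iff] at h2
  exact h2

end AB

section Trans

variable {Γ : Type*} [Group Γ] (G M N : Subgroup Γ) [Fintype G] [Fintype M] [Fintype N]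

/-- lying over is transitive -/
theorem classInner_restrict_ne_zero_trans (hNM : N ≤ M) (hMG : M ≤ G) (χ : ↥G → ℂ)
    (hχ : IsCharacter G χ) (φ : IrrCharacter M) (θ : ↥N → ℂ) (hθ : IsCharacter N θ)
    (h1 : classInner (fun m : M => χ ⟨m, hMG m.2⟩) (φ : M → ℂ) ≠ 0)
    (h2 : classInner (fun n : N => (φ : M → ℂ) ⟨n, hNM n.2⟩) θ ≠ 0) :
    classInner (fun n : N => χ ⟨n, hMG (hNM n.2)⟩) θ ≠ 0 := by
  classical
  have : Fintype (IrrCharacter M) := Fintype.ofFinite _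
  have hχM : IsCharacter M (fun m : M => χ ⟨m, hMG m.2⟩) :=
    Cfsg.Agent.Lib.Helper2.isCharacter_comp_hom hχ (Subgroup.inclusion hMG)
  obtain ⟨c, hc, hdec⟩ := Cfsg.Agent.S4798.char_decomp _ hχM
  have hfun : (fun n : N => χ ⟨n, hMG (hNM n.2)⟩) =
      ∑ ν : IrrCharacter M, (c ν : ℂ) • (fun n : N => (ν : M → ℂ) ⟨n, hNM n.2⟩) := by
    funext n
    have := hdec ⟨n, hNM n.2⟩
    rw [Finset.sum_apply]
    exact this
  rw [hfun, classInner_sum_left]
  simp only [classInner_smul_left]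
  choose d hd using fun ν : IrrCharacter M => classInner_isCharacter_nat
    (Cfsg.Agent.Lib.Helper2.isCharacter_comp_hom (isCharacter_of_isIrrCharacter ν.2)
      (Subgroup.inclusion hNM)) hθ
  have hd' : ∀ ν : IrrCharacter M,
      classInner (fun n : N => (ν : M → ℂ) ⟨n, hNM n.2⟩) θ = d ν := hd
  simp only [hd']
  have h3 : (∑ ν : IrrCharacter M, (c ν : ℂ) * (d ν : ℂ)) =
      ((∑ ν : IrrCharacter M, c ν * d ν : ℕ) : ℂ) := by
    push_cast
    rfl
  rw [h3]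
  have hpos : 0 < ∑ ν : IrrCharacter M, c ν * d ν := by
    apply Finset.sum_pos' (fun _ _ => Nat.zero_le _) ⟨φ, Finset.mem_univ _, ?_⟩
    apply Nat.mul_pos
    · apply Nat.pos_of_ne_zero
      intro h0
      apply h1
      rw [hc, h0, Nat.cast_zero]
    · apply Nat.pos_of_ne_zero
      intro h0
      apply h2
      rw [hd', h0, Nat.cast_zero]
  exact_mod_cast hpos.ne'

end Trans

section Derived

variable {K : Type*} [Group K]

/-- commutators of `N ⊔ K⁽ⁿ⁾` lie in `N` when `K⁽ⁿ⁺¹⁾ ≤ N` -/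
theorem comm_mem_of_derived (N' : Subgroup K) [N'.Normal] (n : ℕ)
    (hder : derivedSeries K (n + 1) ≤ N') (a b : K) (ha : a ∈ N' ⊔ derivedSeries K n)
    (hb : b ∈ N' ⊔ derivedSeries K n) : a * b * a⁻¹ * b⁻¹ ∈ N' := by
  have ha' : a ∈ ((N' ⊔ derivedSeries K n : Subgroup K) : Set K) := ha
  have hb' : b ∈ ((N' ⊔ derivedSeries K n : Subgroup K) : Set K) := hb
  rw [Subgroup.normal_mul] at ha' hb'
  obtain ⟨n₁, hn₁, d₁, hd₁, rfl⟩ := Set.mem_mul.mp ha'
  obtain ⟨n₂, hn₂, d₂, hd₂, rfl⟩ := Set.mem_mul.mp hb'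
  rw [← QuotientGroup.eq_one_iff]
  have h1 : ((n₁ : K) : K ⧸ N') = 1 := (QuotientGroup.eq_one_iff _).mpr hn₁
  have h2 : ((n₂ : K) : K ⧸ N') = 1 := (QuotientGroup.eq_one_iff _).mpr hn₂
  have h3 : d₁ * d₂ * d₁⁻¹ * d₂⁻¹ ∈ N' := by
    apply hder
    rw [derivedSeries_succ, ← commutatorElement_def]
    exact Subgroup.commutator_mem_commutator hd₁ hd₂
  have h4 : ((d₁ * d₂ * d₁⁻¹ * d₂⁻¹ : K) : K ⧸ N') = 1 := (QuotientGroup.eq_one_iff _).mpr h3
  simp only [QuotientGroup.mk_mul, QuotientGroup.mk_inv, h1, h2, one_mul] at h4 ⊢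
  exact h4

end Derived

end Cfsg.Agent.Lib.Helper4
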