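import Mathlib
import Cfsg.Agent.Lib.Helper4.BrauerRes
import Cfsg.Agent.Lib.Helper4.BrauerSylow
import Cfsg.Agent.Lib.Helper4.BrauerDefect
import Cfsg.Agent.S0908

set_option autoImplicit false

/-!
# Sylow's theorem for the normal superpairs of a Brauer pair (helper4)

The Brauer pairs `(R, h)` with `(Q, f) ⊴ (R, h)` are the Brauer pairs, containing `Q`, of the block
of `T = N_G(Q, f)` with the idempotent of `f`; the maximal ones are conjugate under `T`.
-/

namespace Cfsg.Agent.Lib.Helper4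

open Cfsg Cfsg.Agent.Lib.Helper28
open scoped ComplexConjugate Classical

section

variable {G : Type*} [Group G] [Fintype G] {M : Ideal AlgInt}

/-- `(R, h)` is maximal among the normal superpairs of `(Q, f)` -/
def IsRelMaximal (p : ℕ) (M : Ideal AlgInt) (Q : Subgroup G)
    (f : Set (IrrCharacter (Subgroup.centralizer (Q : Set G)))) (R : Subgroup G)
    (h : Set (IrrCharacter (Subgroup.centralizer (R : Set G)))) : Prop :=
  IsNormalSubpair p M Q f R h ∧
    ∀ (R' : Subgroup G) (h' : Set (IrrCharacter (Subgroup.centralizer (R' : Set G)))),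
      IsNormalSubpair p M Q f R' h' → SubpairLE p M R h R' h' → R' = R

theorem isMaximalBrauerPair_resPair {p : ℕ} [Fact p.Prime] {Q T : Subgroup G}
    {f : Set (IrrCharacter (Subgroup.centralizer (Q : Set G)))}
    (hT : ∀ y : G, y ∈ T ↔ y ∈ Subgroup.normalizer (Q : Set G) ∧
      StabilizesBlock (Subgroup.centralizer (Q : Set G)) f y)
    {F : Set (IrrCharacter T)} (hF : IsPBlock M F)
    (hFf : ∀ t : T, blockCoeff F t =
      subgroupBlockCoeff (Subgroup.centralizer (Q : Set G)) f (t : G))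
    {R : Subgroup G} {h : Set (IrrCharacter (Subgroup.centralizer (R : Set G)))}
    (hm : IsRelMaximal p M Q f R h) (hRT : R ≤ T)
    (hC : Subgroup.centralizer (R : Set G) ≤ T) :
    IsMaximalBrauerPair p M F (R.subgroupOf T) (cutBlock T hRT hC h) := by
  have hCT : Subgroup.centralizer (Q : Set G) ≤ T := fun u hu =>
    (hT u).mpr ⟨centralizer_le_normalizer' Q hu, stabilizesBlock_of_mem_centralizer Q f hu⟩
  refine ⟨isBrauerPairOf_resPair hCT hF hFf hm.1 hRT hC, ?_⟩
  intro S s hSs hle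
  have hle0 : Relation.ReflTransGen (NormalSubpairRel p M) (resPair T hRT hC h)
      (⟨S, s⟩ : BrauerPairIdx T) := hle
  have hRS : R.subgroupOf T ≤ S := subpairLE_le hle0
  have hQS : Q.subgroupOf T ≤ S := by
    intro q hq
    apply hRS
    rw [Subgroup.mem_subgroupOf] at hq ⊢
    exact hm.1.2.2.1 hq
  have hn' := isNormalSubpair_indPair_of_isBrauerPairOf hm.1.1 hT hFf
    (b := (⟨S, s⟩ : BrauerPairIdx T)) hSs hQS
  have h1 : (R.subgroupOf T).map T.subtype = R := Subgroup.map_subgroupOf_eq_of_le hRT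
  have hCa : Subgroup.centralizer
      ((((resPair T hRT hC h).1).map T.subtype : Subgroup G) : Set G) ≤ T := by
    show Subgroup.centralizer (((R.subgroupOf T).map T.subtype : Subgroup G) : Set G) ≤ T
    rw [h1]
    exact hC
  have hle' := subpairLE_indPair (M := M) (p := p) hCa hle0
  rw [indPair_resPair] at hle'
  have h2 : S.map T.subtype = R := hm.2 _ _ hn' hle'
  rw [← h2]
  show S = (S.map T.subtype).comap T.subtype
  rw [Subgroup.comap_map_eq_self_of_injective (Subgroup.subtype_injective T)]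

/-- **Sylow's theorem for normal superpairs** -/
theorem relative_sylow {p : ℕ} [Fact p.Prime] (hM : IsPModular p M) {Q T : Subgroup G}
    {f : Set (IrrCharacter (Subgroup.centralizer (Q : Set G)))}
    (hT : ∀ y : G, y ∈ T ↔ y ∈ Subgroup.normalizer (Q : Set G) ∧
      StabilizesBlock (Subgroup.centralizer (Q : Set G)) f y)
    {F : Set (IrrCharacter T)} (hF : IsPBlock M F)
    (hFf : ∀ t : T, blockCoeff F t =
      subgroupBlockCoeff (Subgroup.centralizer (Q : Set G)) f (t : G))
    {R₁ R₂ : Subgroup G} {h₁ : Set (IrrCharacter (Subgroup.centralizer (R₁ : Set G)))}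
    {h₂ : Set (IrrCharacter (Subgroup.centralizer (R₂ : Set G)))}
    (hm₁ : IsRelMaximal p M Q f R₁ h₁) (hm₂ : IsRelMaximal p M Q f R₂ h₂) :
    IsDefectGroup p M F (R₁.subgroupOf T) ∧
      ∃ t ∈ T, conjPair t (⟨R₁, h₁⟩ : BrauerPairIdx G) = ⟨R₂, h₂⟩ := by
  have hMprime : M.IsPrime := hM.2.1.isPrime
  have hCT : Subgroup.centralizer (Q : Set G) ≤ T := fun u hu =>
    (hT u).mpr ⟨centralizer_le_normalizer' Q hu, stabilizesBlock_of_mem_centralizer Q f hu⟩
  have hRT : ∀ {R : Subgroup G} {h : Set (IrrCharacter (Subgroup.centralizer (R : Set G)))},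
      IsNormalSubpair p M Q f R h → R ≤ T := by
    intro R h hn u hu
    exact (hT u).mpr ⟨hn.2.2.2.1 hu, hn.2.2.2.2.1 u hu⟩
  have hCR : ∀ {R : Subgroup G} {h : Set (IrrCharacter (Subgroup.centralizer (R : Set G)))},
      IsNormalSubpair p M Q f R h → Subgroup.centralizer (R : Set G) ≤ T := by
    intro R h hn
    exact (Subgroup.centralizer_le (by exact_mod_cast hn.2.2.1)).trans hCT
  have hmax₁ := isMaximalBrauerPair_resPair hT hF hFf hm₁ (hRT hm₁.1) (hCR hm₁.1)
  have hmax₂ := isMaximalBrauerPair_resPair hT hF hFf hm₂ (hRT hm₂.1) (hCR hm₂.1)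
  have hd₁ := isDefectGroup_of_maximal hM hmax₁
  have hd₂ := isDefectGroup_of_maximal hM hmax₂
  refine ⟨hd₁, ?_⟩
  obtain ⟨t, ht⟩ := exists_conj_subpairLE hM hmax₂ hmax₁.1
  have ht0 : Relation.ReflTransGen (NormalSubpairRel p M)
      (conjPair t (resPair T (hRT hm₁.1) (hCR hm₁.1) h₁))
      (resPair T (hRT hm₂.1) (hCR hm₂.1) h₂) := ht
  have hle : (R₁.subgroupOf T).map (MulAut.conj t).toMonoidHom ≤ R₂.subgroupOf T :=
    subpairLE_le ht0
  have hc1 := Cfsg.Agent.S0908.result p M hM F hF _ hd₁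
  have hc2 := Cfsg.Agent.S0908.result p M hM F hF _ hd₂
  have hcard : Nat.card (R₂.subgroupOf T) ≤
      Nat.card ((R₁.subgroupOf T).map (MulAut.conj t).toMonoidHom : Subgroup T) := by
    rw [hc2, ← hc1]
    exact le_of_eq (Nat.card_congr
      ((R₁.subgroupOf T).equivMapOfInjective (MulAut.conj t).toMonoidHom
        (MulAut.conj t).injective).toEquiv)
  have heq1 : (R₁.subgroupOf T).map (MulAut.conj t).toMonoidHom = R₂.subgroupOf T :=
    Subgroup.eq_of_le_of_card_ge hle hcard
  have heq : conjPair t (resPair T (hRT hm₁.1) (hCR hm₁.1) h₁) =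
      resPair T (hRT hm₂.1) (hCR hm₂.1) h₂ := eq_of_subpairLE_of_eq ht0 heq1
  refine ⟨(t : G), t.2, ?_⟩
  have h3 := congrArg (indPair T) heq
  have hCa : Subgroup.centralizer
      ((((resPair T (hRT hm₁.1) (hCR hm₁.1) h₁).1).map T.subtype : Subgroup G) : Set G) ≤ T := by
    show Subgroup.centralizer (((R₁.subgroupOf T).map T.subtype : Subgroup G) : Set G) ≤ T
    rw [Subgroup.map_subgroupOf_eq_of_le (hRT hm₁.1)]
    exact hCR hm₁.1
  rw [indPair_conjPair t _ hCa, indPair_resPair, indPair_resPair] at h3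
  exact h3

end

end Cfsg.Agent.Lib.Helper4
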