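import Mathlib
import Cfsg.Agent.Lib.Helper4.BrauerRelSylow
import Cfsg.Agent.Lib.Helper4.BrauerChain
import Cfsg.Agent.Lib.Helper4.BrauerAbelNil

set_option autoImplicit false

/-!
# Fusion in nilpotent blocks (helper4)

For a nilpotent block the maximal Brauer pairs above a Brauer pair `(Q, f)` are conjugate under
`C_G(Q)`; hence the fusion system of the block on a maximal pair `(P, e)` is the inner one.
-/

namespace Cfsg.Agent.Lib.Helper4

open Cfsg Cfsg.Agent.Lib.Helper28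
open scoped ComplexConjugate Classical

section

variable {G : Type*} [Group G] [Fintype G] {M : Ideal AlgInt}

theorem conjPair_one (a : BrauerPairIdx G) : conjPair 1 a = a := by
  obtain ⟨A, f⟩ := a
  show (⟨A.map (MulAut.conj (1 : G)).toMonoidHom, conjBlock A 1 f⟩ : BrauerPairIdx G) = ⟨A, f⟩
  apply brauerPairIdx_ext
  · ext g
    rw [mem_map_conj_iff]
    simp
  · intro ξa ξb hab
    rw [mem_conjBlock_iff]
    have key : irrEquiv (centConj A 1) ξa = ξb := by
      apply Subtype.ext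
      funext c
      rw [irrEquiv_apply]
      have hmem : ((centConj A 1 c : _) : G) ∈ Subgroup.centralizer (A : Set G) := by
        rw [centConj_apply]
        simp
      have h1 := hab _ (centConj A 1 c).2 hmem
      have e2 : (⟨((centConj A 1 c : _) : G), hmem⟩ : Subgroup.centralizer (A : Set G)) = c := by
        apply Subtype.ext
        rw [centConj_apply]
        simp
      rw [e2] at h1
      exact h1
    rw [key]

theorem conjPair_inv_conjPair (x : G) (a : BrauerPairIdx G) :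
    conjPair x⁻¹ (conjPair x a) = a := by
  rw [conjPair_mul, inv_mul_cancel, conjPair_one]

theorem conjPair_conjPair_inv (x : G) (a : BrauerPairIdx G) :
    conjPair x (conjPair x⁻¹ a) = a := by
  rw [conjPair_mul, mul_inv_cancel, conjPair_one]

/-- an element of `N_G(P, e)` fixes `(P, e)` -/
theorem conjPair_eq_self_of_stab [M.IsPrime] {P : Subgroup G}
    {e : Set (IrrCharacter (Subgroup.centralizer (P : Set G)))} (he : IsPBlock M e) {m : G}
    (hm : m ∈ Subgroup.normalizer (P : Set G))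
    (hst : StabilizesBlock (Subgroup.centralizer (P : Set G)) e m) :
    conjPair m (⟨P, e⟩ : BrauerPairIdx G) = ⟨P, e⟩ := by
  rw [conjPair_normalizer hm e, (image_conjIrr_eq_iff _ he m _).mpr hst]

/-- an element fixing `(P, e)` lies in `N_G(P, e)` -/
theorem stab_of_conjPair_eq_self [M.IsPrime] {P : Subgroup G}
    {e : Set (IrrCharacter (Subgroup.centralizer (P : Set G)))} (he : IsPBlock M e) {m : G}
    (h : conjPair m (⟨P, e⟩ : BrauerPairIdx G) = ⟨P, e⟩) :
    m ∈ Subgroup.normalizer (P : Set G) ∧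
      StabilizesBlock (Subgroup.centralizer (P : Set G)) e m := by
  have h1 : P.map (MulAut.conj m).toMonoidHom = P := congrArg Sigma.fst h
  have hm : m ∈ Subgroup.normalizer (P : Set G) := by
    rw [Subgroup.mem_normalizer_iff]
    intro g
    constructor
    · intro hg
      rw [← h1, mem_map_conj_iff]
      have e1 : m⁻¹ * (m * g * m⁻¹) * m = g := by group
      rw [e1]
      exact hg
    · intro hg
      rw [← h1, mem_map_conj_iff] at hg
      have e1 : m⁻¹ * (m * g * m⁻¹) * m = g := by group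
      rwa [e1] at hg
  refine ⟨hm, ?_⟩
  rw [conjPair_normalizer hm e] at h
  have h2 := eq_of_heq (Sigma.mk.inj h).2
  exact (image_conjIrr_eq_iff _ he m _).mp h2

/-- conjugates of maximal Brauer pairs are maximal -/
theorem isMaximalBrauerPair_conjPair {p : ℕ} {B : Set (IrrCharacter G)} {P : Subgroup G}
    {e : Set (IrrCharacter (Subgroup.centralizer (P : Set G)))}
    (hmax : IsMaximalBrauerPair p M B P e) (x : G) :
    IsMaximalBrauerPair p M B (P.map (MulAut.conj x).toMonoidHom) (conjBlock P x e) := by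
  refine ⟨isBrauerPairOf_conj hmax.1 x, ?_⟩
  intro R g hRg hle
  have hle0 : Relation.ReflTransGen (NormalSubpairRel p M)
      (conjPair x (⟨P, e⟩ : BrauerPairIdx G)) ⟨R, g⟩ := hle
  have h1 := subpairLE_conj hle0 x⁻¹
  rw [conjPair_inv_conjPair] at h1
  have h2 : R.map (MulAut.conj x⁻¹).toMonoidHom = P :=
    hmax.2 _ _ (isBrauerPairOf_conj hRg x⁻¹) h1
  ext g
  rw [mem_map_conj_iff, ← h2, mem_map_conj_iff, inv_inv]
  have e1 : x * (x⁻¹ * g * x) * x⁻¹ = g := by group
  rw [e1]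

/-- in a nilpotent block, `N_G(Q, f) = C_G(Q) D` for a defect group `D` of the block of
`N_G(Q, f)` with the idempotent of `f` -/
theorem stab_mem_mul_of_nilpotent {p : ℕ} [Fact p.Prime] (hM : IsPModular p M)
    {B : Set (IrrCharacter G)} (hnil : IsNilpotentBlock p M B) {Q : Subgroup G}
    {f : Set (IrrCharacter (Subgroup.centralizer (Q : Set G)))}
    (hQf : IsBrauerPairOf p M B Q f) {T : Subgroup G}
    (hT : ∀ y : G, y ∈ T ↔ y ∈ Subgroup.normalizer (Q : Set G) ∧
      StabilizesBlock (Subgroup.centralizer (Q : Set G)) f y)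
    {F : Set (IrrCharacter T)} (hF : IsPBlock M F)
    (hFf : ∀ t : T, blockCoeff F t =
      subgroupBlockCoeff (Subgroup.centralizer (Q : Set G)) f (t : G))
    {D : Subgroup T} (hD : IsDefectGroup p M F D) (t : T) :
    ∃ c ∈ Subgroup.centralizer (Q : Set G), ∃ d ∈ D, (t : G) = c * ((d : T) : G) := by
  have hp : p.Prime := Fact.out
  have hCT : Subgroup.centralizer (Q : Set G) ≤ T := fun u hu =>
    (hT u).mpr ⟨centralizer_le_normalizer' Q hu, stabilizesBlock_of_mem_centralizer Q f hu⟩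
  have hTN : T ≤ Subgroup.normalizer
      ((Subgroup.centralizer (Q : Set G) : Subgroup G) : Set G) := fun t ht =>
    normalizer_le_normalizer_centralizer Q ((hT t).mp ht).1
  have hn : ((Subgroup.centralizer (Q : Set G)).subgroupOf T).Normal :=
    (Subgroup.normal_subgroupOf_iff_le_normalizer hCT).mpr hTN
  have h1 := (defect_of_same_idem_sub hM hCT hQf.1.2 (fun t => ((hT t).mp t.2).2) hF hFf hD).1
  have hpg : IsPGroup p (T ⧸ (Subgroup.centralizer (Q : Set G)).subgroupOf T) := by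
    intro xbar
    obtain ⟨x, rfl⟩ := QuotientGroup.mk_surjective xbar
    obtain ⟨k, m, hm, hkm⟩ := Nat.exists_eq_pow_mul_and_not_dvd (orderOf_pos x).ne' p hp.ne_one
    refine ⟨k, ?_⟩
    rw [← QuotientGroup.mk_pow, QuotientGroup.eq_one_iff, Subgroup.mem_subgroupOf]
    have hy : (x ^ (p ^ k)) ^ m = 1 := by
      rw [← pow_mul, ← hkm, pow_orderOf_eq_one]
    have hreg : IsPRegular p (((x ^ (p ^ k) : T)) : G) := by
      intro hdvd
      rw [Subgroup.orderOf_coe] at hdvd
      exact hm (hdvd.trans (orderOf_dvd_of_pow_eq_one hy))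
    have hyT := (hT _).mp (x ^ (p ^ k) : T).2
    exact hnil.2 Q f hQf _ hyT.1 hyT.2 hreg
  have hidx : (D ⊔ (Subgroup.centralizer (Q : Set G)).subgroupOf T).index = 1 := by
    obtain ⟨n, hn'⟩ := hpg.exists_card_eq
    have hdvd : (D ⊔ (Subgroup.centralizer (Q : Set G)).subgroupOf T).index ∣ p ^ n := by
      rw [← hn', ← Subgroup.index_eq_card]
      exact Subgroup.index_dvd_of_le le_sup_right
    obtain ⟨j, -, hj⟩ := (Nat.dvd_prime_pow hp).mp hdvd
    rcases Nat.eq_zero_or_pos j with rfl | hjpos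
    · simpa using hj
    · exfalso
      apply h1
      rw [hj]
      exact dvd_pow_self p hjpos.ne'
  have htop : D ⊔ (Subgroup.centralizer (Q : Set G)).subgroupOf T = ⊤ :=
    Subgroup.index_eq_one.mp hidx
  have ht : t ∈ ((((Subgroup.centralizer (Q : Set G)).subgroupOf T ⊔ D : Subgroup T)) : Set T) := by
    rw [sup_comm, htop]
    exact Subgroup.mem_top t
  rw [Subgroup.normal_mul] at ht
  obtain ⟨c, hc, d, hd, hcd⟩ := Set.mem_mul.mp ht
  refine ⟨(c : G), Subgroup.mem_subgroupOf.mp hc, d, hd, ?_⟩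
  rw [← hcd]
  rfl

/-- the subpair of `(P, e)` on `N_P(Q)` is a normal superpair of `(Q, f) ≤ (P, e)` -/
theorem exists_normalizer_pair {p : ℕ} [Fact p.Prime] (hM : IsPModular p M) {P Q : Subgroup G}
    {e : Set (IrrCharacter (Subgroup.centralizer (P : Set G)))}
    {f : Set (IrrCharacter (Subgroup.centralizer (Q : Set G)))}
    (hPe : IsBrauerPair p M P e) (hQP : Q ≤ P) (hf : IsPBlock M f)
    (hle : SubpairLE p M Q f P e) :
    ∃ g : Set (IrrCharacter (Subgroup.centralizer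
        ((P ⊓ Subgroup.normalizer (Q : Set G) : Subgroup G) : Set G))),
      SubpairLE p M (P ⊓ Subgroup.normalizer (Q : Set G)) g P e ∧
        IsNormalSubpair p M Q f (P ⊓ Subgroup.normalizer (Q : Set G)) g := by
  have hP : IsPGroup p P := hPe.1
  have hSP : P ⊓ Subgroup.normalizer (Q : Set G) ≤ P := inf_le_left
  have hQS : Q ≤ P ⊓ Subgroup.normalizer (Q : Set G) := le_inf hQP Subgroup.le_normalizer
  have hSN : P ⊓ Subgroup.normalizer (Q : Set G) ≤ Subgroup.normalizer (Q : Set G) :=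
    inf_le_right
  have hSp : IsPGroup p (P ⊓ Subgroup.normalizer (Q : Set G) : Subgroup G) := hP.to_le hSP
  obtain ⟨g, hg, hleS⟩ := exists_subpairLE hM
    (Nat.card P - Nat.card (P ⊓ Subgroup.normalizer (Q : Set G) : Subgroup G)) P
    (P ⊓ Subgroup.normalizer (Q : Set G)) e hPe hSP le_rfl
  obtain ⟨f', hnorm⟩ := exists_isNormalSubpair hM
    (⟨hSp, hg⟩ : IsBrauerPair p M (P ⊓ Subgroup.normalizer (Q : Set G)) g) hQS hSN
  have hle' : SubpairLE p M Q f' P e :=
    Relation.ReflTransGen.head (show NormalSubpairRel p M ⟨Q, f'⟩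
      ⟨P ⊓ Subgroup.normalizer (Q : Set G), g⟩ from hnorm) hleS
  have hff' : f' = f := subpair_unique hM (Nat.card P - Nat.card Q) P Q e hPe hQP le_rfl f' f
    hnorm.1.2 hf hle' hle
  rw [hff'] at hnorm
  exact ⟨g, hleS, hnorm⟩

/-- **in a nilpotent block, the maximal Brauer pairs above `(Q, f)` are conjugate under
`C_G(Q)`** -/
theorem nilpotent_maximal_conj {p : ℕ} [Fact p.Prime] (hM : IsPModular p M)
    {B : Set (IrrCharacter G)} (hnil : IsNilpotentBlock p M B) :
    ∀ n : ℕ, ∀ (Q : Subgroup G) (f : Set (IrrCharacter (Subgroup.centralizer (Q : Set G))))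
      (P₁ P₂ : Subgroup G) (e₁ : Set (IrrCharacter (Subgroup.centralizer (P₁ : Set G))))
      (e₂ : Set (IrrCharacter (Subgroup.centralizer (P₂ : Set G)))),
      Nat.card G - Nat.card Q ≤ n →
      IsMaximalBrauerPair p M B P₁ e₁ → IsMaximalBrauerPair p M B P₂ e₂ →
      SubpairLE p M Q f P₁ e₁ → SubpairLE p M Q f P₂ e₂ →
      ∃ c ∈ Subgroup.centralizer (Q : Set G),
        conjPair c (⟨P₁, e₁⟩ : BrauerPairIdx G) = ⟨P₂, e₂⟩ := by
  have hp : p.Prime := Fact.out
  have hMprime : M.IsPrime := hM.2.1.isPrime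
  have hB : IsPBlock M B := hnil.1
  intro n
  induction n using Nat.strong_induction_on with
  | _ n ih =>
  intro Q f P₁ P₂ e₁ e₂ hn hmax₁ hmax₂ hle₁ hle₂
  have hQP₁ : Q ≤ P₁ := subpairLE_le hle₁
  have hQP₂ : Q ≤ P₂ := subpairLE_le hle₂
  by_cases h1 : Q = P₁
  · have e1 : (⟨Q, f⟩ : BrauerPairIdx G) = ⟨P₁, e₁⟩ := eq_of_subpairLE_of_eq hle₁ h1
    have hle₂' : Relation.ReflTransGen (NormalSubpairRel p M)
        (⟨P₁, e₁⟩ : BrauerPairIdx G) ⟨P₂, e₂⟩ := e1 ▸ hle₂
    have hP : P₂ = P₁ := hmax₁.2 P₂ e₂ hmax₂.1 hle₂'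
    have e2 : (⟨P₁, e₁⟩ : BrauerPairIdx G) = ⟨P₂, e₂⟩ := eq_of_subpairLE_of_eq hle₂' hP.symm
    exact ⟨1, Subgroup.one_mem _, by rw [conjPair_one]; exact e2⟩
  by_cases h2 : Q = P₂
  · have e1 : (⟨Q, f⟩ : BrauerPairIdx G) = ⟨P₂, e₂⟩ := eq_of_subpairLE_of_eq hle₂ h2
    have hle₁' : Relation.ReflTransGen (NormalSubpairRel p M)
        (⟨P₂, e₂⟩ : BrauerPairIdx G) ⟨P₁, e₁⟩ := e1 ▸ hle₁
    have hP : P₁ = P₂ := hmax₂.2 P₁ e₁ hmax₁.1 hle₁'
    have e2 : (⟨P₂, e₂⟩ : BrauerPairIdx G) = ⟨P₁, e₁⟩ := eq_of_subpairLE_of_eq hle₁' hP.symm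
    exact ⟨1, Subgroup.one_mem _, by rw [conjPair_one]; exact e2.symm⟩
  have hlt₁ : Q < P₁ := lt_of_le_of_ne hQP₁ h1
  have hlt₂ : Q < P₂ := lt_of_le_of_ne hQP₂ h2
  have hf : IsPBlock M f := isPBlock_of_subpairLE hmax₁.1.1.2 hle₁
  have hQ : IsPGroup p Q := hmax₁.1.1.1.to_le hQP₁
  have hQfB : IsBrauerPairOf p M B Q f := (isBrauerPairOf_iff_of_subpairLE hM hle₁ hB).mp hmax₁.1
  -- relative maximality of the pairs on the normalizers
  have hrel : ∀ (P : Subgroup G) (e : Set (IrrCharacter (Subgroup.centralizer (P : Set G)))),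
      IsMaximalBrauerPair p M B P e → Q < P →
      ∀ g : Set (IrrCharacter (Subgroup.centralizer
        ((P ⊓ Subgroup.normalizer (Q : Set G) : Subgroup G) : Set G))),
      SubpairLE p M (P ⊓ Subgroup.normalizer (Q : Set G)) g P e →
      IsNormalSubpair p M Q f (P ⊓ Subgroup.normalizer (Q : Set G)) g →
      IsRelMaximal p M Q f (P ⊓ Subgroup.normalizer (Q : Set G)) g := by
    intro P e hmax hlt g hleN hnorm
    refine ⟨hnorm, ?_⟩
    intro R' h' hn' hle'
    have hNlt : Q < P ⊓ Subgroup.normalizer (Q : Set G) :=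
      lt_inf_normalizer_of_lt' P Q hmax.1.1.1 hlt
    have hR'B : IsBrauerPairOf p M B R' h' :=
      (isBrauerPairOf_iff_of_isNormalSubpair hM hn' hB).mpr hQfB
    obtain ⟨P', e', hmax', hle''⟩ := exists_maximal_ge hM _ R' h' hR'B le_rfl
    have hNP' : SubpairLE p M (P ⊓ Subgroup.normalizer (Q : Set G)) g P' e' :=
      Relation.ReflTransGen.trans hle' hle''
    have hcardlt : Nat.card G - Nat.card (P ⊓ Subgroup.normalizer (Q : Set G) : Subgroup G) < n := by
      have h3 := card_lt_card_of_lt' hNlt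
      have h4 : Nat.card (P ⊓ Subgroup.normalizer (Q : Set G) : Subgroup G) ≤ Nat.card G :=
        Subgroup.card_le_card_group _
      omega
    obtain ⟨c, hc, hconj⟩ := ih _ hcardlt _ g P P' e e' le_rfl hmax hmax' hleN hNP'
    have hP' : P.map (MulAut.conj c).toMonoidHom = P' := congrArg Sigma.fst hconj
    have hcQ : c ∈ Subgroup.centralizer (Q : Set G) :=
      Subgroup.centralizer_le (by exact_mod_cast hNlt.le) hc
    apply le_antisymm
    · intro r hr
      have hrP' : r ∈ P' := subpairLE_le hle'' hr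
      rw [← hP', mem_map_conj_iff] at hrP'
      have hrN : r ∈ Subgroup.normalizer (Q : Set G) := hn'.2.2.2.1 hr
      have hcN : c ∈ Subgroup.normalizer (Q : Set G) := centralizer_le_normalizer' Q hcQ
      have hmem : c⁻¹ * r * c ∈ P ⊓ Subgroup.normalizer (Q : Set G) :=
        ⟨hrP', Subgroup.mul_mem _ (Subgroup.mul_mem _ (Subgroup.inv_mem _ hcN) hrN) hcN⟩
      have hcomm := hc _ hmem
      have e3 : r = c⁻¹ * r * c := by
        have : c⁻¹ * r * c * c = c * (c⁻¹ * r * c) := hcomm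
        have e4 : c * (c⁻¹ * r * c) = r * c := by group
        rw [e4] at this
        exact (mul_right_cancel this).symm
      rw [e3]
      exact hmem
    · exact subpairLE_le hle'
  obtain ⟨g₁, hleN₁, hnorm₁⟩ := exists_normalizer_pair hM hmax₁.1.1 hQP₁ hf hle₁
  obtain ⟨g₂, hleN₂, hnorm₂⟩ := exists_normalizer_pair hM hmax₂.1.1 hQP₂ hf hle₂
  have hrel₁ := hrel P₁ e₁ hmax₁ hlt₁ g₁ hleN₁ hnorm₁
  have hrel₂ := hrel P₂ e₂ hmax₂ hlt₂ g₂ hleN₂ hnorm₂
  obtain ⟨T, hT⟩ := exists_stabSubgroup Q hf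
  obtain ⟨F, hF, hFf⟩ := exists_stab_block hM hQ hf hT
  obtain ⟨hdef, t, htT, hconj⟩ := relative_sylow hM hT hF hFf hrel₁ hrel₂
  obtain ⟨c, hc, d, hd, htcd⟩ := stab_mem_mul_of_nilpotent hM hnil hQfB hT hF hFf hdef ⟨t, htT⟩
  have hdN : ((d : T) : G) ∈ P₁ ⊓ Subgroup.normalizer (Q : Set G) := Subgroup.mem_subgroupOf.mp hd
  have hconj' : conjPair c (⟨P₁ ⊓ Subgroup.normalizer (Q : Set G), g₁⟩ : BrauerPairIdx G) =
      ⟨P₂ ⊓ Subgroup.normalizer (Q : Set G), g₂⟩ := by
    have e5 : t = c * ((d : T) : G) := htcd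
    rw [e5, ← conjPair_mul, conjPair_eq_self_of_stab hnorm₁.2.1.2
      (Subgroup.le_normalizer hdN) (stabilizesBlock_of_mem _ g₁ hdN)] at hconj
    exact hconj
  have hmax₁' := isMaximalBrauerPair_conjPair hmax₁ c
  have hle₃ : SubpairLE p M (P₂ ⊓ Subgroup.normalizer (Q : Set G)) g₂
      (P₁.map (MulAut.conj c).toMonoidHom) (conjBlock P₁ c e₁) := by
    have h5 := subpairLE_conj (M := M) (p := p) hleN₁ c
    rw [hconj'] at h5
    exact h5
  have hNlt₂ : Q < P₂ ⊓ Subgroup.normalizer (Q : Set G) :=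
    lt_inf_normalizer_of_lt' P₂ Q hmax₂.1.1.1 hlt₂
  have hcardlt : Nat.card G - Nat.card (P₂ ⊓ Subgroup.normalizer (Q : Set G) : Subgroup G) < n := by
    have h3 := card_lt_card_of_lt' hNlt₂
    have h4 : Nat.card (P₂ ⊓ Subgroup.normalizer (Q : Set G) : Subgroup G) ≤ Nat.card G :=
      Subgroup.card_le_card_group _
    omega
  obtain ⟨c', hc', hconj''⟩ := ih _ hcardlt _ g₂ _ P₂ _ e₂ le_rfl hmax₁' hmax₂ hle₃ hleN₂
  refine ⟨c' * c, Subgroup.mul_mem _ (Subgroup.centralizer_le (by exact_mod_cast hNlt₂.le) hc') hc, ?_⟩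
  rw [← conjPair_mul]
  exact hconj''

/-- **fusion in a nilpotent block is controlled by the defect group** -/
theorem nilpotent_fusion {p : ℕ} [Fact p.Prime] (hM : IsPModular p M)
    {B : Set (IrrCharacter G)} (hnil : IsNilpotentBlock p M B) {P : Subgroup G}
    {e : Set (IrrCharacter (Subgroup.centralizer (P : Set G)))}
    (hmax : IsMaximalBrauerPair p M B P e) {Q : Subgroup G}
    {f : Set (IrrCharacter (Subgroup.centralizer (Q : Set G)))}
    (hle : SubpairLE p M Q f P e) {g : G}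
    (hle' : SubpairLE p M (Q.map (MulAut.conj g).toMonoidHom) (conjBlock Q g f) P e) :
    ∃ u ∈ P, ∀ q ∈ Q, g * q * g⁻¹ = u * q * u⁻¹ := by
  have hMprime : M.IsPrime := hM.2.1.isPrime
  have hPe : IsBrauerPair p M P e := hmax.1.1
  have hle0 : Relation.ReflTransGen (NormalSubpairRel p M)
      (conjPair g (⟨Q, f⟩ : BrauerPairIdx G)) ⟨P, e⟩ := hle'
  have h1 := subpairLE_conj hle0 g⁻¹
  rw [conjPair_inv_conjPair] at h1
  have hmax' := isMaximalBrauerPair_conjPair hmax g⁻¹
  obtain ⟨c, hc, hconj⟩ := nilpotent_maximal_conj hM hnil _ Q f P _ e _ le_rfl hmax hmax' hle h1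
  have h2 : conjPair (g * c) (⟨P, e⟩ : BrauerPairIdx G) = ⟨P, e⟩ := by
    rw [← conjPair_mul, hconj]
    exact conjPair_conjPair_inv g (⟨P, e⟩ : BrauerPairIdx G)
  obtain ⟨hgcN, hgcst⟩ := stab_of_conjPair_eq_self hPe.2 h2
  obtain ⟨T, hT⟩ := exists_stabSubgroup P hPe.2
  obtain ⟨E, hE, hEe⟩ := exists_stab_block hM hPe.1 hPe.2 hT
  have hdef := isDefectGroup_stab_of_maximal hM hmax hT hE hEe
  have hgcT : g * c ∈ T := (hT _).mpr ⟨hgcN, hgcst⟩
  obtain ⟨z, hz, d, hd, hzd⟩ := stab_mem_mul_of_nilpotent hM hnil hmax.1 hT hE hEe hdef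
    ⟨g * c, hgcT⟩
  have hdP : ((d : T) : G) ∈ P := Subgroup.mem_subgroupOf.mp hd
  have hzd' : g * c = z * ((d : T) : G) := hzd
  refine ⟨((d : T) : G), hdP, ?_⟩
  intro q hq
  have hg : g = z * ((d : T) : G) * c⁻¹ := by
    rw [← hzd']
    group
  have hcq : c⁻¹ * q * c = q := by
    have := hc q hq
    rw [mul_assoc, this]
    group
  have hdq : ((d : T) : G) * q * ((d : T) : G)⁻¹ ∈ P :=
    P.mul_mem (P.mul_mem hdP (subpairLE_le hle hq)) (P.inv_mem hdP)
  have hzq := hz _ hdq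
  calc g * q * g⁻¹ = z * (((d : T) : G) * (c⁻¹ * q * c) * ((d : T) : G)⁻¹) * z⁻¹ := by
        rw [hg]; group
    _ = z * (((d : T) : G) * q * ((d : T) : G)⁻¹) * z⁻¹ := by rw [hcq]
    _ = ((d : T) : G) * q * ((d : T) : G)⁻¹ := by rw [← hzq]; group

omit [Fintype G] in
/-- two elements inducing the same conjugation on a subgroup normalized by one of them have
powers inducing the same conjugation -/
theorem conj_pow_eq_of_conj_eq {Q : Subgroup G} {x u : G}
    (hx : x ∈ Subgroup.normalizer (Q : Set G))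
    (h : ∀ q ∈ Q, x * q * x⁻¹ = u * q * u⁻¹) (k : ℕ) :
    ∀ q ∈ Q, x ^ k * q * (x ^ k)⁻¹ = u ^ k * q * (u ^ k)⁻¹ ∧ u ^ k * q * (u ^ k)⁻¹ ∈ Q := by
  induction k with
  | zero =>
    intro q hq
    simp [hq]
  | succ k ih =>
    intro q hq
    obtain ⟨h1, h2⟩ := ih q hq
    have h3 := h _ h2
    have e1 : x ^ (k + 1) * q * (x ^ (k + 1))⁻¹ = x * (x ^ k * q * (x ^ k)⁻¹) * x⁻¹ := by
      rw [pow_succ']; group
    have e2 : u ^ (k + 1) * q * (u ^ (k + 1))⁻¹ = u * (u ^ k * q * (u ^ k)⁻¹) * u⁻¹ := by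
      rw [pow_succ']; group
    rw [e1, e2, h1]
    refine ⟨h3, ?_⟩
    rw [← h3]
    exact (Subgroup.mem_normalizer_iff.mp hx _).mp h2

/-- **statement S4686**: a block is nilpotent iff its fusion system is the inner one -/
theorem nilpotent_iff_inner {p : ℕ} [Fact p.Prime] (hM : IsPModular p M)
    {B : Set (IrrCharacter G)} {P : Subgroup G}
    {e : Set (IrrCharacter (Subgroup.centralizer (P : Set G)))}
    (hmax : IsMaximalBrauerPair p M B P e) {F : FusionSystem P}
    (hF : IsBlockFusionSystemOn p M B P e F) :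
    IsNilpotentBlock p M B ↔ ∀ Q : Subgroup G, F.Hom Q = (innerFusionSystem P).Hom Q := by
  have hp : p.Prime := Fact.out
  have hMprime : M.IsPrime := hM.2.1.isPrime
  have hB : IsPBlock M B := hmax.1.2.1
  constructor
  · intro hnil Q
    ext φ
    constructor
    · intro hφ
      obtain ⟨hQP, g, hφg, -, f, hle, hle'⟩ := (hF.2 Q φ).mp hφ
      obtain ⟨u, hu, huq⟩ := nilpotent_fusion hM hnil hmax hle hle'
      exact ⟨hQP, u, hu, fun x => (hφg x).trans (huq x x.2)⟩
    · rintro ⟨hQP, u, hu, hφu⟩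
      have : φ = conjHom Q u := MonoidHom.ext fun x => hφu x
      rw [this]
      exact F.conj_mem hQP hu
  · intro hall
    refine ⟨hB, ?_⟩
    intro Q f hQf x hxN hxst hxreg
    obtain ⟨y, hy⟩ := exists_conj_subpairLE hM hmax hQf
    have hQ'P : Q.map (MulAut.conj y).toMonoidHom ≤ P := subpairLE_le hy
    have hf' : IsPBlock M (conjBlock Q y f) := isPBlock_conjBlock Q y hQf.1.2
    have hx'N : y * x * y⁻¹ ∈ Subgroup.normalizer
        ((Q.map (MulAut.conj y).toMonoidHom : Subgroup G) : Set G) := by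
      rw [mem_normalizer_map_conj_iff]
      have e1 : y⁻¹ * (y * x * y⁻¹) * y = x := by group
      rw [e1]
      exact hxN
    have hx'st := stabilizesBlock_conj Q y hxst
    have hfix := conjPair_eq_self_of_stab hf' hx'N hx'st
    have hmem : conjHom (Q.map (MulAut.conj y).toMonoidHom) (y * x * y⁻¹) ∈
        F.Hom (Q.map (MulAut.conj y).toMonoidHom) := by
      rw [hF.2]
      refine ⟨hQ'P, y * x * y⁻¹, fun u => rfl, ?_, conjBlock Q y f, hy, ?_⟩
      · rw [map_conj_eq_of_mem_normalizer hx'N]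
        exact hQ'P
      · show Relation.ReflTransGen (NormalSubpairRel p M)
          (conjPair (y * x * y⁻¹) (⟨Q.map (MulAut.conj y).toMonoidHom, conjBlock Q y f⟩ :
            BrauerPairIdx G)) ⟨P, e⟩
        rw [hfix]
        exact hy
    rw [hall] at hmem
    obtain ⟨-, u, hu, huφ⟩ := hmem
    have hconj : ∀ q ∈ (Q.map (MulAut.conj y).toMonoidHom : Subgroup G),
        (y * x * y⁻¹) * q * (y * x * y⁻¹)⁻¹ = u * q * u⁻¹ := fun q hq => huφ ⟨q, hq⟩
    obtain ⟨k, hk⟩ := (IsPGroup.iff_orderOf.mp hmax.1.1.1) ⟨u, hu⟩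
    rw [Subgroup.orderOf_mk] at hk
    have hpow : (y * x * y⁻¹) ^ (p ^ k) ∈ Subgroup.centralizer
        ((Q.map (MulAut.conj y).toMonoidHom : Subgroup G) : Set G) := by
      rw [Subgroup.mem_centralizer_iff]
      intro q hq
      have h1 := (conj_pow_eq_of_conj_eq hx'N hconj (p ^ k) q hq).1
      rw [← hk, pow_orderOf_eq_one] at h1
      rw [hk] at h1
      have h2 : (y * x * y⁻¹) ^ (p ^ k) * q * ((y * x * y⁻¹) ^ (p ^ k))⁻¹ = q := by
        rw [h1]; group
      calc q * (y * x * y⁻¹) ^ (p ^ k)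
          = (y * x * y⁻¹) ^ (p ^ k) * q * ((y * x * y⁻¹) ^ (p ^ k))⁻¹ *
              (y * x * y⁻¹) ^ (p ^ k) := by rw [h2]
        _ = (y * x * y⁻¹) ^ (p ^ k) * q := by group
    have hord : orderOf (y * x * y⁻¹) = orderOf x := by
      have := orderOf_injective (MulAut.conj y).toMonoidHom (MulAut.conj y).injective x
      simpa [MulAut.conj_apply] using this
    have hpow2 : (y * x * y⁻¹) ^ orderOf x ∈ Subgroup.centralizer
        ((Q.map (MulAut.conj y).toMonoidHom : Subgroup G) : Set G) := by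
      rw [← hord, pow_orderOf_eq_one]
      exact Subgroup.one_mem _
    have hcop : Nat.Coprime (p ^ k) (orderOf x) :=
      Nat.Coprime.pow_left _ ((Nat.Prime.coprime_iff_not_dvd hp).mpr hxreg)
    have hx'C := mem_of_pow_mem_of_coprime hcop hpow hpow2
    have := centConj_mem' Q y hx'C
    have e1 : y⁻¹ * (y * x * y⁻¹) * y = x := by group
    rwa [e1] at this

end

end Cfsg.Agent.Lib.Helper4
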