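import Mathlib
import Cfsg.Agent.Lib.Helper4.BrauerNilFusion
import Cfsg.Agent.Lib.Helper4.BrauerLocalC
import Cfsg.Agent.Lib.Helper4.BrauerExt

set_option autoImplicit false

/-!
# The blocks of the centralizers in a nilpotent block (helper4)

For a Brauer pair `(Q, f)` of a nilpotent block, `f` is a nilpotent block of `C_G(Q)`, and for
`(Q, f) ≤ (P, e)` with `(P, e)` maximal, `C_P(Q)` is a defect group of `f`.
-/

namespace Cfsg.Agent.Lib.Helper4

open Cfsg Cfsg.Agent.Lib.Helper28
open scoped ComplexConjugate Classical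

section

variable {G : Type*} [Group G] [Fintype G] {M : Ideal AlgInt}

omit [Fintype G] in
/-- the centralizer in `C_G(Q)` of a subgroup `S` is the centralizer in `G` of `Q S` -/
theorem centCompat_sup (Q : Subgroup G) (S : Subgroup (Subgroup.centralizer (Q : Set G))) :
    CentCompat (Subgroup.centralizer (Q : Set G)) S
      (Q ⊔ S.map (Subgroup.centralizer (Q : Set G)).subtype) := by
  intro x
  constructor
  · intro hx
    have hxQ : x ∈ Subgroup.centralizer (Q : Set G) := fun q hq => hx q ((le_sup_left : Q ≤ Q ⊔ S.map (Subgroup.centralizer (Q : Set G)).subtype) hq)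
    refine ⟨hxQ, ?_⟩
    intro s hs
    apply Subtype.ext
    exact hx (s : G) ((le_sup_right : S.map (Subgroup.centralizer (Q : Set G)).subtype ≤ Q ⊔ S.map (Subgroup.centralizer (Q : Set G)).subtype) ⟨s, hs, rfl⟩)
  · rintro ⟨hxQ, hxS⟩
    have h1 : Q ⊔ S.map (Subgroup.centralizer (Q : Set G)).subtype ≤
        Subgroup.centralizer ({x} : Set G) := by
      apply sup_le
      · intro u hu
        rw [Subgroup.mem_centralizer_singleton_iff]
        exact hxQ u hu
      · rintro _ ⟨c, hc, rfl⟩
        rw [Subgroup.mem_centralizer_singleton_iff]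
        exact congrArg Subtype.val (hxS c hc)
    intro r hr
    have := h1 hr
    rw [Subgroup.mem_centralizer_singleton_iff] at this
    exact this

theorem mem_normalizer_sup {A C : Subgroup G} {m : G}
    (hA : m ∈ Subgroup.normalizer (A : Set G)) (hC : m ∈ Subgroup.normalizer (C : Set G)) :
    m ∈ Subgroup.normalizer ((A ⊔ C : Subgroup G) : Set G) := by
  apply mem_normalizer_of_map_conj_eq
  rw [Subgroup.map_sup, map_conj_eq_of_mem_normalizer hA, map_conj_eq_of_mem_normalizer hC]

/-- a Brauer pair `(S, s)` of the block `f` of `C_G(Q)` gives the normal superpair `(Q S, s)` of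
`(Q, f)` -/
theorem isNormalSubpair_sup_of_isBrauerPairOf {p : ℕ} [Fact p.Prime] (hM : IsPModular p M)
    {Q : Subgroup G} {f : Set (IrrCharacter (Subgroup.centralizer (Q : Set G)))}
    (hQf : IsBrauerPair p M Q f) {S : Subgroup (Subgroup.centralizer (Q : Set G))}
    {s : Set (IrrCharacter (Subgroup.centralizer (S : Set (Subgroup.centralizer (Q : Set G)))))}
    (hSs : IsBrauerPairOf p M f S s) :
    IsNormalSubpair p M Q f (Q ⊔ S.map (Subgroup.centralizer (Q : Set G)).subtype)
      (resBlock (centCompat_sup Q S) s) := by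
  have hMprime : M.IsPrime := hM.2.1.isPrime
  have hSC : S.map (Subgroup.centralizer (Q : Set G)).subtype ≤
      Subgroup.centralizer (Q : Set G) := by
    rintro _ ⟨c, _, rfl⟩
    exact c.2
  have hSN : S.map (Subgroup.centralizer (Q : Set G)).subtype ≤
      Subgroup.normalizer (Q : Set G) := hSC.trans (centralizer_le_normalizer' Q)
  refine ⟨hQf, ⟨IsPGroup.to_sup_of_normal_left' hQf.1 (hSs.1.1.map _) hSN,
    isPBlock_resBlock _ hSs.1.2⟩, le_sup_left, sup_le Subgroup.le_normalizer hSN, ?_, ?_⟩
  · intro x hx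
    exact stabilizesBlock_of_mem_sup hQf.2 (sup_le_sup_left hSC Q hx)
  · intro ξ hξ
    have hξ' : irrEquiv (resCentEquiv (centCompat_sup Q S)) ξ ∈ s := hξ
    have := hSs.2.2 _ hξ'
    rw [subgroupBlockCoeff_eq_extZero, brauerOmega_res (centCompat_sup Q S)]
    exact this

/-- **the blocks of the centralizers in a nilpotent block are nilpotent** -/
theorem nilpotent_local {p : ℕ} [Fact p.Prime] (hM : IsPModular p M)
    {B : Set (IrrCharacter G)} (hnil : IsNilpotentBlock p M B) {Q : Subgroup G}
    {f : Set (IrrCharacter (Subgroup.centralizer (Q : Set G)))}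
    (hQf : IsBrauerPairOf p M B Q f) : IsNilpotentBlock p M f := by
  have hMprime : M.IsPrime := hM.2.1.isPrime
  refine ⟨hQf.1.2, ?_⟩
  intro S s hSs x hxN hxst hxreg
  have hn := isNormalSubpair_sup_of_isBrauerPairOf hM hQf.1 hSs
  have hB' : IsBrauerPairOf p M B (Q ⊔ S.map (Subgroup.centralizer (Q : Set G)).subtype)
      (resBlock (centCompat_sup Q S) s) :=
    (isBrauerPairOf_iff_of_isNormalSubpair hM hn hQf.2.1).mpr hQf
  have hxN' : (x : G) ∈ Subgroup.normalizer
      ((Q ⊔ S.map (Subgroup.centralizer (Q : Set G)).subtype : Subgroup G) : Set G) := by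
    apply mem_normalizer_sup
    · exact centralizer_le_normalizer' Q x.2
    · exact Subgroup.le_normalizer_map (Subgroup.centralizer (Q : Set G)).subtype ⟨x, hxN, rfl⟩
  have hxst' := stabilizesBlock_resBlock (centCompat_sup Q S) hxst
  have hxreg' : IsPRegular p (x : G) := by
    intro hdvd
    rw [Subgroup.orderOf_coe] at hdvd
    exact hxreg hdvd
  have := hnil.2 _ _ hB' (x : G) hxN' hxst' hxreg'
  obtain ⟨_, h2⟩ := (centCompat_sup Q S (x : G)).mp this
  exact h2

/-- **in a nilpotent block, `C_P(Q)` is a defect group of `f` for `(Q, f) ≤ (P, e)`** -/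
theorem nilpotent_centralizer_defect {p : ℕ} [Fact p.Prime] (hM : IsPModular p M)
    {B : Set (IrrCharacter G)} (hnil : IsNilpotentBlock p M B) {P Q : Subgroup G}
    {e : Set (IrrCharacter (Subgroup.centralizer (P : Set G)))}
    {f : Set (IrrCharacter (Subgroup.centralizer (Q : Set G)))}
    (hmax : IsMaximalBrauerPair p M B P e) (hle : SubpairLE p M Q f P e) :
    IsDefectGroup p M f
      ((P ⊓ Subgroup.centralizer (Q : Set G)).subgroupOf (Subgroup.centralizer (Q : Set G))) := by
  have hMprime : M.IsPrime := hM.2.1.isPrime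
  have hQP : Q ≤ P := subpairLE_le hle
  have hf : IsPBlock M f := isPBlock_of_subpairLE hmax.1.1.2 hle
  obtain ⟨⟨D, hD, hle1⟩, x, hlex, hDx⟩ := centralizer_defect hM hmax hQP hf hle
  obtain ⟨u, hu, huq⟩ := nilpotent_fusion hM hnil hmax hle hlex
  have hc1 := Cfsg.Agent.S0908.result p M hM f hf D hD
  have hc2 := Cfsg.Agent.S0908.result p M hM _ (isPBlock_conjBlock Q x hf) _ hDx
  rw [blockDefect_conjBlock, card_subgroupOf_inf] at hc2
  have hcard : Nat.card (P ⊓ Subgroup.centralizer
      ((Q.map (MulAut.conj x).toMonoidHom : Subgroup G) : Set G) : Subgroup G) ≤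
      Nat.card (P ⊓ Subgroup.centralizer (Q : Set G) : Subgroup G) := by
    have hmem : ∀ z : (P ⊓ Subgroup.centralizer
        ((Q.map (MulAut.conj x).toMonoidHom : Subgroup G) : Set G) : Subgroup G),
        u⁻¹ * (z : G) * u ∈ P ⊓ Subgroup.centralizer (Q : Set G) := by
      intro z
      refine ⟨P.mul_mem (P.mul_mem (P.inv_mem hu) z.2.1) hu, ?_⟩
      intro q hq
      have hmemq : u * q * u⁻¹ ∈ (Q.map (MulAut.conj x).toMonoidHom : Subgroup G) := by
        rw [← huq q hq, mem_map_conj_iff]
        have e1 : x⁻¹ * (x * q * x⁻¹) * x = q := by group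
        rw [e1]
        exact hq
      have h3 : u * q * u⁻¹ * (z : G) = (z : G) * (u * q * u⁻¹) := z.2.2 _ hmemq
      calc q * (u⁻¹ * (z : G) * u) = u⁻¹ * (u * q * u⁻¹ * (z : G)) * u := by group
        _ = u⁻¹ * ((z : G) * (u * q * u⁻¹)) * u := by rw [h3]
        _ = u⁻¹ * (z : G) * u * q := by group
    let φ : (P ⊓ Subgroup.centralizer
        ((Q.map (MulAut.conj x).toMonoidHom : Subgroup G) : Set G) : Subgroup G) →
        (P ⊓ Subgroup.centralizer (Q : Set G) : Subgroup G) :=
      fun z => ⟨u⁻¹ * (z : G) * u, hmem z⟩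
    have hφ : Function.Injective φ := by
      intro z1 z2 h
      have h' : u⁻¹ * (z1 : G) * u = u⁻¹ * (z2 : G) * u := congrArg Subtype.val h
      apply Subtype.ext
      have := congrArg (fun g => u * g * u⁻¹) h'
      simpa [mul_assoc] using this
    exact Nat.card_le_card_of_injective φ hφ
  have hge : Nat.card D ≤ Nat.card ((P ⊓ Subgroup.centralizer (Q : Set G)).subgroupOf
      (Subgroup.centralizer (Q : Set G))) := by
    rw [card_subgroupOf_inf, hc1, ← hc2]
    exact hcard
  have heq := Subgroup.eq_of_le_of_card_ge hle1 hge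
  rw [heq]
  exact hD

/-- **statement S4688** -/
theorem nilpotent_pairs {p : ℕ} [Fact p.Prime] (hM : IsPModular p M)
    {B : Set (IrrCharacter G)} {P : Subgroup G}
    {e : Set (IrrCharacter (Subgroup.centralizer (P : Set G)))}
    (hmax : IsMaximalBrauerPair p M B P e) (hnil : IsNilpotentBlock p M B) {Q : Subgroup G}
    {f : Set (IrrCharacter (Subgroup.centralizer (Q : Set G)))}
    (hQf : IsBrauerPairOf p M B Q f) :
    IsNilpotentBlock p M f ∧ (SubpairLE p M Q f P e → IsDefectGroup p M f
      ((P ⊓ Subgroup.centralizer (Q : Set G)).subgroupOf (Subgroup.centralizer (Q : Set G)))) :=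
  ⟨nilpotent_local hM hnil hQf, fun hle => nilpotent_centralizer_defect hM hnil hmax hle⟩

end

end Cfsg.Agent.Lib.Helper4
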