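import Mathlib
import Cfsg.Agent.Lib.Helper4.BrauerNilLocal
import Cfsg.Agent.Lib.Helper4.BrauerMaxCrit
import Cfsg.Agent.Lib.Helper4.BrauerAbel
import Cfsg.Agent.Lib.Helper4.BrauerIdem
import Cfsg.Agent.Lib.Helper4.BrauerNil

set_option autoImplicit false

/-!
# The Brauer correspondence over a subgroup containing `N_G(P)` (helper4)
-/

namespace Cfsg.Agent.Lib.Helper4

open Cfsg Cfsg.Agent.Lib.Helper28
open scoped Classical

section

variable {G : Type*} [Group G] [Fintype G] {M : Ideal AlgInt}

omit [Fintype G] in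
/-- converse of `stabilizesBlock_resBlock` -/
theorem stabilizesBlock_of_resBlock {H : Subgroup G} {S : Subgroup H} {R : Subgroup G}
    (h : CentCompat H S R) {s : Set (IrrCharacter (Subgroup.centralizer (S : Set H)))} {y : H}
    (hy : StabilizesBlock (Subgroup.centralizer (R : Set G)) (resBlock h s) (y : G)) :
    StabilizesBlock (Subgroup.centralizer (S : Set H)) s y := by
  obtain ⟨hyN, hst⟩ := hy
  constructor
  · rw [Subgroup.mem_normalizer_iff]
    intro x
    have h1 := Subgroup.mem_normalizer_iff.mp hyN (x : G)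
    constructor
    · intro hx
      have hx' : (x : G) ∈ Subgroup.centralizer (R : Set G) := (h _).mpr ⟨x.2, hx⟩
      obtain ⟨hH, hS⟩ := (h _).mp (h1.mp hx')
      exact hS
    · intro hx
      have hx' : ((y : G) * (x : G) * (y : G)⁻¹) ∈ Subgroup.centralizer (R : Set G) :=
        (h _).mpr ⟨(y * x * y⁻¹ : H).2, hx⟩
      obtain ⟨hH, hS⟩ := (h _).mp (h1.mpr hx')
      exact hS
  · intro χ hχ
    have hξ : irrEquiv (resCentEquiv h).symm χ ∈ resBlock h s := by
      show irrEquiv (resCentEquiv h) (irrEquiv (resCentEquiv h).symm χ) ∈ s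
      rw [irrEquiv_irrEquiv_symm]
      exact hχ
    obtain ⟨ξ', hξ', hconj⟩ := hst _ hξ
    refine ⟨irrEquiv (resCentEquiv h) ξ', hξ', ?_⟩
    intro k k' hk
    rw [irrEquiv_apply]
    have h2 := hconj (resCentEquiv h k) (resCentEquiv h k') (by
      rw [resCentEquiv_apply, resCentEquiv_apply, hk]
      rfl)
    rw [h2, irrEquiv_apply, MulEquiv.symm_apply_apply]

omit [Fintype G] in
theorem resBlock_cutBlock {H R : Subgroup G} (hRH : R ≤ H)
    (hC : Subgroup.centralizer (R : Set G) ≤ H)
    (e : Set (IrrCharacter (Subgroup.centralizer (R : Set G)))) :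
    resBlock (centCompat_subgroupOf hRH hC) (cutBlock H hRH hC e) = e := by
  ext ξ
  show irrEquiv (resCentEquiv (centCompat_subgroupOf hRH hC)).symm
    (irrEquiv (resCentEquiv (centCompat_subgroupOf hRH hC)) ξ) ∈ e ↔ ξ ∈ e
  rw [irrEquiv_symm_irrEquiv]

omit [Fintype G] in
theorem cutBlock_resBlock {H R : Subgroup G} (hRH : R ≤ H)
    (hC : Subgroup.centralizer (R : Set G) ≤ H)
    (s : Set (IrrCharacter (Subgroup.centralizer ((R.subgroupOf H : Subgroup H) : Set H)))) :
    cutBlock H hRH hC (resBlock (centCompat_subgroupOf hRH hC) s) = s := by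
  ext ξ
  show irrEquiv (resCentEquiv (centCompat_subgroupOf hRH hC))
    (irrEquiv (resCentEquiv (centCompat_subgroupOf hRH hC)).symm ξ) ∈ s ↔ ξ ∈ s
  rw [irrEquiv_irrEquiv_symm]

omit [Fintype G] in
theorem map_centralizer_of_compat {H : Subgroup G} {S : Subgroup H} {R : Subgroup G}
    (h : CentCompat H S R) :
    (Subgroup.centralizer (S : Set H)).map H.subtype = Subgroup.centralizer (R : Set G) := by
  ext x
  rw [Subgroup.mem_map]
  constructor
  · rintro ⟨y, hy, rfl⟩
    exact (h _).mpr ⟨y.2, hy⟩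
  · intro hx
    obtain ⟨hxH, hxS⟩ := (h x).mp hx
    exact ⟨⟨x, hxH⟩, hxS, rfl⟩

omit [Fintype G] in
theorem map_sup_centralizer {H R : Subgroup G} (hRH : R ≤ H)
    (hC : Subgroup.centralizer (R : Set G) ≤ H) :
    ((R.subgroupOf H) ⊔ Subgroup.centralizer ((R.subgroupOf H : Subgroup H) : Set H)).map
      H.subtype = R ⊔ Subgroup.centralizer (R : Set G) := by
  rw [Subgroup.map_sup, Subgroup.map_subgroupOf_eq_of_le hRH,
    map_centralizer_of_compat (centCompat_subgroupOf hRH hC)]

omit [Fintype G] in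
theorem card_inf_centralizer_subgroupOf {H R : Subgroup G} (hRH : R ≤ H)
    (hC : Subgroup.centralizer (R : Set G) ≤ H) :
    Nat.card ↥((R.subgroupOf H) ⊓
      Subgroup.centralizer ((R.subgroupOf H : Subgroup H) : Set H)) =
      Nat.card ↥(R ⊓ Subgroup.centralizer (R : Set G)) := by
  have compat := centCompat_subgroupOf hRH hC
  have : (R.subgroupOf H) ⊓ Subgroup.centralizer ((R.subgroupOf H : Subgroup H) : Set H) =
      (R ⊓ Subgroup.centralizer (R : Set G)).subgroupOf H := by
    ext x
    rw [Subgroup.mem_inf, Subgroup.mem_subgroupOf, Subgroup.mem_subgroupOf, Subgroup.mem_inf]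
    constructor
    · rintro ⟨h1, h2⟩
      exact ⟨h1, (compat _).mpr ⟨x.2, h2⟩⟩
    · rintro ⟨h1, h2⟩
      exact ⟨h1, ((compat _).mp h2).2⟩
  rw [this, Cfsg.Agent.Lib.Helper4.card_subgroupOf_of_le (inf_le_left.trans hRH)]

omit [Fintype G] in
theorem mem_normalizer_subgroupOf_iff {H R : Subgroup G} (hRH : R ≤ H) (g : H) :
    g ∈ Subgroup.normalizer ((R.subgroupOf H : Subgroup H) : Set H) ↔
      (g : G) ∈ Subgroup.normalizer (R : Set G) := by
  rw [Subgroup.mem_normalizer_iff, Subgroup.mem_normalizer_iff]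
  constructor
  · intro h x
    constructor
    · intro hx
      have := (h ⟨x, hRH hx⟩).mp (Subgroup.mem_subgroupOf.mpr hx)
      exact Subgroup.mem_subgroupOf.mp this
    · intro hx
      have hxH : x ∈ H := by
        have e : x = (g : G)⁻¹ * ((g : G) * x * (g : G)⁻¹) * (g : G) := by group
        rw [e]
        exact H.mul_mem (H.mul_mem (H.inv_mem g.2) (hRH hx)) g.2
      have := (h ⟨x, hxH⟩).mpr (Subgroup.mem_subgroupOf.mpr hx)
      exact Subgroup.mem_subgroupOf.mp this
  · intro h x
    rw [Subgroup.mem_subgroupOf, Subgroup.mem_subgroupOf]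
    exact h x

/-- a maximal Brauer pair of `H ≥ N_G(R)` at `R` gives a maximal Brauer pair of `G` -/
theorem exists_maximal_of_res {p : ℕ} [Fact p.Prime] (hM : IsPModular p M) {H R : Subgroup G}
    (hRH : R ≤ H) (hC : Subgroup.centralizer (R : Set G) ≤ H)
    (hN : Subgroup.normalizer (R : Set G) ≤ H) {c : Set (IrrCharacter H)}
    {s : Set (IrrCharacter (Subgroup.centralizer ((R.subgroupOf H : Subgroup H) : Set H)))}
    (hmax : IsMaximalBrauerPair p M c (R.subgroupOf H) s) :
    ∃ B : Set (IrrCharacter G),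
      IsMaximalBrauerPair p M B R (resBlock (centCompat_subgroupOf hRH hC) s) := by
  obtain ⟨θH, hθH, -, hdeg⟩ := maximal_imp_character hM hmax
  have hRp : IsPGroup p R :=
    (hmax.1.1.1).of_equiv (Subgroup.subgroupOfEquivOfLe hRH)
  have hpair : IsBrauerPair p M R (resBlock (centCompat_subgroupOf hRH hC) s) :=
    ⟨hRp, isPBlock_resBlock _ hmax.1.1.2⟩
  refine criterion_imp_maximal hM hpair
    (θ := irrEquiv (resCentEquiv (centCompat_subgroupOf hRH hC)).symm θH) ?_ ?_ ?_
  · show irrEquiv (resCentEquiv (centCompat_subgroupOf hRH hC))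
      (irrEquiv (resCentEquiv (centCompat_subgroupOf hRH hC)).symm θH) ∈ s
    rw [irrEquiv_irrEquiv_symm]
    exact hθH
  · have e1 : charDegree (irrEquiv (resCentEquiv (centCompat_subgroupOf hRH hC)).symm θH :
        Subgroup.centralizer (R : Set G) → ℂ) =
        charDegree (θH : Subgroup.centralizer ((R.subgroupOf H : Subgroup H) : Set H) → ℂ) := by
      unfold charDegree
      rw [irrEquiv_apply, map_one]
    rw [e1, ← card_inf_centralizer_subgroupOf hRH hC,
      ← Nat.card_congr (resCentEquiv (centCompat_subgroupOf hRH hC)).toEquiv]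
    exact hdeg
  · intro g hgN hgs hgo
    have hgH : g ∈ H := hN hgN
    have hgNH : (⟨g, hgH⟩ : H) ∈
        Subgroup.normalizer ((R.subgroupOf H : Subgroup H) : Set H) :=
      (mem_normalizer_subgroupOf_iff hRH _).mpr hgN
    have hst : StabilizesBlock
        (Subgroup.centralizer ((R.subgroupOf H : Subgroup H) : Set H)) s ⟨g, hgH⟩ :=
      stabilizesBlock_of_resBlock (centCompat_subgroupOf hRH hC) hgs
    obtain ⟨k, hk⟩ := hgo
    have hord : orderOf (⟨g, hgH⟩ : H) = p ^ k := by
      rw [← hk]
      exact Subgroup.orderOf_mk g hgH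
    have := maximal_imp_pElements hM hmax hgNH hst hord
    rw [← map_sup_centralizer hRH hC]
    exact ⟨⟨g, hgH⟩, this, rfl⟩

/-- a maximal Brauer pair of `G` at `R` gives a maximal Brauer pair of `H ≥ N_G(R)` -/
theorem exists_maximal_of_cut {p : ℕ} [Fact p.Prime] (hM : IsPModular p M) {H R : Subgroup G}
    (hRH : R ≤ H) (hC : Subgroup.centralizer (R : Set G) ≤ H)
    {B : Set (IrrCharacter G)}
    {s : Set (IrrCharacter (Subgroup.centralizer ((R.subgroupOf H : Subgroup H) : Set H)))}
    (hmax : IsMaximalBrauerPair p M B R (resBlock (centCompat_subgroupOf hRH hC) s)) :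
    ∃ c : Set (IrrCharacter H), IsMaximalBrauerPair p M c (R.subgroupOf H) s := by
  obtain ⟨θ, hθ, -, hdeg⟩ := maximal_imp_character hM hmax
  have hs : IsPBlock M s := by
    rw [← cutBlock_resBlock hRH hC s]
    exact isPBlock_preimage_irrEquiv _ hmax.1.1.2
  have hpair : IsBrauerPair p M (R.subgroupOf H) s := ⟨hmax.1.1.1.comap_subtype, hs⟩
  refine criterion_imp_maximal hM hpair
    (θ := irrEquiv (resCentEquiv (centCompat_subgroupOf hRH hC)) θ) hθ ?_ ?_
  · have e1 : charDegree (irrEquiv (resCentEquiv (centCompat_subgroupOf hRH hC)) θ :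
        Subgroup.centralizer ((R.subgroupOf H : Subgroup H) : Set H) → ℂ) =
        charDegree (θ : Subgroup.centralizer (R : Set G) → ℂ) := by
      unfold charDegree
      rw [irrEquiv_apply, map_one]
    rw [e1, card_inf_centralizer_subgroupOf hRH hC,
      Nat.card_congr (resCentEquiv (centCompat_subgroupOf hRH hC)).toEquiv]
    exact hdeg
  · intro g hgN hgs hgo
    have hgNG : (g : G) ∈ Subgroup.normalizer (R : Set G) :=
      (mem_normalizer_subgroupOf_iff hRH g).mp hgN
    have hst := stabilizesBlock_resBlock (centCompat_subgroupOf hRH hC) hgs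
    obtain ⟨k, hk⟩ := hgo
    have hord : orderOf (g : G) = p ^ k := by
      rw [Subgroup.orderOf_coe]
      exact hk
    have := maximal_imp_pElements hM hmax hgNG hst hord
    rw [← map_sup_centralizer hRH hC] at this
    obtain ⟨y, hy, hyg⟩ := this
    have : y = g := Subtype.ext hyg
    rw [← this]
    exact hy

/-- a defect group carries a maximal Brauer pair -/
theorem exists_maximal_of_isDefectGroup {p : ℕ} [Fact p.Prime] (hM : IsPModular p M)
    {B : Set (IrrCharacter G)} (hB : IsPBlock M B) {P : Subgroup G}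
    (hP : IsDefectGroup p M B P) :
    ∃ e : Set (IrrCharacter (Subgroup.centralizer (P : Set G))),
      IsMaximalBrauerPair p M B P e := by
  have hPp := isPGroup_of_isDefectGroup hP
  obtain ⟨b, -, hind⟩ := ext_first_main_exists hM hB hP
    (H := P ⊔ Subgroup.centralizer (P : Set G)) le_sup_left le_sup_right
    (sup_centralizer_le_normalizer P)
  obtain ⟨e, hPe, -⟩ := exists_pair_of_induced hM hPp le_sup_left le_sup_right le_rfl hind
  exact ⟨e, isMaximalBrauerPair_of_card hM hPe (Cfsg.Agent.S0908.result p M hM B hB P hP)⟩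

omit [Fintype G] in
/-- conjugation by an element of `N_H(R)` commutes with the passage from `H` to `G` -/
theorem conjIrr_resBlock {H R : Subgroup G} (hRH : R ≤ H)
    (hC : Subgroup.centralizer (R : Set G) ≤ H) (n : H)
    (hnH : n ∈ Subgroup.normalizer ((R.subgroupOf H : Subgroup H) : Set H))
    (hnG : (n : G) ∈ Subgroup.normalizer (R : Set G))
    (s : Set (IrrCharacter (Subgroup.centralizer ((R.subgroupOf H : Subgroup H) : Set H)))) :
    resBlock (centCompat_subgroupOf hRH hC)
      (conjIrr (Subgroup.centralizer ((R.subgroupOf H : Subgroup H) : Set H)) n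
        (normalizer_le_normalizer_centralizer _ hnH) '' s) =
      conjIrr (Subgroup.centralizer (R : Set G)) (n : G)
        (normalizer_le_normalizer_centralizer R hnG) ''
          (resBlock (centCompat_subgroupOf hRH hC) s) := by
  ext ξ
  constructor
  · rintro ⟨ζ, hζ, hζξ⟩
    refine ⟨irrEquiv (resCentEquiv (centCompat_subgroupOf hRH hC)).symm ζ, ?_, ?_⟩
    · show irrEquiv (resCentEquiv (centCompat_subgroupOf hRH hC))
        (irrEquiv (resCentEquiv (centCompat_subgroupOf hRH hC)).symm ζ) ∈ s
      rw [irrEquiv_irrEquiv_symm]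
      exact hζ
    · apply Subtype.ext
      funext k
      rw [conjIrr_apply, irrEquiv_apply]
      have h1 := congrArg (fun φ : IrrCharacter _ => (φ :
        Subgroup.centralizer ((R.subgroupOf H : Subgroup H) : Set H) → ℂ)
          ((resCentEquiv (centCompat_subgroupOf hRH hC)).symm k)) hζξ
      simp only [conjIrr_apply, irrEquiv_apply, MulEquiv.apply_symm_apply] at h1
      rw [← h1]
      refine congrArg _ (Subtype.ext (Subtype.ext ?_))
      rfl
  · rintro ⟨ξ', hξ', rfl⟩
    refine ⟨irrEquiv (resCentEquiv (centCompat_subgroupOf hRH hC)) ξ', hξ', ?_⟩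
    apply Subtype.ext
    funext k0
    rw [conjIrr_apply, irrEquiv_apply, irrEquiv_apply, conjIrr_apply]
    refine congrArg _ (Subtype.ext ?_)
    rfl

end

section Idem

variable {K : Type*} [Group K] [Fintype K] {M : Ideal AlgInt}

/-- for two central idempotents modulo `p` with the same central character values modulo the
local ideal, `a ≡ a a'` modulo `p` -/
theorem idem_sub_conv_memPLocal [M.IsPrime] {p : ℕ} [Fact p.Prime] (hM : IsPModular p M)
    {a a' : K → ℂ} (ha : IsClassFunction K a) (ha' : IsClassFunction K a')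
    (haR : ∀ x, MemLocalRing M (a x)) (haR' : ∀ x, MemLocalRing M (a' x))
    (hid : ∀ x, MemPLocal M p (conv a a x - a x))
    (hid' : ∀ x, MemPLocal M p (conv a' a' x - a' x))
    (hω : ∀ φ : IrrCharacter K,
      MemLocalIdeal M (omegaF (φ : K → ℂ) a - omegaF (φ : K → ℂ) a')) :
    ∀ x, MemPLocal M p (a x - conv a a' x) := by
  have hMtop : M ≠ ⊤ := Ideal.IsPrime.ne_top inferInstance
  obtain ⟨u, hu⟩ : ∃ u : K → ℂ, u = conv a a - a := ⟨_, rfl⟩
  obtain ⟨u', hu'⟩ : ∃ u' : K → ℂ, u' = conv a' a' - a' := ⟨_, rfl⟩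
  obtain ⟨η, hη⟩ : ∃ η : K → ℂ, η = a - conv a a' := ⟨_, rfl⟩
  have hucf : IsClassFunction K u := by
    rw [hu]
    exact isClassFunction_sub (isClassFunction_conv ha ha) ha
  have hucf' : IsClassFunction K u' := by
    rw [hu']
    exact isClassFunction_sub (isClassFunction_conv ha' ha') ha'
  have hηcf : IsClassFunction K η := by
    rw [hη]
    exact isClassFunction_sub ha (isClassFunction_conv ha ha')
  have hup : ∀ x, MemPLocal M p (u x) := fun x => by
    rw [hu]
    exact hid x
  have hup' : ∀ x, MemPLocal M p (u' x) := fun x => by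
    rw [hu']
    exact hid' x
  have hηR : ∀ x, MemLocalRing M (η x) := fun x => by
    rw [hη]
    exact memLocalRing_sub (haR x) (conv_memLocalRing haR haR' x)
  have eη : ∀ χ : IrrCharacter K, omegaF (χ : K → ℂ) η =
      omegaF (χ : K → ℂ) a - omegaF (χ : K → ℂ) a * omegaF (χ : K → ℂ) a' := fun χ => by
    rw [hη, omegaF_sub, omegaF_conv χ.2 _ _ ha ha']
  have eu : ∀ χ : IrrCharacter K, omegaF (χ : K → ℂ) u =
      omegaF (χ : K → ℂ) a * omegaF (χ : K → ℂ) a - omegaF (χ : K → ℂ) a := fun χ => by
    rw [hu, omegaF_sub, omegaF_conv χ.2 _ _ ha ha]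
  have eu' : ∀ χ : IrrCharacter K, omegaF (χ : K → ℂ) u' =
      omegaF (χ : K → ℂ) a' * omegaF (χ : K → ℂ) a' - omegaF (χ : K → ℂ) a' := fun χ => by
    rw [hu', omegaF_sub, omegaF_conv χ.2 _ _ ha' ha']
  have key : conv η η - η = u - conv u a' + conv a u' + conv u u' := by
    apply eq_of_omegaF_eq _ _
      (isClassFunction_sub (isClassFunction_conv hηcf hηcf) hηcf)
      (isClassFunction_add (isClassFunction_add
        (isClassFunction_sub hucf (isClassFunction_conv hucf ha'))
        (isClassFunction_conv ha hucf')) (isClassFunction_conv hucf hucf'))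
    intro χ
    rw [omegaF_sub, omegaF_conv χ.2 _ _ hηcf hηcf, omegaF_add, omegaF_add, omegaF_sub,
      omegaF_conv χ.2 _ _ hucf ha', omegaF_conv χ.2 _ _ ha hucf',
      omegaF_conv χ.2 _ _ hucf hucf', eη, eu, eu']
    ring
  have hηid : ∀ x, MemPLocal M p (conv η η x - η x) := by
    intro x
    have e := congrFun key x
    simp only [Pi.sub_apply, Pi.add_apply] at e
    rw [e]
    exact memPLocal_add (memPLocal_add (memPLocal_sub (hup x)
      (conv_memPLocal_left hup haR' x)) (conv_memPLocal_right haR hup' x))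
      (conv_memPLocal_left hup (fun y => (hup' y).memLocalRing) x)
  have hηω : ∀ φ : IrrCharacter K, MemLocalIdeal M (omegaF (φ : K → ℂ) η) := by
    intro φ
    have h1 : MemLocalIdeal M (omegaF (φ : K → ℂ) u) :=
      omegaF_memLocalIdeal_of_coeff φ.2 u hucf (fun g => (hup g).memLocalIdeal hM)
    have hA : MemLocalRing M (omegaF (φ : K → ℂ) a) := omegaF_memLocalRing φ.2 a ha haR
    rw [eu] at h1
    have h2 := memLocalIdeal_add (memLocalIdeal_neg h1) (memLocalIdeal_mul_left hA (hω φ))
    rw [eη]
    have e : omegaF (φ : K → ℂ) a - omegaF (φ : K → ℂ) a * omegaF (φ : K → ℂ) a' =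
        -(omegaF (φ : K → ℂ) a * omegaF (φ : K → ℂ) a - omegaF (φ : K → ℂ) a) +
          omegaF (φ : K → ℂ) a * (omegaF (φ : K → ℂ) a - omegaF (φ : K → ℂ) a') := by ring
    rw [e]
    exact h2
  have hfin := memPLocal_of_idem_mod_p hM η hηcf hηR hηid hηω
  intro x
  have := hfin x
  rw [hη] at this
  exact this

/-- two central idempotents modulo `p` with the same central character values modulo the local
ideal agree modulo `p` -/
theorem idem_congr_memPLocal [M.IsPrime] {p : ℕ} [Fact p.Prime] (hM : IsPModular p M)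
    {a a' : K → ℂ} (ha : IsClassFunction K a) (ha' : IsClassFunction K a')
    (haR : ∀ x, MemLocalRing M (a x)) (haR' : ∀ x, MemLocalRing M (a' x))
    (hid : ∀ x, MemPLocal M p (conv a a x - a x))
    (hid' : ∀ x, MemPLocal M p (conv a' a' x - a' x))
    (hω : ∀ φ : IrrCharacter K,
      MemLocalIdeal M (omegaF (φ : K → ℂ) a - omegaF (φ : K → ℂ) a')) :
    ∀ x, MemPLocal M p (a x - a' x) := by
  have h1 := idem_sub_conv_memPLocal hM ha ha' haR haR' hid hid' hω
  have h2 := idem_sub_conv_memPLocal hM ha' ha haR' haR hid' hid (fun φ => by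
    have := memLocalIdeal_neg (hω φ)
    rwa [neg_sub] at this)
  have hcomm : conv a a' = conv a' a :=
    eq_of_omegaF_eq _ _ (isClassFunction_conv ha ha') (isClassFunction_conv ha' ha)
      (fun χ => by rw [omegaF_conv χ.2 _ _ ha ha', omegaF_conv χ.2 _ _ ha' ha, mul_comm])
  intro x
  have e : a x - a' x = (a x - conv a a' x) - (a' x - conv a' a x) := by
    rw [hcomm]
    ring
  rw [e]
  exact memPLocal_sub (h1 x) (h2 x)

end Idem

section

variable {G : Type*} [Group G] [Fintype G] {M : Ideal AlgInt}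

/-- congruent coefficients on `C_G(P)` give congruent Brauer-map images -/
theorem brauerOmega_sub_memLocalIdeal_of_congr [M.IsPrime] {P : Subgroup G} (β β' : G → ℂ)
    (hβC : InvUnder (Subgroup.centralizer (P : Set G)) β)
    (hβC' : InvUnder (Subgroup.centralizer (P : Set G)) β')
    (hcong : ∀ x ∈ Subgroup.centralizer (P : Set G), MemLocalIdeal M (β x - β' x))
    {ξ : Subgroup.centralizer (P : Set G) → ℂ}
    (hξ : IsIrrCharacter (Subgroup.centralizer (P : Set G)) ξ) :
    MemLocalIdeal M (brauerOmega P β ξ - brauerOmega P β' ξ) := by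
  rw [brauerOmega_eq_omegaF, brauerOmega_eq_omegaF, ← omegaF_sub]
  exact omegaF_memLocalIdeal_of_coeff hξ _
    (isClassFunction_sub (isClassFunction_resTo hβC) (isClassFunction_resTo hβC'))
    (fun g => hcong g g.2)

/-- the block of a character on which `Br_P(e_B)` does not vanish gives a Brauer pair of `B` -/
theorem isBrauerPairOf_blockOf [M.IsPrime] {p : ℕ} {B : Set (IrrCharacter G)}
    (hB : IsPBlock M B) {P : Subgroup G} (hP : IsPGroup p P)
    (ξ : IrrCharacter (Subgroup.centralizer (P : Set G)))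
    (h1 : MemLocalIdeal M
      (brauerOmega P (blockCoeff B) (ξ : Subgroup.centralizer (P : Set G) → ℂ) - 1)) :
    IsBrauerPairOf p M B P (blockOf M (ξ : Subgroup.centralizer (P : Set G) → ℂ)) := by
  refine ⟨⟨hP, ⟨ξ, rfl⟩⟩, hB, ?_⟩
  intro ξ' hξ'
  have hsb : SameBlock M (ξ : Subgroup.centralizer (P : Set G) → ℂ)
      (ξ' : Subgroup.centralizer (P : Set G) → ℂ) := hξ'
  have h2 := brauerOmega_sameBlock P (blockCoeff B)
    (invUnder_of_isClassFunction (isClassFunction_blockCoeff B) _) (fun g => osima hB g)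
    (Cfsg.Agent.Lib.Helper4.isClassFunction_of_isIrrCharacter ξ'.2)
    (Cfsg.Agent.Lib.Helper4.isClassFunction_of_isIrrCharacter ξ.2) (sameBlock_symm hsb)
  have := memLocalIdeal_add h2 h1
  rwa [sub_add_sub_cancel] at this

/-- conjugating a Brauer pair by an element of the normalizer -/
theorem isBrauerPairOf_conjIrr {p : ℕ} {B : Set (IrrCharacter G)} {P : Subgroup G}
    {e : Set (IrrCharacter (Subgroup.centralizer (P : Set G)))}
    (h : IsBrauerPairOf p M B P e) {n : G} (hn : n ∈ Subgroup.normalizer (P : Set G)) :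
    IsBrauerPairOf p M B P (conjIrr (Subgroup.centralizer (P : Set G)) n
      (normalizer_le_normalizer_centralizer P hn) '' e) := by
  have h3 := isBrauerPairOf_conj h n
  have h4 : ∀ a : BrauerPairIdx G, a = ⟨P, conjIrr (Subgroup.centralizer (P : Set G)) n
      (normalizer_le_normalizer_centralizer P hn) '' e⟩ → IsBrauerPairOf p M B a.1 a.2 →
      IsBrauerPairOf p M B P (conjIrr (Subgroup.centralizer (P : Set G)) n
        (normalizer_le_normalizer_centralizer P hn) '' e) := by
    rintro _ rfl h
    exact h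
  exact h4 _ (conjPair_normalizer hn e) h3

/-- a Brauer pair of `B` at `P` gives a Brauer pair of the correspondent `c` -/
theorem omega_res_of_omega {p : ℕ} [Fact p.Prime] (hM : IsPModular p M) {H P : Subgroup G}
    (hPH : P ≤ H) (hC : Subgroup.centralizer (P : Set G) ≤ H)
    (hN : Subgroup.normalizer (P : Set G) ≤ H)
    {B : Set (IrrCharacter G)} {c : Set (IrrCharacter H)}
    {s : Set (IrrCharacter (Subgroup.centralizer ((P.subgroupOf H : Subgroup H) : Set H)))}
    (hmaxG : IsMaximalBrauerPair p M B P (resBlock (centCompat_subgroupOf hPH hC) s))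
    (hpairH : IsBrauerPairOf p M c (P.subgroupOf H) s)
    (ξ : IrrCharacter (Subgroup.centralizer (P : Set G)))
    (h1 : MemLocalIdeal M
      (brauerOmega P (blockCoeff B) (ξ : Subgroup.centralizer (P : Set G) → ℂ) - 1)) :
    MemLocalIdeal M (brauerOmega (P.subgroupOf H) (blockCoeff c)
      (irrEquiv (resCentEquiv (centCompat_subgroupOf hPH hC)) ξ :
        Subgroup.centralizer ((P.subgroupOf H : Subgroup H) : Set H) → ℂ) - 1) := by
  have hMprime : M.IsPrime := hM.2.1.isPrime
  have hMtop : M ≠ ⊤ := Ideal.IsPrime.ne_top hMprime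
  have hpair' := isBrauerPairOf_blockOf (p := p) hmaxG.1.2.1 hmaxG.1.1.1 ξ h1
  have hξe' : ξ ∈ blockOf M (ξ : Subgroup.centralizer (P : Set G) → ℂ) :=
    sameBlock_refl hMtop _
  obtain ⟨n, hn, heq⟩ := exists_normalizer_conj_eq hM hmaxG hpair'
  have hnH : (⟨n, hN hn⟩ : H) ∈
      Subgroup.normalizer ((P.subgroupOf H : Subgroup H) : Set H) :=
    (mem_normalizer_subgroupOf_iff hPH _).mpr hn
  have h5 := isBrauerPairOf_conjIrr hpairH hnH
  have heq2 := conjIrr_resBlock hPH hC ⟨n, hN hn⟩ hnH hn s
  rw [← heq2] at heq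
  rw [heq] at hξe'
  exact h5.2.2 _ hξe'

/-- a Brauer pair of the correspondent `c` at `P` gives a Brauer pair of `B` -/
theorem omega_of_omega_res {p : ℕ} [Fact p.Prime] (hM : IsPModular p M) {H P : Subgroup G}
    (hPH : P ≤ H) (hC : Subgroup.centralizer (P : Set G) ≤ H)
    {B : Set (IrrCharacter G)} {c : Set (IrrCharacter H)}
    {s : Set (IrrCharacter (Subgroup.centralizer ((P.subgroupOf H : Subgroup H) : Set H)))}
    (hpairG : IsBrauerPairOf p M B P (resBlock (centCompat_subgroupOf hPH hC) s))
    (hmaxH : IsMaximalBrauerPair p M c (P.subgroupOf H) s)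
    (ξ : IrrCharacter (Subgroup.centralizer (P : Set G)))
    (h1 : MemLocalIdeal M (brauerOmega (P.subgroupOf H) (blockCoeff c)
      (irrEquiv (resCentEquiv (centCompat_subgroupOf hPH hC)) ξ :
        Subgroup.centralizer ((P.subgroupOf H : Subgroup H) : Set H) → ℂ) - 1)) :
    MemLocalIdeal M
      (brauerOmega P (blockCoeff B) (ξ : Subgroup.centralizer (P : Set G) → ℂ) - 1) := by
  have hMprime : M.IsPrime := hM.2.1.isPrime
  have hMtop : M ≠ ⊤ := Ideal.IsPrime.ne_top hMprime
  have hpair' := isBrauerPairOf_blockOf (p := p) hmaxH.1.2.1 hmaxH.1.1.1 _ h1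
  obtain ⟨n, hn, heq⟩ := exists_normalizer_conj_eq hM hmaxH hpair'
  have hnG : (n : G) ∈ Subgroup.normalizer (P : Set G) :=
    (mem_normalizer_subgroupOf_iff hPH n).mp hn
  have h5 := isBrauerPairOf_conjIrr hpairG hnG
  rw [← conjIrr_resBlock hPH hC n hn hnG s, ← heq] at h5
  apply h5.2.2 ξ
  show irrEquiv (resCentEquiv (centCompat_subgroupOf hPH hC)) ξ ∈
    blockOf M (irrEquiv (resCentEquiv (centCompat_subgroupOf hPH hC)) ξ :
      Subgroup.centralizer ((P.subgroupOf H : Subgroup H) : Set H) → ℂ)
  exact sameBlock_refl hMtop _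

/-- **the Brauer-map images agree**: blocks `B` of `G` and `c` of `H ≥ N_G(P)` with a common
maximal Brauer pair at `P` have congruent idempotent coefficients on `C_G(P)` -/
theorem brauer_corr_congr {p : ℕ} [Fact p.Prime] (hM : IsPModular p M) {H P : Subgroup G}
    (hPH : P ≤ H) (hC : Subgroup.centralizer (P : Set G) ≤ H)
    (hN : Subgroup.normalizer (P : Set G) ≤ H)
    {B : Set (IrrCharacter G)} {c : Set (IrrCharacter H)}
    {s : Set (IrrCharacter (Subgroup.centralizer ((P.subgroupOf H : Subgroup H) : Set H)))}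
    (hmaxG : IsMaximalBrauerPair p M B P (resBlock (centCompat_subgroupOf hPH hC) s))
    (hmaxH : IsMaximalBrauerPair p M c (P.subgroupOf H) s) :
    ∀ x : G, x ∈ Subgroup.centralizer (P : Set G) →
      MemLocalIdeal M (blockCoeff B x - subgroupBlockCoeff H c x) := by
  have hMprime : M.IsPrime := hM.2.1.isPrime
  have hMtop : M ≠ ⊤ := Ideal.IsPrime.ne_top hMprime
  have hB := hmaxG.1.2.1
  have hc := hmaxH.1.2.1
  have hPp : IsPGroup p P := hmaxG.1.1.1
  have hβcf := isClassFunction_blockCoeff B
  have hβR : ∀ g, MemLocalRing M (blockCoeff B g) := fun g => osima hB g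
  have hβ'H : InvUnder H (subgroupBlockCoeff H c) := by
    rw [subgroupBlockCoeff_eq_extZero]
    exact invUnder_extZero_self H (isClassFunction_blockCoeff c)
  have hβ'P := invUnder_mono hPH hβ'H
  have hβ'C := invUnder_mono hC hβ'H
  have hβ'R : ∀ g, MemLocalRing M (subgroupBlockCoeff H c g) :=
    fun g => subgroupBlockCoeff_memLocalRing H hc g
  have ha : IsClassFunction (Subgroup.centralizer (P : Set G))
      (resTo (Subgroup.centralizer (P : Set G)) (blockCoeff B)) :=
    isClassFunction_resTo (invUnder_of_isClassFunction hβcf _)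
  have ha' : IsClassFunction (Subgroup.centralizer (P : Set G))
      (resTo (Subgroup.centralizer (P : Set G)) (subgroupBlockCoeff H c)) :=
    isClassFunction_resTo hβ'C
  have hid : ∀ z : Subgroup.centralizer (P : Set G), MemPLocal M p
      (conv (resTo (Subgroup.centralizer (P : Set G)) (blockCoeff B))
        (resTo (Subgroup.centralizer (P : Set G)) (blockCoeff B)) z -
        resTo (Subgroup.centralizer (P : Set G)) (blockCoeff B) z) := by
    intro z
    have h1 := conv_sub_memPLocal (M := M) P hPp (blockCoeff B) (blockCoeff B)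
      (invUnder_of_isClassFunction hβcf _) (invUnder_of_isClassFunction hβcf _) hβR hβR z z.2
    rw [conv_blockCoeff_inter, Set.inter_self] at h1
    have := memPLocal_neg h1
    rw [neg_sub] at this
    exact this
  have hid' : ∀ z : Subgroup.centralizer (P : Set G), MemPLocal M p
      (conv (resTo (Subgroup.centralizer (P : Set G)) (subgroupBlockCoeff H c))
        (resTo (Subgroup.centralizer (P : Set G)) (subgroupBlockCoeff H c)) z -
        resTo (Subgroup.centralizer (P : Set G)) (subgroupBlockCoeff H c) z) := by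
    intro z
    have h1 := conv_sub_memPLocal (M := M) P hPp (subgroupBlockCoeff H c)
      (subgroupBlockCoeff H c) hβ'P hβ'P hβ'R hβ'R z z.2
    rw [conv_subgroupBlockCoeff_self] at h1
    have := memPLocal_neg h1
    rw [neg_sub] at this
    exact this
  have hω : ∀ ξ : IrrCharacter (Subgroup.centralizer (P : Set G)), MemLocalIdeal M
      (omegaF (ξ : Subgroup.centralizer (P : Set G) → ℂ)
        (resTo (Subgroup.centralizer (P : Set G)) (blockCoeff B)) -
       omegaF (ξ : Subgroup.centralizer (P : Set G) → ℂ)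
        (resTo (Subgroup.centralizer (P : Set G)) (subgroupBlockCoeff H c))) := by
    intro ξ
    rw [← brauerOmega_eq_omegaF, ← brauerOmega_eq_omegaF]
    have e2 : brauerOmega P (subgroupBlockCoeff H c)
        (ξ : Subgroup.centralizer (P : Set G) → ℂ) =
        brauerOmega (P.subgroupOf H) (blockCoeff c)
          (irrEquiv (resCentEquiv (centCompat_subgroupOf hPH hC)) ξ :
            Subgroup.centralizer ((P.subgroupOf H : Subgroup H) : Set H) → ℂ) := by
      rw [subgroupBlockCoeff_eq_extZero]
      exact brauerOmega_res _ (blockCoeff c) ξ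
    have d1 := brauerOmega_blockCoeff_dichotomy P hM hPp B
      (fun φ hφ φ' h => (mem_block_iff hB hφ φ').mpr h) ξ.2
    have d2 := brauerOmega_blockCoeff_dichotomy (P.subgroupOf H) hM hmaxH.1.1.1 c
      (fun φ hφ φ' h => (mem_block_iff hc hφ φ').mpr h)
      (irrEquiv (resCentEquiv (centCompat_subgroupOf hPH hC)) ξ).2
    rcases d1 with d1 | d1 <;> rcases d2 with d2 | d2
    · rw [e2]
      exact memLocalIdeal_sub d1 d2
    · exfalso
      have h3 := omega_of_omega_res hM hPH hC hmaxG.1 hmaxH ξ d2
      have h4 := memLocalIdeal_sub d1 h3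
      rw [sub_sub_cancel] at h4
      exact not_memLocalIdeal_one hMtop h4
    · exfalso
      have h3 := omega_res_of_omega hM hPH hC hN hmaxG hmaxH.1 ξ d1
      have h4 := memLocalIdeal_sub d2 h3
      rw [sub_sub_cancel] at h4
      exact not_memLocalIdeal_one hMtop h4
    · rw [e2]
      have := memLocalIdeal_sub d1 d2
      rwa [sub_sub_sub_cancel_right] at this
  have hfin := idem_congr_memPLocal hM ha ha' (fun z => hβR z) (fun z => hβ'R z) hid hid' hω
  intro x hx
  exact (hfin ⟨x, hx⟩).memLocalIdeal hM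

/-- **Brauer correspondence over a subgroup `H ≥ N_G(P)`** -/
theorem brauer_corr_over {p : ℕ} [Fact p.Prime] (hM : IsPModular p M) {P H : Subgroup G}
    (hH : Subgroup.normalizer (P : Set G) ≤ H) :
    (∀ B : Set (IrrCharacter G), IsPBlock M B → IsDefectGroup p M B P →
      ∃! c : Set (IrrCharacter H), IsPBlock M c ∧ IsDefectGroup p M c (P.subgroupOf H) ∧
        ∀ x : G, x ∈ Subgroup.centralizer (P : Set G) →
          MemLocalIdeal M (blockCoeff B x - subgroupBlockCoeff H c x)) ∧
    (∀ c : Set (IrrCharacter H), IsPBlock M c → IsDefectGroup p M c (P.subgroupOf H) →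
      ∃! B : Set (IrrCharacter G), IsPBlock M B ∧ IsDefectGroup p M B P ∧
        ∀ x : G, x ∈ Subgroup.centralizer (P : Set G) →
          MemLocalIdeal M (blockCoeff B x - subgroupBlockCoeff H c x)) := by
  have hMprime : M.IsPrime := hM.2.1.isPrime
  have hPH : P ≤ H := Subgroup.le_normalizer.trans hH
  have hC : Subgroup.centralizer (P : Set G) ≤ H :=
    (fun u hu => Subgroup.centralizer_le_normalizer _ hu : _ ≤ _).trans hH
  have hval : ∀ (c : Set (IrrCharacter H)) (y : H),
      subgroupBlockCoeff H c (y : G) = blockCoeff c y := by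
    intro c y
    rw [subgroupBlockCoeff_eq_extZero]
    exact extZero_mem' H (blockCoeff c) y
  constructor
  · intro B hB hBP
    obtain ⟨e, hmaxG0⟩ := exists_maximal_of_isDefectGroup hM hB hBP
    have hmaxG : IsMaximalBrauerPair p M B P
        (resBlock (centCompat_subgroupOf hPH hC) (cutBlock H hPH hC e)) := by
      rw [resBlock_cutBlock]
      exact hmaxG0
    obtain ⟨c, hmaxH⟩ := exists_maximal_of_cut hM hPH hC hmaxG
    have hcong := brauer_corr_congr hM hPH hC hH hmaxG hmaxH
    refine ⟨c, ⟨hmaxH.1.2.1, isDefectGroup_of_maximal hM hmaxH, hcong⟩, ?_⟩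
    rintro c' ⟨hc', -, hcong'⟩
    have hpair' : IsBrauerPairOf p M c' (P.subgroupOf H) (cutBlock H hPH hC e) := by
      refine ⟨hmaxH.1.1, hc', ?_⟩
      intro ξ hξ
      have h1 := hmaxH.1.2.2 ξ hξ
      have h2 := brauerOmega_sub_memLocalIdeal_of_congr (M := M) (P := P.subgroupOf H)
        (blockCoeff c') (blockCoeff c)
        (invUnder_of_isClassFunction (isClassFunction_blockCoeff c') _)
        (invUnder_of_isClassFunction (isClassFunction_blockCoeff c) _)
        (fun y hy => by
          have hyG : (y : G) ∈ Subgroup.centralizer (P : Set G) :=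
            (centCompat_subgroupOf hPH hC _).mpr ⟨y.2, hy⟩
          have h3 := memLocalIdeal_sub (hcong _ hyG) (hcong' _ hyG)
          rw [sub_sub_sub_cancel_left, hval, hval] at h3
          exact h3) ξ.2
      have := memLocalIdeal_add h2 h1
      rwa [sub_add_sub_cancel] at this
    exact (existsUnique_isBrauerPairOf (P.subgroupOf H) hM _ hmaxH.1.1).unique hpair' hmaxH.1
  · intro c hc hcP
    obtain ⟨s, hmaxH⟩ := exists_maximal_of_isDefectGroup hM hc hcP
    obtain ⟨B, hmaxG⟩ := exists_maximal_of_res hM hPH hC hH hmaxH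
    have hcong := brauer_corr_congr hM hPH hC hH hmaxG hmaxH
    refine ⟨B, ⟨hmaxG.1.2.1, isDefectGroup_of_maximal hM hmaxG, hcong⟩, ?_⟩
    rintro B' ⟨hB', -, hcong'⟩
    have hpair' : IsBrauerPairOf p M B' P (resBlock (centCompat_subgroupOf hPH hC) s) := by
      refine ⟨hmaxG.1.1, hB', ?_⟩
      intro ξ hξ
      have h1 := hmaxG.1.2.2 ξ hξ
      have h2 := brauerOmega_sub_memLocalIdeal_of_congr (M := M) (P := P)
        (blockCoeff B') (blockCoeff B)
        (invUnder_of_isClassFunction (isClassFunction_blockCoeff B') _)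
        (invUnder_of_isClassFunction (isClassFunction_blockCoeff B) _)
        (fun x hx => by
          have h3 := memLocalIdeal_sub (hcong' x hx) (hcong x hx)
          rw [sub_sub_sub_cancel_right] at h3
          exact h3) ξ.2
      have := memLocalIdeal_add h2 h1
      rwa [sub_add_sub_cancel] at this
    exact (existsUnique_isBrauerPairOf P hM _ hmaxG.1.1).unique hpair' hmaxG.1

end

end Cfsg.Agent.Lib.Helper4
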