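import Mathlib
import Cfsg.Agent.Lib.Helper4.BrauerAbelNil

set_option autoImplicit false

/-!
# `p'`-groups of automorphisms of a cyclic `p`-group (helper4)
-/

namespace Cfsg.Agent.Lib.Helper4

open Cfsg

section

variable {G : Type*} [Group G]

theorem conj_pow_pow {a t : G} {u : ℕ} (h : t * a * t⁻¹ = a ^ u) (j : ℕ) :
    t ^ j * a * (t ^ j)⁻¹ = a ^ (u ^ j) := by
  induction j with
  | zero => simp
  | succ j ih =>
    have e : t ^ (j + 1) * a * (t ^ (j + 1))⁻¹ = t * (t ^ j * a * (t ^ j)⁻¹) * t⁻¹ := by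
      rw [pow_succ']
      group
    rw [e, ih, ← conj_pow, h, ← pow_mul, pow_succ']

/-- the action of `T ≤ N_G(P)` on a nontrivial cyclic `p`-group `P`, when `[T : C_G(P)]` is prime
to `p` -/
theorem cyclic_inertial [Finite G] {p : ℕ} [Fact p.Prime] {P T : Subgroup G} (hP : IsPGroup p P)
    (hcyc : IsCyclic P) (hP1 : P ≠ ⊥) (hTN : T ≤ Subgroup.normalizer (P : Set G))
    [hn : ((Subgroup.centralizer (P : Set G)).subgroupOf T).Normal]
    (hidx : ¬ p ∣ ((Subgroup.centralizer (P : Set G)).subgroupOf T).index) :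
    IsCyclic (T ⧸ (Subgroup.centralizer (P : Set G)).subgroupOf T) ∧
      (Subgroup.centralizer (P : Set G)).relIndex T ∣ p - 1 ∧
      ∀ g ∈ T, ∀ x ∈ P, x ≠ 1 → g * x * g⁻¹ = x → g ∈ Subgroup.centralizer (P : Set G) := by
  classical
  have hp : p.Prime := Fact.out
  obtain ⟨a', ha'⟩ := IsCyclic.exists_generator (α := P)
  obtain ⟨a, haP, rfl⟩ : ∃ a : G, ∃ h : a ∈ P, a' = ⟨a, h⟩ := ⟨a', a'.2, rfl⟩
  have hPz : P = Subgroup.zpowers a := by
    apply le_antisymm
    · intro x hx
      obtain ⟨k, hk⟩ := Subgroup.mem_zpowers_iff.mp (ha' ⟨x, hx⟩)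
      rw [Subgroup.mem_zpowers_iff]
      refine ⟨k, ?_⟩
      have := congrArg Subtype.val hk
      simpa using this
    · rw [Subgroup.zpowers_le]
      exact haP
  have horda : orderOf a = Nat.card P := by
    rw [← orderOf_eq_card_of_forall_mem_zpowers ha']
    exact (Subgroup.orderOf_mk a haP).symm
  obtain ⟨n, hn'⟩ := hP.exists_card_eq
  have hn0 : n ≠ 0 := by
    rintro rfl
    rw [pow_zero] at hn'
    exact hP1 (Subgroup.eq_bot_of_card_eq P hn')
  obtain ⟨m, rfl⟩ := Nat.exists_eq_succ_of_ne_zero hn0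
  rw [Nat.succ_eq_add_one] at hn'
  have horda' : orderOf a = p ^ (m + 1) := by rw [horda, hn']
  have hpm0 : p ^ m ≠ 0 := pow_ne_zero _ hp.ne_zero
  obtain ⟨z, hz_def⟩ : ∃ z : G, z = a ^ (p ^ m) := ⟨_, rfl⟩
  have hordz : orderOf z = p := by
    rw [hz_def, orderOf_pow_of_dvd hpm0 (by rw [horda']; exact pow_dvd_pow p (Nat.le_succ m)),
      horda', pow_succ, Nat.mul_div_cancel_left _ (Nat.pos_of_ne_zero hpm0)]
  -- exponents
  have hexp : ∀ t ∈ T, ∃ u : ℕ, t * a * t⁻¹ = a ^ u := by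
    intro t ht
    have h1 : t * a * t⁻¹ ∈ P := (Subgroup.mem_normalizer_iff.mp (hTN ht) a).mp haP
    rw [hPz, ← mem_powers_iff_mem_zpowers, Submonoid.mem_powers_iff] at h1
    obtain ⟨u, hu⟩ := h1
    exact ⟨u, hu.symm⟩
  have hzconj : ∀ (t : G) (u : ℕ), t * a * t⁻¹ = a ^ u →
      (t * z * t⁻¹ = z ↔ u ≡ 1 [MOD p]) := by
    intro t u hu
    have e1 : t * z * t⁻¹ = a ^ (u * p ^ m) := by
      rw [hz_def, ← conj_pow, hu, ← pow_mul]
    rw [e1, hz_def, pow_eq_pow_iff_modEq, horda', pow_succ']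
    have key : u * p ^ m ≡ 1 * p ^ m [MOD p * p ^ m] ↔ u ≡ 1 [MOD p] :=
      Nat.ModEq.mul_right_cancel_iff' hpm0
    rw [one_mul] at key
    exact key
  have hcent : ∀ t : G, t * a * t⁻¹ = a → t ∈ Subgroup.centralizer (P : Set G) := by
    intro t ht
    have hc : Commute t a := by
      have : t * a = a * t := by
        have := congrArg (· * t) ht
        simpa [mul_assoc] using this
      exact this
    rw [Subgroup.mem_centralizer_iff]
    intro x hx
    rw [SetLike.mem_coe, hPz, Subgroup.mem_zpowers_iff] at hx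
    obtain ⟨k, rfl⟩ := hx
    exact ((hc.zpow_right k).eq).symm
  have hker : ∀ t ∈ T, t * z * t⁻¹ = z → t ∈ Subgroup.centralizer (P : Set G) := by
    intro t ht htz
    obtain ⟨u, hu⟩ := hexp t ht
    have hu1 := (hzconj t u hu).mp htz
    have h1 : t ^ (p ^ m) * a * (t ^ (p ^ m))⁻¹ = a ^ (u ^ (p ^ m)) := conj_pow_pow hu _
    have h2 : u ^ (p ^ m) ≡ 1 [MOD p ^ (m + 1)] := by
      have hd : ((p : ℕ) : ℤ) ∣ (u : ℤ) - 1 := by
        have := (Nat.modEq_iff_dvd.mp hu1.symm)
        simpa using this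
      have := dvd_sub_pow_of_dvd_sub hd m
      rw [one_pow] at this
      apply Nat.ModEq.symm
      rw [Nat.modEq_iff_dvd]
      push_cast
      exact this
    have h3 : a ^ (u ^ (p ^ m)) = a := by
      conv_rhs => rw [← pow_one a]
      rw [pow_eq_pow_iff_modEq, horda']
      exact h2
    have h4 : t ^ (p ^ m) ∈ Subgroup.centralizer (P : Set G) := hcent _ (h1.trans h3)
    have h5 : t ^ ((Subgroup.centralizer (P : Set G)).subgroupOf T).index ∈
        Subgroup.centralizer (P : Set G) := by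
      have h6 : ((QuotientGroup.mk (⟨t, ht⟩ : T) :
          T ⧸ (Subgroup.centralizer (P : Set G)).subgroupOf T)) ^
            ((Subgroup.centralizer (P : Set G)).subgroupOf T).index = 1 := by
        rw [Subgroup.index_eq_card]
        exact pow_card_eq_one'
      rw [← QuotientGroup.mk_pow, QuotientGroup.eq_one_iff, Subgroup.mem_subgroupOf] at h6
      simpa using h6
    refine mem_of_pow_mem_of_coprime ?_ h4 h5
    exact Nat.Coprime.pow_left m ((Nat.Prime.coprime_iff_not_dvd hp).mpr hidx)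
  -- the subgroup of order `p`
  have hTN1 : ∀ t ∈ T, t ∈ Subgroup.normalizer ((Subgroup.zpowers z : Subgroup G) : Set G) := by
    have hmap : ∀ t ∈ T, ∀ x ∈ Subgroup.zpowers z, t * x * t⁻¹ ∈ Subgroup.zpowers z := by
      intro t ht x hx
      obtain ⟨k, rfl⟩ := Subgroup.mem_zpowers_iff.mp hx
      obtain ⟨u, hu⟩ := hexp t ht
      have e1 : t * z * t⁻¹ = z ^ u := by
        rw [hz_def, ← conj_pow, hu, ← pow_mul, ← pow_mul, mul_comm]
      have e2 : t * z ^ k * t⁻¹ = (t * z * t⁻¹) ^ k := by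
        rw [conj_zpow]
      rw [e2, e1]
      exact Subgroup.zpow_mem _ (Subgroup.pow_mem _ (Subgroup.mem_zpowers z) _) _
    intro t ht
    rw [Subgroup.mem_normalizer_iff]
    intro x
    constructor
    · exact hmap t ht x
    · intro hx
      have := hmap t⁻¹ (T.inv_mem ht) _ hx
      have e : t⁻¹ * (t * x * t⁻¹) * t⁻¹⁻¹ = x := by group
      rwa [e] at this
  obtain ⟨Ψ, hΨ⟩ : ∃ Ψ : T →* MulAut (Subgroup.zpowers z),
      ∀ (t : T) (k : Subgroup.zpowers z), ((Ψ t k : Subgroup.zpowers z) : G) =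
        (t : G) * k * (t : G)⁻¹ := by
    refine ⟨MonoidHom.mk' (fun t => conjK (Subgroup.zpowers z) (t : G) (hTN1 t t.2)) ?_, ?_⟩
    · intro s t
      ext k
      rw [MulAut.mul_apply, conjK_apply, conjK_apply, conjK_apply]
      simp only [Subgroup.coe_mul]
      group
    · intro t k
      exact conjK_apply (Subgroup.zpowers z) (t : G) (hTN1 t t.2) k
  have hcard1 : Nat.card (Subgroup.zpowers z) = p := by rw [Nat.card_zpowers]; exact hordz
  haveI : IsCyclic (Subgroup.zpowers z) := isCyclic_of_prime_card hcard1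
  have hcardA : Nat.card (MulAut (Subgroup.zpowers z)) = p - 1 := by
    rw [IsCyclic.card_mulAut, hcard1, Nat.totient_prime hp]
  haveI : IsCyclic (MulAut (Subgroup.zpowers z)) := by
    haveI : Fact (Nat.card (Subgroup.zpowers z)).Prime := ⟨by rw [hcard1]; exact hp⟩
    exact isCyclic_of_injective (IsCyclic.mulAutMulEquiv (Subgroup.zpowers z)).toMonoidHom
      (IsCyclic.mulAutMulEquiv (Subgroup.zpowers z)).injective
  have hzP : Subgroup.zpowers z ≤ P := by
    rw [Subgroup.zpowers_le, hz_def]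
    exact P.pow_mem haP _
  have hkerΨ : ∀ t : T, Ψ t = 1 ↔ (t : G) ∈ Subgroup.centralizer (P : Set G) := by
    intro t
    constructor
    · intro h
      apply hker t t.2
      have := hΨ t ⟨z, Subgroup.mem_zpowers z⟩
      rw [h] at this
      simpa using this.symm
    · intro h
      ext k
      rw [hΨ, MulAut.one_apply]
      have := (Subgroup.mem_centralizer_iff.mp h) (k : G) (hzP k.2)
      rw [← this]
      group
  have hle : (Subgroup.centralizer (P : Set G)).subgroupOf T ≤ Ψ.ker := by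
    intro t ht
    rw [MonoidHom.mem_ker, hkerΨ]
    exact Subgroup.mem_subgroupOf.mp ht
  have hLinj : Function.Injective
      (QuotientGroup.lift ((Subgroup.centralizer (P : Set G)).subgroupOf T) Ψ hle) := by
    rw [injective_iff_map_eq_one]
    intro q hq
    obtain ⟨t, rfl⟩ := QuotientGroup.mk_surjective q
    rw [QuotientGroup.lift_mk, hkerΨ] at hq
    rw [QuotientGroup.eq_one_iff, Subgroup.mem_subgroupOf]
    exact hq
  refine ⟨isCyclic_of_injective _ hLinj, ?_, ?_⟩
  · have := Subgroup.card_dvd_of_injective _ hLinj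
    rw [hcardA, ← Subgroup.index_eq_card] at this
    exact this
  · intro g hg x hx hx1 hgx
    obtain ⟨u, hu⟩ := hexp g hg
    rw [hPz, ← mem_powers_iff_mem_zpowers, Submonoid.mem_powers_iff] at hx
    obtain ⟨j, rfl⟩ := hx
    have e1 : g * a ^ j * g⁻¹ = a ^ (u * j) := by
      rw [← conj_pow, hu, ← pow_mul]
    rw [e1, pow_eq_pow_iff_modEq, horda'] at hgx
    have hj : ¬ p ^ (m + 1) ∣ j := by
      intro hdvd
      apply hx1
      rw [← horda'] at hdvd
      exact orderOf_dvd_iff_pow_eq_one.mp hdvd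
    have hu1 : u ≡ 1 [MOD p] := by
      by_contra hcon
      apply hj
      have h1 : ((p ^ (m + 1) : ℕ) : ℤ) ∣ (j : ℤ) - ((u * j : ℕ) : ℤ) := Nat.modEq_iff_dvd.mp hgx
      have h2 : ¬ ((p : ℕ) : ℤ) ∣ (1 : ℤ) - (u : ℤ) := by
        intro h
        apply hcon
        rw [Nat.modEq_iff_dvd]
        simpa using h
      have hcop : IsCoprime (((p ^ (m + 1) : ℕ) : ℤ)) ((1 : ℤ) - (u : ℤ)) := by
        push_cast
        apply IsCoprime.pow_left
        rw [Prime.coprime_iff_not_dvd (Nat.prime_iff_prime_int.mp hp)]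
        exact h2
      have h3 : (j : ℤ) - ((u * j : ℕ) : ℤ) = ((1 : ℤ) - (u : ℤ)) * (j : ℤ) := by
        push_cast
        ring
      rw [h3] at h1
      have := hcop.dvd_of_dvd_mul_left h1
      exact_mod_cast this
    exact hker g hg ((hzconj g u hu).mpr hu1)

end

end Cfsg.Agent.Lib.Helper4
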