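import Mathlib
import Cfsg.Agent.Lib.Helper4.CyclicInertial
import Cfsg.Agent.Lib.Helper4.BrauerNilLocal
import Cfsg.Agent.Lib.Helper4.BrauerAbel

set_option autoImplicit false

/-!
# Blocks with cyclic defect groups: the inertial quotient (helper4)
-/

namespace Cfsg.Agent.Lib.Helper4

open Cfsg Cfsg.Agent.Lib.Helper28
open scoped Classical

section

variable {G : Type*} [Group G] [Fintype G] {M : Ideal AlgInt}

/-- a block of `C_G(P)` inducing `B`, for an abelian defect group `P` of `B`, gives a maximal
Brauer pair -/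
theorem isMaximalBrauerPair_of_induced_abelian {p : ℕ} [Fact p.Prime] (hM : IsPModular p M)
    {B : Set (IrrCharacter G)} (hB : IsPBlock M B) {P : Subgroup G}
    (hPD : IsDefectGroup p M B P) (hPC : P ≤ Subgroup.centralizer (P : Set G))
    {c : Set (IrrCharacter (Subgroup.centralizer (P : Set G)))}
    (hc : IsInducedBlock M (Subgroup.centralizer (P : Set G)) c B) :
    IsMaximalBrauerPair p M B P c := by
  have hPp := isPGroup_of_isDefectGroup hPD
  obtain ⟨e, hPe, hbe⟩ := exists_pair_of_induced hM hPp hPC le_rfl le_sup_right hc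
  have hcoef : blockCoeff c = blockCoeff e := by
    funext h
    rw [hbe h, subgroupBlockCoeff_eq_extZero]
    exact extZero_mem' (Subgroup.centralizer (P : Set G)) (blockCoeff e) h
  have hce : c = e := blockCoeff_injective hcoef
  rw [hce]
  exact isMaximalBrauerPair_of_card hM hPe (Cfsg.Agent.S0908.result p M hM B hB P hPD)

/-- **S4633**: the inertial quotient of a block with cyclic defect group -/
theorem cyclic_defect_inertial {p : ℕ} [Fact p.Prime] (hM : IsPModular p M)
    {B : Set (IrrCharacter G)} (hB : IsPBlock M B) {P : Subgroup G}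
    (hPD : IsDefectGroup p M B P) (hP1 : P ≠ ⊥) (hcyc : IsCyclic P)
    {c : Set (IrrCharacter (Subgroup.centralizer (P : Set G)))}
    (hc : IsInducedBlock M (Subgroup.centralizer (P : Set G)) c B) {T : Subgroup G}
    (hT : ∀ g : G, g ∈ T ↔ (g ∈ Subgroup.normalizer (P : Set G) ∧
      StabilizesBlock (Subgroup.centralizer (P : Set G)) c g))
    [hn : ((Subgroup.centralizer (P : Set G)).subgroupOf T).Normal] :
    IsCyclic (T ⧸ (Subgroup.centralizer (P : Set G)).subgroupOf T) ∧
      (Subgroup.centralizer (P : Set G)).relIndex T ∣ p - 1 ∧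
      ∀ g ∈ T, ∀ x ∈ P, x ≠ 1 → g * x * g⁻¹ = x → g ∈ Subgroup.centralizer (P : Set G) := by
  have hPp := isPGroup_of_isDefectGroup hPD
  have hPC : P ≤ Subgroup.centralizer (P : Set G) := by
    intro x hx y hy
    letI := IsCyclic.commGroup (α := P)
    have := mul_comm (⟨y, hy⟩ : P) ⟨x, hx⟩
    exact congrArg Subtype.val this
  have hmax := isMaximalBrauerPair_of_induced_abelian hM hB hPD hPC hc
  have hidx := not_dvd_inertial_index hM hmax hPC hT
  exact cyclic_inertial hPp hcyc hP1 (fun t ht => ((hT t).mp ht).1) hidx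

end

end Cfsg.Agent.Lib.Helper4
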