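import Mathlib
import Cfsg.Agent.Lib.Helper4.BrauerCyclic
import Cfsg.Agent.Lib.Helper4.BrauerCorr
import Cfsg.Agent.Lib.Helper4.BrauerAbelNil
import Cfsg.Agent.Lib.Helper28.BrauerG

set_option autoImplicit false

/-!
# Abelian defect groups: free action of the inertial quotient and nilpotent local blocks (helper4)
-/

namespace Cfsg.Agent.Lib.Helper4

open Cfsg Cfsg.Agent.Lib.Helper28
open scoped Classical

section

variable {G : Type*} [Group G] [Fintype G] {M : Ideal AlgInt}

omit [Fintype G] in
/-- block induction inside `H`, computed in the group `H` -/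
theorem inducedCentralChar_eq_inducedCentralCharIn (H : Subgroup G) (K' : Subgroup H)
    (K : Subgroup G) (φ : K' ≃* K) (hφ : ∀ k' : K', ((φ k' : K) : G) = ((k' : H) : G))
    (ξ : K → ℂ) (h : H) :
    inducedCentralChar K' (fun k' => ξ (φ k')) h = inducedCentralCharIn H K ξ (h : G) := by
  unfold inducedCentralChar inducedCentralCharIn
  apply finsum_mem_eq_of_bijOn φ
  · refine ⟨?_, φ.injective.injOn, ?_⟩
    · intro k' hk'
      obtain ⟨c, hc⟩ := isConj_iff.mp hk'
      refine ⟨c⁻¹, ?_⟩
      rw [hφ]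
      have : ((k' : H) : G) = ((c * h * c⁻¹ : H) : G) := by rw [hc]
      rw [this]
      push_cast
      group
    · intro k hk
      obtain ⟨x, hx⟩ := hk
      refine ⟨φ.symm k, ?_, φ.apply_symm_apply k⟩
      show IsConj h ((φ.symm k : K') : H)
      rw [isConj_iff]
      refine ⟨x⁻¹, ?_⟩
      apply Subtype.ext
      have e1 : (((φ.symm k : K') : H) : G) = (k : G) := by
        rw [← hφ, φ.apply_symm_apply]
      rw [e1]
      push_cast
      rw [← hx]
      group
  · intro k' _
    show ξ (φ k') / ξ (φ 1) = ξ (φ k') / ξ 1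
    rw [map_one]

omit [Fintype G] in
theorem isInducedBlock_of_isInducedBlockIn {H P : Subgroup G} (hPH : P ≤ H)
    (hC : Subgroup.centralizer (P : Set G) ≤ H)
    {c : Set (IrrCharacter (Subgroup.centralizer (P : Set G)))} {f : Set (IrrCharacter H)}
    (h : IsInducedBlockIn M H (Subgroup.centralizer (P : Set G)) c f) :
    IsInducedBlock M (Subgroup.centralizer ((P.subgroupOf H : Subgroup H) : Set H))
      (cutBlock H hPH hC c) f := by
  obtain ⟨hc, hf, hcong⟩ := h
  refine ⟨isPBlock_preimage_irrEquiv _ hc, hf, ?_⟩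
  intro ξ' hξ' χ hχ g
  have hξ : irrEquiv (resCentEquiv (centCompat_subgroupOf hPH hC)).symm ξ' ∈ c := hξ'
  have := hcong _ hξ χ hχ g
  rw [← inducedCentralChar_eq_inducedCentralCharIn H _ _
    (resCentEquiv (centCompat_subgroupOf hPH hC)) (fun _ => rfl)] at this
  convert this using 3
  funext k'
  rw [irrEquiv_apply, MulEquiv.symm_apply_apply]

omit [Fintype G] in
theorem isInducedBlockIn_of_isInducedBlock {H P : Subgroup G} (hPH : P ≤ H)
    (hC : Subgroup.centralizer (P : Set G) ≤ H)
    {c : Set (IrrCharacter (Subgroup.centralizer (P : Set G)))} {f : Set (IrrCharacter H)}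
    (hc : IsPBlock M c)
    (h : IsInducedBlock M (Subgroup.centralizer ((P.subgroupOf H : Subgroup H) : Set H))
      (cutBlock H hPH hC c) f) :
    IsInducedBlockIn M H (Subgroup.centralizer (P : Set G)) c f := by
  obtain ⟨-, hf, hcong⟩ := h
  refine ⟨hc, hf, ?_⟩
  intro ξ hξ χ hχ g
  have hξ' : irrEquiv (resCentEquiv (centCompat_subgroupOf hPH hC)) ξ ∈
      cutBlock H hPH hC c := by
    show irrEquiv (resCentEquiv (centCompat_subgroupOf hPH hC)).symm
      (irrEquiv (resCentEquiv (centCompat_subgroupOf hPH hC)) ξ) ∈ c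
    rw [irrEquiv_symm_irrEquiv]
    exact hξ
  have := hcong _ hξ' χ hχ g
  rw [← inducedCentralChar_eq_inducedCentralCharIn H _ _
    (resCentEquiv (centCompat_subgroupOf hPH hC)) (fun _ => rfl)]
  exact this


/-- for an abelian defect group `P` with maximal pair `(P, c)`, the local block at `Q ≤ P` is
nilpotent iff `C_T(Q) ≤ C_G(P)` -/
theorem nilpotent_local_iff {p : ℕ} [Fact p.Prime] (hM : IsPModular p M)
    {B : Set (IrrCharacter G)} (hB : IsPBlock M B) {P : Subgroup G}
    (hPD : IsDefectGroup p M B P) (hPab : ∀ x ∈ P, ∀ y ∈ P, x * y = y * x)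
    {c : Set (IrrCharacter (Subgroup.centralizer (P : Set G)))}
    (hc : IsInducedBlock M (Subgroup.centralizer (P : Set G)) c B)
    {Q : Subgroup G} (hQP : Q ≤ P)
    {f : Set (IrrCharacter (Subgroup.centralizer (Q : Set G)))}
    (hf : IsInducedBlockIn M (Subgroup.centralizer (Q : Set G))
      (Subgroup.centralizer (P : Set G)) c f) :
    IsNilpotentBlock p M f ↔ ∀ x : G, x ∈ Subgroup.normalizer (P : Set G) →
      StabilizesBlock (Subgroup.centralizer (P : Set G)) c x →
      x ∈ Subgroup.centralizer (Q : Set G) → x ∈ Subgroup.centralizer (P : Set G) := by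
  have hPC : P ≤ Subgroup.centralizer (P : Set G) := fun x hx y hy => hPab y hy x hx
  have hPH : P ≤ Subgroup.centralizer (Q : Set G) := fun x hx y hy => hPab y (hQP hy) x hx
  have hC : Subgroup.centralizer (P : Set G) ≤ Subgroup.centralizer (Q : Set G) :=
    Subgroup.centralizer_le (by exact_mod_cast hQP)
  have compat := centCompat_subgroupOf hPH hC
  have hmax := isMaximalBrauerPair_of_induced_abelian hM hB hPD hPC hc
  have hPp : IsPGroup p P := hmax.1.1.1
  have hmax' : IsMaximalBrauerPair p M B P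
      (resBlock compat (cutBlock (Subgroup.centralizer (Q : Set G)) hPH hC c)) := by
    rw [resBlock_cutBlock hPH hC c]
    exact hmax
  obtain ⟨c₀, hc₀⟩ := exists_maximal_of_cut hM hPH hC hmax'
  have hf' := isInducedBlock_of_isInducedBlockIn hPH hC hf
  have hPp' : IsPGroup p (P.subgroupOf (Subgroup.centralizer (Q : Set G))) := hPp.comap_subtype
  have hPC' : P.subgroupOf (Subgroup.centralizer (Q : Set G)) ≤
      Subgroup.centralizer ((P.subgroupOf (Subgroup.centralizer (Q : Set G)) :
        Subgroup (Subgroup.centralizer (Q : Set G))) : Set (Subgroup.centralizer (Q : Set G))) := by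
    intro x hx y hy
    apply Subtype.ext
    exact hPab _ (Subgroup.mem_subgroupOf.mp hy) _ (Subgroup.mem_subgroupOf.mp hx)
  obtain ⟨e, hPe, hbe⟩ := exists_pair_of_induced hM hPp' hPC' le_rfl le_sup_right hf'
  have hcoef : blockCoeff (cutBlock (Subgroup.centralizer (Q : Set G)) hPH hC c) =
      blockCoeff e := by
    funext h
    rw [hbe h, subgroupBlockCoeff_eq_extZero]
    exact extZero_mem' _ (blockCoeff e) h
  have hce : cutBlock (Subgroup.centralizer (Q : Set G)) hPH hC c = e :=
    blockCoeff_injective hcoef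
  rw [← hce] at hPe
  have hfc : f = c₀ :=
    (existsUnique_isBrauerPairOf _ hM _ hPe.1).unique hPe hc₀.1
  rw [← hfc] at hc₀
  have hab' : ∀ x ∈ P.subgroupOf (Subgroup.centralizer (Q : Set G)),
      ∀ y ∈ P.subgroupOf (Subgroup.centralizer (Q : Set G)), x * y = y * x := by
    intro x hx y hy
    apply Subtype.ext
    exact hPab _ (Subgroup.mem_subgroupOf.mp hx) _ (Subgroup.mem_subgroupOf.mp hy)
  rw [abelian_nilpotent_iff hM hc₀ hab']
  constructor
  · intro h x hxN hxst hxQ
    have h1 := h ⟨x, hxQ⟩ ((mem_normalizer_subgroupOf_iff hPH _).mpr hxN)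
      (stabilizesBlock_of_resBlock compat (by
        rw [resBlock_cutBlock hPH hC c]
        exact hxst))
    exact (compat x).mpr ⟨hxQ, h1⟩
  · intro h x hxN hxst
    have hxN' := (mem_normalizer_subgroupOf_iff hPH x).mp hxN
    have hxst' := stabilizesBlock_resBlock compat hxst
    rw [resBlock_cutBlock hPH hC c] at hxst'
    have := h (x : G) hxN' hxst' x.2
    exact ((compat _).mp this).2

/-- the local block at `Q ≤ P` exists -/
theorem exists_isInducedBlockIn {p : ℕ} [Fact p.Prime] (hM : IsPModular p M)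
    {P : Subgroup G} (hPp : IsPGroup p P) (hPab : ∀ x ∈ P, ∀ y ∈ P, x * y = y * x)
    {c : Set (IrrCharacter (Subgroup.centralizer (P : Set G)))} (hc : IsPBlock M c)
    {Q : Subgroup G} (hQP : Q ≤ P) :
    ∃ f : Set (IrrCharacter (Subgroup.centralizer (Q : Set G))),
      IsInducedBlockIn M (Subgroup.centralizer (Q : Set G))
        (Subgroup.centralizer (P : Set G)) c f := by
  have hPH : P ≤ Subgroup.centralizer (Q : Set G) := fun x hx y hy => hPab y (hQP hy) x hx
  have hC : Subgroup.centralizer (P : Set G) ≤ Subgroup.centralizer (Q : Set G) :=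
    Subgroup.centralizer_le (by exact_mod_cast hQP)
  have hPp' : IsPGroup p (P.subgroupOf (Subgroup.centralizer (Q : Set G))) := hPp.comap_subtype
  have hPC' : P.subgroupOf (Subgroup.centralizer (Q : Set G)) ≤
      Subgroup.centralizer ((P.subgroupOf (Subgroup.centralizer (Q : Set G)) :
        Subgroup (Subgroup.centralizer (Q : Set G))) : Set (Subgroup.centralizer (Q : Set G))) := by
    intro x hx y hy
    apply Subtype.ext
    exact hPab _ (Subgroup.mem_subgroupOf.mp hy) _ (Subgroup.mem_subgroupOf.mp hx)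
  have hc' : IsPBlock M (cutBlock (Subgroup.centralizer (Q : Set G)) hPH hC c) :=
    isPBlock_preimage_irrEquiv _ hc
  obtain ⟨f, hf⟩ := exists_induced_block hM
    (P.subgroupOf (Subgroup.centralizer (Q : Set G)))
    (Subgroup.centralizer ((P.subgroupOf (Subgroup.centralizer (Q : Set G)) :
        Subgroup (Subgroup.centralizer (Q : Set G))) : Set (Subgroup.centralizer (Q : Set G))))
    hPp' hPC' le_rfl (fun x hx => centralizer_le_normalizer' _ hx) hc'
  exact ⟨f, isInducedBlockIn_of_isInducedBlock hPH hC hc hf⟩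

/-- **S4650** -/
theorem abelian_free_iff_nilpotent {p : ℕ} [Fact p.Prime] (hM : IsPModular p M)
    {B : Set (IrrCharacter G)} (hB : IsPBlock M B) {P : Subgroup G}
    (hPD : IsDefectGroup p M B P) (hPab : ∀ x ∈ P, ∀ y ∈ P, x * y = y * x)
    {c : Set (IrrCharacter (Subgroup.centralizer (P : Set G)))}
    (hc : IsInducedBlock M (Subgroup.centralizer (P : Set G)) c B) {T : Subgroup G}
    (hT : ∀ g : G, g ∈ T ↔ (g ∈ Subgroup.normalizer (P : Set G) ∧
      StabilizesBlock (Subgroup.centralizer (P : Set G)) c g)) :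
    (∀ g ∈ T, ∀ x ∈ P, x ≠ 1 → g * x * g⁻¹ = x → g ∈ Subgroup.centralizer (P : Set G)) ↔
      ∀ Q : Subgroup G, Q ≤ P → Q ≠ ⊥ →
        ∀ f : Set (IrrCharacter (Subgroup.centralizer (Q : Set G))),
          IsInducedBlockIn M (Subgroup.centralizer (Q : Set G))
            (Subgroup.centralizer (P : Set G)) c f → IsNilpotentBlock p M f := by
  have hPp := isPGroup_of_isDefectGroup hPD
  constructor
  · intro hfree Q hQP hQ1 f hf
    rw [nilpotent_local_iff hM hB hPD hPab hc hQP hf]
    intro x hxN hxst hxQ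
    obtain ⟨q, hq1⟩ := (Subgroup.ne_bot_iff_exists_ne_one).mp hQ1
    have hq1' : (q : G) ≠ 1 := fun h => hq1 (Subtype.ext h)
    have hcomm : (q : G) * x = x * (q : G) := hxQ (q : G) q.2
    have hfix : x * (q : G) * x⁻¹ = (q : G) := by
      rw [← hcomm]
      group
    exact hfree x ((hT x).mpr ⟨hxN, hxst⟩) (q : G) (hQP q.2) hq1' hfix
  · intro hnil g hgT x hxP hx1 hfix
    have hQP : Subgroup.zpowers x ≤ P := (Subgroup.zpowers_le).mpr hxP
    have hQ1 : Subgroup.zpowers x ≠ ⊥ := by
      intro h
      exact hx1 (Subgroup.zpowers_eq_bot.mp h)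
    obtain ⟨f, hf⟩ := exists_isInducedBlockIn hM hPp hPab hc.1 hQP
    have h1 := (nilpotent_local_iff hM hB hPD hPab hc hQP hf).mp (hnil _ hQP hQ1 f hf)
    obtain ⟨hgN, hgst⟩ := (hT g).mp hgT
    apply h1 g hgN hgst
    rw [Subgroup.mem_centralizer_iff]
    rintro _ ⟨n, rfl⟩
    have hcomm : Commute g x := by
      show g * x = x * g
      have := congrArg (· * g) hfix
      simpa using this
    exact ((hcomm.zpow_right n).eq).symm

end

end Cfsg.Agent.Lib.Helper4
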