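import Mathlib
import Cfsg.Agent.Lib.Helper4.BrauerFusion

set_option autoImplicit false

/-!
# The fusion system of a block: centric subgroups (helper4)
-/

namespace Cfsg.Agent.Lib.Helper4

open Cfsg Cfsg.Agent.Lib.Helper28
open scoped ComplexConjugate Classical

section

variable {G : Type*} [Group G] [Fintype G] {M : Ideal AlgInt}

theorem center_map_conj (Q : Subgroup G) (g : G) :
    (Q ⊓ Subgroup.centralizer (Q : Set G)).map (MulAut.conj g).toMonoidHom =
      Q.map (MulAut.conj g).toMonoidHom ⊓
        Subgroup.centralizer ((Q.map (MulAut.conj g).toMonoidHom : Subgroup G) : Set G) := by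
  ext y
  rw [mem_map_conj_iff, Subgroup.mem_inf, Subgroup.mem_inf, mem_map_conj_iff,
    Subgroup.mem_centralizer_iff, Subgroup.mem_centralizer_iff]
  refine and_congr Iff.rfl ?_
  constructor
  · intro h u hu
    have hu' : g⁻¹ * u * g ∈ Q := (mem_map_conj_iff Q g u).mp hu
    have := h _ hu'
    have h2 : g * (g⁻¹ * u * g * (g⁻¹ * y * g)) * g⁻¹ = g * (g⁻¹ * y * g * (g⁻¹ * u * g)) * g⁻¹ := by
      rw [this]
    simpa [mul_assoc] using h2
  · intro h u hu
    have hu' : g * u * g⁻¹ ∈ Q.map (MulAut.conj g).toMonoidHom := by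
      rw [mem_map_conj_iff]
      simpa [mul_assoc] using hu
    have := h _ hu'
    have h2 : g⁻¹ * (g * u * g⁻¹ * y) * g = g⁻¹ * (y * (g * u * g⁻¹)) * g := by
      rw [this]
    simpa [mul_assoc] using h2

theorem card_center_conj (Q : Subgroup G) (g : G) :
    Nat.card (Q.map (MulAut.conj g).toMonoidHom ⊓
        Subgroup.centralizer ((Q.map (MulAut.conj g).toMonoidHom : Subgroup G) : Set G) : Subgroup G) =
      Nat.card (Q ⊓ Subgroup.centralizer (Q : Set G) : Subgroup G) := by
  rw [← center_map_conj]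
  exact Subgroup.card_map_of_injective (MulAut.conj g).injective

theorem isConj_refl' {P : Subgroup G} (F : FusionSystem P) {Q : Subgroup G} (hQP : Q ≤ P) :
    F.IsConj Q Q := by
  refine ⟨conjHom Q 1, F.conj_mem hQP (one_mem P), ?_⟩
  rw [range_conjHom]
  ext y
  rw [mem_map_conj_iff]
  simp

/-- **S4680** -/
theorem centric_iff {p : ℕ} [Fact p.Prime] (hM : IsPModular p M)
    {B : Set (IrrCharacter G)} {P : Subgroup G}
    {e : Set (IrrCharacter (Subgroup.centralizer (P : Set G)))}
    (hmax : IsMaximalBrauerPair p M B P e) {F : FusionSystem P}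
    (hF : IsBlockFusionSystemOn p M B P e F) {Q : Subgroup G}
    {f : Set (IrrCharacter (Subgroup.centralizer (Q : Set G)))} (hQP : Q ≤ P)
    (hf : IsPBlock M f) (hle : SubpairLE p M Q f P e) :
    F.IsCentric Q ↔ IsDefectGroup p M f
      ((Q ⊓ Subgroup.centralizer (Q : Set G)).subgroupOf (Subgroup.centralizer (Q : Set G))) := by
  have hPe : IsBrauerPair p M P e := hmax.1.1
  have hp : p.Prime := Fact.out
  constructor
  · rintro ⟨_, hcen⟩
    have h0 : FusionSystem.centralizerIn P Q ≤ Q := hcen Q (isConj_refl' F hQP)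
    have heq : P ⊓ Subgroup.centralizer (Q : Set G) = Q ⊓ Subgroup.centralizer (Q : Set G) := by
      apply le_antisymm
      · exact le_inf h0 inf_le_right
      · exact inf_le_inf_right _ hQP
    rw [← heq]
    refine (fullyCentralized_iff hM hmax hF hQP hf hle).mp ⟨hQP, fun Q' hconj => ?_⟩
    have h1 : FusionSystem.centralizerIn P Q' ≤ Q' := hcen Q' hconj
    obtain ⟨g, rfl, hle₁⟩ := (isConj_blockFusion_iff hM hF hQP hf hle Q').mp hconj
    have h2 : FusionSystem.centralizerIn P (Q.map (MulAut.conj g).toMonoidHom) ≤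
        Q.map (MulAut.conj g).toMonoidHom ⊓
        Subgroup.centralizer ((Q.map (MulAut.conj g).toMonoidHom : Subgroup G) : Set G) :=
      le_inf h1 inf_le_right
    calc Nat.card (FusionSystem.centralizerIn P (Q.map (MulAut.conj g).toMonoidHom))
        ≤ Nat.card (Q.map (MulAut.conj g).toMonoidHom ⊓
        Subgroup.centralizer ((Q.map (MulAut.conj g).toMonoidHom : Subgroup G) : Set G) :
          Subgroup G) := Subgroup.card_le_of_le h2
      _ = Nat.card (Q ⊓ Subgroup.centralizer (Q : Set G) : Subgroup G) := card_center_conj Q g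
      _ = Nat.card (FusionSystem.centralizerIn P Q) := by
        show _ = Nat.card (P ⊓ Subgroup.centralizer (Q : Set G) : Subgroup G)
        rw [heq]
  · intro hdef
    refine ⟨hQP, fun Q' hconj => ?_⟩
    obtain ⟨g, rfl, hle₁⟩ := (isConj_blockFusion_iff hM hF hQP hf hle Q').mp hconj
    have hf₁ : IsPBlock M (conjBlock Q g f) := isPBlock_conjBlock Q g hf
    have hQ'P : Q.map (MulAut.conj g).toMonoidHom ≤ P := subpairLE_le hle₁
    have h1 := card_centralizerIn_le hM hPe hQ'P hf₁ hle₁
    rw [blockDefect_conjBlock] at h1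
    have h2 := Cfsg.Agent.S0908.result p M hM f hf _ hdef
    rw [card_subgroupOf_inf] at h2
    rw [← h2, ← card_center_conj Q g] at h1
    have h3 : Q.map (MulAut.conj g).toMonoidHom ⊓
        Subgroup.centralizer ((Q.map (MulAut.conj g).toMonoidHom : Subgroup G) : Set G) ≤
        FusionSystem.centralizerIn P (Q.map (MulAut.conj g).toMonoidHom) :=
      inf_le_inf_right _ hQ'P
    have h4 := Subgroup.eq_of_le_of_card_ge h3 h1
    rw [← h4]
    exact inf_le_left

end

end Cfsg.Agent.Lib.Helper4
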