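import Mathlib
import Cfsg.Agent.Lib.Helper4.BrauerNilFusion

set_option autoImplicit false

/-!
# The fusion system of a block exists (helper4)
-/

namespace Cfsg.Agent.Lib.Helper4

open Cfsg Cfsg.Agent.Lib.Helper28
open scoped ComplexConjugate Classical

section

variable {G : Type*} [Group G] [Fintype G] {M : Ideal AlgInt}

/-- two pairs below a pair with the same first component are equal -/
theorem pair_eq_of_le_of_fst_eq {p : ℕ} [Fact p.Prime] (hM : IsPModular p M)
    {a b c : BrauerPairIdx G} (hc : IsBrauerPair p M c.1 c.2)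
    (ha : Relation.ReflTransGen (NormalSubpairRel p M) a c)
    (hb : Relation.ReflTransGen (NormalSubpairRel p M) b c) (h : a.1 = b.1) : a = b := by
  obtain ⟨A, f⟩ := a
  obtain ⟨A', f'⟩ := b
  obtain ⟨P, e⟩ := c
  simp only at h
  subst h
  have hAP : A ≤ P := subpairLE_le ha
  have := subpair_unique hM _ P A e hc hAP le_rfl f f' (isPBlock_of_subpairLE hc.2 ha)
    (isPBlock_of_subpairLE hc.2 hb) ha hb
  rw [this]

/-- two pairs below a pair are comparable as soon as their first components are -/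
theorem subpairLE_of_le_of_le {p : ℕ} [Fact p.Prime] (hM : IsPModular p M)
    {a b c : BrauerPairIdx G} (hc : IsBrauerPair p M c.1 c.2)
    (ha : Relation.ReflTransGen (NormalSubpairRel p M) a c)
    (hb : Relation.ReflTransGen (NormalSubpairRel p M) b c) (h : a.1 ≤ b.1) :
    Relation.ReflTransGen (NormalSubpairRel p M) a b := by
  have hb1 : b.1 ≤ c.1 := subpairLE_le hb
  have hbp : IsBrauerPair p M b.1 b.2 := ⟨hc.1.to_le hb1, isPBlock_of_subpairLE hc.2 hb⟩
  obtain ⟨f', hf', hle'⟩ := exists_subpairLE hM _ b.1 a.1 b.2 hbp h le_rfl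
  have h2 : Relation.ReflTransGen (NormalSubpairRel p M) (⟨a.1, f'⟩ : BrauerPairIdx G) c :=
    Relation.ReflTransGen.trans hle' hb
  have h3 : (⟨a.1, f'⟩ : BrauerPairIdx G) = a := pair_eq_of_le_of_fst_eq hM hc h2 ha rfl
  rw [← h3]
  exact hle'

/-- **the fusion system of a block on a Brauer pair `(P, e)`** -/
def blockFusionSystem {p : ℕ} [Fact p.Prime] (hM : IsPModular p M) {P : Subgroup G}
    {e : Set (IrrCharacter (Subgroup.centralizer (P : Set G)))} (hPe : IsBrauerPair p M P e) :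
    FusionSystem P where
  Hom Q := {φ | Q ≤ P ∧ ∃ g : G, (∀ u : Q, φ u = g * (u : G) * g⁻¹) ∧
    Q.map (MulAut.conj g).toMonoidHom ≤ P ∧
    ∃ f : Set (IrrCharacter (Subgroup.centralizer (Q : Set G))),
      SubpairLE p M Q f P e ∧
        SubpairLE p M (Q.map (MulAut.conj g).toMonoidHom) (conjBlock Q g f) P e}
  le_of_mem := by
    rintro Q φ ⟨hQP, g, hg, hmap, -⟩
    refine ⟨hQP, fun x => ?_⟩
    rw [hg x]
    exact hmap ⟨(x : G), x.2, rfl⟩
  injective_of_mem := by
    rintro Q φ ⟨-, g, hg, -⟩ a b hab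
    have h : g * (a : G) * g⁻¹ = g * (b : G) * g⁻¹ := ((hg a).symm.trans hab).trans (hg b)
    exact Subtype.ext (mul_left_cancel (mul_right_cancel h))
  conj_mem := by
    intro Q g hQP hg
    have hMprime : M.IsPrime := hM.2.1.isPrime
    obtain ⟨f, hf, hle⟩ := exists_subpairLE hM _ P Q e hPe hQP le_rfl
    have h1 := subpairLE_conj (M := M) (p := p) hle g
    rw [conjPair_eq_self_of_stab hPe.2 (Subgroup.le_normalizer hg)
      (stabilizesBlock_of_mem P e hg)] at h1
    exact ⟨hQP, g, fun u => rfl, subpairLE_le h1, f, hle, h1⟩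
  comp_mem := by
    rintro Q Q' φ ψ ⟨hQP, g, hg, hmap, f, hle, hle'⟩ ⟨hQ'P, g', hg', hmap', f', hle2, hle2'⟩ h
    have hsub : Q.map (MulAut.conj g).toMonoidHom ≤ Q' := by
      rintro _ ⟨u, hu, rfl⟩
      have := h ⟨u, hu⟩
      rw [hg ⟨u, hu⟩] at this
      exact this
    have h3 : Relation.ReflTransGen (NormalSubpairRel p M)
        (conjPair g (⟨Q, f⟩ : BrauerPairIdx G)) ⟨Q', f'⟩ :=
      subpairLE_of_le_of_le hM (c := (⟨P, e⟩ : BrauerPairIdx G)) hPe hle' hle2 hsub
    have h4 := subpairLE_conj h3 g'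
    rw [conjPair_mul] at h4
    have h5 : Relation.ReflTransGen (NormalSubpairRel p M)
        (conjPair (g' * g) (⟨Q, f⟩ : BrauerPairIdx G)) ⟨P, e⟩ :=
      Relation.ReflTransGen.trans h4 hle2'
    refine ⟨hQP, g' * g, fun u => ?_, subpairLE_le h5, f, hle, h5⟩
    show ψ (φ.codRestrict Q' h u) = g' * g * (u : G) * (g' * g)⁻¹
    rw [hg']
    show g' * φ u * g'⁻¹ = _
    rw [hg u, mul_inv_rev]
    simp only [mul_assoc]
  inv_mem := by
    rintro Q φ ⟨hQP, g, hg, hmap, f, hle, hle'⟩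
    have hφ : φ = conjHom Q g := MonoidHom.ext fun u => hg u
    subst hφ
    have key : ∀ (R : Subgroup G) (_ : Q.map (MulAut.conj g).toMonoidHom = R),
        ∃ ψ : R →* G, (R ≤ P ∧ ∃ g' : G, (∀ u : R, ψ u = g' * (u : G) * g'⁻¹) ∧
          R.map (MulAut.conj g').toMonoidHom ≤ P ∧
          ∃ f' : Set (IrrCharacter (Subgroup.centralizer (R : Set G))),
            SubpairLE p M R f' P e ∧
              SubpairLE p M (R.map (MulAut.conj g').toMonoidHom) (conjBlock R g' f') P e) ∧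
          ∀ (x : Q) (hx : g * (x : G) * g⁻¹ ∈ R), ψ ⟨g * (x : G) * g⁻¹, hx⟩ = (x : G) := by
      intro R hR
      subst hR
      have h6 : Relation.ReflTransGen (NormalSubpairRel p M)
          (conjPair g⁻¹ (conjPair g (⟨Q, f⟩ : BrauerPairIdx G))) ⟨P, e⟩ := by
        rw [conjPair_inv_conjPair]
        exact hle
      refine ⟨conjHom _ g⁻¹, ⟨hmap, g⁻¹, fun u => rfl, subpairLE_le h6, conjBlock Q g f, hle', h6⟩,
        ?_⟩
      intro x hx
      show g⁻¹ * (g * (x : G) * g⁻¹) * g⁻¹⁻¹ = (x : G)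
      group
    obtain ⟨ψ, hψ, hψx⟩ := key (conjHom Q g).range (range_conjHom Q g).symm
    exact ⟨ψ, hψ, fun x => hψx x ⟨x, rfl⟩⟩

theorem isBlockFusionSystemOn_blockFusionSystem {p : ℕ} [Fact p.Prime] (hM : IsPModular p M)
    {B : Set (IrrCharacter G)} {P : Subgroup G}
    {e : Set (IrrCharacter (Subgroup.centralizer (P : Set G)))}
    (hmax : IsMaximalBrauerPair p M B P e) :
    IsBlockFusionSystemOn p M B P e (blockFusionSystem hM hmax.1.1) :=
  ⟨hmax, fun _ _ => Iff.rfl⟩

end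

end Cfsg.Agent.Lib.Helper4
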