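import Mathlib
import Cfsg.Agent.Lib.Helper4.CentralCanon

set_option autoImplicit false

/-!
# The characters of a block with central defect group (helper4)
-/

namespace Cfsg.Agent.Lib.Helper4

open Cfsg Cfsg.Agent.Lib.Helper28 Cfsg.Agent.Lib.Helper26
open scoped ComplexConjugate Classical

section

variable {G : Type*} [Group G] [Fintype G] {M : Ideal AlgInt}

/-- in a block with central defect group all characters agree on the `p`-regular elements -/
theorem preg_eq_of_central_defect {p : ℕ} [Fact p.Prime] (hM : IsPModular p M)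
    {e : Set (IrrCharacter G)} (he : IsPBlock M e) {Z : Subgroup G}
    (hZdef : IsDefectGroup p M e Z) (hZc : Z ≤ Subgroup.center G) {ψ ψ' : IrrCharacter G}
    (hψ : ψ ∈ e) (hψ' : ψ' ∈ e) {g : G} (hg : ¬ p ∣ orderOf g) :
    (ψ : G → ℂ) g = (ψ' : G → ℂ) g := by
  have hp : p.Prime := Fact.out
  have hprime : M.IsPrime := hM.2.1.isPrime
  have hZp : IsPGroup p Z := isPGroup_of_isDefectGroup hZdef
  obtain ⟨ψh, hψhe, hψh0⟩ := exists_height_zero (p := p) (block_nonempty he)
  have hdeg := degree_factorization_of_height_zero hM he hZdef hψh0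
  -- every member agrees with `ψh` on the `p`-regular elements
  have key : ∀ χ : IrrCharacter G, χ ∈ e → ∀ g : G, ¬ p ∣ orderOf g →
      (χ : G → ℂ) g = (ψh : G → ℂ) g := by
    intro χ hχ
    have hsb : SameBlock M (ψh : G → ℂ) (χ : G → ℂ) := (mem_block_iff he hψhe χ).mp hχ
    obtain ⟨k, hk⟩ := preg_eq_int_mul_of_sameBlock hM hZp hZc ψh hdeg χ hsb
    have h1reg : ¬ p ∣ orderOf (1 : G) := by
      rw [orderOf_one]; exact hp.one_lt.ne' ∘ Nat.dvd_one.mp
    obtain ⟨hne, hχ1, _⟩ := irr_degree_nat χ.2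
    obtain ⟨hneh, hψh1, _⟩ := irr_degree_nat ψh.2
    have h1 := hk 1 h1reg
    rw [hχ1, hψh1] at h1
    -- `k > 0`
    have hkpos : 0 < k := by
      by_contra hcon
      push Not at hcon
      have h2 : ((charDegree (χ : G → ℂ) : ℤ) : ℂ) =
          ((k * (charDegree (ψh : G → ℂ) : ℤ) : ℤ) : ℂ) := by
        push_cast
        exact h1
      have h3 : (charDegree (χ : G → ℂ) : ℤ) = k * (charDegree (ψh : G → ℂ) : ℤ) := by
        exact_mod_cast h2
      have h4 : k * (charDegree (ψh : G → ℂ) : ℤ) ≤ 0 :=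
        mul_nonpos_of_nonpos_of_nonneg hcon (Int.natCast_nonneg _)
      have h5 : 0 < (charDegree (χ : G → ℂ) : ℤ) := by
        exact_mod_cast Nat.pos_of_ne_zero hne
      omega
    -- `k ^ 2 ≤ 1` from the norm inequality
    have hA := (card_mul_sum_preg_le hZp hZc χ.2).1
    have hB := laradji_sum hZp hZc ψh hdeg
    have hsumeq : ∑ y : G, (if p ∣ orderOf y then 0 else Complex.normSq ((χ : G → ℂ) y)) =
        (k : ℝ) ^ 2 * ∑ y : G, (if p ∣ orderOf y then 0 else
          Complex.normSq ((ψh : G → ℂ) y)) := by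
      rw [Finset.mul_sum]
      refine Finset.sum_congr rfl fun y _ => ?_
      by_cases hy : p ∣ orderOf y
      · rw [if_pos hy, if_pos hy, mul_zero]
      · rw [if_neg hy, if_neg hy, hk y hy, Complex.normSq_mul]
        have : (k : ℂ) = ((k : ℝ) : ℂ) := by push_cast; rfl
        rw [this, Complex.normSq_ofReal]
        ring
    have hDpos : (0 : ℝ) < Nat.card Z := by exact_mod_cast Nat.card_pos
    have hGpos : (0 : ℝ) < Nat.card G := by exact_mod_cast Nat.card_pos
    have hk2 : (k : ℝ) ^ 2 ≤ 1 := by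
      rw [hsumeq] at hA
      have h6 : (k : ℝ) ^ 2 * (Nat.card G : ℝ) ≤ (Nat.card G : ℝ) := by
        have h8 : (k : ℝ) ^ 2 * (Nat.card G : ℝ) =
            (Nat.card Z : ℝ) * ((k : ℝ) ^ 2 * ∑ y : G, (if p ∣ orderOf y then 0 else
                Complex.normSq ((ψh : G → ℂ) y))) := by
          rw [← hB]
          ring
        rw [h8]
        exact hA
      by_contra hcon
      push Not at hcon
      nlinarith
    have hk1 : k = 1 := by
      have h7 : k ^ 2 ≤ 1 := by exact_mod_cast hk2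
      nlinarith
    intro g hg
    rw [hk g hg, hk1]
    simp
  rw [key ψ hψ g hg, key ψ' hψ' g hg]

/-- in a block with central defect group `Z` all characters satisfy Laradji's hypothesis -/
theorem degree_factorization_of_central_defect {p : ℕ} [Fact p.Prime] (hM : IsPModular p M)
    {e : Set (IrrCharacter G)} (he : IsPBlock M e) {Z : Subgroup G}
    (hZdef : IsDefectGroup p M e Z) (hZc : Z ≤ Subgroup.center G) {ψ : IrrCharacter G}
    (hψ : ψ ∈ e) :
    (charDegree (ψ : G → ℂ)).factorization p = Z.index.factorization p := by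
  have hp : p.Prime := Fact.out
  have hprime : M.IsPrime := hM.2.1.isPrime
  obtain ⟨ψh, hψhe, hψh0⟩ := exists_height_zero (p := p) (block_nonempty he)
  have hdeg := degree_factorization_of_height_zero hM he hZdef hψh0
  have h1reg : ¬ p ∣ orderOf (1 : G) := by
    rw [orderOf_one]; exact hp.one_lt.ne' ∘ Nat.dvd_one.mp
  have h1 := preg_eq_of_central_defect hM he hZdef hZc hψ hψhe h1reg
  obtain ⟨_, hχ1, _⟩ := irr_degree_nat ψ.2
  obtain ⟨_, hψh1, _⟩ := irr_degree_nat ψh.2
  rw [hχ1, hψh1] at h1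
  have h2 : charDegree (ψ : G → ℂ) = charDegree (ψh : G → ℂ) := by exact_mod_cast h1
  rw [h2, hdeg]

/-- two characters of a block with central defect group `Z` with the same central character on
`Z` are equal -/
theorem central_block_ext {p : ℕ} [Fact p.Prime] (hM : IsPModular p M)
    {e : Set (IrrCharacter G)} (he : IsPBlock M e) {Z : Subgroup G}
    (hZdef : IsDefectGroup p M e Z) (hZc : Z ≤ Subgroup.center G) {ψ ψ' : IrrCharacter G}
    (hψ : ψ ∈ e) (hψ' : ψ' ∈ e)
    (hcen : ∀ z ∈ Z, (ψ : G → ℂ) z / (ψ : G → ℂ) 1 = (ψ' : G → ℂ) z / (ψ' : G → ℂ) 1) :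
    ψ = ψ' := by
  have hZp : IsPGroup p Z := isPGroup_of_isDefectGroup hZdef
  have hd := degree_factorization_of_central_defect hM he hZdef hZc hψ
  have hd' := degree_factorization_of_central_defect hM he hZdef hZc hψ'
  have key : ∀ z ∈ Z, ∀ y : G, ¬ p ∣ orderOf y → (ψ : G → ℂ) (z * y) = (ψ' : G → ℂ) (z * y) := by
    intro z hz y hy
    rw [char_central_mul_eq ψ.2 (hZc hz), char_central_mul_eq ψ'.2 (hZc hz), hcen z hz,
      preg_eq_of_central_defect hM he hZdef hZc hψ hψ' hy]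
  apply Subtype.ext
  funext g
  by_cases h1 : (ψ : G → ℂ) g = 0
  · by_cases h2 : (ψ' : G → ℂ) g = 0
    · rw [h1, h2]
    · obtain ⟨z, hz, y, hy, rfl⟩ := laradji_support hZp hZc ψ' hd' g h2
      exact key z hz y hy
  · obtain ⟨z, hz, y, hy, rfl⟩ := laradji_support hZp hZc ψ hd g h1
    exact key z hz y hy

/-- the sum over a subgroup of a multiplicative function -/
theorem sum_mul_fun_subgroup {Z : Subgroup G} (ν : G → ℂ)
    (hν : ∀ z ∈ Z, ∀ z' ∈ Z, ν (z * z') = ν z * ν z') :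
    ∑ z : Z, ν (z : G) = if ∀ z ∈ Z, ν z = 1 then (Nat.card Z : ℂ) else 0 := by
  split_ifs with h
  · rw [Finset.sum_congr rfl fun (z : Z) _ => h (z : G) z.2, Finset.sum_const, Finset.card_univ,
      nsmul_eq_mul, mul_one, Nat.card_eq_fintype_card]
  · push Not at h
    obtain ⟨z₀, hz₀, hne⟩ := h
    have hS : ∑ z : Z, ν ((z : G)) = ν z₀ * ∑ z : Z, ν (z : G) := by
      rw [Finset.mul_sum]
      have := Fintype.sum_equiv (Equiv.mulLeft (⟨z₀, hz₀⟩ : Z)) (fun z : Z => ν (z₀ * (z : G)))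
        (fun z : Z => ν (z : G)) (fun z => rfl)
      rw [← this]
      exact Finset.sum_congr rfl fun z _ => hν z₀ hz₀ z z.2
    have h2 : (1 - ν z₀) * ∑ z : Z, ν (z : G) = 0 := by
      rw [sub_mul, one_mul, ← hS, sub_self]
    rcases mul_eq_zero.mp h2 with h3 | h3
    · exact absurd (sub_eq_zero.mp h3).symm hne
    · exact h3

/-- the idempotent coefficient of a block at a `p`-regular element, in terms of the characters
with a prescribed central character on a central `p`-subgroup -/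
theorem blockCoeff_eq_sum_over {p : ℕ} [Fact p.Prime] (hM : IsPModular p M)
    {e : Set (IrrCharacter G)} (he : IsPBlock M e) {Z : Subgroup G} (hZ : IsPGroup p Z)
    (hZc : Z ≤ Subgroup.center G) [Fintype (IrrCharacter G)] (μ : G → ℂ) (hμ1 : μ 1 = 1)
    (hμ : ∀ z ∈ Z, ∀ z' ∈ Z, μ (z * z') = μ z * μ z') {g : G} (hg : ¬ p ∣ orderOf g) :
    blockCoeff e g = ∑ χ : IrrCharacter G,
      if χ ∈ e ∧ ∀ z ∈ Z, μ z * (χ : G → ℂ) z⁻¹ = (χ : G → ℂ) 1 then
        ((Nat.card Z * charDegree (χ : G → ℂ) : ℕ) : ℂ) / ((Nat.card G : ℕ) : ℂ) *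
          conj ((χ : G → ℂ) g) else 0 := by
  have hprime : M.IsPrime := hM.2.1.isPrime
  have h1 : ∑ z : Z, μ (z : G) * blockCoeff e ((z : G) * g) = blockCoeff e g := by
    rw [Finset.sum_eq_single (1 : Z)]
    · simp [hμ1]
    · intro z _ hz1
      rw [Cfsg.Agent.Lib.Helper4.blockCoeff_eq_zero_of_pSingular hM he, mul_zero]
      apply dvd_orderOf_central_mul hZ hZc z.2 _ hg
      intro h
      exact hz1 (Subtype.ext h)
    · intro h
      exact absurd (Finset.mem_univ _) h
  rw [← h1]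
  simp only [blockCoeff_eq_sum]
  have h2 : ∀ z : Z, μ (z : G) * ((Nat.card G : ℂ)⁻¹ * ∑ χ : IrrCharacter G,
      if χ ∈ e then (χ : G → ℂ) 1 * conj ((χ : G → ℂ) ((z : G) * g)) else 0) =
      (Nat.card G : ℂ)⁻¹ * ∑ χ : IrrCharacter G, μ (z : G) *
        (if χ ∈ e then (χ : G → ℂ) 1 * conj ((χ : G → ℂ) ((z : G) * g)) else 0) := by
    intro z
    rw [Finset.mul_sum, Finset.mul_sum, Finset.mul_sum]
    refine Finset.sum_congr rfl fun χ _ => ?_
    ring
  rw [Finset.sum_congr rfl fun z _ => h2 z, ← Finset.mul_sum, Finset.sum_comm, Finset.mul_sum]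
  refine Finset.sum_congr rfl fun χ _ => ?_
  obtain ⟨hne, hχ1, _⟩ := irr_degree_nat χ.2
  have h10 : (χ : G → ℂ) 1 ≠ 0 := by rw [hχ1]; exact_mod_cast hne
  have hchar := isCharacter_of_isIrrCharacter χ.2
  by_cases hχ : χ ∈ e
  · simp only [if_pos hχ]
    -- the multiplicative function `ν z = μ z * χ z⁻¹ / χ 1`
    set ν : G → ℂ := fun z => μ z * ((χ : G → ℂ) z⁻¹ / (χ : G → ℂ) 1) with hνdef
    have hνmul : ∀ z ∈ Z, ∀ z' ∈ Z, ν (z * z') = ν z * ν z' := by
      intro z hz z' hz'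
      simp only [hνdef]
      have h3 : (z * z')⁻¹ = z⁻¹ * z'⁻¹ := by
        rw [mul_inv_rev]
        exact (Subgroup.mem_center_iff.mp (hZc (Z.inv_mem hz)) z'⁻¹)
      rw [hμ z hz z' hz', h3, char_central_mul_eq χ.2 (hZc (Z.inv_mem hz))]
      ring
    have h4 : ∑ z : Z, μ (z : G) * ((χ : G → ℂ) 1 * conj ((χ : G → ℂ) ((z : G) * g))) =
        (χ : G → ℂ) 1 * conj ((χ : G → ℂ) g) * ∑ z : Z, ν (z : G) := by
      rw [Finset.mul_sum]
      refine Finset.sum_congr rfl fun z _ => ?_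
      simp only [hνdef]
      rw [char_central_mul_eq χ.2 (hZc z.2), map_mul, map_div₀,
        isCharacter_conj_eq_inv hchar (z : G), hχ1, Complex.conj_natCast]
      ring
    rw [h4, sum_mul_fun_subgroup ν hνmul]
    have hiff : (∀ z ∈ Z, ν z = 1) ↔ ∀ z ∈ Z, μ z * (χ : G → ℂ) z⁻¹ = (χ : G → ℂ) 1 := by
      constructor
      · intro h z hz
        have := h z hz
        simp only [hνdef] at this
        rw [← mul_div_assoc, div_eq_one_iff_eq h10] at this
        exact this
      · intro h z hz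
        simp only [hνdef]
        rw [← mul_div_assoc, div_eq_one_iff_eq h10]
        exact h z hz
    by_cases htriv : ∀ z ∈ Z, μ z * (χ : G → ℂ) z⁻¹ = (χ : G → ℂ) 1
    · rw [if_pos (hiff.mpr htriv), if_pos ⟨hχ, htriv⟩, hχ1]
      push_cast
      ring
    · rw [if_neg (fun h => htriv (hiff.mp h)), if_neg (fun h => htriv h.2), mul_zero, mul_zero]
  · simp only [if_neg hχ, mul_zero, Finset.sum_const_zero]
    rw [if_neg (fun h => hχ h.1)]

/-- a block with central defect group `Z` has a character with any prescribed central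
character on `Z` -/
theorem exists_mem_central_block_over {p : ℕ} [Fact p.Prime] (hM : IsPModular p M)
    {e : Set (IrrCharacter G)} (he : IsPBlock M e) {Z : Subgroup G}
    (hZdef : IsDefectGroup p M e Z) (hZc : Z ≤ Subgroup.center G) (μ : G → ℂ) (hμ1 : μ 1 = 1)
    (hμ : ∀ z ∈ Z, ∀ z' ∈ Z, μ (z * z') = μ z * μ z') :
    ∃ ψ ∈ e, ∀ z ∈ Z, μ z * (ψ : G → ℂ) z⁻¹ = (ψ : G → ℂ) 1 := by
  have hprime : M.IsPrime := hM.2.1.isPrime
  have hMtop : M ≠ ⊤ := hM.2.1.ne_top
  have : Fintype (IrrCharacter G) := Fintype.ofFinite _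
  have hZ : IsPGroup p Z := isPGroup_of_isDefectGroup hZdef
  obtain ⟨g₀, hg1, hg2, hg3⟩ := exists_defectClass hM he
  have hreg : ¬ p ∣ orderOf g₀ := by
    intro h
    apply hg2
    rw [Cfsg.Agent.Lib.Helper4.blockCoeff_eq_zero_of_pSingular hM he g₀ h]
    exact memLocalIdeal_zero hMtop
  have hne : blockCoeff e g₀ ≠ 0 := by
    intro h
    apply hg2
    rw [h]
    exact memLocalIdeal_zero hMtop
  rw [blockCoeff_eq_sum_over hM he hZ hZc μ hμ1 hμ hreg] at hne
  obtain ⟨ψ, _, hψ⟩ := Finset.exists_ne_zero_of_sum_ne_zero hne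
  have hψ1 : ψ ∈ e ∧ ∀ z ∈ Z, μ z * (ψ : G → ℂ) z⁻¹ = (ψ : G → ℂ) 1 := by
    by_contra h
    rw [if_neg h] at hψ
    exact hψ rfl
  exact ⟨ψ, hψ1.1, hψ1.2⟩

end

end Cfsg.Agent.Lib.Helper4
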