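import Mathlib
import Cfsg.Agent.Lib.Helper4.CentralBlock
import Cfsg.Agent.Lib.Helper4.ProdChar
import Cfsg.Agent.Lib.Helper4.Deflate
import Cfsg.Agent.Lib.Helper4.PermLemma

set_option autoImplicit false

/-!
# Characters of `G = P C_G(P)` as a central product (helper4)
-/

namespace Cfsg.Agent.Lib.Helper4

open Cfsg Cfsg.Agent.Lib.Helper28 Cfsg.Agent.Lib.Helper26
open scoped ComplexConjugate Classical

section Hom

variable {G : Type*} [Group G] (P : Subgroup G)

/-- the multiplication map `P × C_G(P) → G` -/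
def centProdHom : ↥P × ↥(Subgroup.centralizer (P : Set G)) →* G where
  toFun a := (a.1 : G) * (a.2 : G)
  map_one' := by simp
  map_mul' a b := by
    have h : ((a.2 : Subgroup.centralizer (P : Set G)) : G) * (b.1 : G) = (b.1 : G) * (a.2 : G) :=
      (a.2.2 (b.1 : G) b.1.2).symm
    show ((a.1 * b.1 : P) : G) * ((a.2 * b.2 : Subgroup.centralizer (P : Set G)) : G) = _
    rw [Subgroup.coe_mul, Subgroup.coe_mul]
    calc (a.1 : G) * (b.1 : G) * ((a.2 : G) * (b.2 : G))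
        = (a.1 : G) * ((b.1 : G) * (a.2 : G)) * (b.2 : G) := by group
      _ = (a.1 : G) * ((a.2 : G) * (b.1 : G)) * (b.2 : G) := by rw [h]
      _ = (a.1 : G) * (a.2 : G) * ((b.1 : G) * (b.2 : G)) := by group

theorem centProdHom_apply (a : ↥P × ↥(Subgroup.centralizer (P : Set G))) :
    centProdHom P a = (a.1 : G) * (a.2 : G) := rfl

theorem centProdHom_surjective (hG : P ⊔ Subgroup.centralizer (P : Set G) = ⊤) :
    Function.Surjective (centProdHom P) := by
  intro g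
  have hg : g ∈ P ⊔ Subgroup.centralizer (P : Set G) := by rw [hG]; exact Subgroup.mem_top g
  obtain ⟨x, hx, c, hc, rfl⟩ := exists_mul_of_mem_sup P hg
  exact ⟨(⟨x, hx⟩, ⟨c, hc⟩), rfl⟩

/-- `θ` is the product of `ζ` and `ψ` on `G = P C_G(P)` -/
def IsCentProd (θ : G → ℂ) (ζ : P → ℂ) (ψ : Subgroup.centralizer (P : Set G) → ℂ) : Prop :=
  ∀ (x : P) (c : Subgroup.centralizer (P : Set G)), θ ((x : G) * (c : G)) = ζ x * ψ c

end Hom

section Fin

variable {G : Type*} [Group G] [Fintype G] (P : Subgroup G)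

/-- every irreducible character of `G = P C_G(P)` is a product -/
theorem exists_isCentProd (hG : P ⊔ Subgroup.centralizer (P : Set G) = ⊤)
    (θ : IrrCharacter G) :
    ∃ (ζ : IrrCharacter P) (ψ : IrrCharacter (Subgroup.centralizer (P : Set G))),
      IsCentProd P (θ : G → ℂ) (ζ : P → ℂ) (ψ : Subgroup.centralizer (P : Set G) → ℂ) := by
  have h1 := isIrrCharacter_comp_of_surjective θ.2 (centProdHom P) (centProdHom_surjective P hG)
  obtain ⟨φ, ψ, hφ, hψ, heq⟩ := exists_prod_of_isIrrCharacter h1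
  refine ⟨⟨φ, hφ⟩, ⟨ψ, hψ⟩, ?_⟩
  intro x c
  have := congrFun heq (x, c)
  exact this

/-- proportional irreducible characters are equal -/
theorem irr_eq_of_smul {K : Type*} [Group K] [Fintype K] {α β : IrrCharacter K} (r : ℂ)
    (hr : r ≠ 0) (h : ∀ k : K, (α : K → ℂ) k = r * (β : K → ℂ) k) : α = β := by
  have h1 : classInner (α : K → ℂ) (β : K → ℂ) = r := by
    have h2 := Cfsg.Agent.Lib.Helper26.classInner_irr β.2 β.2
    rw [if_pos rfl] at h2
    unfold classInner at h2 ⊢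
    rw [Finset.sum_congr rfl fun k _ => by rw [h k, mul_assoc], ← Finset.mul_sum,
      mul_left_comm, h2, mul_one]
  have h3 := Cfsg.Agent.Lib.Helper26.classInner_irr α.2 β.2
  rw [h1] at h3
  by_contra hne
  rw [if_neg (fun h => hne (Subtype.ext h))] at h3
  exact hr h3

/-- the factors of a product character are unique -/
theorem isCentProd_unique {θ : G → ℂ} {ζ ζ' : IrrCharacter P}
    {ψ ψ' : IrrCharacter (Subgroup.centralizer (P : Set G))}
    (h : IsCentProd P θ (ζ : P → ℂ) (ψ : Subgroup.centralizer (P : Set G) → ℂ))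
    (h' : IsCentProd P θ (ζ' : P → ℂ) (ψ' : Subgroup.centralizer (P : Set G) → ℂ)) :
    ζ = ζ' ∧ ψ = ψ' := by
  obtain ⟨hn1, hζ1, _⟩ := irr_degree_nat ζ.2
  obtain ⟨hn2, hζ'1, _⟩ := irr_degree_nat ζ'.2
  obtain ⟨hn3, hψ1, _⟩ := irr_degree_nat ψ.2
  obtain ⟨hn4, hψ'1, _⟩ := irr_degree_nat ψ'.2
  have hζ10 : (ζ : P → ℂ) 1 ≠ 0 := by rw [hζ1]; exact_mod_cast hn1
  have hζ'10 : (ζ' : P → ℂ) 1 ≠ 0 := by rw [hζ'1]; exact_mod_cast hn2
  have hψ10 : (ψ : Subgroup.centralizer (P : Set G) → ℂ) 1 ≠ 0 := by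
    rw [hψ1]; exact_mod_cast hn3
  have hψ'10 : (ψ' : Subgroup.centralizer (P : Set G) → ℂ) 1 ≠ 0 := by
    rw [hψ'1]; exact_mod_cast hn4
  constructor
  · apply irr_eq_of_smul ((ψ' : Subgroup.centralizer (P : Set G) → ℂ) 1 /
      (ψ : Subgroup.centralizer (P : Set G) → ℂ) 1) (div_ne_zero hψ'10 hψ10)
    intro x
    have e1 := h x 1
    have e2 := h' x 1
    rw [e1] at e2
    field_simp
    linear_combination e2
  · apply irr_eq_of_smul ((ζ' : P → ℂ) 1 / (ζ : P → ℂ) 1) (div_ne_zero hζ'10 hζ10)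
    intro c
    have e1 := h 1 c
    have e2 := h' 1 c
    rw [e1] at e2
    field_simp
    linear_combination e2

omit [Fintype G] in
/-- a product character is determined by its factors -/
theorem isCentProd_ext (hG : P ⊔ Subgroup.centralizer (P : Set G) = ⊤) {θ θ' : G → ℂ}
    {ζ : P → ℂ} {ψ : Subgroup.centralizer (P : Set G) → ℂ} (h : IsCentProd P θ ζ ψ)
    (h' : IsCentProd P θ' ζ ψ) : θ = θ' := by
  funext g
  obtain ⟨a, rfl⟩ := centProdHom_surjective P hG g
  rw [centProdHom_apply, h a.1 a.2, h' a.1 a.2]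

omit [Fintype G] in
/-- the factors of a product character are compatible on `P ∩ C_G(P)` -/
theorem isCentProd_compat {θ : G → ℂ} {ζ : P → ℂ} {ψ : Subgroup.centralizer (P : Set G) → ℂ}
    (h : IsCentProd P θ ζ ψ) (z : G) (hzP : z ∈ P)
    (hzC : z ∈ Subgroup.centralizer (P : Set G)) :
    ζ ⟨z, hzP⟩ * ψ ⟨z⁻¹, Subgroup.inv_mem _ hzC⟩ = ζ 1 * ψ 1 := by
  have h1 := h ⟨z, hzP⟩ ⟨z⁻¹, Subgroup.inv_mem _ hzC⟩
  have h2 := h 1 1
  simp only [mul_inv_cancel, OneMemClass.coe_one, mul_one] at h1 h2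
  rw [← h1, ← h2]

/-- compatible irreducible characters of `P` and `C_G(P)` give an irreducible character of
`G = P C_G(P)` -/
theorem exists_of_compat (hG : P ⊔ Subgroup.centralizer (P : Set G) = ⊤)
    (ζ : IrrCharacter P) (ψ : IrrCharacter (Subgroup.centralizer (P : Set G)))
    (hcompat : ∀ (z : G) (hzP : z ∈ P) (hzC : z ∈ Subgroup.centralizer (P : Set G)),
      (ζ : P → ℂ) ⟨z, hzP⟩ * (ψ : Subgroup.centralizer (P : Set G) → ℂ)
        ⟨z⁻¹, Subgroup.inv_mem _ hzC⟩ =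
        (ζ : P → ℂ) 1 * (ψ : Subgroup.centralizer (P : Set G) → ℂ) 1) :
    ∃ θ : IrrCharacter G,
      IsCentProd P (θ : G → ℂ) (ζ : P → ℂ) (ψ : Subgroup.centralizer (P : Set G) → ℂ) := by
  set Θ : IrrCharacter (↥P × ↥(Subgroup.centralizer (P : Set G))) :=
    ⟨fun a => (ζ : P → ℂ) a.1 * (ψ : Subgroup.centralizer (P : Set G) → ℂ) a.2,
      isIrrCharacter_prod ζ.2 ψ.2⟩ with hΘ
  have hsurj := centProdHom_surjective P hG
  have hN : ∀ n ∈ (centProdHom P).ker,
      (Θ : ↥P × ↥(Subgroup.centralizer (P : Set G)) → ℂ) n =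
        (Θ : ↥P × ↥(Subgroup.centralizer (P : Set G)) → ℂ) 1 := by
    rintro ⟨x, c⟩ hn
    rw [MonoidHom.mem_ker, centProdHom_apply] at hn
    have hc : (c : G) = (x : G)⁻¹ := (inv_eq_of_mul_eq_one_right hn).symm
    have hxC : (x : G) ∈ Subgroup.centralizer (P : Set G) := by
      have : (x : G) = (c : G)⁻¹ := by rw [hc, inv_inv]
      rw [this]
      exact Subgroup.inv_mem _ c.2
    have h1 := hcompat (x : G) x.2 hxC
    have hc' : c = ⟨(x : G)⁻¹, Subgroup.inv_mem _ hxC⟩ := Subtype.ext hc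
    show (ζ : P → ℂ) x * (ψ : Subgroup.centralizer (P : Set G) → ℂ) c =
      (ζ : P → ℂ) 1 * (ψ : Subgroup.centralizer (P : Set G) → ℂ) 1
    rw [hc']
    exact h1
  obtain ⟨Ψ, hΨ⟩ := exists_deflate_irr (centProdHom P).ker Θ hN
  set iso := QuotientGroup.quotientKerEquivOfSurjective (centProdHom P) hsurj with hiso
  have hirr := isIrrCharacter_comp_of_surjective Ψ.2 iso.symm.toMonoidHom iso.symm.surjective
  refine ⟨⟨_, hirr⟩, ?_⟩
  intro x c
  show (Ψ : _ → ℂ) (iso.symm ((x : G) * (c : G))) = _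
  have h2 : iso.symm ((x : G) * (c : G)) = QuotientGroup.mk (x, c) := by
    rw [MulEquiv.symm_apply_eq]
    rfl
  rw [h2, hΨ]

end Fin

end Cfsg.Agent.Lib.Helper4
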