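import Mathlib
import Cfsg.Agent.Lib.Helper4.CentralProd
import Cfsg.Agent.Lib.Helper4.BrauerMaxCrit
import Cfsg.Agent.Lib.Helper4.BlockQuot
import Cfsg.Agent.Lib.Helper4.CharOrtho

set_option autoImplicit false

/-!
# Blocks of `G = P C_G(P)` with defect group `P` (helper4)
-/

namespace Cfsg.Agent.Lib.Helper4

open Cfsg Cfsg.Agent.Lib.Helper28 Cfsg.Agent.Lib.Helper26
open scoped ComplexConjugate Classical

section

variable {G : Type*} [Group G] [Fintype G] {M : Ideal AlgInt} (P : Subgroup G)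

omit [Fintype G] in
theorem centralizer_normal_of_sup_eq_top (hG : P ⊔ Subgroup.centralizer (P : Set G) = ⊤) :
    (Subgroup.centralizer (P : Set G)).Normal := by
  apply Subgroup.normalizer_eq_top_iff.mp
  rw [eq_top_iff, ← hG]
  exact (sup_centralizer_le_normalizer P).trans (normalizer_le_normalizer_centralizer P)

/-- the restriction to `C_G(P)` of a product character -/
theorem classInner_restrict_isCentProd
    {θ : G → ℂ} {ζ : IrrCharacter P}
    {ψ : IrrCharacter (Subgroup.centralizer (P : Set G))}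
    (h : IsCentProd P θ (ζ : P → ℂ) (ψ : Subgroup.centralizer (P : Set G) → ℂ))
    (φ : IrrCharacter (Subgroup.centralizer (P : Set G))) :
    classInner (θ ∘ (Subgroup.centralizer (P : Set G)).subtype)
      (φ : Subgroup.centralizer (P : Set G) → ℂ) =
      (ζ : P → ℂ) 1 * if ψ = φ then 1 else 0 := by
  have h1 : θ ∘ (Subgroup.centralizer (P : Set G)).subtype =
      fun c => (ζ : P → ℂ) 1 * (ψ : Subgroup.centralizer (P : Set G) → ℂ) c := by
    funext c
    have := h 1 c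
    simpa using this
  rw [h1]
  have h2 := Cfsg.Agent.Lib.Helper26.classInner_irr ψ.2 φ.2
  unfold classInner at h2 ⊢
  rw [Finset.sum_congr rfl fun c _ => by rw [mul_assoc], ← Finset.mul_sum, mul_left_comm, h2]
  congr 1
  by_cases hψφ : ψ = φ
  · rw [if_pos hψφ, if_pos (congrArg Subtype.val hψφ)]
  · rw [if_neg hψφ, if_neg (fun h => hψφ (Subtype.ext h))]

/-- the block of `C_G(P)` below a block of `G = P C_G(P)` with defect group `P` -/
theorem exists_local_block {p : ℕ} [Fact p.Prime] (hM : IsPModular p M) (hP : IsPGroup p P)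
    (hG : P ⊔ Subgroup.centralizer (P : Set G) = ⊤) {B : Set (IrrCharacter G)}
    (hB : IsPBlock M B) (hD : IsDefectGroup p M B P) :
    ∃ e : Set (IrrCharacter (Subgroup.centralizer (P : Set G))), IsPBlock M e ∧
      IsDefectGroup p M e ((P ⊓ Subgroup.centralizer (P : Set G)).subgroupOf
        (Subgroup.centralizer (P : Set G))) ∧
      ∀ (θ : IrrCharacter G) (ζ : IrrCharacter P)
        (ψ : IrrCharacter (Subgroup.centralizer (P : Set G))),
        IsCentProd P (θ : G → ℂ) (ζ : P → ℂ) (ψ : Subgroup.centralizer (P : Set G) → ℂ) →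
          (θ ∈ B ↔ ψ ∈ e) := by
  have hMprime : M.IsPrime := hM.2.1.isPrime
  have hMtop : M ≠ ⊤ := hM.2.1.ne_top
  have hCn := centralizer_normal_of_sup_eq_top P hG
  have hidx : ∃ k : ℕ, (Subgroup.centralizer (P : Set G)).index = p ^ k := by
    obtain ⟨k, hk⟩ := index_centralizer_subgroupOf hP (H := ⊤) (by rw [hG])
    refine ⟨k, ?_⟩
    rw [← hk]
    exact (Subgroup.relIndex_top_right _).symm
  obtain ⟨θ₁, hθ₁⟩ := block_nonempty hB
  obtain ⟨ζ₁, ψ₁, h₁⟩ := exists_isCentProd P hG θ₁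
  set e : Set (IrrCharacter (Subgroup.centralizer (P : Set G))) :=
    blockOf M (ψ₁ : Subgroup.centralizer (P : Set G) → ℂ) with he'
  have he : IsPBlock M e := ⟨ψ₁, rfl⟩
  have hψ₁e : ψ₁ ∈ e := sameBlock_refl hMtop _
  have hst : ∀ t : G, StabilizesBlock (Subgroup.centralizer (P : Set G)) e t := fun t =>
    stabilizesBlock_of_mem_sup he (by rw [hG]; exact Subgroup.mem_top t)
  obtain ⟨⟨b, hb, hbe⟩, hfong⟩ := stable_block_p_index (Subgroup.centralizer (P : Set G)) hM hidx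
    he hst
  have key : ∀ (θ : IrrCharacter G) (ζ : IrrCharacter P)
      (ψ : IrrCharacter (Subgroup.centralizer (P : Set G))),
      IsCentProd P (θ : G → ℂ) (ζ : P → ℂ) (ψ : Subgroup.centralizer (P : Set G) → ℂ) →
        (θ ∈ b ↔ ψ ∈ e) := by
    intro θ ζ ψ h
    obtain ⟨hn1, hζ1, _⟩ := irr_degree_nat ζ.2
    have hζ10 : (ζ : P → ℂ) 1 ≠ 0 := by rw [hζ1]; exact_mod_cast hn1
    rw [mem_iff_omegaF_of_blockCoeff hbe θ]
    rw [subgroupBlockCoeff_eq_extZero]
    by_cases hψ : ψ ∈ e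
    · have h1 := omegaF_extZero_of_all (Subgroup.centralizer (P : Set G)) θ.2 e (by
        intro φ hφ
        rw [classInner_restrict_isCentProd P h φ] at hφ
        by_cases hψφ : ψ = φ
        · rw [← hψφ]; exact hψ
        · rw [if_neg hψφ, mul_zero] at hφ
          exact absurd rfl hφ)
      exact ⟨fun _ => hψ, fun _ => h1⟩
    · have h1 := omegaF_extZero_of_none (Subgroup.centralizer (P : Set G)) (θ : G → ℂ) e (by
        intro φ hφ
        rw [classInner_restrict_isCentProd P h φ]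
        have hψφ : ψ ≠ φ := fun h => hψ (h ▸ hφ)
        rw [if_neg hψφ, mul_zero])
      constructor
      · intro h2
        rw [h1] at h2
        exact absurd h2 zero_ne_one
      · intro h2
        exact absurd h2 hψ
  have hθ₁b : θ₁ ∈ b := (key θ₁ ζ₁ ψ₁ h₁).mpr hψ₁e
  have hBb : B = b := Cfsg.Agent.Lib.Helper28.block_eq_of_mem hB hb hθ₁ hθ₁b
  refine ⟨e, he, ?_, ?_⟩
  · exact (hfong B hB (by rw [hBb]; exact hbe) P hD).2
  · intro θ ζ ψ h
    rw [hBb]
    exact key θ ζ ψ h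

/-- an irreducible character that is constant has degree one -/
theorem irr_one_eq_one_of_const {K : Type*} [Group K] [Fintype K] {ζ : K → ℂ}
    (hζ : IsIrrCharacter K ζ) (hc : ∀ k : K, ζ k = ζ 1) : ζ 1 = 1 := by
  obtain ⟨hne, h1, _⟩ := irr_degree_nat hζ
  have h2 := Cfsg.Agent.Lib.Helper26.classInner_irr hζ hζ
  rw [if_pos rfl] at h2
  unfold classInner at h2
  have hK0 : (Nat.card K : ℂ) ≠ 0 := by exact_mod_cast Nat.card_pos.ne'
  rw [Finset.sum_congr rfl fun k _ => by rw [hc k], Finset.sum_const, Finset.card_univ,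
    nsmul_eq_mul, ← Nat.card_eq_fintype_card, ← mul_assoc, inv_mul_cancel₀ hK0, one_mul, h1,
    Complex.conj_natCast] at h2
  have h3 : charDegree ζ * charDegree ζ = 1 := by exact_mod_cast h2
  have h4 : charDegree ζ = 1 := Nat.eq_one_of_mul_eq_one_right h3
  rw [h1, h4]
  simp

omit [Fintype G] in
/-- `[G : P] = [C_G(P) : Z(P)]` for `G = P C_G(P)` -/
theorem index_eq_index_center [Finite G] (hG : P ⊔ Subgroup.centralizer (P : Set G) = ⊤) :
    P.index = ((P ⊓ Subgroup.centralizer (P : Set G)).subgroupOf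
      (Subgroup.centralizer (P : Set G))).index := by
  have h1 := card_eq_card_inf_mul_relIndex P
  rw [hG, Subgroup.relIndex_top_right] at h1
  have h2 := Subgroup.card_mul_index P
  have h3 := Subgroup.card_mul_index ((P ⊓ Subgroup.centralizer (P : Set G)).subgroupOf
      (Subgroup.centralizer (P : Set G)))
  have h4 := Subgroup.card_mul_index (Subgroup.centralizer (P : Set G))
  rw [card_subgroupOf_of_le inf_le_right] at h3
  have hZ0 : 0 < Nat.card ↥(P ⊓ Subgroup.centralizer (P : Set G)) := Nat.card_pos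
  have hC0 : 0 < (Subgroup.centralizer (P : Set G)).index :=
    Nat.pos_of_ne_zero Subgroup.index_ne_zero_of_finite
  have h5 : Nat.card ↥(P ⊓ Subgroup.centralizer (P : Set G)) *
      (Subgroup.centralizer (P : Set G)).index * P.index =
      Nat.card ↥(P ⊓ Subgroup.centralizer (P : Set G)) *
      (Subgroup.centralizer (P : Set G)).index * ((P ⊓ Subgroup.centralizer (P : Set G)).subgroupOf
      (Subgroup.centralizer (P : Set G))).index := by
    calc Nat.card ↥(P ⊓ Subgroup.centralizer (P : Set G)) *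
          (Subgroup.centralizer (P : Set G)).index * P.index
        = Nat.card P * P.index := by rw [h1]
      _ = Nat.card (Subgroup.centralizer (P : Set G)) *
          (Subgroup.centralizer (P : Set G)).index := by rw [h2, h4]
      _ = _ := by rw [← h3]; ring
  exact Nat.eq_of_mul_eq_mul_left (Nat.mul_pos hZ0 hC0) h5

omit [Fintype G] in
/-- `P` is normal in `G = P C_G(P)` -/
theorem normal_of_sup_centralizer_eq_top (hG : P ⊔ Subgroup.centralizer (P : Set G) = ⊤) :
    P.Normal := by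
  apply Subgroup.normalizer_eq_top_iff.mp
  rw [eq_top_iff, ← hG]
  exact sup_centralizer_le_normalizer P

/-- the `P`-factor of a character of `G = P C_G(P)` with `P` in its kernel is trivial -/
theorem factor_trivial_of_kernel {θ : G → ℂ} {ζ : IrrCharacter P}
    {ψ : IrrCharacter (Subgroup.centralizer (P : Set G))}
    (h : IsCentProd P θ (ζ : P → ℂ) (ψ : Subgroup.centralizer (P : Set G) → ℂ))
    (hker : ∀ x ∈ P, θ x = θ 1) : ∀ x : P, (ζ : P → ℂ) x = 1 := by
  obtain ⟨hn3, hψ1, _⟩ := irr_degree_nat ψ.2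
  have hψ10 : (ψ : Subgroup.centralizer (P : Set G) → ℂ) 1 ≠ 0 := by
    rw [hψ1]; exact_mod_cast hn3
  have hconst : ∀ x : P, (ζ : P → ℂ) x = (ζ : P → ℂ) 1 := by
    intro x
    have h1 := h x 1
    have h2 := h 1 1
    simp only [OneMemClass.coe_one, mul_one] at h1 h2
    rw [hker x x.2, h2] at h1
    exact (mul_right_cancel₀ hψ10 h1).symm
  have h1 := irr_one_eq_one_of_const ζ.2 hconst
  intro x
  rw [hconst x, h1]

/-- the compatibility condition determines the central character of the `C_G(P)`-factor -/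
theorem central_eq_of_compat {ζ : IrrCharacter P}
    {ψ ψ' : IrrCharacter (Subgroup.centralizer (P : Set G))}
    (hc : ∀ (z : G) (hzP : z ∈ P) (hzC : z ∈ Subgroup.centralizer (P : Set G)),
      (ζ : P → ℂ) ⟨z, hzP⟩ * (ψ : Subgroup.centralizer (P : Set G) → ℂ)
        ⟨z⁻¹, Subgroup.inv_mem _ hzC⟩ =
        (ζ : P → ℂ) 1 * (ψ : Subgroup.centralizer (P : Set G) → ℂ) 1)
    (hc' : ∀ (z : G) (hzP : z ∈ P) (hzC : z ∈ Subgroup.centralizer (P : Set G)),
      (ζ : P → ℂ) ⟨z, hzP⟩ * (ψ' : Subgroup.centralizer (P : Set G) → ℂ)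
        ⟨z⁻¹, Subgroup.inv_mem _ hzC⟩ =
        (ζ : P → ℂ) 1 * (ψ' : Subgroup.centralizer (P : Set G) → ℂ) 1) :
    ∀ w ∈ (P ⊓ Subgroup.centralizer (P : Set G)).subgroupOf (Subgroup.centralizer (P : Set G)),
      (ψ : Subgroup.centralizer (P : Set G) → ℂ) w /
        (ψ : Subgroup.centralizer (P : Set G) → ℂ) 1 =
      (ψ' : Subgroup.centralizer (P : Set G) → ℂ) w /
        (ψ' : Subgroup.centralizer (P : Set G) → ℂ) 1 := by
  intro w hw
  rw [Subgroup.mem_subgroupOf] at hw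
  obtain ⟨hn1, hζ1, _⟩ := irr_degree_nat ζ.2
  obtain ⟨hn3, hψ1, _⟩ := irr_degree_nat ψ.2
  obtain ⟨hn4, hψ'1, _⟩ := irr_degree_nat ψ'.2
  have hζ10 : (ζ : P → ℂ) 1 ≠ 0 := by rw [hζ1]; exact_mod_cast hn1
  have hψ10 : (ψ : Subgroup.centralizer (P : Set G) → ℂ) 1 ≠ 0 := by
    rw [hψ1]; exact_mod_cast hn3
  have hψ'10 : (ψ' : Subgroup.centralizer (P : Set G) → ℂ) 1 ≠ 0 := by
    rw [hψ'1]; exact_mod_cast hn4
  have hzP : (w : G)⁻¹ ∈ P := P.inv_mem hw.1
  have hzC : (w : G)⁻¹ ∈ Subgroup.centralizer (P : Set G) := Subgroup.inv_mem _ hw.2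
  have e1 := hc (w : G)⁻¹ hzP hzC
  have e2 := hc' (w : G)⁻¹ hzP hzC
  have hww : (⟨((w : G)⁻¹)⁻¹, Subgroup.inv_mem _ hzC⟩ : Subgroup.centralizer (P : Set G)) = w :=
    Subtype.ext (inv_inv _)
  rw [hww] at e1 e2
  have hζz : (ζ : P → ℂ) ⟨(w : G)⁻¹, hzP⟩ ≠ 0 := by
    intro h0
    rw [h0, zero_mul] at e1
    exact mul_ne_zero hζ10 hψ10 e1.symm
  rw [div_eq_div_iff hψ10 hψ'10]
  apply mul_left_cancel₀ hζz
  calc (ζ : P → ℂ) ⟨(w : G)⁻¹, hzP⟩ * ((ψ : Subgroup.centralizer (P : Set G) → ℂ) w *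
        (ψ' : Subgroup.centralizer (P : Set G) → ℂ) 1)
      = ((ζ : P → ℂ) ⟨(w : G)⁻¹, hzP⟩ * (ψ : Subgroup.centralizer (P : Set G) → ℂ) w) *
        (ψ' : Subgroup.centralizer (P : Set G) → ℂ) 1 := by ring
    _ = ((ζ : P → ℂ) ⟨(w : G)⁻¹, hzP⟩ * (ψ' : Subgroup.centralizer (P : Set G) → ℂ) w) *
        (ψ : Subgroup.centralizer (P : Set G) → ℂ) 1 := by rw [e1, e2]; ring
    _ = _ := by ring

/-- for every irreducible character `ζ` of `P` the block `e` contains a compatible character -/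
theorem exists_compat_of_irr {p : ℕ} [Fact p.Prime] (hM : IsPModular p M)
    {e : Set (IrrCharacter (Subgroup.centralizer (P : Set G)))} (he : IsPBlock M e)
    (hZdef : IsDefectGroup p M e ((P ⊓ Subgroup.centralizer (P : Set G)).subgroupOf
        (Subgroup.centralizer (P : Set G)))) (ζ : IrrCharacter P) :
    ∃ ψ ∈ e, ∀ (z : G) (hzP : z ∈ P) (hzC : z ∈ Subgroup.centralizer (P : Set G)),
      (ζ : P → ℂ) ⟨z, hzP⟩ * (ψ : Subgroup.centralizer (P : Set G) → ℂ)
        ⟨z⁻¹, Subgroup.inv_mem _ hzC⟩ =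
        (ζ : P → ℂ) 1 * (ψ : Subgroup.centralizer (P : Set G) → ℂ) 1 := by
  obtain ⟨hn1, hζ1, _⟩ := irr_degree_nat ζ.2
  have hζ10 : (ζ : P → ℂ) 1 ≠ 0 := by rw [hζ1]; exact_mod_cast hn1
  set μ : Subgroup.centralizer (P : Set G) → ℂ := fun c =>
    if h : (c : G) ∈ P then (ζ : P → ℂ) ⟨c, h⟩ / (ζ : P → ℂ) 1 else 0 with hμdef
  have hμ1 : μ 1 = 1 := by
    simp only [hμdef]
    rw [dif_pos (by exact P.one_mem)]
    have : (⟨((1 : Subgroup.centralizer (P : Set G)) : G), P.one_mem⟩ : P) = 1 := rfl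
    rw [this, div_self hζ10]
  have hμmul : ∀ z ∈ (P ⊓ Subgroup.centralizer (P : Set G)).subgroupOf
      (Subgroup.centralizer (P : Set G)),
      ∀ z' ∈ (P ⊓ Subgroup.centralizer (P : Set G)).subgroupOf
        (Subgroup.centralizer (P : Set G)), μ (z * z') = μ z * μ z' := by
    intro z hz z' hz'
    rw [Subgroup.mem_subgroupOf] at hz hz'
    have hzP : (z : G) ∈ P := hz.1
    have hzP' : (z' : G) ∈ P := hz'.1
    have hzz' : ((z * z' : Subgroup.centralizer (P : Set G)) : G) ∈ P := by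
      rw [Subgroup.coe_mul]
      exact P.mul_mem hzP hzP'
    simp only [hμdef]
    rw [dif_pos hzz', dif_pos hzP, dif_pos hzP']
    have hcen : (⟨(z : G), hzP⟩ : P) ∈ Subgroup.center P := by
      rw [Subgroup.mem_center_iff]
      intro x
      apply Subtype.ext
      exact (z.2 (x : G) x.2)
    have h1 := char_central_mul_eq ζ.2 hcen (⟨(z' : G), hzP'⟩ : P)
    have h2 : (⟨((z * z' : Subgroup.centralizer (P : Set G)) : G), hzz'⟩ : P) =
        (⟨(z : G), hzP⟩ : P) * ⟨(z' : G), hzP'⟩ := rfl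
    rw [h2, h1]
    ring
  obtain ⟨ψ, hψe, hψ⟩ := exists_mem_central_block_over hM he hZdef
    (center_subgroupOf_le_center P) μ hμ1 hμmul
  refine ⟨ψ, hψe, ?_⟩
  intro z hzP hzC
  have h1 := hψ ⟨z, hzC⟩ (by rw [Subgroup.mem_subgroupOf]; exact ⟨hzP, hzC⟩)
  simp only [hμdef] at h1
  rw [dif_pos hzP] at h1
  have h2 : (⟨z, hzC⟩ : Subgroup.centralizer (P : Set G))⁻¹ = ⟨z⁻¹, Subgroup.inv_mem _ hzC⟩ := rfl
  rw [h2] at h1
  rw [← h1]
  field_simp

end

end Cfsg.Agent.Lib.Helper4
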