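import Mathlib
import Cfsg.Agent.Lib.Helper4.CentralProdBlock

set_option autoImplicit false

/-!
# Blocks of `G = P C_G(P)` with defect group `P`: the canonical character and the number of
characters (helper4)
-/

namespace Cfsg.Agent.Lib.Helper4

open Cfsg Cfsg.Agent.Lib.Helper28 Cfsg.Agent.Lib.Helper26
open scoped ComplexConjugate Classical

section

variable {G : Type*} [Group G] [Fintype G] {M : Ideal AlgInt} (P : Subgroup G)

/-- **statement S0968** -/
theorem central_product_block {p : ℕ} [Fact p.Prime] (hM : IsPModular p M) (hP : IsPGroup p P)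
    (hG : P ⊔ Subgroup.centralizer (P : Set G) = ⊤) {B : Set (IrrCharacter G)}
    (hB : IsPBlock M B) (hD : IsDefectGroup p M B P) :
    (∃! θ : IrrCharacter G, θ ∈ B ∧ ∀ x ∈ P, (θ : G → ℂ) x = (θ : G → ℂ) 1) ∧
    (∀ θ ∈ B, (∀ x ∈ P, (θ : G → ℂ) x = (θ : G → ℂ) 1) →
      (charDegree (θ : G → ℂ)).factorization p = P.index.factorization p) ∧
    Nat.card B = Nat.card (ConjClasses P) := by
  have hMprime : M.IsPrime := hM.2.1.isPrime
  obtain ⟨e, he, hZdef, hkey⟩ := exists_local_block P hM hP hG hB hD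
  have hZc := center_subgroupOf_le_center P
  -- facts about characters with `P` in the kernel
  have hfact : ∀ θ : IrrCharacter G, θ ∈ B → (∀ x ∈ P, (θ : G → ℂ) x = (θ : G → ℂ) 1) →
      ∀ (ζ : IrrCharacter P) (ψ : IrrCharacter (Subgroup.centralizer (P : Set G))),
      IsCentProd P (θ : G → ℂ) (ζ : P → ℂ) (ψ : Subgroup.centralizer (P : Set G) → ℂ) →
      (∀ x : P, (ζ : P → ℂ) x = 1) ∧ ψ ∈ e ∧
      (∀ z ∈ (P ⊓ Subgroup.centralizer (P : Set G)).subgroupOf
        (Subgroup.centralizer (P : Set G)),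
        (ψ : Subgroup.centralizer (P : Set G) → ℂ) z /
          (ψ : Subgroup.centralizer (P : Set G) → ℂ) 1 = 1) ∧
      (θ : G → ℂ) 1 = (ψ : Subgroup.centralizer (P : Set G) → ℂ) 1 := by
    intro θ hθB hker ζ ψ h
    have hζ := factor_trivial_of_kernel P h hker
    have hψe : ψ ∈ e := (hkey θ ζ ψ h).mp hθB
    obtain ⟨hn3, hψ1, _⟩ := irr_degree_nat ψ.2
    have hψ10 : (ψ : Subgroup.centralizer (P : Set G) → ℂ) 1 ≠ 0 := by
      rw [hψ1]; exact_mod_cast hn3
    have hθψ : ∀ c : Subgroup.centralizer (P : Set G),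
        (θ : G → ℂ) (c : G) = (ψ : Subgroup.centralizer (P : Set G) → ℂ) c := by
      intro c
      have := h 1 c
      rw [hζ 1, one_mul] at this
      simpa using this
    refine ⟨hζ, hψe, ?_, ?_⟩
    · intro z hz
      rw [Subgroup.mem_subgroupOf] at hz
      rw [div_eq_one_iff_eq hψ10, ← hθψ z, ← hθψ 1]
      exact hker (z : G) hz.1
    · exact hθψ 1
  refine ⟨?_, ?_, ?_⟩
  · -- existence and uniqueness
    have := normal_of_sup_centralizer_eq_top P hG
    obtain ⟨θ, hθB, hθP⟩ := exists_mem_block_trivial_on P hM hP hB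
    refine ⟨θ, ⟨hθB, hθP⟩, ?_⟩
    rintro θ' ⟨hθ'B, hθ'P⟩
    obtain ⟨ζ, ψ, h⟩ := exists_isCentProd P hG θ
    obtain ⟨ζ', ψ', h'⟩ := exists_isCentProd P hG θ'
    obtain ⟨hζ, hψe, hψZ, -⟩ := hfact θ hθB hθP ζ ψ h
    obtain ⟨hζ', hψ'e, hψ'Z, -⟩ := hfact θ' hθ'B hθ'P ζ' ψ' h'
    have hψψ' : ψ' = ψ := central_block_ext hM he hZdef hZc hψ'e hψe (fun z hz => by
      rw [hψZ z hz, hψ'Z z hz])
    have hζζ' : ζ' = ζ := by
      apply Subtype.ext
      funext x
      rw [hζ x, hζ' x]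
    rw [hψψ', hζζ'] at h'
    exact Subtype.ext (isCentProd_ext P hG h' h)
  · -- the degree
    intro θ hθB hθP
    obtain ⟨ζ, ψ, h⟩ := exists_isCentProd P hG θ
    obtain ⟨hζ, hψe, hψZ, hdeg⟩ := hfact θ hθB hθP ζ ψ h
    have h1 := degree_factorization_of_central_defect hM he hZdef hZc hψe
    obtain ⟨_, hθ1, _⟩ := irr_degree_nat θ.2
    obtain ⟨_, hψ1, _⟩ := irr_degree_nat ψ.2
    rw [hθ1, hψ1] at hdeg
    have h2 : charDegree (θ : G → ℂ) =
        charDegree (ψ : Subgroup.centralizer (P : Set G) → ℂ) := by exact_mod_cast hdeg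
    rw [h2, h1, index_eq_index_center P hG]
  · -- the number of characters
    rw [← card_irr_eq_card_conjClasses]
    have hex : ∀ θ : B, ∃ ζ : IrrCharacter P,
        ∃ ψ : IrrCharacter (Subgroup.centralizer (P : Set G)),
        IsCentProd P ((θ : IrrCharacter G) : G → ℂ) (ζ : P → ℂ)
          (ψ : Subgroup.centralizer (P : Set G) → ℂ) := fun θ => exists_isCentProd P hG θ
    choose f hf using hex
    apply Nat.card_congr
    refine Equiv.ofBijective f ⟨?_, ?_⟩
    · intro θ θ' hff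
      obtain ⟨ψ, h⟩ := hf θ
      obtain ⟨ψ', h'⟩ := hf θ'
      rw [← hff] at h'
      have hψe : ψ ∈ e := (hkey θ (f θ) ψ h).mp θ.2
      have hψ'e : ψ' ∈ e := (hkey θ' (f θ) ψ' h').mp θ'.2
      have hψψ' : ψ = ψ' := central_block_ext hM he hZdef hZc hψe hψ'e
        (central_eq_of_compat P (isCentProd_compat P h) (isCentProd_compat P h'))
      rw [← hψψ'] at h'
      exact Subtype.ext (Subtype.ext (isCentProd_ext P hG h h'))
    · intro ζ
      obtain ⟨ψ, hψe, hcompat⟩ := exists_compat_of_irr P hM he hZdef ζ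
      obtain ⟨θ, h⟩ := exists_of_compat P hG ζ ψ hcompat
      have hθB : θ ∈ B := (hkey θ ζ ψ h).mpr hψe
      refine ⟨⟨θ, hθB⟩, ?_⟩
      obtain ⟨ψ₂, h₂⟩ := hf ⟨θ, hθB⟩
      exact (isCentProd_unique P h₂ h).1

end

end Cfsg.Agent.Lib.Helper4
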