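import Mathlib
import Cfsg.Agent.Lib.Helper4.CentralProdMain

set_option autoImplicit false

/-!
# The characters of a block of `G = D C_G(D)` with defect group `D` (helper4)
-/

namespace Cfsg.Agent.Lib.Helper4

open Cfsg Cfsg.Agent.Lib.Helper28 Cfsg.Agent.Lib.Helper26
open scoped ComplexConjugate Classical

section

variable {G : Type*} [Group G] [Fintype G] {M : Ideal AlgInt} (P : Subgroup G)

omit [Fintype G] in
/-- the `p`-regular elements of `G = P C_G(P)` lie in `C_G(P)` -/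
theorem mem_centralizer_of_preg [Finite G] {p : ℕ} [Fact p.Prime] (hP : IsPGroup p P)
    (hG : P ⊔ Subgroup.centralizer (P : Set G) = ⊤) {x : G} (hx : ¬ p ∣ orderOf x) :
    x ∈ Subgroup.centralizer (P : Set G) := by
  have hp : p.Prime := Fact.out
  have hCn := centralizer_normal_of_sup_eq_top P hG
  obtain ⟨k, hk⟩ := index_centralizer_subgroupOf hP (H := ⊤) (by rw [hG])
  have hidx : (Subgroup.centralizer (P : Set G)).index = p ^ k := by
    rw [← hk]
    exact (Subgroup.relIndex_top_right _).symm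
  have h1 : x ^ (p ^ k) ∈ Subgroup.centralizer (P : Set G) := by
    rw [← hidx]
    exact Subgroup.pow_index_mem _ x
  have h2 : x ^ orderOf x ∈ Subgroup.centralizer (P : Set G) := by
    rw [pow_orderOf_eq_one]
    exact Subgroup.one_mem _
  exact mem_of_pow_mem_of_coprime
    (Nat.Coprime.pow_left _ ((Nat.Prime.coprime_iff_not_dvd hp).mpr hx)) h1 h2

/-- the condition of statement S4714 relating `θ`, `ζ` and the canonical character `χ` -/
def IsTwistOf (p : ℕ) (χ θ : G → ℂ) (ζ : P → ℂ) : Prop :=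
  (∀ (y : P) (x : G), ¬ p ∣ orderOf x → Commute (y : G) x → θ ((y : G) * x) = ζ y * χ x) ∧
    ∀ z : G, (∀ y : G, IsPPart p z y → y ∉ P) → θ z = 0

/-- a character satisfying the twist condition lies in the block of `χ` -/
theorem mem_block_of_isTwistOf {p : ℕ} [Fact p.Prime] (hM : IsPModular p M)
    {B : Set (IrrCharacter G)} (hB : IsPBlock M B) {χ : IrrCharacter G} (hχ : χ ∈ B)
    {θ : IrrCharacter G} {ζ : IrrCharacter P}
    (h : IsTwistOf P p (χ : G → ℂ) (θ : G → ℂ) (ζ : P → ℂ)) : θ ∈ B := by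
  obtain ⟨hn1, hζ1, _⟩ := irr_degree_nat ζ.2
  have hζ10 : (ζ : P → ℂ) 1 ≠ 0 := by rw [hζ1]; exact_mod_cast hn1
  obtain ⟨hn2, hχ1, _⟩ := irr_degree_nat χ.2
  have hχ10 : (χ : G → ℂ) 1 ≠ 0 := by rw [hχ1]; exact_mod_cast hn2
  have hval : ∀ g : G, ¬ p ∣ orderOf g → (θ : G → ℂ) g = (ζ : P → ℂ) 1 * (χ : G → ℂ) g := by
    intro g hg
    have := h.1 1 g hg (by simp)
    simpa using this
  have h1reg : ¬ p ∣ orderOf (1 : G) := by
    rw [orderOf_one]; exact (Fact.out : p.Prime).one_lt.ne' ∘ Nat.dvd_one.mp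
  have h1 : omegaF (θ : G → ℂ) (blockCoeff B) = omegaF (χ : G → ℂ) (blockCoeff B) := by
    unfold omegaF
    rw [hval 1 h1reg]
    have h2 : ∑ g : G, blockCoeff B g * (θ : G → ℂ) g =
        (ζ : P → ℂ) 1 * ∑ g : G, blockCoeff B g * (χ : G → ℂ) g := by
      rw [Finset.mul_sum]
      refine Finset.sum_congr rfl fun g _ => ?_
      by_cases hg : p ∣ orderOf g
      · rw [Cfsg.Agent.Lib.Helper4.blockCoeff_eq_zero_of_pSingular hM hB g hg]
        ring
      · rw [hval g hg]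
        ring
    rw [h2, mul_div_mul_left _ _ hζ10]
  rw [omegaF_blockCoeff, omegaF_blockCoeff, if_pos hχ] at h1
  by_contra hθ
  rw [if_neg hθ] at h1
  exact zero_ne_one h1

/-- a member of the block is the twist of the canonical character by its `P`-factor -/
theorem isTwistOf_of_mem {p : ℕ} [Fact p.Prime] (hM : IsPModular p M) (hP : IsPGroup p P)
    (hG : P ⊔ Subgroup.centralizer (P : Set G) = ⊤)
    {e : Set (IrrCharacter (Subgroup.centralizer (P : Set G)))} (he : IsPBlock M e)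
    (hZdef : IsDefectGroup p M e ((P ⊓ Subgroup.centralizer (P : Set G)).subgroupOf
        (Subgroup.centralizer (P : Set G))))
    {χ : IrrCharacter G} (hχP : ∀ y ∈ P, (χ : G → ℂ) y = (χ : G → ℂ) 1)
    {ζ₀ : IrrCharacter P} {ψ₀ : IrrCharacter (Subgroup.centralizer (P : Set G))}
    (h₀ : IsCentProd P (χ : G → ℂ) (ζ₀ : P → ℂ) (ψ₀ : Subgroup.centralizer (P : Set G) → ℂ))
    (hψ₀ : ψ₀ ∈ e)
    {θ : IrrCharacter G} {ζ : IrrCharacter P}
    {ψ : IrrCharacter (Subgroup.centralizer (P : Set G))}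
    (h : IsCentProd P (θ : G → ℂ) (ζ : P → ℂ) (ψ : Subgroup.centralizer (P : Set G) → ℂ))
    (hψ : ψ ∈ e) : IsTwistOf P p (χ : G → ℂ) (θ : G → ℂ) (ζ : P → ℂ) := by
  have hZc := center_subgroupOf_le_center P
  have hZp : IsPGroup p ((P ⊓ Subgroup.centralizer (P : Set G)).subgroupOf
      (Subgroup.centralizer (P : Set G))) := isPGroup_of_isDefectGroup hZdef
  have hζ₀ := factor_trivial_of_kernel P h₀ hχP
  have hχψ₀ : ∀ c : Subgroup.centralizer (P : Set G),
      (χ : G → ℂ) (c : G) = (ψ₀ : Subgroup.centralizer (P : Set G) → ℂ) c := by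
    intro c
    have := h₀ 1 c
    rw [hζ₀ 1, one_mul] at this
    simpa using this
  constructor
  · intro y x hx _
    have hxC := mem_centralizer_of_preg P hP hG hx
    have hreg : ¬ p ∣ orderOf (⟨x, hxC⟩ : Subgroup.centralizer (P : Set G)) := by
      rw [Subgroup.orderOf_mk]
      exact hx
    have h1 := h y ⟨x, hxC⟩
    have h2 := hχψ₀ ⟨x, hxC⟩
    simp only at h1 h2
    rw [h1, h2, preg_eq_of_central_defect hM he hZdef hZc hψ hψ₀ hreg]
  · intro z hz
    by_contra hne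
    obtain ⟨a, rfl⟩ := centProdHom_surjective P hG z
    rw [centProdHom_apply, h a.1 a.2] at hne
    have hψne : (ψ : Subgroup.centralizer (P : Set G) → ℂ) a.2 ≠ 0 := fun h0 => by
      rw [h0, mul_zero] at hne
      exact hne rfl
    have hd := degree_factorization_of_central_defect hM he hZdef hZc hψ
    obtain ⟨z', hz', c', hc', hac⟩ := laradji_support hZp hZc ψ hd a.2 hψne
    rw [Subgroup.mem_subgroupOf] at hz'
    have hmem : (a.1 : G) * (z' : G) ∈ P := P.mul_mem a.1.2 hz'.1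
    apply hz ((a.1 : G) * (z' : G)) _ hmem
    refine ⟨(c' : G), ?_, ?_, ?_, ?_⟩
    · rw [centProdHom_apply, hac, Subgroup.coe_mul, mul_assoc]
    · exact c'.2 _ hmem
    · exact (IsPGroup.iff_orderOf.mp hP) ⟨_, hmem⟩ |>.imp fun k hk => by
        rw [← hk, Subgroup.orderOf_mk]
    · rw [Subgroup.orderOf_coe]
      exact hc'

/-- **statement S4714** -/
theorem central_product_characters {p : ℕ} [Fact p.Prime] (hM : IsPModular p M)
    (hP : IsPGroup p P) (hG : P ⊔ Subgroup.centralizer (P : Set G) = ⊤)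
    {B : Set (IrrCharacter G)} (hB : IsPBlock M B) (hD : IsDefectGroup p M B P)
    {χ : IrrCharacter G} (hχ : χ ∈ B) (hχP : ∀ y ∈ P, (χ : G → ℂ) y = (χ : G → ℂ) 1) :
    (∀ θ : IrrCharacter G, θ ∈ B ↔ ∃ ζ : IrrCharacter P,
      IsTwistOf P p (χ : G → ℂ) (θ : G → ℂ) (ζ : P → ℂ)) ∧
    ∀ ζ : IrrCharacter P, ∃ θ ∈ B, IsTwistOf P p (χ : G → ℂ) (θ : G → ℂ) (ζ : P → ℂ) := by
  obtain ⟨e, he, hZdef, hkey⟩ := exists_local_block P hM hP hG hB hD
  obtain ⟨ζ₀, ψ₀, h₀⟩ := exists_isCentProd P hG χ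
  have hψ₀ : ψ₀ ∈ e := (hkey χ ζ₀ ψ₀ h₀).mp hχ
  constructor
  · intro θ
    constructor
    · intro hθ
      obtain ⟨ζ, ψ, h⟩ := exists_isCentProd P hG θ
      exact ⟨ζ, isTwistOf_of_mem P hM hP hG he hZdef hχP h₀ hψ₀ h ((hkey θ ζ ψ h).mp hθ)⟩
    · rintro ⟨ζ, h⟩
      exact mem_block_of_isTwistOf P hM hB hχ h
  · intro ζ
    obtain ⟨ψ, hψe, hcompat⟩ := exists_compat_of_irr P hM he hZdef ζ
    obtain ⟨θ, h⟩ := exists_of_compat P hG ζ ψ hcompat
    exact ⟨θ, (hkey θ ζ ψ h).mpr hψe, isTwistOf_of_mem P hM hP hG he hZdef hχP h₀ hψ₀ h hψe⟩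

end

end Cfsg.Agent.Lib.Helper4
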