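import Mathlib
import Cfsg.Agent.Lib.Helper4.BrauerMaxCrit
import Cfsg.Agent.Lib.Helper4.BrauerCentric
import Cfsg.Agent.Lib.Helper4.CentralProdChar

set_option autoImplicit false

/-!
# A normal centric Brauer pair (helper4)
-/

namespace Cfsg.Agent.Lib.Helper4

open Cfsg Cfsg.Agent.Lib.Helper28 Cfsg.Agent.Lib.Helper26
open scoped ComplexConjugate Classical

section

variable {G : Type*} [Group G] [Fintype G] {M : Ideal AlgInt}

/-- the idempotent of a `G`-stable block of `C_G(Q)`, `Q` a normal `p`-subgroup, is a block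
idempotent of `G` -/
theorem exists_block_of_stable_top {p : ℕ} [Fact p.Prime] (hM : IsPModular p M)
    {Q : Subgroup G} (hQ : IsPGroup p Q)
    {f : Set (IrrCharacter (Subgroup.centralizer (Q : Set G)))} (hf : IsPBlock M f)
    (hG : ∀ x : G, x ∈ Subgroup.normalizer (Q : Set G) ∧
      StabilizesBlock (Subgroup.centralizer (Q : Set G)) f x) :
    ∃ B₀ : Set (IrrCharacter G), IsPBlock M B₀ ∧
      ∀ g : G, blockCoeff B₀ g = subgroupBlockCoeff (Subgroup.centralizer (Q : Set G)) f g := by
  obtain ⟨E, hE, hEe⟩ := exists_block_of_stable hM Q hQ f hf ⊤ (fun x _ => (hG x).1)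
    (fun x _ => (hG x).2) le_top le_top
  set φ : (⊤ : Subgroup G) ≃* G := Subgroup.topEquiv with hφ
  refine ⟨(irrEquiv φ) ⁻¹' E, isPBlock_preimage_irrEquiv φ hE, ?_⟩
  intro g
  rw [blockCoeff_preimage_irrEquiv φ E g, hEe]
  rfl

/-- the block of `H = Q C_G(Q)` with the idempotent of a block `e` of `C_G(Q)` that has defect
group `Z(Q)` has the unique defect group `Q` -/
theorem extBlock_defect {p : ℕ} [Fact p.Prime] (hM : IsPModular p M) {Q H : Subgroup G}
    (hQ : IsPGroup p Q) (hH : H = Q ⊔ Subgroup.centralizer (Q : Set G))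
    {e : Set (IrrCharacter (Subgroup.centralizer (Q : Set G)))}
    (heB : IsPBlock M e)
    (hZdef : IsDefectGroup p M e ((Q ⊓ Subgroup.centralizer (Q : Set G)).subgroupOf
      (Subgroup.centralizer (Q : Set G))))
    {b : Set (IrrCharacter H)} (hb : IsPBlock M b)
    (hbe : ∀ h : H, blockCoeff b h =
      subgroupBlockCoeff (Subgroup.centralizer (Q : Set G)) e (h : G))
    {Pb : Subgroup H} (hPb : IsDefectGroup p M b Pb) :
    Pb = Q.subgroupOf H := by
  have hp : p.Prime := Fact.out
  have hMprime : M.IsPrime := hM.2.1.isPrime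
  have hQH : Q ≤ H := hH ▸ le_sup_left
  have hCH : Subgroup.centralizer (Q : Set G) ≤ H := hH ▸ le_sup_right
  have hHle : H ≤ Q ⊔ Subgroup.centralizer (Q : Set G) := hH.le
  have hHN : H ≤ Subgroup.normalizer (Q : Set G) := hHle.trans (sup_centralizer_le_normalizer Q)
  have hnH : ((Subgroup.centralizer (Q : Set G)).subgroupOf H).Normal :=
    normal_centralizer_subgroupOf hHle
  have hZcard : Nat.card ((Q ⊓ Subgroup.centralizer (Q : Set G)).subgroupOf
      (Subgroup.centralizer (Q : Set G))) = Nat.card ↥(Q ⊓ Subgroup.centralizer (Q : Set G)) :=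
    card_subgroupOf_of_le inf_le_right
  have hdb := (defect_of_same_idem_sub hM hCH heB
    (fun t => stabilizesBlock_of_mem_sup heB (hHle t.2)) hb hbe hPb).2
  have hZcard2 := Cfsg.Agent.S0908.result p M hM e heB _ hZdef
  have hPbcard : Nat.card Pb = p ^ blockDefect p b :=
    Cfsg.Agent.S0908.result p M hM b hb Pb hPb
  have hQcard := card_eq_card_inf_mul_relIndex Q
  rw [← hH] at hQcard
  have hrel0 : (Subgroup.centralizer (Q : Set G)).relIndex H ≠ 0 := by
    unfold Subgroup.relIndex
    exact Subgroup.index_ne_zero_of_finite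
  have hQfac : (Nat.card Q).factorization p = blockDefect p b := by
    rw [hQcard, Nat.factorization_mul Nat.card_pos.ne' hrel0, Finsupp.add_apply, hdb, ← hZcard,
      hZcard2, hp.factorization_pow]
    simp
  have hQcard2 : Nat.card Q = p ^ blockDefect p b := by
    obtain ⟨n, hn⟩ := hQ.exists_card_eq
    rw [hn, hp.factorization_pow] at hQfac
    simp only [Finsupp.single_eq_same] at hQfac
    rw [hn, hQfac]
  have h912 := Cfsg.Agent.S0912.result p M hM b hb _ hPb
  have hn : (Q.subgroupOf H).Normal := Subgroup.normal_subgroupOf_of_le_normalizer hHN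
  have hp' : IsPGroup p (Q.subgroupOf H) := hQ.comap_subtype
  have hle2 := (Cfsg.Agent.Lib.Helper16.le_pCore hn hp').trans h912
  have hcard : Nat.card Pb ≤ Nat.card (Q.subgroupOf H) := by
    rw [card_subgroupOf_of_le hQH, hPbcard, hQcard2]
  exact (Subgroup.eq_of_le_of_card_ge hle2 hcard).symm

/-- **statement S4693** -/
theorem normal_centric_pair {p : ℕ} [Fact p.Prime] (hM : IsPModular p M)
    {B : Set (IrrCharacter G)} {P : Subgroup G}
    {e : Set (IrrCharacter (Subgroup.centralizer (P : Set G)))}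
    (hmax : IsMaximalBrauerPair p M B P e) {F : FusionSystem P}
    (hF : IsBlockFusionSystemOn p M B P e F) {Q : Subgroup G}
    {f : Set (IrrCharacter (Subgroup.centralizer (Q : Set G)))} (hQP : Q ≤ P)
    (hf : IsPBlock M f) (hle : SubpairLE p M Q f P e) (hcen : F.IsCentric Q)
    (hG : ∀ x : G, x ∈ Subgroup.normalizer (Q : Set G) ∧
      StabilizesBlock (Subgroup.centralizer (Q : Set G)) f x) :
    (∀ g : G, MemLocalIdeal M (blockCoeff B g -
      subgroupBlockCoeff (Subgroup.centralizer (Q : Set G)) f g)) ∧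
    ∃ F' : Set (IrrCharacter ↥(Q ⊔ Subgroup.centralizer (Q : Set G))), IsPBlock M F' ∧
      (∀ t : ↥(Q ⊔ Subgroup.centralizer (Q : Set G)), blockCoeff F' t =
        subgroupBlockCoeff (Subgroup.centralizer (Q : Set G)) f (t : G)) ∧
      IsNilpotentBlock p M F' := by
  have hp : p.Prime := Fact.out
  have hMprime : M.IsPrime := hM.2.1.isPrime
  have hMtop : M ≠ ⊤ := hM.2.1.ne_top
  have hB : IsPBlock M B := hmax.1.2.1
  have hQ : IsPGroup p Q := hmax.1.1.1.to_le hQP
  have hQfB : IsBrauerPairOf p M B Q f := (isBrauerPairOf_iff_of_subpairLE hM hle hB).mp hmax.1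
  constructor
  · obtain ⟨B₀, hB₀, hB₀f⟩ := exists_block_of_stable_top hM hQ hf hG
    have hQfB₀ : IsBrauerPairOf p M B₀ Q f := by
      refine ⟨⟨hQ, hf⟩, hB₀, fun ξ hξ => ?_⟩
      have h1 : blockCoeff B₀ = extZero (Subgroup.centralizer (Q : Set G)) (blockCoeff f) := by
        funext g
        rw [hB₀f g, subgroupBlockCoeff_eq_extZero]
      rw [brauerOmega_eq_omegaF, h1, resTo_extZero, omegaF_blockCoeff, if_pos hξ, sub_self]
      exact memLocalIdeal_zero hMtop
    have hBB₀ : B = B₀ := (existsUnique_isBrauerPairOf Q hM f ⟨hQ, hf⟩).unique hQfB hQfB₀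
    intro g
    rw [hBB₀, hB₀f g, sub_self]
    exact memLocalIdeal_zero hMtop
  · have hZdef := (centric_iff hM hmax hF hQP hf hle).mp hcen
    obtain ⟨b, hb, hbe⟩ := exists_extBlock hM hQ
      (H := Q ⊔ Subgroup.centralizer (Q : Set G)) le_sup_right le_rfl hf
    refine ⟨b, hb, hbe, hb, ?_⟩
    intro R g hRg x hxN hxs hxreg
    obtain ⟨D, d, hmaxD, hleD⟩ := exists_maximal_ge hM _ R g hRg le_rfl
    have hDdef := isDefectGroup_of_maximal hM hmaxD
    have hDeq := extBlock_defect hM hQ rfl hf hZdef hb hbe hDdef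
    have hRD : R ≤ D := subpairLE_le hleD
    -- `x` lies in `C_G(Q)`
    have hnH : ((Subgroup.centralizer (Q : Set G)).subgroupOf
        (Q ⊔ Subgroup.centralizer (Q : Set G))).Normal :=
      normal_centralizer_subgroupOf le_rfl
    obtain ⟨k, hk⟩ := index_centralizer_subgroupOf hQ
      (H := Q ⊔ Subgroup.centralizer (Q : Set G)) le_rfl
    have h1 : x ^ (p ^ k) ∈ (Subgroup.centralizer (Q : Set G)).subgroupOf
        (Q ⊔ Subgroup.centralizer (Q : Set G)) := by
      rw [← hk]
      exact Subgroup.pow_index_mem _ x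
    have h2 : x ^ orderOf x ∈ (Subgroup.centralizer (Q : Set G)).subgroupOf
        (Q ⊔ Subgroup.centralizer (Q : Set G)) := by
      rw [pow_orderOf_eq_one]
      exact Subgroup.one_mem _
    have hxC := mem_of_pow_mem_of_coprime
      (Nat.Coprime.pow_left _ ((Nat.Prime.coprime_iff_not_dvd hp).mpr hxreg)) h1 h2
    rw [Subgroup.mem_subgroupOf] at hxC
    rw [Subgroup.mem_centralizer_iff]
    intro r hr
    have hrQ : (r : G) ∈ Q := by
      have := hRD hr
      rw [hDeq, Subgroup.mem_subgroupOf] at this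
      exact this
    apply Subtype.ext
    exact hxC (r : G) hrQ

end

end Cfsg.Agent.Lib.Helper4
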