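import Mathlib
import Cfsg.Agent.Lib.Helper4.BlockPIndex
import Cfsg.Agent.Lib.Helper4.BrauerNilLocal
import Cfsg.Agent.Lib.Helper7.GlaubAbove
import Cfsg.Agent.Lib.Helper4.BrauerCorr

set_option autoImplicit false

/-!
# Brauer pairs and normal subgroups of `p`-power index (helper4)
-/

namespace Cfsg.Agent.Lib.Helper4

open Cfsg Cfsg.Agent.Lib.Helper28 Cfsg.Agent.Lib.Helper26
open scoped ComplexConjugate Classical

section

variable {G : Type*} [Group G] [Fintype G] {M : Ideal AlgInt} (N : Subgroup G) [hN : N.Normal]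

/-- `C_N(Q)` for `Q ≤ N`, inside `N` and inside `C_G(Q)`, as isomorphic groups -/
noncomputable def centNEquiv {Q : Subgroup G} (hQN : Q ≤ N) :
    Subgroup.centralizer ((Q.subgroupOf N : Subgroup N) : Set N) ≃*
      N.subgroupOf (Subgroup.centralizer (Q : Set G)) where
  toFun n := ⟨⟨((n : N) : G), by
      intro q hq
      have := n.2 ⟨q, hQN hq⟩ (Subgroup.mem_subgroupOf.mpr hq)
      exact congrArg Subtype.val this⟩, by
      rw [Subgroup.mem_subgroupOf]
      exact (n : N).2⟩
  invFun l := ⟨⟨((l : Subgroup.centralizer (Q : Set G)) : G), Subgroup.mem_subgroupOf.mp l.2⟩, by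
      intro q hq
      apply Subtype.ext
      exact (l : Subgroup.centralizer (Q : Set G)).2 (q : G) (Subgroup.mem_subgroupOf.mp hq)⟩
  left_inv _ := rfl
  right_inv _ := rfl
  map_mul' _ _ := rfl

omit [Fintype G] hN in
theorem centNEquiv_apply {Q : Subgroup G} (hQN : Q ≤ N)
    (n : Subgroup.centralizer ((Q.subgroupOf N : Subgroup N) : Set N)) :
    (((centNEquiv N hQN n : N.subgroupOf (Subgroup.centralizer (Q : Set G))) :
      Subgroup.centralizer (Q : Set G)) : G) = ((n : N) : G) := rfl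

omit [Fintype G] hN in
theorem centNEquiv_symm_apply {Q : Subgroup G} (hQN : Q ≤ N)
    (l : N.subgroupOf (Subgroup.centralizer (Q : Set G))) :
    ((((centNEquiv N hQN).symm l : Subgroup.centralizer ((Q.subgroupOf N : Subgroup N) : Set N)) :
      N) : G) = ((l : Subgroup.centralizer (Q : Set G)) : G) := rfl

/-- the idempotent of a block `c` of `N`, truncated to `C_N(Q)` -/
noncomputable def gammaN (Q : Subgroup G) (c : Set (IrrCharacter N)) :
    N.subgroupOf (Subgroup.centralizer (Q : Set G)) → ℂ :=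
  fun l => blockCoeff c ⟨((l : Subgroup.centralizer (Q : Set G)) : G),
    Subgroup.mem_subgroupOf.mp l.2⟩

omit [Fintype G] hN in
/-- the truncation of the extended idempotent -/
theorem resTo_extZero_eq_gammaN (Q : Subgroup G) (c : Set (IrrCharacter N)) :
    resTo (Subgroup.centralizer (Q : Set G)) (extZero N (blockCoeff c)) =
      extZero (N.subgroupOf (Subgroup.centralizer (Q : Set G))) (gammaN N Q c) := by
  funext k
  by_cases hk : (k : G) ∈ N
  · have hk' : k ∈ N.subgroupOf (Subgroup.centralizer (Q : Set G)) :=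
      Subgroup.mem_subgroupOf.mpr hk
    have e1 := extZero_mem' (N.subgroupOf (Subgroup.centralizer (Q : Set G))) (gammaN N Q c)
      ⟨k, hk'⟩
    have e2 := extZero_mem' N (blockCoeff c) ⟨(k : G), hk⟩
    simp only at e1 e2
    rw [e1]
    show extZero N (blockCoeff c) (k : G) = _
    rw [e2]
    rfl
  · have hk' : k ∉ N.subgroupOf (Subgroup.centralizer (Q : Set G)) := fun h =>
      hk (Subgroup.mem_subgroupOf.mp h)
    rw [extZero_not_mem' _ _ hk']
    show extZero N (blockCoeff c) (k : G) = 0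
    rw [extZero_not_mem' _ _ hk]

/-- `G`-invariance of the truncated idempotent of a `G`-stable block -/
theorem gammaN_conj (Q : Subgroup G) {c : Set (IrrCharacter N)}
    (hst : ∀ x : G, StabilizesBlock N c x)
    (k : Subgroup.centralizer (Q : Set G)) (l : N.subgroupOf (Subgroup.centralizer (Q : Set G))) :
    gammaN N Q c ⟨k * l * k⁻¹, (inferInstance : (N.subgroupOf
      (Subgroup.centralizer (Q : Set G))).Normal).conj_mem l l.2 k⟩ = gammaN N Q c l := by
  unfold gammaN
  exact blockCoeff_conj_of_stabilizes N c (k : G) (hst k) _ _ rfl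

theorem isClassFunction_gammaN (Q : Subgroup G) {c : Set (IrrCharacter N)}
    (hst : ∀ x : G, StabilizesBlock N c x) :
    IsClassFunction (N.subgroupOf (Subgroup.centralizer (Q : Set G))) (gammaN N Q c) := by
  intro g k
  exact gammaN_conj N Q hst (k : Subgroup.centralizer (Q : Set G)) g

omit hN in
theorem gammaN_memLocalRing [M.IsPrime] (Q : Subgroup G) {c : Set (IrrCharacter N)}
    (hc : IsPBlock M c) (l : N.subgroupOf (Subgroup.centralizer (Q : Set G))) :
    MemLocalRing M (gammaN N Q c l) := osima hc _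

/-- **P1**: the Brauer-map image of `e_B = e_c` at `Q`, evaluated at `ξ ∈ Irr(C_G(Q))`, is the
central character of any constituent `θ` of `ξ` on `C_N(Q)` at the truncated idempotent -/
theorem brauerOmega_eq_omegaF_gammaN (Q : Subgroup G) {c : Set (IrrCharacter N)}
    (hst : ∀ x : G, StabilizesBlock N c x) {B : Set (IrrCharacter G)}
    (hBc : ∀ g : G, blockCoeff B g = subgroupBlockCoeff N c g)
    (ξ : IrrCharacter (Subgroup.centralizer (Q : Set G)))
    (θ : IrrCharacter (N.subgroupOf (Subgroup.centralizer (Q : Set G))))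
    (hcon : classInner ((ξ : Subgroup.centralizer (Q : Set G) → ℂ) ∘
      (N.subgroupOf (Subgroup.centralizer (Q : Set G))).subtype)
      (θ : N.subgroupOf (Subgroup.centralizer (Q : Set G)) → ℂ) ≠ 0) :
    brauerOmega Q (blockCoeff B) (ξ : Subgroup.centralizer (Q : Set G) → ℂ) =
      omegaF (θ : N.subgroupOf (Subgroup.centralizer (Q : Set G)) → ℂ) (gammaN N Q c) := by
  have hB : blockCoeff B = extZero N (blockCoeff c) := by
    funext g
    rw [hBc g, subgroupBlockCoeff_eq_extZero]
  rw [brauerOmega_eq_omegaF, hB, resTo_extZero_eq_gammaN]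
  exact omegaF_extZero_of_constituent _ ξ.2 θ.2 hcon (gammaN N Q c)
    (fun k l => gammaN_conj N Q hst k l)

omit hN in
/-- **P2**: the Brauer-map image of `e_c` at `Q` inside `N` -/
theorem brauerOmega_subgroupOf_eq_omegaF_gammaN {Q : Subgroup G} (hQN : Q ≤ N)
    (c : Set (IrrCharacter N))
    (ξ' : IrrCharacter (Subgroup.centralizer ((Q.subgroupOf N : Subgroup N) : Set N))) :
    brauerOmega (Q.subgroupOf N) (blockCoeff c)
      (ξ' : Subgroup.centralizer ((Q.subgroupOf N : Subgroup N) : Set N) → ℂ) =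
      omegaF (irrEquiv (centNEquiv N hQN).symm ξ' :
        N.subgroupOf (Subgroup.centralizer (Q : Set G)) → ℂ) (gammaN N Q c) := by
  rw [brauerOmega_eq_omegaF]
  unfold omegaF
  congr 1
  · refine Fintype.sum_equiv (centNEquiv N hQN).toEquiv _ _ (fun n => ?_)
    show blockCoeff c (n : N) * _ = gammaN N Q c (centNEquiv N hQN n) *
      (irrEquiv (centNEquiv N hQN).symm ξ' :
        N.subgroupOf (Subgroup.centralizer (Q : Set G)) → ℂ) (centNEquiv N hQN n)
    rw [irrEquiv_apply, MulEquiv.symm_apply_apply]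
    rfl

/-- conjugation by `y ∈ N_G(Q)` on `C_N(Q)` -/
noncomputable def conjL (Q : Subgroup G) (y : G) (hy : y ∈ Subgroup.normalizer (Q : Set G)) :
    N.subgroupOf (Subgroup.centralizer (Q : Set G)) ≃*
      N.subgroupOf (Subgroup.centralizer (Q : Set G)) where
  toFun l := ⟨conjK (Subgroup.centralizer (Q : Set G)) y
      (normalizer_le_normalizer_centralizer Q hy) (l : Subgroup.centralizer (Q : Set G)), by
      rw [Subgroup.mem_subgroupOf, conjK_apply]
      exact hN.conj_mem _ (Subgroup.mem_subgroupOf.mp l.2) y⟩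
  invFun l := ⟨(conjK (Subgroup.centralizer (Q : Set G)) y
      (normalizer_le_normalizer_centralizer Q hy)).symm (l : Subgroup.centralizer (Q : Set G)), by
      rw [Subgroup.mem_subgroupOf, conjK_symm_apply]
      have := hN.conj_mem _ (Subgroup.mem_subgroupOf.mp l.2) y⁻¹
      simpa using this⟩
  left_inv l := by
    apply Subtype.ext
    simp
  right_inv l := by
    apply Subtype.ext
    simp
  map_mul' a b := by
    apply Subtype.ext
    simp

omit [Fintype G] in
theorem conjL_apply (Q : Subgroup G) (y : G) (hy : y ∈ Subgroup.normalizer (Q : Set G))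
    (l : N.subgroupOf (Subgroup.centralizer (Q : Set G))) :
    (((conjL N Q y hy l : N.subgroupOf (Subgroup.centralizer (Q : Set G))) :
      Subgroup.centralizer (Q : Set G)) : G) =
      y * ((l : Subgroup.centralizer (Q : Set G)) : G) * y⁻¹ := rfl

omit [Fintype G] in
theorem conjL_symm_apply (Q : Subgroup G) (y : G) (hy : y ∈ Subgroup.normalizer (Q : Set G))
    (l : N.subgroupOf (Subgroup.centralizer (Q : Set G))) :
    ((((conjL N Q y hy).symm l : N.subgroupOf (Subgroup.centralizer (Q : Set G))) :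
      Subgroup.centralizer (Q : Set G)) : G) =
      y⁻¹ * ((l : Subgroup.centralizer (Q : Set G)) : G) * y := rfl

/-- the conjugate `θ^y`, `θ^y (y l y⁻¹) = θ l`, of a character of `C_N(Q)` -/
noncomputable def conjIrrL (Q : Subgroup G) (y : G) (hy : y ∈ Subgroup.normalizer (Q : Set G))
    (θ : IrrCharacter (N.subgroupOf (Subgroup.centralizer (Q : Set G)))) :
    IrrCharacter (N.subgroupOf (Subgroup.centralizer (Q : Set G))) :=
  irrEquiv (conjL N Q y hy).symm θ

omit [Fintype G] in
theorem conjIrrL_apply (Q : Subgroup G) (y : G) (hy : y ∈ Subgroup.normalizer (Q : Set G))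
    (θ : IrrCharacter (N.subgroupOf (Subgroup.centralizer (Q : Set G))))
    (l : N.subgroupOf (Subgroup.centralizer (Q : Set G))) :
    (conjIrrL N Q y hy θ : N.subgroupOf (Subgroup.centralizer (Q : Set G)) → ℂ) l =
      (θ : N.subgroupOf (Subgroup.centralizer (Q : Set G)) → ℂ) ((conjL N Q y hy).symm l) := rfl

/-- **C1**: restriction commutes with conjugation -/
theorem classInner_conjIrr_conjIrrL (Q : Subgroup G) (y : G)
    (hy : y ∈ Subgroup.normalizer (Q : Set G))
    (ξ : IrrCharacter (Subgroup.centralizer (Q : Set G)))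
    (θ : IrrCharacter (N.subgroupOf (Subgroup.centralizer (Q : Set G)))) :
    classInner ((conjIrr (Subgroup.centralizer (Q : Set G)) y
      (normalizer_le_normalizer_centralizer Q hy) ξ : Subgroup.centralizer (Q : Set G) → ℂ) ∘
        (N.subgroupOf (Subgroup.centralizer (Q : Set G))).subtype)
      (conjIrrL N Q y hy θ : N.subgroupOf (Subgroup.centralizer (Q : Set G)) → ℂ) =
    classInner ((ξ : Subgroup.centralizer (Q : Set G) → ℂ) ∘
        (N.subgroupOf (Subgroup.centralizer (Q : Set G))).subtype)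
      (θ : N.subgroupOf (Subgroup.centralizer (Q : Set G)) → ℂ) := by
  unfold classInner
  congr 1
  refine Fintype.sum_equiv (conjL N Q y hy).symm.toEquiv _ _ (fun l => ?_)
  rfl

omit [Fintype G] in
/-- **C2** -/
theorem sameBlock_conjIrrL (Q : Subgroup G) (y : G) (hy : y ∈ Subgroup.normalizer (Q : Set G))
    {θ θ₂ : IrrCharacter (N.subgroupOf (Subgroup.centralizer (Q : Set G)))}
    (h : SameBlock M (θ : N.subgroupOf (Subgroup.centralizer (Q : Set G)) → ℂ)
      (θ₂ : N.subgroupOf (Subgroup.centralizer (Q : Set G)) → ℂ)) :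
    SameBlock M (conjIrrL N Q y hy θ : N.subgroupOf (Subgroup.centralizer (Q : Set G)) → ℂ)
      (conjIrrL N Q y hy θ₂ : N.subgroupOf (Subgroup.centralizer (Q : Set G)) → ℂ) :=
  (sameBlock_irrEquiv_iff (M := M) (conjL N Q y hy).symm θ θ₂).mpr h

omit [Fintype G] in
/-- **C3**: conjugation by elements of `C_G(Q)` -/
theorem conjFunN_eq_conjIrrL (Q : Subgroup G) (k : Subgroup.centralizer (Q : Set G))
    (hk : ((k : G))⁻¹ ∈ Subgroup.normalizer (Q : Set G))
    (θ : IrrCharacter (N.subgroupOf (Subgroup.centralizer (Q : Set G)))) :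
    conjFunN (N.subgroupOf (Subgroup.centralizer (Q : Set G)))
      (θ : N.subgroupOf (Subgroup.centralizer (Q : Set G)) → ℂ) k =
      (conjIrrL N Q ((k : G))⁻¹ hk θ : N.subgroupOf (Subgroup.centralizer (Q : Set G)) → ℂ) := by
  funext l
  rw [conjIrrL_apply]
  unfold conjFunN
  refine congrArg _ (Subtype.ext (Subtype.ext ?_))
  rw [conjL_symm_apply, inv_inv]
  rfl

omit [Fintype G] in
/-- **C4** -/
theorem conjIrrL_conjIrrL (Q : Subgroup G) (y₁ y₂ : G)
    (hy₁ : y₁ ∈ Subgroup.normalizer (Q : Set G)) (hy₂ : y₂ ∈ Subgroup.normalizer (Q : Set G))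
    (θ : IrrCharacter (N.subgroupOf (Subgroup.centralizer (Q : Set G)))) :
    conjIrrL N Q y₂ hy₂ (conjIrrL N Q y₁ hy₁ θ) =
      conjIrrL N Q (y₂ * y₁) (Subgroup.mul_mem _ hy₂ hy₁) θ := by
  apply Subtype.ext
  funext l
  rw [conjIrrL_apply, conjIrrL_apply, conjIrrL_apply]
  refine congrArg _ (Subtype.ext (Subtype.ext ?_))
  rw [conjL_symm_apply, conjL_symm_apply, conjL_symm_apply]
  group

omit [Fintype G] in
/-- **T1**: conjugation inside `N` and inside `G` agree -/
theorem irrEquiv_centNEquiv_conjIrr {Q : Subgroup G} (hQN : Q ≤ N) (z : N)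
    (hz' : z ∈ Subgroup.normalizer ((Q.subgroupOf N : Subgroup N) : Set N))
    (hz : (z : G) ∈ Subgroup.normalizer (Q : Set G))
    (ξ' : IrrCharacter (Subgroup.centralizer ((Q.subgroupOf N : Subgroup N) : Set N))) :
    irrEquiv (centNEquiv N hQN).symm
      (conjIrr (Subgroup.centralizer ((Q.subgroupOf N : Subgroup N) : Set N)) z
        (normalizer_le_normalizer_centralizer _ hz') ξ') =
      conjIrrL N Q (z : G) hz (irrEquiv (centNEquiv N hQN).symm ξ') := by
  apply Subtype.ext
  funext l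
  rw [conjIrrL_apply, irrEquiv_apply, irrEquiv_apply, conjIrr_apply]
  refine congrArg _ (Subtype.ext (Subtype.ext ?_))
  rfl

omit [Fintype G] in
theorem index_subgroupOf_centralizer_pow [Finite G] {p : ℕ} [Fact p.Prime] {k : ℕ}
    (hNk : N.index = p ^ k) (Q : Subgroup G) :
    ∃ j : ℕ, (N.subgroupOf (Subgroup.centralizer (Q : Set G))).index = p ^ j := by
  have h := Subgroup.relIndex_dvd_index_of_normal N (Subgroup.centralizer (Q : Set G))
  rw [hNk] at h
  obtain ⟨j, -, hj⟩ := (Nat.dvd_prime_pow (Fact.out : p.Prime)).mp h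
  exact ⟨j, hj⟩

/-- the stabilizer of a Brauer pair stabilizes its subpairs on normalized subgroups -/
theorem stabilizesBlock_of_subpairLE {p : ℕ} [Fact p.Prime] (hM : IsPModular p M)
    {P Q : Subgroup G}
    {e : Set (IrrCharacter (Subgroup.centralizer (P : Set G)))}
    {f : Set (IrrCharacter (Subgroup.centralizer (Q : Set G)))}
    (hPe : IsBrauerPair p M P e) (hQP : Q ≤ P) (hf : IsPBlock M f)
    (hle : SubpairLE p M Q f P e) {x : G} (hxP : x ∈ Subgroup.normalizer (P : Set G))
    (hxst : StabilizesBlock (Subgroup.centralizer (P : Set G)) e x)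
    (hxQ : x ∈ Subgroup.normalizer (Q : Set G)) :
    StabilizesBlock (Subgroup.centralizer (Q : Set G)) f x := by
  have hMprime : M.IsPrime := hM.2.1.isPrime
  have h1 := subpairLE_conj (M := M) (p := p) hle x
  rw [conjPair_eq_self_of_stab hPe.2 hxP hxst, conjPair_normalizer hxQ f] at h1
  have hf' : IsPBlock M (conjIrr (Subgroup.centralizer (Q : Set G)) x
      (normalizer_le_normalizer_centralizer Q hxQ) '' f) := isPBlock_image_conjIrr _ x _ hf
  have h3 := subpair_unique hM (Nat.card P - Nat.card Q) P Q e hPe hQP le_rfl _ f hf' hf h1 hle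
  exact (image_conjIrr_eq_iff _ hf x _).mp h3

/-- **direction A**: if `B` is nilpotent, a `p`-regular element of `N` stabilizing a Brauer pair
of `c` centralizes its subgroup -/
theorem centralizes_of_nilpotent_top {p : ℕ} [Fact p.Prime] (hM : IsPModular p M) {k : ℕ}
    (hNk : N.index = p ^ k) {c : Set (IrrCharacter N)}
    (hst : ∀ x : G, StabilizesBlock N c x) {B : Set (IrrCharacter G)} (hB : IsPBlock M B)
    (hBc : ∀ g : G, blockCoeff B g = subgroupBlockCoeff N c g)
    (hnil : IsNilpotentBlock p M B) {Q : Subgroup G} (hQN : Q ≤ N)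
    {f' : Set (IrrCharacter (Subgroup.centralizer ((Q.subgroupOf N : Subgroup N) : Set N)))}
    (hpair : IsBrauerPairOf p M c (Q.subgroupOf N) f') {x' : N}
    (hxN : x' ∈ Subgroup.normalizer ((Q.subgroupOf N : Subgroup N) : Set N))
    (hxst : StabilizesBlock (Subgroup.centralizer ((Q.subgroupOf N : Subgroup N) : Set N)) f' x')
    (hxreg : IsPRegular p x') :
    x' ∈ Subgroup.centralizer ((Q.subgroupOf N : Subgroup N) : Set N) := by
  have hMprime : M.IsPrime := hM.2.1.isPrime
  have hMtop : M ≠ ⊤ := Ideal.IsPrime.ne_top hMprime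
  have hQp : IsPGroup p Q := (hpair.1.1).of_equiv (Subgroup.subgroupOfEquivOfLe hQN)
  have hxG : (x' : G) ∈ Subgroup.normalizer (Q : Set G) :=
    (mem_normalizer_subgroupOf_iff hQN x').mp hxN
  obtain ⟨j, hLidx⟩ := index_subgroupOf_centralizer_pow N hNk Q
  have hf' : IsPBlock M f' := hpair.1.2
  obtain ⟨ξ', hξ'⟩ := block_nonempty hf'
  obtain ⟨θ, hθ_def⟩ : ∃ θ : IrrCharacter (N.subgroupOf (Subgroup.centralizer (Q : Set G))),
      θ = irrEquiv (centNEquiv N hQN).symm ξ' := ⟨_, rfl⟩
  have hθgood : MemLocalIdeal M (omegaF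
      (θ : N.subgroupOf (Subgroup.centralizer (Q : Set G)) → ℂ) (gammaN N Q c) - 1) := by
    rw [hθ_def, ← brauerOmega_subgroupOf_eq_omegaF_gammaN N hQN c ξ']
    exact hpair.2.2 ξ' hξ'
  obtain ⟨ξ, hξcon0⟩ := Cfsg.Agent.Lib.Helper7.GlaubAbove.exists_over_hom
    (N.subgroupOf (Subgroup.centralizer (Q : Set G))).subtype Subtype.val_injective θ
  have hξcon : classInner ((ξ : Subgroup.centralizer (Q : Set G) → ℂ) ∘
      (N.subgroupOf (Subgroup.centralizer (Q : Set G))).subtype)
      (θ : N.subgroupOf (Subgroup.centralizer (Q : Set G)) → ℂ) ≠ 0 := hξcon0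
  have hg : IsPBlock M (blockOf M (ξ : Subgroup.centralizer (Q : Set G) → ℂ)) := ⟨ξ, rfl⟩
  have hξg : ξ ∈ blockOf M (ξ : Subgroup.centralizer (Q : Set G) → ℂ) :=
    sameBlock_refl hMtop _
  have hgpair : IsBrauerPairOf p M B Q (blockOf M (ξ : Subgroup.centralizer (Q : Set G) → ℂ)) := by
    apply isBrauerPairOf_blockOf hB hQp ξ
    rw [brauerOmega_eq_omegaF_gammaN N Q hst hBc ξ θ hξcon]
    exact hθgood
  -- `x` stabilizes the block of `ξ`
  have hxK := normalizer_le_normalizer_centralizer Q hxG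
  obtain ⟨hxK', hxf'⟩ := (stabilizesBlock_iff _ f' x').mp hxst
  have hsb : SameBlock M (θ : N.subgroupOf (Subgroup.centralizer (Q : Set G)) → ℂ)
      (conjIrrL N Q (x' : G) hxG θ : N.subgroupOf (Subgroup.centralizer (Q : Set G)) → ℂ) := by
    rw [hθ_def, ← irrEquiv_centNEquiv_conjIrr N hQN x' hxN hxG ξ']
    rw [sameBlock_irrEquiv_iff]
    exact (mem_block_iff hf' hξ' _).mp (hxf' ξ' hξ')
  have hcon₂ : classInner ((conjIrr (Subgroup.centralizer (Q : Set G)) (x' : G) hxK ξ :
      Subgroup.centralizer (Q : Set G) → ℂ) ∘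
        (N.subgroupOf (Subgroup.centralizer (Q : Set G))).subtype)
      (conjIrrL N Q (x' : G) hxG θ : N.subgroupOf (Subgroup.centralizer (Q : Set G)) → ℂ) ≠ 0 := by
    rw [classInner_conjIrr_conjIrrL]
    exact hξcon
  have hξ₂g := mem_block_of_over_pIndex (N.subgroupOf (Subgroup.centralizer (Q : Set G))) hM
    hLidx hg hξg hξcon hcon₂ hsb
  have hstg : StabilizesBlock (Subgroup.centralizer (Q : Set G))
      (blockOf M (ξ : Subgroup.centralizer (Q : Set G) → ℂ)) (x' : G) := by
    rw [stabilizesBlock_iff]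
    refine ⟨hxK, fun χ hχ => ?_⟩
    have h1 : SameBlock M (ξ : Subgroup.centralizer (Q : Set G) → ℂ)
        (χ : Subgroup.centralizer (Q : Set G) → ℂ) := hχ
    have h2 := sameBlock_conjIrr (M := M) (Subgroup.centralizer (Q : Set G)) (x' : G) hxK h1
    exact sameBlock_trans hξ₂g h2
  have hxreg' : IsPRegular p (x' : G) := by
    unfold IsPRegular at hxreg ⊢
    rwa [Subgroup.orderOf_coe]
  have hcent := hnil.2 Q _ hgpair (x' : G) hxG hstg hxreg'
  intro q hq
  apply Subtype.ext
  exact hcent (q : G) (Subgroup.mem_subgroupOf.mp hq)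

omit [Fintype G] in
theorem conjIrrL_congr (Q : Subgroup G) {y y' : G} (h : y = y')
    (hy : y ∈ Subgroup.normalizer (Q : Set G)) (hy' : y' ∈ Subgroup.normalizer (Q : Set G))
    (θ : IrrCharacter (N.subgroupOf (Subgroup.centralizer (Q : Set G)))) :
    conjIrrL N Q y hy θ = conjIrrL N Q y' hy' θ := by
  subst h
  rfl

omit [Fintype G] in
theorem conjIrrL_one (Q : Subgroup G) (h1 : (1 : G) ∈ Subgroup.normalizer (Q : Set G))
    (θ : IrrCharacter (N.subgroupOf (Subgroup.centralizer (Q : Set G)))) :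
    conjIrrL N Q 1 h1 θ = θ := by
  apply Subtype.ext
  funext l
  rw [conjIrrL_apply]
  refine congrArg _ (Subtype.ext (Subtype.ext ?_))
  rw [conjL_symm_apply]
  simp

omit [Fintype G] hN in
/-- powers of `k x` agree with powers of `x` modulo a subgroup normalized by `x` -/
theorem exists_mul_pow_eq {K : Subgroup G} {k x : G} (hk : k ∈ K)
    (hx : x ∈ Subgroup.normalizer (K : Set G)) (j : ℕ) :
    ∃ k' ∈ K, (k * x) ^ j = k' * x ^ j := by
  induction j with
  | zero => exact ⟨1, K.one_mem, by simp⟩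
  | succ j ih =>
    obtain ⟨k', hk', he⟩ := ih
    have hxj : x ^ j ∈ Subgroup.normalizer (K : Set G) := Subgroup.pow_mem _ hx j
    have h1 : x ^ j * k * (x ^ j)⁻¹ ∈ K := (Subgroup.mem_normalizer_iff.mp hxj k).mp hk
    refine ⟨k' * (x ^ j * k * (x ^ j)⁻¹), K.mul_mem hk' h1, ?_⟩
    rw [pow_succ, he, pow_succ]
    group

/-- **direction B, the case `Q ≤ N`**: if `c` is nilpotent, a `p`-regular element stabilizing a
Brauer pair `(Q, g)` of `B` with `Q ≤ N` centralizes `Q` -/
theorem centralizes_of_nilpotent_sub {p : ℕ} [Fact p.Prime] (hM : IsPModular p M) {k : ℕ}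
    (hNk : N.index = p ^ k) {c : Set (IrrCharacter N)} (hc : IsPBlock M c)
    (hst : ∀ x : G, StabilizesBlock N c x) {B : Set (IrrCharacter G)}
    (hBc : ∀ g : G, blockCoeff B g = subgroupBlockCoeff N c g)
    (hnil : IsNilpotentBlock p M c) {Q : Subgroup G} (hQN : Q ≤ N)
    {g : Set (IrrCharacter (Subgroup.centralizer (Q : Set G)))}
    (hpair : IsBrauerPairOf p M B Q g) {x : G}
    (hxQ : x ∈ Subgroup.normalizer (Q : Set G))
    (hxst : StabilizesBlock (Subgroup.centralizer (Q : Set G)) g x)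
    (hxreg : IsPRegular p x) : x ∈ Subgroup.centralizer (Q : Set G) := by
  have hMprime : M.IsPrime := hM.2.1.isPrime
  have hMtop : M ≠ ⊤ := Ideal.IsPrime.ne_top hMprime
  have hp : p.Prime := Fact.out
  have hQp : IsPGroup p Q := hpair.1.1
  have hg : IsPBlock M g := hpair.1.2
  obtain ⟨ξ, hξ⟩ := block_nonempty hg
  obtain ⟨θ, hcon⟩ := exists_constituent_restrict
    (N.subgroupOf (Subgroup.centralizer (Q : Set G))) ξ.2
  have hθgood : MemLocalIdeal M (omegaF
      (θ : N.subgroupOf (Subgroup.centralizer (Q : Set G)) → ℂ) (gammaN N Q c) - 1) := by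
    rw [← brauerOmega_eq_omegaF_gammaN N Q hst hBc ξ θ hcon]
    exact hpair.2.2 ξ hξ
  -- the conjugate by `x`
  obtain ⟨hxK, hxg⟩ := (stabilizesBlock_iff _ g x).mp hxst
  have hcon₂ : classInner ((conjIrr (Subgroup.centralizer (Q : Set G)) x hxK ξ :
      Subgroup.centralizer (Q : Set G) → ℂ) ∘
        (N.subgroupOf (Subgroup.centralizer (Q : Set G))).subtype)
      (conjIrrL N Q x hxQ θ : N.subgroupOf (Subgroup.centralizer (Q : Set G)) → ℂ) ≠ 0 := by
    rw [classInner_conjIrr_conjIrrL]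
    exact hcon
  have hBl : SameBlock M (ξ : Subgroup.centralizer (Q : Set G) → ℂ)
      (conjIrr (Subgroup.centralizer (Q : Set G)) x hxK ξ :
        Subgroup.centralizer (Q : Set G) → ℂ) := (mem_block_iff hg hξ _).mp (hxg ξ hξ)
  obtain ⟨k₀, hk₀⟩ := exists_conj_sameBlock
    (N.subgroupOf (Subgroup.centralizer (Q : Set G))) hBl hcon hcon₂
  have hk₀N : ((k₀ : G))⁻¹ ∈ Subgroup.normalizer (Q : Set G) :=
    Subgroup.inv_mem _ (Subgroup.centralizer_le_normalizer _ k₀.2)
  have hk₀N' : (k₀ : G) ∈ Subgroup.normalizer (Q : Set G) :=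
    Subgroup.centralizer_le_normalizer _ k₀.2
  rw [conjFunN_eq_conjIrrL N Q k₀ hk₀N θ] at hk₀
  -- `y = k₀ x` fixes the block of `θ`
  have hyN : (k₀ : G) * x ∈ Subgroup.normalizer (Q : Set G) := Subgroup.mul_mem _ hk₀N' hxQ
  have hysb : SameBlock M (θ : N.subgroupOf (Subgroup.centralizer (Q : Set G)) → ℂ)
      (conjIrrL N Q ((k₀ : G) * x) hyN θ :
        N.subgroupOf (Subgroup.centralizer (Q : Set G)) → ℂ) := by
    have h1 := sameBlock_conjIrrL (M := M) N Q (k₀ : G) hk₀N' hk₀
    rw [conjIrrL_conjIrrL, conjIrrL_conjIrrL] at h1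
    rw [conjIrrL_congr N Q (mul_inv_cancel (k₀ : G)) _ (Subgroup.one_mem _) θ,
      conjIrrL_one] at h1
    exact h1
  have hpow : ∀ j : ℕ, ∀ hj : ((k₀ : G) * x) ^ j ∈ Subgroup.normalizer (Q : Set G),
      SameBlock M (θ : N.subgroupOf (Subgroup.centralizer (Q : Set G)) → ℂ)
        (conjIrrL N Q (((k₀ : G) * x) ^ j) hj θ :
          N.subgroupOf (Subgroup.centralizer (Q : Set G)) → ℂ) := by
    intro j
    induction j with
    | zero =>
      intro hj
      rw [conjIrrL_congr N Q (pow_zero _) hj (Subgroup.one_mem _) θ, conjIrrL_one]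
      exact sameBlock_refl hMtop _
    | succ j ih =>
      intro hj
      have hj' : ((k₀ : G) * x) ^ j ∈ Subgroup.normalizer (Q : Set G) :=
        Subgroup.pow_mem _ hyN j
      rw [conjIrrL_congr N Q (pow_succ' _ j) hj (Subgroup.mul_mem _ hyN hj') θ,
        ← conjIrrL_conjIrrL N Q _ _ hj' hyN θ]
      exact sameBlock_trans hysb (sameBlock_conjIrrL N Q _ hyN (ih hj'))
  -- the `p'`-part of `y`
  obtain ⟨b, hb_def⟩ : ∃ b : ℕ, b = (orderOf ((k₀ : G) * x)).factorization p := ⟨_, rfl⟩
  obtain ⟨z, hz_def⟩ : ∃ z : G, z = ((k₀ : G) * x) ^ (p ^ b) := ⟨_, rfl⟩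
  have hzQ : z ∈ Subgroup.normalizer (Q : Set G) := by
    rw [hz_def]
    exact Subgroup.pow_mem _ hyN _
  have hzreg : ¬ p ∣ orderOf z := by
    have ho0 : orderOf ((k₀ : G) * x) ≠ 0 := (orderOf_pos _).ne'
    rw [hz_def, orderOf_pow_of_dvd (pow_ne_zero _ hp.ne_zero)
      (by rw [hb_def]; exact Nat.ordProj_dvd _ _), hb_def]
    exact Nat.not_dvd_ordCompl hp ho0
  have hzN : z ∈ N := by
    by_contra hcon3
    exact hzreg (dvd_orderOf_of_not_mem N hNk hcon3)
  have hzsb : SameBlock M (θ : N.subgroupOf (Subgroup.centralizer (Q : Set G)) → ℂ)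
      (conjIrrL N Q z hzQ θ : N.subgroupOf (Subgroup.centralizer (Q : Set G)) → ℂ) := by
    have := hpow (p ^ b) (by rw [← hz_def]; exact hzQ)
    rw [conjIrrL_congr N Q hz_def hzQ _ θ]
    exact this
  -- the Brauer pair of `c`
  have hz'N : (⟨z, hzN⟩ : N) ∈
      Subgroup.normalizer ((Q.subgroupOf N : Subgroup N) : Set N) :=
    (mem_normalizer_subgroupOf_iff hQN _).mpr hzQ
  have hγcf := isClassFunction_gammaN N Q hst
  have hγR : ∀ l, MemLocalRing M (gammaN N Q c l) := fun l => gammaN_memLocalRing N Q hc l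
  have hcpair : IsBrauerPairOf p M c (Q.subgroupOf N)
      (blockOf M (irrEquiv (centNEquiv N hQN) θ :
        Subgroup.centralizer ((Q.subgroupOf N : Subgroup N) : Set N) → ℂ)) := by
    refine ⟨⟨hQp.comap_subtype, ⟨_, rfl⟩⟩, hc, ?_⟩
    intro ξ' hξ'
    have h1 : SameBlock M (irrEquiv (centNEquiv N hQN) θ :
        Subgroup.centralizer ((Q.subgroupOf N : Subgroup N) : Set N) → ℂ)
        (ξ' : Subgroup.centralizer ((Q.subgroupOf N : Subgroup N) : Set N) → ℂ) := hξ'
    have h2 := (sameBlock_irrEquiv_iff (M := M) (centNEquiv N hQN).symm _ _).mpr h1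
    rw [irrEquiv_symm_irrEquiv] at h2
    rw [brauerOmega_subgroupOf_eq_omegaF_gammaN N hQN c ξ']
    have h3 := omegaF_sub_memLocalIdeal
      (Cfsg.Agent.Lib.Helper4.isClassFunction_of_isIrrCharacter
        (irrEquiv (centNEquiv N hQN).symm ξ').2)
      (Cfsg.Agent.Lib.Helper4.isClassFunction_of_isIrrCharacter θ.2) (sameBlock_symm h2)
      (gammaN N Q c) hγcf hγR
    have := memLocalIdeal_add h3 hθgood
    rwa [sub_add_sub_cancel] at this
  have hstab : StabilizesBlock (Subgroup.centralizer ((Q.subgroupOf N : Subgroup N) : Set N))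
      (blockOf M (irrEquiv (centNEquiv N hQN) θ :
        Subgroup.centralizer ((Q.subgroupOf N : Subgroup N) : Set N) → ℂ)) (⟨z, hzN⟩ : N) := by
    rw [stabilizesBlock_iff]
    refine ⟨normalizer_le_normalizer_centralizer _ hz'N, fun χ hχ => ?_⟩
    have h1 : SameBlock M (irrEquiv (centNEquiv N hQN) θ :
        Subgroup.centralizer ((Q.subgroupOf N : Subgroup N) : Set N) → ℂ)
        (χ : Subgroup.centralizer ((Q.subgroupOf N : Subgroup N) : Set N) → ℂ) := hχ
    have h2 := sameBlock_conjIrr (M := M) _ (⟨z, hzN⟩ : N)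
      (normalizer_le_normalizer_centralizer _ hz'N) h1
    have h3 : SameBlock M (irrEquiv (centNEquiv N hQN) θ :
        Subgroup.centralizer ((Q.subgroupOf N : Subgroup N) : Set N) → ℂ)
        (conjIrr _ (⟨z, hzN⟩ : N) (normalizer_le_normalizer_centralizer _ hz'N)
          (irrEquiv (centNEquiv N hQN) θ) :
          Subgroup.centralizer ((Q.subgroupOf N : Subgroup N) : Set N) → ℂ) := by
      rw [← sameBlock_irrEquiv_iff (M := M) (centNEquiv N hQN).symm,
        irrEquiv_centNEquiv_conjIrr N hQN ⟨z, hzN⟩ hz'N hzQ, irrEquiv_symm_irrEquiv]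
      exact hzsb
    exact sameBlock_trans h3 h2
  have hzreg' : IsPRegular p (⟨z, hzN⟩ : N) := by
    unfold IsPRegular
    rw [Subgroup.orderOf_mk]
    exact hzreg
  have hzc := hnil.2 _ _ hcpair ⟨z, hzN⟩ hz'N hstab hzreg'
  have hzK : z ∈ Subgroup.centralizer (Q : Set G) := by
    intro q hq
    have := hzc ⟨q, hQN hq⟩ (Subgroup.mem_subgroupOf.mpr hq)
    exact congrArg Subtype.val this
  -- back to `x`
  obtain ⟨k', hk', he⟩ := exists_mul_pow_eq k₀.2 hxK (p ^ b)
  have hxpow : x ^ (p ^ b) ∈ Subgroup.centralizer (Q : Set G) := by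
    have e1 : x ^ (p ^ b) = k'⁻¹ * z := by
      rw [hz_def, he]
      group
    rw [e1]
    exact Subgroup.mul_mem _ (Subgroup.inv_mem _ hk') hzK
  have hxord : x ^ orderOf x ∈ Subgroup.centralizer (Q : Set G) := by
    rw [pow_orderOf_eq_one]
    exact Subgroup.one_mem _
  refine mem_of_pow_mem_of_coprime ?_ hxpow hxord
  exact Nat.Coprime.pow_left b ((Nat.Prime.coprime_iff_not_dvd hp).mpr hxreg)

/-- **direction B**: if `c` is nilpotent, so is `B` -/
theorem centralizes_of_nilpotent_sub' {p : ℕ} [Fact p.Prime] (hM : IsPModular p M) {k : ℕ}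
    (hNk : N.index = p ^ k) {c : Set (IrrCharacter N)} (hc : IsPBlock M c)
    (hst : ∀ x : G, StabilizesBlock N c x) {B : Set (IrrCharacter G)}
    (hBc : ∀ g : G, blockCoeff B g = subgroupBlockCoeff N c g)
    (hnil : IsNilpotentBlock p M c) {R : Subgroup G}
    {g : Set (IrrCharacter (Subgroup.centralizer (R : Set G)))}
    (hpair : IsBrauerPairOf p M B R g) {x : G}
    (hxR : x ∈ Subgroup.normalizer (R : Set G))
    (hxst : StabilizesBlock (Subgroup.centralizer (R : Set G)) g x)
    (hxreg : IsPRegular p x) : x ∈ Subgroup.centralizer (R : Set G) := by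
  have hp : p.Prime := Fact.out
  have hB := hpair.2.1
  have hRp : IsPGroup p R := hpair.1.1
  have hQR : R ⊓ N ≤ R := inf_le_left
  have hQN : R ⊓ N ≤ N := inf_le_right
  have hxN : x ∈ N := by
    by_contra hcon
    exact hxreg (dvd_orderOf_of_not_mem N hNk hcon)
  have hxQ : x ∈ Subgroup.normalizer ((R ⊓ N : Subgroup G) : Set G) := by
    rw [Subgroup.mem_normalizer_iff]
    intro y
    constructor
    · rintro ⟨h1, h2⟩
      exact ⟨(Subgroup.mem_normalizer_iff.mp hxR y).mp h1, hN.conj_mem y h2 x⟩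
    · rintro ⟨h1, h2⟩
      refine ⟨(Subgroup.mem_normalizer_iff.mp hxR y).mpr h1, ?_⟩
      have := hN.conj_mem _ h2 x⁻¹
      have e : x⁻¹ * (x * y * x⁻¹) * x⁻¹⁻¹ = y := by group
      rwa [e] at this
  obtain ⟨gQ, hgQ, hle⟩ := exists_subpairLE hM _ R (R ⊓ N) g hpair.1 hQR le_rfl
  have hQpair : IsBrauerPairOf p M B (R ⊓ N) gQ :=
    (isBrauerPairOf_iff_of_subpairLE hM hle hB).mp hpair
  have hstQ := stabilizesBlock_of_subpairLE hM hpair.1 hQR hgQ hle hxR hxst hxQ
  have hxcQ := centralizes_of_nilpotent_sub N hM hNk hc hst hBc hnil hQN hQpair hxQ hstQ hxreg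
  -- coprime action
  intro r hr
  obtain ⟨n, hn_def⟩ : ∃ n : G, n = r⁻¹ * (x * r * x⁻¹) := ⟨_, rfl⟩
  have hnR : n ∈ R := by
    rw [hn_def]
    exact R.mul_mem (R.inv_mem hr) ((Subgroup.mem_normalizer_iff.mp hxR r).mp hr)
  have hnN : n ∈ N := by
    have e : n = (r⁻¹ * x * r⁻¹⁻¹) * x⁻¹ := by rw [hn_def]; group
    rw [e]
    exact N.mul_mem (hN.conj_mem x hxN r⁻¹) (N.inv_mem hxN)
  have hcomm : n * x = x * n := hxcQ n ⟨hnR, hnN⟩
  have hxr : x * r * x⁻¹ = r * n := by rw [hn_def]; group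
  have key : ∀ m : ℕ, x ^ m * r * (x ^ m)⁻¹ = r * n ^ m := by
    intro m
    induction m with
    | zero => simp
    | succ m ih =>
      have e : x ^ (m + 1) * r * (x ^ (m + 1))⁻¹ = x * (x ^ m * r * (x ^ m)⁻¹) * x⁻¹ := by
        rw [pow_succ']
        group
      have hxn : x * n ^ m * x⁻¹ = n ^ m := by
        have hc2 : Commute x n := hcomm.symm
        have := (hc2.pow_right m).eq
        rw [this]
        group
      rw [e, ih]
      calc x * (r * n ^ m) * x⁻¹ = (x * r * x⁻¹) * (x * n ^ m * x⁻¹) := by group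
        _ = r * n * n ^ m := by rw [hxr, hxn]
        _ = r * n ^ (m + 1) := by rw [pow_succ']; group
  have h1 := key (orderOf x)
  rw [pow_orderOf_eq_one] at h1
  have hnm : n ^ orderOf x = 1 := by
    have : r = r * n ^ orderOf x := by simpa using h1
    exact (mul_eq_left.mp this.symm)
  obtain ⟨a, ha⟩ := (IsPGroup.iff_orderOf.mp hRp) ⟨n, hnR⟩
  have ha' : orderOf n = p ^ a := by
    rw [← ha]
    exact (Subgroup.orderOf_mk n hnR).symm
  have hdvd : orderOf n ∣ orderOf x := orderOf_dvd_of_pow_eq_one hnm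
  have ha0 : a = 0 := by
    by_contra h0
    apply hxreg
    refine dvd_trans ?_ hdvd
    rw [ha']
    exact dvd_pow_self p h0
  have hn1 : n = 1 := by
    rw [← orderOf_eq_one_iff, ha', ha0, pow_zero]
  rw [hn1, mul_one] at hxr
  have := congrArg (· * x) hxr
  simp only [inv_mul_cancel_right] at this
  exact this.symm

/-- **S4692**: for a normal subgroup of `p`-power index and a stable block `c` with associated
block `B` of `G`, `c` is nilpotent iff `B` is nilpotent -/
theorem nilpotent_iff_of_pIndex {p : ℕ} [Fact p.Prime] (hM : IsPModular p M)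
    (hNp : ∃ k : ℕ, N.index = p ^ k) {c : Set (IrrCharacter N)} (hc : IsPBlock M c)
    (hst : ∀ x : G, StabilizesBlock N c x) {B : Set (IrrCharacter G)} (hB : IsPBlock M B)
    (hBc : ∀ g : G, blockCoeff B g = subgroupBlockCoeff N c g) :
    IsNilpotentBlock p M c ↔ IsNilpotentBlock p M B := by
  obtain ⟨k, hNk⟩ := hNp
  constructor
  · intro hnil
    exact ⟨hB, fun R g hpair x hxR hxst hxreg =>
      centralizes_of_nilpotent_sub' N hM hNk hc hst hBc hnil hpair hxR hxst hxreg⟩
  · intro hnil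
    refine ⟨hc, ?_⟩
    intro Q' f' hpair x' hxN hxst hxreg
    obtain ⟨Q, hQN, rfl⟩ : ∃ Q : Subgroup G, ∃ _ : Q ≤ N, Q' = Q.subgroupOf N :=
      ⟨Q'.map N.subtype, Subgroup.map_subtype_le Q', by
        rw [Subgroup.subgroupOf,
          Subgroup.comap_map_eq_self_of_injective N.subtype_injective]⟩
    exact centralizes_of_nilpotent_top N hM hNk hst hB hBc hnil hQN hpair hxN hxst hxreg

end

end Cfsg.Agent.Lib.Helper4
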