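import Mathlib
import Cfsg.Agent.Lib.Helper4.BrauerFusionSys
import Cfsg.Agent.Lib.Helper29.AutInduced

set_option autoImplicit false

/-!
# The fusion system of a block is saturated (helper4)
-/

namespace Cfsg.Agent.Lib.Helper4

open Cfsg Cfsg.Agent.Lib.Helper28 Cfsg.Agent.Lib.Helper29
open scoped ComplexConjugate Classical

section

variable {G : Type*} [Group G] [Fintype G] {M : Ideal AlgInt}

/-- `Aut_F(Q)` is induced by `N_G(Q, f)` -/
theorem autGroup_eq_autInducedBy {p : ℕ} [Fact p.Prime] (hM : IsPModular p M)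
    {B : Set (IrrCharacter G)} {P : Subgroup G}
    {e : Set (IrrCharacter (Subgroup.centralizer (P : Set G)))} {F : FusionSystem P}
    (hF : IsBlockFusionSystemOn p M B P e F) {Q : Subgroup G}
    {f : Set (IrrCharacter (Subgroup.centralizer (Q : Set G)))} (hQP : Q ≤ P)
    (hf : IsPBlock M f) (hle : SubpairLE p M Q f P e) {T : Subgroup G}
    (hT : ∀ y : G, y ∈ T ↔ y ∈ Subgroup.normalizer (Q : Set G) ∧
      StabilizesBlock (Subgroup.centralizer (Q : Set G)) f y) :
    F.autGroup Q = autInducedBy T Q := by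
  have hMprime : M.IsPrime := hM.2.1.isPrime
  have hPe : IsBrauerPair p M P e := hF.1.1.1
  unfold FusionSystem.autGroup autInducedBy
  congr 1
  ext α
  constructor
  · intro hα
    obtain ⟨-, g, hg, -, f₁, hle₁, hle₁'⟩ := (hF.2 Q _).mp hα
    have hg' : ∀ u : Q, ((α u : Q) : G) = g * (u : G) * g⁻¹ := fun u => hg u
    have hmap : Q.map (MulAut.conj g).toMonoidHom = Q := by
      ext y
      rw [mem_map_conj_iff]
      constructor
      · intro hy
        have := hg' ⟨g⁻¹ * y * g, hy⟩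
        have e1 : g * (g⁻¹ * y * g) * g⁻¹ = y := by group
        rw [e1] at this
        rw [← this]
        exact (α _).2
      · intro hy
        obtain ⟨u, hu⟩ := α.surjective ⟨y, hy⟩
        have h1 : ((α u : Q) : G) = y := congrArg Subtype.val hu
        rw [hg' u] at h1
        rw [← h1]
        have e1 : g⁻¹ * (g * (u : G) * g⁻¹) * g = (u : G) := by group
        rw [e1]
        exact u.2
    have hf₁ : IsPBlock M f₁ := isPBlock_of_subpairLE hPe.2 hle₁
    have hff : f₁ = f := subpair_unique hM _ P Q e hPe hQP le_rfl f₁ f hf₁ hf hle₁ hle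
    rw [hff] at hle₁'
    have hfix : conjPair g (⟨Q, f⟩ : BrauerPairIdx G) = ⟨Q, f⟩ :=
      pair_eq_of_le_of_fst_eq hM (c := (⟨P, e⟩ : BrauerPairIdx G)) hPe hle₁' hle hmap
    obtain ⟨hgN, hgst⟩ := stab_of_conjPair_eq_self hf hfix
    exact ⟨g, (hT g).mpr ⟨hgN, hgst⟩, hg'⟩
  · rintro ⟨g, hgT, hg⟩
    obtain ⟨hgN, hgst⟩ := (hT g).mp hgT
    have hfix := conjPair_eq_self_of_stab hf hgN hgst
    have hmap : Q.map (MulAut.conj g).toMonoidHom = Q := map_conj_eq_of_mem_normalizer hgN
    apply (hF.2 Q _).mpr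
    refine ⟨hQP, g, fun u => hg u, ?_, f, hle, ?_⟩
    · rw [hmap]
      exact hQP
    · show Relation.ReflTransGen (NormalSubpairRel p M)
        (conjPair g (⟨Q, f⟩ : BrauerPairIdx G)) ⟨P, e⟩
      rw [hfix]
      exact hle

/-- a fully normalized subgroup is fully automized -/
theorem fullyAutomized_of_defect {p : ℕ} [Fact p.Prime] (hM : IsPModular p M)
    {B : Set (IrrCharacter G)} {P : Subgroup G}
    {e : Set (IrrCharacter (Subgroup.centralizer (P : Set G)))} {F : FusionSystem P}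
    (hF : IsBlockFusionSystemOn p M B P e F) {Q : Subgroup G}
    {f : Set (IrrCharacter (Subgroup.centralizer (Q : Set G)))} (hQP : Q ≤ P)
    (hf : IsPBlock M f) (hle : SubpairLE p M Q f P e) {T : Subgroup G}
    (hT : ∀ y : G, y ∈ T ↔ y ∈ Subgroup.normalizer (Q : Set G) ∧
      StabilizesBlock (Subgroup.centralizer (Q : Set G)) f y)
    {F' : Set (IrrCharacter T)} (hF' : IsPBlock M F')
    (hF'f : ∀ t : T, blockCoeff F' t =
      subgroupBlockCoeff (Subgroup.centralizer (Q : Set G)) f (t : G))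
    (hD : IsDefectGroup p M F' ((P ⊓ Subgroup.normalizer (Q : Set G)).subgroupOf T)) :
    F.IsFullyAutomized p Q := by
  have hP : IsPGroup p P := hF.1.1.1.1
  have hCT : Subgroup.centralizer (Q : Set G) ≤ T := fun u hu =>
    (hT u).mpr ⟨centralizer_le_normalizer' Q hu, stabilizesBlock_of_mem_centralizer Q f hu⟩
  have hTN : T ≤ Subgroup.normalizer (Q : Set G) := fun t ht => ((hT t).mp ht).1
  have hTNC : T ≤ Subgroup.normalizer
      ((Subgroup.centralizer (Q : Set G) : Subgroup G) : Set G) := fun t ht =>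
    normalizer_le_normalizer_centralizer Q (hTN ht)
  have hn : ((Subgroup.centralizer (Q : Set G)).subgroupOf T).Normal :=
    (Subgroup.normal_subgroupOf_iff_le_normalizer hCT).mpr hTNC
  have h0 := (defect_of_same_idem_sub hM hCT hf (fun t => ((hT t).mp t.2).2) hF' hF'f hD).1
  refine ⟨hQP, ?_⟩
  rw [autGroup_eq_autInducedBy hM hF hQP hf hle hT, autInducedBy_eq_map T Q,
    autInducedBy_eq_map P Q]
  have h1 : IsPGroup p (((P.subgroupOf (Subgroup.normalizer (Q : Set G))).map
      Q.normalizerMonoidHom).subgroupOf ((T.subgroupOf (Subgroup.normalizer (Q : Set G))).map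
      Q.normalizerMonoidHom)) := ((hP.comap_subtype).map _).comap_subtype
  have h2 : ¬ p ∣ (((P.subgroupOf (Subgroup.normalizer (Q : Set G))).map
      Q.normalizerMonoidHom).subgroupOf ((T.subgroupOf (Subgroup.normalizer (Q : Set G))).map
      Q.normalizerMonoidHom)).index := by
    have e1 : (((P.subgroupOf (Subgroup.normalizer (Q : Set G))).map
        Q.normalizerMonoidHom).subgroupOf ((T.subgroupOf (Subgroup.normalizer (Q : Set G))).map
        Q.normalizerMonoidHom)).index =
        ((P.subgroupOf (Subgroup.normalizer (Q : Set G))).map Q.normalizerMonoidHom).relIndex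
          ((T.subgroupOf (Subgroup.normalizer (Q : Set G))).map Q.normalizerMonoidHom) := rfl
    have hCN : Subgroup.centralizer (Q : Set G) ≤ Subgroup.normalizer (Q : Set G) :=
      centralizer_le_normalizer' Q
    have e2 : T.subgroupOf (Subgroup.normalizer (Q : Set G)) ⊔
        (Subgroup.centralizer (Q : Set G)).subgroupOf (Subgroup.normalizer (Q : Set G)) =
        T.subgroupOf (Subgroup.normalizer (Q : Set G)) := by
      rw [sup_eq_left]
      intro x hx
      rw [Subgroup.mem_subgroupOf] at hx ⊢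
      exact hCT hx
    have e3 : P.subgroupOf (Subgroup.normalizer (Q : Set G)) ⊔
        (Subgroup.centralizer (Q : Set G)).subgroupOf (Subgroup.normalizer (Q : Set G)) =
        ((P ⊓ Subgroup.normalizer (Q : Set G)) ⊔ Subgroup.centralizer (Q : Set G)).subgroupOf
          (Subgroup.normalizer (Q : Set G)) := by
      rw [Subgroup.subgroupOf_sup inf_le_right hCN, Subgroup.inf_subgroupOf_right]
    have hPNT : P ⊓ Subgroup.normalizer (Q : Set G) ≤ T :=
      normalizerIn_le_stab hM hF.1.1.1 hQP hf hle hT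
    have e4 : (((P ⊓ Subgroup.normalizer (Q : Set G)) ⊔
        Subgroup.centralizer (Q : Set G)).subgroupOf T) =
        (P ⊓ Subgroup.normalizer (Q : Set G)).subgroupOf T ⊔
          (Subgroup.centralizer (Q : Set G)).subgroupOf T :=
      Subgroup.subgroupOf_sup hPNT hCT
    rw [e1, Subgroup.relIndex_map_map, Subgroup.normalizerMonoidHom_ker, e2, e3,
      Subgroup.relIndex_subgroupOf hTN]
    show ¬ p ∣ (((P ⊓ Subgroup.normalizer (Q : Set G)) ⊔
        Subgroup.centralizer (Q : Set G)).subgroupOf T).index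
    rw [e4]
    exact h0
  exact ⟨h1.toSylow h2, IsPGroup.toSylow_coe h1 h2⟩

/-- a Brauer pair of the block of `H` with the idempotent of `f`, containing `Q`, is a normal
superpair of `(Q, f)`; here `Q C_G(Q) ≤ H ≤ N_G(Q, f)` -/
theorem isNormalSubpair_indPair_of_isBrauerPairOf' {p : ℕ} {Q H : Subgroup G}
    {f : Set (IrrCharacter (Subgroup.centralizer (Q : Set G)))} (hQf : IsBrauerPair p M Q f)
    (hCH : Subgroup.centralizer (Q : Set G) ≤ H) (hQH : Q ≤ H)
    (hHN : H ≤ Subgroup.normalizer (Q : Set G))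
    (hHst : ∀ x ∈ H, StabilizesBlock (Subgroup.centralizer (Q : Set G)) f x)
    {F : Set (IrrCharacter H)}
    (hFf : ∀ t : H, blockCoeff F t =
      subgroupBlockCoeff (Subgroup.centralizer (Q : Set G)) f (t : G))
    {b : BrauerPairIdx H} (hb : IsBrauerPairOf p M F b.1 b.2) (hQb : Q.subgroupOf H ≤ b.1) :
    IsNormalSubpair p M Q f (b.1.map H.subtype) (indBlock H b.1 b.2) := by
  have hQb' : Q ≤ b.1.map H.subtype := by
    intro q hq
    exact ⟨⟨q, hQH hq⟩, hQb (Subgroup.mem_subgroupOf.mpr hq), rfl⟩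
  have hCb : Subgroup.centralizer ((b.1.map H.subtype : Subgroup G) : Set G) ≤ H :=
    (Subgroup.centralizer_le (by exact_mod_cast hQb')).trans hCH
  refine ⟨hQf, ⟨hb.1.1.map _, ?_⟩, hQb', ?_, ?_, ?_⟩
  · rw [indBlock_eq b.1 b.2 hCb]
    exact isPBlock_resBlock _ hb.1.2
  · rintro _ ⟨y, _, rfl⟩
    exact hHN y.2
  · rintro _ ⟨y, _, rfl⟩
    exact hHst _ y.2
  · intro ξ hξ
    rw [mem_indBlock_iff b.1 b.2 hCb] at hξ
    have := hb.2.2 _ hξ
    rw [subgroupBlockCoeff_eq_extZero_of_stab hCH hFf, brauerOmega_res (centCompat_map b.1 hCb)]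
    exact this

theorem isMaximalBrauerPair_resPair' {p : ℕ} [Fact p.Prime] {Q H : Subgroup G}
    {f : Set (IrrCharacter (Subgroup.centralizer (Q : Set G)))}
    (hCH : Subgroup.centralizer (Q : Set G) ≤ H) (hQH : Q ≤ H)
    (hHN : H ≤ Subgroup.normalizer (Q : Set G))
    (hHst : ∀ x ∈ H, StabilizesBlock (Subgroup.centralizer (Q : Set G)) f x)
    {F : Set (IrrCharacter H)} (hF : IsPBlock M F)
    (hFf : ∀ t : H, blockCoeff F t =
      subgroupBlockCoeff (Subgroup.centralizer (Q : Set G)) f (t : G))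
    {R : Subgroup G} {h : Set (IrrCharacter (Subgroup.centralizer (R : Set G)))}
    (hm : IsRelMaximal p M Q f R h) (hRH : R ≤ H)
    (hC : Subgroup.centralizer (R : Set G) ≤ H) :
    IsMaximalBrauerPair p M F (R.subgroupOf H) (cutBlock H hRH hC h) := by
  refine ⟨isBrauerPairOf_resPair hCH hF hFf hm.1 hRH hC, ?_⟩
  intro S s hSs hle
  have hle0 : Relation.ReflTransGen (NormalSubpairRel p M) (resPair H hRH hC h)
      (⟨S, s⟩ : BrauerPairIdx H) := hle
  have hRS : R.subgroupOf H ≤ S := subpairLE_le hle0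
  have hQS : Q.subgroupOf H ≤ S := by
    intro q hq
    apply hRS
    rw [Subgroup.mem_subgroupOf] at hq ⊢
    exact hm.1.2.2.1 hq
  have hn' := isNormalSubpair_indPair_of_isBrauerPairOf' hm.1.1 hCH hQH hHN hHst hFf
    (b := (⟨S, s⟩ : BrauerPairIdx H)) hSs hQS
  have h1 : (R.subgroupOf H).map H.subtype = R := Subgroup.map_subgroupOf_eq_of_le hRH
  have hCa : Subgroup.centralizer
      ((((resPair H hRH hC h).1).map H.subtype : Subgroup G) : Set G) ≤ H := by
    show Subgroup.centralizer (((R.subgroupOf H).map H.subtype : Subgroup G) : Set G) ≤ H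
    rw [h1]
    exact hC
  have hle' := subpairLE_indPair (M := M) (p := p) hCa hle0
  rw [indPair_resPair] at hle'
  have h2 : S.map H.subtype = R := hm.2 _ _ hn' hle'
  rw [← h2]
  show S = (S.map H.subtype).comap H.subtype
  rw [Subgroup.comap_map_eq_self_of_injective (Subgroup.subtype_injective H)]

/-- a normal superpair of `(Q, f)` of the order of the defect groups of the block of `N_G(Q, f)`
is maximal among the normal superpairs -/
theorem isRelMaximal_of_card {p : ℕ} [Fact p.Prime] (hM : IsPModular p M) {Q T : Subgroup G}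
    {f : Set (IrrCharacter (Subgroup.centralizer (Q : Set G)))}
    (hT : ∀ y : G, y ∈ T ↔ y ∈ Subgroup.normalizer (Q : Set G) ∧
      StabilizesBlock (Subgroup.centralizer (Q : Set G)) f y)
    {F : Set (IrrCharacter T)} (hF : IsPBlock M F)
    (hFf : ∀ t : T, blockCoeff F t =
      subgroupBlockCoeff (Subgroup.centralizer (Q : Set G)) f (t : G))
    {R : Subgroup G} {h : Set (IrrCharacter (Subgroup.centralizer (R : Set G)))}
    (hn : IsNormalSubpair p M Q f R h) (hcard : Nat.card R = p ^ blockDefect p F) :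
    IsRelMaximal p M Q f R h := by
  have hCT : Subgroup.centralizer (Q : Set G) ≤ T := fun u hu =>
    (hT u).mpr ⟨centralizer_le_normalizer' Q hu, stabilizesBlock_of_mem_centralizer Q f hu⟩
  refine ⟨hn, ?_⟩
  intro R' h' hn' hle'
  have hR'T : R' ≤ T := fun u hu => (hT u).mpr ⟨hn'.2.2.2.1 hu, hn'.2.2.2.2.1 u hu⟩
  have hCR' : Subgroup.centralizer (R' : Set G) ≤ T :=
    (Subgroup.centralizer_le (by exact_mod_cast hn'.2.2.1)).trans hCT
  have hpair := isBrauerPairOf_resPair hCT hF hFf hn' hR'T hCR'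
  obtain ⟨D, d, hmaxD, hleD⟩ := exists_maximal_ge hM _ _ _ hpair le_rfl
  have hDdef := isDefectGroup_of_maximal hM hmaxD
  have hDcard := Cfsg.Agent.S0908.result p M hM F hF D hDdef
  have hle1 : R'.subgroupOf T ≤ D := subpairLE_le hleD
  have h1 : Nat.card R' ≤ Nat.card R := by
    rw [hcard, ← hDcard, ← Cfsg.Agent.Lib.Helper4.card_subgroupOf_of_le hR'T]
    exact Subgroup.card_le_of_le hle1
  exact (Subgroup.eq_of_le_of_card_ge (subpairLE_le hle') h1).symm

/-- a fully normalized subgroup is receptive -/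
theorem receptive_of_defect {p : ℕ} [Fact p.Prime] (hM : IsPModular p M)
    {B : Set (IrrCharacter G)} {P : Subgroup G}
    {e : Set (IrrCharacter (Subgroup.centralizer (P : Set G)))} {F : FusionSystem P}
    (hF : IsBlockFusionSystemOn p M B P e F) {Q : Subgroup G}
    {f : Set (IrrCharacter (Subgroup.centralizer (Q : Set G)))} (hQP : Q ≤ P)
    (hf : IsPBlock M f) (hle : SubpairLE p M Q f P e) {T : Subgroup G}
    (hT : ∀ y : G, y ∈ T ↔ y ∈ Subgroup.normalizer (Q : Set G) ∧
      StabilizesBlock (Subgroup.centralizer (Q : Set G)) f y)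
    {F' : Set (IrrCharacter T)} (hF' : IsPBlock M F')
    (hF'f : ∀ t : T, blockCoeff F' t =
      subgroupBlockCoeff (Subgroup.centralizer (Q : Set G)) f (t : G))
    (hD : IsDefectGroup p M F' ((P ⊓ Subgroup.normalizer (Q : Set G)).subgroupOf T)) :
    F.IsReceptive Q := by
  have hp : p.Prime := Fact.out
  have hMprime : M.IsPrime := hM.2.1.isPrime
  have hPe : IsBrauerPair p M P e := hF.1.1.1
  have hP : IsPGroup p P := hPe.1
  have hQ : IsPGroup p Q := hP.to_le hQP
  have hCT : Subgroup.centralizer (Q : Set G) ≤ T := fun u hu =>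
    (hT u).mpr ⟨centralizer_le_normalizer' Q hu, stabilizesBlock_of_mem_centralizer Q f hu⟩
  have hTN : T ≤ Subgroup.normalizer (Q : Set G) := fun t ht => ((hT t).mp ht).1
  have hDT : P ⊓ Subgroup.normalizer (Q : Set G) ≤ T :=
    normalizerIn_le_stab hM hPe hQP hf hle hT
  refine ⟨hQP, ?_⟩
  intro R φ hφ hrange
  obtain ⟨hRP, y, hy, hmapP, fR, hleR, hleR'⟩ := (hF.2 R φ).mp hφ
  have hφeq : φ = conjHom R y := MonoidHom.ext fun u => hy u
  subst hφeq
  have hRy : R.map (MulAut.conj y).toMonoidHom = Q := by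
    rw [← range_conjHom]
    exact hrange
  have hpairR : conjPair y (⟨R, fR⟩ : BrauerPairIdx G) = ⟨Q, f⟩ :=
    pair_eq_of_le_of_fst_eq hM (c := (⟨P, e⟩ : BrauerPairIdx G)) hPe hleR' hle hRy
  have hfR : IsPBlock M fR := isPBlock_of_subpairLE hPe.2 hleR
  -- the extender
  have hNle : FusionSystem.extender P R (conjHom R y) ≤ P ⊓ Subgroup.normalizer (R : Set G) := by
    unfold FusionSystem.extender
    rw [Subgroup.closure_le]
    rintro g ⟨hgP, hgN, -⟩
    exact ⟨hgP, hgN⟩
  have hRle : R ≤ FusionSystem.extender P R (conjHom R y) := by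
    intro g hg
    apply Subgroup.subset_closure
    refine ⟨hRP hg, Subgroup.le_normalizer hg, y * g * y⁻¹, hmapP ⟨g, hg, rfl⟩, ?_⟩
    intro x hx
    show y * (g * (x : G) * g⁻¹) * y⁻¹ = y * g * y⁻¹ * (y * (x : G) * y⁻¹) * (y * g * y⁻¹)⁻¹
    group
  set Nφ := FusionSystem.extender P R (conjHom R y) with hNφ
  have hNP : Nφ ≤ P := hNle.trans inf_le_left
  have hNp : IsPGroup p Nφ := hP.to_le hNP
  obtain ⟨gφ, hgφ, hleN⟩ := exists_subpairLE hM _ P Nφ e hPe hNP le_rfl
  obtain ⟨f'', hnorm⟩ := exists_isNormalSubpair hM (⟨hNp, hgφ⟩ : IsBrauerPair p M Nφ gφ) hRle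
    (hNle.trans inf_le_right)
  have hle'' : SubpairLE p M R f'' P e :=
    Relation.ReflTransGen.head (show NormalSubpairRel p M ⟨R, f''⟩ ⟨Nφ, gφ⟩ from hnorm) hleN
  have hff : f'' = fR := subpair_unique hM _ P R e hPe hRP le_rfl f'' fR hnorm.1.2 hfR hle'' hleR
  rw [hff] at hnorm
  have hnS : IsNormalSubpair p M Q f (Nφ.map (MulAut.conj y).toMonoidHom)
      (conjBlock Nφ y gφ) := by
    have h1 : NormalSubpairRel p M (conjPair y (⟨R, fR⟩ : BrauerPairIdx G))
        (conjPair y (⟨Nφ, gφ⟩ : BrauerPairIdx G)) := isNormalSubpair_conj hnorm y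
    rw [hpairR] at h1
    exact h1
  -- the image of the extender lies in `N_P(Q) C_G(Q)`
  have hmemQ : ∀ q ∈ Q, y⁻¹ * q * y ∈ R := by
    intro q hq
    rw [← hRy, mem_map_conj_iff] at hq
    exact hq
  have hSH : Nφ.map (MulAut.conj y).toMonoidHom ≤
      (P ⊓ Subgroup.normalizer (Q : Set G)) ⊔ Subgroup.centralizer (Q : Set G) := by
    rw [Subgroup.map_le_iff_le_comap, hNφ]
    unfold FusionSystem.extender
    rw [Subgroup.closure_le]
    rintro g ⟨hgP, hgN, h, hhP, hh⟩
    show y * g * y⁻¹ ∈ (P ⊓ Subgroup.normalizer (Q : Set G)) ⊔ Subgroup.centralizer (Q : Set G)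
    have key : ∀ q ∈ Q, y * g * y⁻¹ * q * (y * g * y⁻¹)⁻¹ = h * q * h⁻¹ := by
      intro q hq
      have hx := hmemQ q hq
      have hgx : g * (y⁻¹ * q * y) * g⁻¹ ∈ R := (Subgroup.mem_normalizer_iff.mp hgN _).mp hx
      have := hh ⟨y⁻¹ * q * y, hx⟩ hgx
      have e1 : y * (g * (y⁻¹ * q * y) * g⁻¹) * y⁻¹ = h * (y * (y⁻¹ * q * y) * y⁻¹) * h⁻¹ := this
      have e2 : y * (y⁻¹ * q * y) * y⁻¹ = q := by group
      rw [e2] at e1
      rw [← e1]
      group
    have hgyN : y * g * y⁻¹ ∈ Subgroup.normalizer (Q : Set G) := by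
      have := (mem_normalizer_map_conj_iff R y (y * g * y⁻¹)).mpr (by
        have e1 : y⁻¹ * (y * g * y⁻¹) * y = g := by group
        rw [e1]
        exact hgN)
      rwa [hRy] at this
    have hhN : h ∈ Subgroup.normalizer (Q : Set G) := by
      apply Subgroup.mem_normalizer_fintype
      intro q hq
      rw [← key q hq]
      exact (Subgroup.mem_normalizer_iff.mp hgyN q).mp hq
    have hc : h⁻¹ * (y * g * y⁻¹) ∈ Subgroup.centralizer (Q : Set G) := by
      rw [Subgroup.mem_centralizer_iff]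
      intro q hq
      have := key q hq
      calc q * (h⁻¹ * (y * g * y⁻¹))
          = h⁻¹ * (h * q * h⁻¹) * (y * g * y⁻¹) := by group
        _ = h⁻¹ * (y * g * y⁻¹ * q * (y * g * y⁻¹)⁻¹) * (y * g * y⁻¹) := by rw [this]
        _ = h⁻¹ * (y * g * y⁻¹) * q := by group
    have e3 : y * g * y⁻¹ = h * (h⁻¹ * (y * g * y⁻¹)) := by group
    rw [e3]
    exact Subgroup.mul_mem _ (Subgroup.mem_sup_left ⟨hhP, hhN⟩) (Subgroup.mem_sup_right hc)
  -- the group `H = N_P(Q) C_G(Q)` and its block
  set H : Subgroup G :=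
    (P ⊓ Subgroup.normalizer (Q : Set G)) ⊔ Subgroup.centralizer (Q : Set G) with hH
  have hHT : H ≤ T := sup_le hDT hCT
  have hHN : H ≤ Subgroup.normalizer (Q : Set G) := hHT.trans hTN
  have hHst : ∀ x ∈ H, StabilizesBlock (Subgroup.centralizer (Q : Set G)) f x :=
    fun x hx => ((hT x).mp (hHT hx)).2
  have hCH : Subgroup.centralizer (Q : Set G) ≤ H := le_sup_right
  have hDH : P ⊓ Subgroup.normalizer (Q : Set G) ≤ H := le_sup_left
  have hQH : Q ≤ H := (le_inf hQP Subgroup.le_normalizer).trans hDH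
  obtain ⟨FH, hFH, hFHf⟩ := exists_block_of_stable hM Q hQ f hf H hHN hHst hCH hQH
  obtain ⟨gs, hleD, hnD⟩ := exists_normalizer_pair hM hPe hQP hf hle
  have hDcard : Nat.card (P ⊓ Subgroup.normalizer (Q : Set G) : Subgroup G) =
      p ^ blockDefect p F' := by
    rw [← Cfsg.Agent.S0908.result p M hM F' hF' _ hD,
      Cfsg.Agent.Lib.Helper4.card_subgroupOf_of_le hDT]
  have hrelD := isRelMaximal_of_card hM hT hF' hF'f hnD hDcard
  have hCD : Subgroup.centralizer
      ((P ⊓ Subgroup.normalizer (Q : Set G) : Subgroup G) : Set G) ≤ H :=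
    (Subgroup.centralizer_le (by exact_mod_cast hnD.2.2.1)).trans hCH
  have hmaxDH := isMaximalBrauerPair_resPair' hCH hQH hHN hHst hFH hFHf hrelD hDH hCD
  have hCS : Subgroup.centralizer
      ((Nφ.map (MulAut.conj y).toMonoidHom : Subgroup G) : Set G) ≤ H :=
    (Subgroup.centralizer_le (by exact_mod_cast hnS.2.2.1)).trans hCH
  have hSpair := isBrauerPairOf_resPair hCH hFH hFHf hnS hSH hCS
  obtain ⟨t, ht⟩ := exists_conj_subpairLE hM hmaxDH hSpair
  have ht0 : Relation.ReflTransGen (NormalSubpairRel p M)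
      (conjPair t (resPair H hSH hCS (conjBlock Nφ y gφ)))
      (resPair H hDH hCD gs) := ht
  have hS1 : ((resPair H hSH hCS (conjBlock Nφ y gφ)).1).map H.subtype =
      Nφ.map (MulAut.conj y).toMonoidHom := Subgroup.map_subgroupOf_eq_of_le hSH
  have hCa0 : Subgroup.centralizer
      ((((resPair H hSH hCS (conjBlock Nφ y gφ)).1).map H.subtype : Subgroup G) : Set G) ≤ H := by
    rw [hS1]
    exact hCS
  have hCa : Subgroup.centralizer
      ((((conjPair t (resPair H hSH hCS (conjBlock Nφ y gφ))).1).map H.subtype : Subgroup G) :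
        Set G) ≤ H := by
    show Subgroup.centralizer
      (((((resPair H hSH hCS (conjBlock Nφ y gφ)).1).map (MulAut.conj t).toMonoidHom).map
        H.subtype : Subgroup G) : Set G) ≤ H
    rw [map_subtype_map_conj]
    intro x hx
    have h2 := hCa0 (centConj_mem' _ (t : G) hx)
    have e : x = (t : G) * ((t : G)⁻¹ * x * (t : G)) * (t : G)⁻¹ := by group
    rw [e]
    exact H.mul_mem (H.mul_mem t.2 h2) (H.inv_mem t.2)
  have ht1 := subpairLE_indPair (M := M) (p := p) hCa ht0
  rw [indPair_conjPair t _ hCa0, indPair_resPair, indPair_resPair] at ht1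
  -- `t = d c`
  have hn : ((Subgroup.centralizer (Q : Set G)).subgroupOf H).Normal :=
    (Subgroup.normal_subgroupOf_iff_le_normalizer hCH).mpr
      (fun t ht => normalizer_le_normalizer_centralizer Q (hHN ht))
  have htop : (P ⊓ Subgroup.normalizer (Q : Set G)).subgroupOf H ⊔
      (Subgroup.centralizer (Q : Set G)).subgroupOf H = ⊤ := by
    rw [← Subgroup.subgroupOf_sup hDH hCH]
    exact Subgroup.subgroupOf_self H
  have htmem : t ∈ ((((P ⊓ Subgroup.normalizer (Q : Set G)).subgroupOf H ⊔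
      (Subgroup.centralizer (Q : Set G)).subgroupOf H : Subgroup H)) : Set H) := by
    rw [htop]
    exact Subgroup.mem_top t
  rw [Subgroup.mul_normal] at htmem
  obtain ⟨d, hd, c, hc, hdc⟩ := Set.mem_mul.mp htmem
  have hdD : (d : G) ∈ P ⊓ Subgroup.normalizer (Q : Set G) := Subgroup.mem_subgroupOf.mp hd
  have hcC : (c : G) ∈ Subgroup.centralizer (Q : Set G) := Subgroup.mem_subgroupOf.mp hc
  have htdc : (t : G) = (d : G) * (c : G) := by
    rw [← hdc]
    rfl
  have ht2 : Relation.ReflTransGen (NormalSubpairRel p M)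
      (conjPair (c : G) (conjPair y (⟨Nφ, gφ⟩ : BrauerPairIdx G)))
      (⟨P ⊓ Subgroup.normalizer (Q : Set G), gs⟩ : BrauerPairIdx G) := by
    have h3 := subpairLE_conj ht1 (d : G)⁻¹
    rw [htdc, ← conjPair_mul, conjPair_inv_conjPair,
      conjPair_eq_self_of_stab hnD.2.1.2
        (Subgroup.le_normalizer (Subgroup.inv_mem _ hdD))
        (stabilizesBlock_of_mem _ gs (Subgroup.inv_mem _ hdD))] at h3
    exact h3
  rw [conjPair_mul] at ht2
  have ht3 : Relation.ReflTransGen (NormalSubpairRel p M)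
      (conjPair ((c : G) * y) (⟨Nφ, gφ⟩ : BrauerPairIdx G)) ⟨P, e⟩ :=
    Relation.ReflTransGen.trans ht2 hleD
  refine ⟨conjHom Nφ ((c : G) * y), ?_, ?_⟩
  · exact (hF.2 Nφ _).mpr ⟨hNP, (c : G) * y, fun u => rfl, subpairLE_le ht3, gφ, hleN, ht3⟩
  · intro x hxR hxN
    show (c : G) * y * x * ((c : G) * y)⁻¹ = y * x * y⁻¹
    have hq : y * x * y⁻¹ ∈ Q := by
      rw [← hRy]
      exact ⟨x, hxR, rfl⟩
    have hcomm := hcC _ hq
    calc (c : G) * y * x * ((c : G) * y)⁻¹ = (c : G) * (y * x * y⁻¹) * (c : G)⁻¹ := by group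
      _ = y * x * y⁻¹ * (c : G) * (c : G)⁻¹ := by rw [← hcomm]
      _ = y * x * y⁻¹ := by group

/-- **the fusion system of a block is saturated** -/
theorem block_fusion_saturated {p : ℕ} [Fact p.Prime] (hM : IsPModular p M)
    {B : Set (IrrCharacter G)} {P : Subgroup G}
    {e : Set (IrrCharacter (Subgroup.centralizer (P : Set G)))}
    (hmax : IsMaximalBrauerPair p M B P e) {F : FusionSystem P}
    (hF : IsBlockFusionSystemOn p M B P e F) : F.IsSaturated p := by
  have hMprime : M.IsPrime := hM.2.1.isPrime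
  have hPe : IsBrauerPair p M P e := hmax.1.1
  intro Q hQP
  obtain ⟨f, hf, hle⟩ := exists_subpairLE hM _ P Q e hPe hQP le_rfl
  obtain ⟨T₀, hT₀⟩ := exists_stabSubgroup Q hf
  obtain ⟨-, x, hlex, hx⟩ := normalizer_defect hM hmax hQP hf hle hT₀
  have hf' : IsPBlock M (conjBlock Q x f) := isPBlock_conjBlock Q x hf
  obtain ⟨T', hT'⟩ := exists_stabSubgroup (Q.map (MulAut.conj x).toMonoidHom) hf'
  obtain ⟨F', hF', hF'f, hD⟩ := hx T' hT'
  have hQ'P : Q.map (MulAut.conj x).toMonoidHom ≤ P := subpairLE_le hlex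
  exact ⟨Q.map (MulAut.conj x).toMonoidHom,
    (isConj_blockFusion_iff hM hF hQP hf hle _).mpr ⟨x, rfl, hlex⟩,
    fullyAutomized_of_defect hM hF hQ'P hf' hlex hT' hF' hF'f hD,
    receptive_of_defect hM hF hQ'P hf' hlex hT' hF' hF'f hD⟩

/-- **statement S4677** -/
theorem exists_saturated_block_fusion {p : ℕ} [Fact p.Prime] (hM : IsPModular p M)
    {B : Set (IrrCharacter G)} {P : Subgroup G}
    {e : Set (IrrCharacter (Subgroup.centralizer (P : Set G)))}
    (hmax : IsMaximalBrauerPair p M B P e) :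
    ∃ F : FusionSystem P, IsBlockFusionSystemOn p M B P e F ∧ F.IsSaturated p :=
  ⟨blockFusionSystem hM hmax.1.1, isBlockFusionSystemOn_blockFusionSystem hM hmax,
    block_fusion_saturated hM hmax (isBlockFusionSystemOn_blockFusionSystem hM hmax)⟩

end

end Cfsg.Agent.Lib.Helper4
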