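import Mathlib
import Cfsg.Prelude.Def_Characters
import Cfsg.Prelude.Def_Solvable
import Cfsg.Agent.Lib.Helper4.CliffordGen
import Cfsg.Agent.Lib.Helper4.Deflate
import Cfsg.Agent.Lib.Helper4.RepEigen
import Cfsg.Agent.Lib.Helper2.CharConj
import Cfsg.Agent.S4798
import Cfsg.Agent.Lib.Helper4.BurnsideClass

/-!
# The Broline–Garrison theorem (helper4)

`χ ∈ Irr(G)`, `K = ker χ`.  If `K` is not nilpotent, or `K = F(G) < G` with `G/K` solvable, there
is `ψ ∈ Irr(G)` with `ψ(1) > χ(1)` and `ker ψ < K`.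
-/

set_option autoImplicit false

namespace Cfsg.Agent.Lib.Helper4
open Cfsg Cfsg.Agent.Lib.Helper26 Cfsg.Agent.Lib.Helper2 Cfsg.Agent.Lib.Helper7
open scoped ComplexConjugate Classical

universe u

section Restrict

variable {G : Type u} [Group G] [Fintype G]

/-- if `G = A M` with `A` a normal subgroup in the kernel of the irreducible character `χ`, then
the restriction of `χ` to `M` is irreducible -/
theorem restrict_irr_of_sup_eq_top (χ : IrrCharacter G) (A : Subgroup G) [hA : A.Normal]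
    (hker : ∀ a ∈ A, (χ : G → ℂ) a = (χ : G → ℂ) 1) (M : Subgroup G) (hsup : A ⊔ M = ⊤) :
    IsIrrCharacter M (fun m : M => (χ : G → ℂ) m) := by
  obtain ⟨ψ, hψ⟩ := exists_deflate_irr A χ hker
  let f : M →* G ⧸ A := (QuotientGroup.mk' A).comp M.subtype
  have hf : Function.Surjective f := by
    intro q
    obtain ⟨g, rfl⟩ := QuotientGroup.mk'_surjective A q
    have hg : g ∈ A ⊔ M := by rw [hsup]; exact Subgroup.mem_top g
    have hset : (g : G) ∈ ((A ⊔ M : Subgroup G) : Set G) := hg
    rw [Subgroup.normal_mul] at hset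
    obtain ⟨a, ha, m, hm, rfl⟩ := Set.mem_mul.mp hset
    refine ⟨⟨m, hm⟩, ?_⟩
    show QuotientGroup.mk' A m = QuotientGroup.mk' A (a * m)
    rw [map_mul]
    have : QuotientGroup.mk' A a = 1 := (QuotientGroup.eq_one_iff a).mpr ha
    rw [this, one_mul]
  have h1 := isIrrCharacter_comp_of_surjective ψ.2 f hf
  have h2 : (ψ : G ⧸ A → ℂ) ∘ f = fun m : M => (χ : G → ℂ) m := by
    funext m
    exact hψ (m : G)
  rw [h2] at h1
  exact h1

end Restrict

section KerConst

variable {H : Type*} [Group H] [Fintype H]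

/-- the norm of a character value is at most the degree -/
theorem norm_irr_le (ν : IrrCharacter H) (x : H) : ‖(ν : H → ℂ) x‖ ≤ ((ν : H → ℂ) 1).re := by
  obtain ⟨n, ρ, hρ, hν⟩ := ν.2
  rw [← hν, Representation.char_one]
  simp only [Complex.natCast_re]
  exact norm_character_le ρ x

/-- the kernel of a character is contained in the kernel of each of its constituents -/
theorem ker_of_constituent {Ψ : H → ℂ} (hΨ : IsCharacter H Ψ) (ν : IrrCharacter H)
    (hcon : classInner Ψ (ν : H → ℂ) ≠ 0) (x : H) (hx : Ψ x = Ψ 1) :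
    (ν : H → ℂ) x = (ν : H → ℂ) 1 := by
  have : Fintype (IrrCharacter H) := Fintype.ofFinite _
  obtain ⟨c, hc, hdec⟩ := Cfsg.Agent.S4798.char_decomp Ψ hΨ
  have hd : ∀ μ : IrrCharacter H, ∃ d : ℕ, (μ : H → ℂ) 1 = d := fun μ => by
    obtain ⟨d, _, hd⟩ := irr_degree μ.2
    exact ⟨d, hd⟩
  choose d hd using hd
  -- real parts
  have h1 : ∑ μ : IrrCharacter H, (c μ : ℝ) * ((d μ : ℝ) - ((μ : H → ℂ) x).re) = 0 := by
    have hx1 := hdec x
    have h11 := hdec 1
    rw [hx, h11] at hx1
    have hre := congrArg Complex.re hx1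
    simp only [Complex.re_sum, Complex.mul_re, Complex.natCast_re, Complex.natCast_im, zero_mul,
      sub_zero] at hre
    have : ∑ μ : IrrCharacter H, (c μ : ℝ) * ((d μ : ℝ) - ((μ : H → ℂ) x).re) =
        ∑ μ : IrrCharacter H, (c μ : ℝ) * ((μ : H → ℂ) 1).re -
          ∑ μ : IrrCharacter H, (c μ : ℝ) * ((μ : H → ℂ) x).re := by
      rw [← Finset.sum_sub_distrib]
      refine Finset.sum_congr rfl fun μ _ => ?_
      rw [hd μ, Complex.natCast_re]
      ring
    rw [this, hre, sub_self]
  have hnn : ∀ μ : IrrCharacter H, 0 ≤ (c μ : ℝ) * ((d μ : ℝ) - ((μ : H → ℂ) x).re) := by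
    intro μ
    apply mul_nonneg (Nat.cast_nonneg _)
    have h2 := norm_irr_le μ x
    rw [hd μ, Complex.natCast_re] at h2
    have h3 : ((μ : H → ℂ) x).re ≤ ‖(μ : H → ℂ) x‖ := Complex.re_le_norm _
    linarith
  have h2 := (Finset.sum_eq_zero_iff_of_nonneg (fun μ _ => hnn μ)).mp h1 ν (Finset.mem_univ ν)
  have hcν : (c ν : ℝ) ≠ 0 := by
    intro h0
    apply hcon
    rw [hc ν]
    have : c ν = 0 := by exact_mod_cast h0
    rw [this, Nat.cast_zero]
  have h3 : ((ν : H → ℂ) x).re = (d ν : ℝ) := by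
    rcases mul_eq_zero.mp h2 with h | h
    · exact absurd h hcν
    · linarith
  -- a complex number of norm at most `d` with real part `d` equals `d`
  have h4 := norm_irr_le ν x
  rw [hd ν, Complex.natCast_re] at h4
  have h5 : ((ν : H → ℂ) x).im = 0 := by
    have h6 : ‖(ν : H → ℂ) x‖ ^ 2 = ((ν : H → ℂ) x).re ^ 2 + ((ν : H → ℂ) x).im ^ 2 := by
      rw [← Complex.normSq_eq_norm_sq, Complex.normSq_apply]
      ring
    have h7 : ‖(ν : H → ℂ) x‖ ^ 2 ≤ (d ν : ℝ) ^ 2 :=
      pow_le_pow_left₀ (norm_nonneg _) h4 2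
    rw [h6, h3] at h7
    have h8 : ((ν : H → ℂ) x).im ^ 2 ≤ 0 := by linarith
    have h9 : ((ν : H → ℂ) x).im ^ 2 = 0 := le_antisymm h8 (sq_nonneg _)
    exact pow_eq_zero_iff (two_ne_zero) |>.mp h9
  rw [hd ν]
  apply Complex.ext
  · rw [h3, Complex.natCast_re]
  · rw [h5, Complex.natCast_im]

end KerConst

section CH

variable {G : Type u} [Group G] [Fintype G]

theorem charDegree_of_one_eq_bg {χ : G → ℂ} {d : ℕ} (h : χ 1 = d) : charDegree χ = d := by
  unfold charDegree
  rw [h, Complex.natCast_re, Nat.floor_natCast]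

/-- **the main step**: `K = ker χ`, `M` a maximal subgroup not containing `K`.  Either there is
`ψ ∈ Irr(G)` with `ψ(1) > χ(1)` and `ker ψ < K`, or every element of `M` on which `χ` does not
vanish lies in the core of `M`. -/
theorem broline_garrison_step (χ : IrrCharacter G) (K : Subgroup G) [hKn : K.Normal]
    (hK : ∀ g : G, g ∈ K ↔ (χ : G → ℂ) g = (χ : G → ℂ) 1)
    (M : Subgroup G) (hM : IsCoatom M) (hKM : ¬ K ≤ M) :
    (∃ ψ : IrrCharacter G, charDegree (χ : G → ℂ) < charDegree (ψ : G → ℂ) ∧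
      ∃ L : Subgroup G, (∀ g : G, g ∈ L ↔ (ψ : G → ℂ) g = (ψ : G → ℂ) 1) ∧ L < K) ∨
    (∀ m ∈ M, (χ : G → ℂ) m ≠ 0 → ∀ g : G, g⁻¹ * m * g ∈ M) := by
  have : Fintype (IrrCharacter G) := Fintype.ofFinite _
  have hsup : K ⊔ M = ⊤ := by
    have h1 : M < K ⊔ M := by
      apply lt_of_le_of_ne le_sup_right
      intro h
      apply hKM
      rw [h]
      exact le_sup_left
    exact hM.2 _ h1
  obtain ⟨φ, hφdef⟩ : ∃ φ : M → ℂ, φ = fun m : M => (χ : G → ℂ) m := ⟨_, rfl⟩
  have hφ : IsIrrCharacter M φ := by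
    rw [hφdef]
    exact restrict_irr_of_sup_eq_top χ K (fun a ha => (hK a).mp ha) M hsup
  have hφc := isCharacter_of_isIrrCharacter hφ
  obtain ⟨dχ, hdχ0, hdχ⟩ := irr_degree χ.2
  have hφ1 : φ 1 = dχ := by rw [hφdef]; exact hdχ
  have hχcf : IsClassFunction G (χ : G → ℂ) := isClassFunction_of_isIrrCharacter χ.2
  obtain ⟨θ, hθdef⟩ : ∃ θ : G → ℂ, θ = indFun M φ := ⟨_, rfl⟩
  have hθ : IsCharacter G θ := by rw [hθdef]; exact isCharacter_indFun M hφc
  -- constituents of `θ` lie over `φ`
  have hcons : ∀ ψ : IrrCharacter G, classInner θ (ψ : G → ℂ) ≠ 0 →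
      classInner (fun m : M => (ψ : G → ℂ) m) φ ≠ 0 := by
    intro ψ h
    rw [hθdef, classInner_indFun_left' M φ (ψ : G → ℂ)
      (isClassFunction_of_isIrrCharacter ψ.2)] at h
    intro h0
    apply h
    rw [← classInner_conj_symm]
    have : classInner ((ψ : G → ℂ) ∘ M.subtype) φ = 0 := h0
    rw [this, map_zero]
  have hresc : ∀ ψ : IrrCharacter G, IsCharacter M (fun m : M => (ψ : G → ℂ) m) := fun ψ =>
    isCharacter_restrict M (isCharacter_of_isIrrCharacter ψ.2)
  have hdeg : ∀ ψ : IrrCharacter G, ∃ d : ℕ, (ψ : G → ℂ) 1 = d ∧ charDegree (ψ : G → ℂ) = d := by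
    intro ψ
    obtain ⟨d, _, hd⟩ := irr_degree ψ.2
    exact ⟨d, hd, charDegree_of_one_eq_bg hd⟩
  choose dg hdg1 hdg2 using hdeg
  rw [charDegree_of_one_eq_bg hdχ]
  by_cases hex : ∃ ψ : IrrCharacter G, classInner θ (ψ : G → ℂ) ≠ 0 ∧ dχ < dg ψ
  · left
    obtain ⟨ψ, hψθ, hlt⟩ := hex
    refine ⟨ψ, by rw [hdg2 ψ]; exact hlt, ?_⟩
    obtain ⟨n, ρ, hρ, hψρ⟩ := ψ.2
    have hLmem : ∀ g : G, g ∈ MonoidHom.ker ρ ↔ (ψ : G → ℂ) g = (ψ : G → ℂ) 1 := by
      intro g
      rw [← hψρ]
      exact (character_eq_one_iff_mem_ker ρ g).symm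
    haveI hLn : (MonoidHom.ker ρ).Normal := MonoidHom.normal_ker ρ
    have hres := hcons ψ hψθ
    -- `ker ψ ≤ M`
    have hLM : MonoidHom.ker ρ ≤ M := by
      by_contra hLM
      have hsup2 : MonoidHom.ker ρ ⊔ M = ⊤ := by
        have h1 : M < MonoidHom.ker ρ ⊔ M := by
          apply lt_of_le_of_ne le_sup_right
          intro h
          apply hLM
          rw [h]
          exact le_sup_left
        exact hM.2 _ h1
      have hirr := restrict_irr_of_sup_eq_top ψ (MonoidHom.ker ρ)
        (fun a ha => (hLmem a).mp ha) M hsup2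
      rw [Cfsg.Agent.Lib.Helper26.classInner_irr hirr hφ] at hres
      have heq : (fun m : M => (ψ : G → ℂ) m) = φ := by
        by_contra hne
        rw [if_neg hne] at hres
        exact hres rfl
      have h1 := congrFun heq 1
      simp only [OneMemClass.coe_one] at h1
      rw [hdg1 ψ, hφ1] at h1
      have : dg ψ = dχ := by exact_mod_cast h1
      omega
    refine ⟨MonoidHom.ker ρ, hLmem, ?_⟩
    apply lt_of_le_of_ne
    · intro x hx
      have hxM : x ∈ M := hLM hx
      have h1 := ker_of_constituent (hresc ψ) ⟨φ, hφ⟩ hres ⟨x, hxM⟩ (by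
        show (ψ : G → ℂ) x = (ψ : G → ℂ) ((1 : M) : G)
        rw [OneMemClass.coe_one]
        exact (hLmem x).mp hx)
      rw [hK]
      have h2 : φ ⟨x, hxM⟩ = φ 1 := h1
      rw [hφdef] at h2
      simpa using h2
    · intro h
      apply hKM
      rw [← h]
      exact hLM
  · right
    push Not at hex
    -- every constituent of `θ` restricts to `φ`
    have hrest : ∀ ψ : IrrCharacter G, classInner θ (ψ : G → ℂ) ≠ 0 →
        φ = fun m : M => (ψ : G → ℂ) m := by
      intro ψ h
      exact eq_of_constituent_of_degree_le (hresc ψ) hφ (hcons ψ h)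
        (by simp only [OneMemClass.coe_one]; exact hdg1 ψ) hφ1 (hex ψ h)
    have hexp := classFunction_expansion θ (isClassFunction_of_isCharacter hθ)
    obtain ⟨c, hcdef⟩ : ∃ c : ℂ, c = ∑ ψ : IrrCharacter G, classInner θ (ψ : G → ℂ) := ⟨_, rfl⟩
    have hθM : ∀ m : M, θ m = c * (χ : G → ℂ) m := by
      intro m
      have h1 := congrFun hexp (m : G)
      simp only [Finset.sum_apply, Pi.smul_apply, smul_eq_mul] at h1
      rw [h1, hcdef, Finset.sum_mul]
      refine Finset.sum_congr rfl fun ψ _ => ?_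
      by_cases h0 : classInner θ (ψ : G → ℂ) = 0
      · rw [h0, zero_mul, zero_mul]
      · have h2 := congrFun (hrest ψ h0) m
        rw [hφdef] at h2
        simp only at h2
        rw [h2]
    -- the explicit formula for `θ` on `M`
    have hform : ∀ m : M, θ m = (Nat.card M : ℂ)⁻¹ * ((χ : G → ℂ) m *
        ((Finset.univ.filter (fun x : G => x⁻¹ * (m : G) * x ∈ M)).card : ℂ)) := by
      intro m
      rw [hθdef]
      unfold indFun
      congr 1
      have h1 : ∀ x : G, extendByZero M φ (x⁻¹ * (m : G) * x) =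
          if x⁻¹ * (m : G) * x ∈ M then (χ : G → ℂ) m else 0 := by
        intro x
        by_cases hx : x⁻¹ * (m : G) * x ∈ M
        · rw [if_pos hx, extendByZero_apply_mem M φ _ hx, hφdef]
          have := hχcf (m : G) x⁻¹
          rw [inv_inv] at this
          exact this
        · rw [if_neg hx, extendByZero_apply_not_mem M φ _ hx]
      rw [Finset.sum_congr rfl fun x _ => h1 x, ← Finset.sum_filter, Finset.sum_const,
        nsmul_eq_mul, mul_comm]
    have hχ1 : (χ : G → ℂ) 1 ≠ 0 := by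
      rw [hdχ]
      exact_mod_cast hdχ0.ne'
    have hcardM : (Nat.card M : ℂ) ≠ 0 := by
      have : Nat.card M ≠ 0 := Nat.card_pos.ne'
      exact_mod_cast this
    -- the constant `c`
    have hc : c = (Nat.card M : ℂ)⁻¹ * (Fintype.card G : ℂ) := by
      have h1 := hθM 1
      have h2 := hform 1
      simp only [OneMemClass.coe_one, mul_one, inv_mul_cancel, Subgroup.one_mem,
        Finset.filter_true, Finset.card_univ] at h1 h2
      rw [h1] at h2
      have h3 : c * (χ : G → ℂ) 1 = ((Nat.card M : ℂ)⁻¹ * (Fintype.card G : ℂ)) *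
          (χ : G → ℂ) 1 := by
        rw [h2]
        ring
      exact mul_right_cancel₀ hχ1 h3
    intro m hm hχm g
    have h1 := hθM ⟨m, hm⟩
    have h2 := hform ⟨m, hm⟩
    simp only at h1 h2
    rw [h1, hc] at h2
    have h3 : ((Finset.univ.filter (fun x : G => x⁻¹ * m * x ∈ M)).card : ℂ) =
        (Fintype.card G : ℂ) := by
      have h4 : (Nat.card M : ℂ)⁻¹ * ((χ : G → ℂ) m * (Fintype.card G : ℂ)) =
          (Nat.card M : ℂ)⁻¹ * ((χ : G → ℂ) m *
          ((Finset.univ.filter (fun x : G => x⁻¹ * m * x ∈ M)).card : ℂ)) := by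
        rw [← h2]
        ring
      have h5 := mul_left_cancel₀ (inv_ne_zero hcardM) h4
      exact (mul_left_cancel₀ hχm h5).symm
    have h4 : (Finset.univ.filter (fun x : G => x⁻¹ * m * x ∈ M)).card = Fintype.card G := by
      exact_mod_cast h3
    have h5 : Finset.univ.filter (fun x : G => x⁻¹ * m * x ∈ M) = Finset.univ := by
      rw [← Finset.card_eq_iff_eq_univ]
      exact h4
    have h6 : g ∈ Finset.univ.filter (fun x : G => x⁻¹ * m * x ∈ M) := by
      rw [h5]
      exact Finset.mem_univ g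
    exact (Finset.mem_filter.mp h6).2

end CH

section GroupTheory
open Subgroup

variable {G : Type u} [Group G] [Finite G]

/-- **Frattini argument** for a `p`-subgroup of `p'`-index in a normal subgroup -/
theorem normalizer_sup_eq_top_of_sylow_le {p : ℕ} [Fact p.Prime]
    (L : Subgroup G) [L.Normal] (P₀ : Subgroup G) (hle : P₀ ≤ L) (hp : IsPGroup p P₀)
    (hidx : ¬ p ∣ P₀.relIndex L) : Subgroup.normalizer (P₀ : Set G) ⊔ L = ⊤ := by
  have hp' : IsPGroup p (P₀.subgroupOf L) := hp.comap_subtype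
  have hidx' : ¬ p ∣ (P₀.subgroupOf L).index := hidx
  have h := Sylow.normalizer_sup_eq_top (hp'.toSylow hidx')
  have hQ : ((hp'.toSylow hidx' : Sylow p L) : Subgroup L).map L.subtype = P₀ := by
    rw [IsPGroup.toSylow_coe, Subgroup.subgroupOf_map_subtype, inf_of_le_left hle]
  rw [hQ] at h
  exact h

/-- a subgroup all of whose Sylow subgroups are normal in `G` is nilpotent -/
theorem isNilpotent_of_sylow_normalizer (Y : Subgroup G)
    (h : ∀ (p : ℕ) [Fact p.Prime] (P : Sylow p Y),
      Subgroup.normalizer (((P : Subgroup Y).map Y.subtype : Subgroup G) : Set G) = ⊤) :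
    Group.IsNilpotent Y := by
  apply (Group.isNilpotent_of_finite_tfae (G := Y)).out 3 0 |>.mp
  intro p hp P
  constructor
  intro x hx y
  have h1 := @h p hp P
  have hy : (y : G) ∈ Subgroup.normalizer (((P : Subgroup Y).map Y.subtype : Subgroup G) : Set G) := by
    rw [h1]
    exact Subgroup.mem_top _
  have hx' : (x : G) ∈ (P : Subgroup Y).map Y.subtype := Subgroup.mem_map_of_mem _ hx
  have h2 := (Subgroup.mem_normalizer_iff.mp hy (x : G)).mp hx'
  obtain ⟨z, hz, hzeq⟩ := Subgroup.mem_map.mp h2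
  have : z = y * x * y⁻¹ := by
    apply Subtype.ext
    rw [← Subgroup.subtype_apply, hzeq]
    simp
  rw [← this]
  exact hz

/-- the index in `L` of the image of a Sylow subgroup of `Y ≥ L` is prime to `p` -/
theorem not_dvd_relIndex_of_sylow {p : ℕ} [Fact p.Prime] (Y : Subgroup G) (P : Sylow p Y)
    (L : Subgroup G) (hPL : (P : Subgroup Y).map Y.subtype ≤ L) (hLY : L ≤ Y) :
    ¬ p ∣ ((P : Subgroup Y).map Y.subtype).relIndex L := by
  intro hdvd
  have h1 := Subgroup.relIndex_mul_relIndex _ _ _ hPL hLY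
  have h2 : ((P : Subgroup Y).map Y.subtype).relIndex Y = (P : Subgroup Y).index := by
    unfold Subgroup.relIndex
    congr 1
    exact Subgroup.comap_map_eq_self_of_injective Y.subtype_injective _
  apply Sylow.not_dvd_index P
  rw [← h2, ← h1]
  exact Dvd.dvd.mul_right hdvd _

/-- a coatom containing the normalizer of the image of a Sylow subgroup of the normal subgroup `Y`
does not contain a normal subgroup of `G` in `Y` containing that image -/
theorem false_of_coatom_normalizer {p : ℕ} [Fact p.Prime] (Y : Subgroup G) (P : Sylow p Y)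
    (M : Subgroup G) (hM : IsCoatom M)
    (hNM : Subgroup.normalizer (((P : Subgroup Y).map Y.subtype : Subgroup G) : Set G) ≤ M)
    (L : Subgroup G) [L.Normal] (hLY : L ≤ Y) (hLM : L ≤ M)
    (hPL : (P : Subgroup Y).map Y.subtype ≤ L) : False := by
  have h1 := normalizer_sup_eq_top_of_sylow_le L _ hPL (P.2.map _)
    (not_dvd_relIndex_of_sylow Y P L hPL hLY)
  apply hM.1
  rw [eq_top_iff, ← h1]
  exact sup_le hNM hLM

/-- the key group-theoretic lemma for case (b) -/
theorem le_fitting_of_abelian_over (K : Subgroup G) (hKF : K = fittingSubgroup G)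
    (Y : Subgroup G) [hYn : Y.Normal] (hKY : K ≤ Y) (hab : ⁅Y, Y⁆ ≤ K)
    (hY : ∀ M : Subgroup G, IsCoatom M → ¬ K ≤ M → Y ≤ K ⊔ M.normalCore)
    (hcore : ∀ M : Subgroup G, IsCoatom M → ¬ K ≤ M → ∀ k ∈ K ⊓ M, ∀ g : G, g * k * g⁻¹ ∈ M) :
    Y ≤ K := by
  haveI hKn : K.Normal := by
    rw [hKF]
    exact Subgroup.sSup_normal _ (fun _ hH => hH.1)
  have hnil : Group.IsNilpotent Y := by
    apply isNilpotent_of_sylow_normalizer
    intro p hp P
    by_contra hN
    obtain ⟨M, hM, hNM⟩ := (eq_top_or_exists_le_coatom _).resolve_left hN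
    have hfr := Sylow.normalizer_sup_eq_top P
    have hYM : ¬ Y ≤ M := by
      intro h
      apply hM.1
      rw [eq_top_iff, ← hfr]
      exact sup_le hNM h
    have hP₀Y : (P : Subgroup Y).map Y.subtype ≤ Y := Subgroup.map_subtype_le _
    have hP₀M : (P : Subgroup Y).map Y.subtype ≤ M := Subgroup.le_normalizer.trans hNM
    -- `Y ⊓ M` is normal in `G`
    have hnorm : (Y ⊓ M).Normal := by
      constructor
      intro y hy g
      refine ⟨hYn.conj_mem y hy.1 g, ?_⟩
      by_cases hKM : K ≤ M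
      · -- `G = M Y`
        have hsup : M ⊔ Y = ⊤ := by
          have h1 : M < M ⊔ Y := by
            apply lt_of_le_of_ne le_sup_left
            intro h
            apply hYM
            rw [h]
            exact le_sup_right
          exact hM.2 _ h1
        have hg : g ∈ M ⊔ Y := by rw [hsup]; exact Subgroup.mem_top g
        have hset : (g : G) ∈ ((M ⊔ Y : Subgroup G) : Set G) := hg
        rw [Subgroup.mul_normal] at hset
        obtain ⟨m, hm, y₁, hy₁, rfl⟩ := Set.mem_mul.mp hset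
        have h1 : y₁ * y * y₁⁻¹ ∈ M := by
          have h2 : y₁ * y * y₁⁻¹ * y⁻¹ ∈ M :=
            hKM (hab (Subgroup.commutator_mem_commutator hy₁ hy.1))
          have h3 := M.mul_mem h2 hy.2
          simpa using h3
        have h4 := M.mul_mem (M.mul_mem hm h1) (M.inv_mem hm)
        have : m * y₁ * y * (m * y₁)⁻¹ = m * (y₁ * y * y₁⁻¹) * m⁻¹ := by group
        rw [this]
        exact h4
      · -- `Y ≤ K core(M)`
        have hy' := hY M hM hKM hy.1
        have hset : (y : G) ∈ ((K ⊔ M.normalCore : Subgroup G) : Set G) := hy'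
        rw [Subgroup.normal_mul] at hset
        obtain ⟨k, hk, d, hd, rfl⟩ := Set.mem_mul.mp hset
        have hdM : d ∈ M := Subgroup.normalCore_le M hd
        have hkM : k ∈ M := by
          have := M.mul_mem hy.2 (M.inv_mem hdM)
          simpa using this
        have h1 := hcore M hM hKM k ⟨hk, hkM⟩ g
        have h2 : g * d * g⁻¹ ∈ M := hd g
        have : g * (k * d) * g⁻¹ = (g * k * g⁻¹) * (g * d * g⁻¹) := by group
        rw [this]
        exact M.mul_mem h1 h2
    exact false_of_coatom_normalizer Y P M hM hNM (Y ⊓ M) inf_le_left inf_le_right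
      (le_inf hP₀Y hP₀M)
  rw [hKF]
  exact le_sSup ⟨hYn, hnil⟩

end GroupTheory

section Main
open Subgroup

variable {G : Type u} [Group G] [Fintype G]

/-- values of a character are constant on cosets of its kernel -/
theorem irr_mul_ker (χ : IrrCharacter G) (K : Subgroup G) [K.Normal]
    (hK : ∀ g : G, g ∈ K ↔ (χ : G → ℂ) g = (χ : G → ℂ) 1) (k m : G) (hk : k ∈ K) :
    (χ : G → ℂ) (k * m) = (χ : G → ℂ) m := by
  obtain ⟨ψ, hψ⟩ := exists_deflate_irr K χ (fun a ha => (hK a).mp ha)
  rw [← hψ (k * m), ← hψ m]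
  have h1 : ((k * m : G) : G ⧸ K) = ((m : G) : G ⧸ K) := by
    rw [QuotientGroup.eq]
    have : (k * m)⁻¹ * m = m⁻¹ * k⁻¹ * m⁻¹⁻¹ := by group
    rw [this]
    exact ‹K.Normal›.conj_mem _ (K.inv_mem hk) _
  rw [h1]

/-- **Broline–Garrison**, case (a): the kernel is not nilpotent -/
theorem broline_garrison_a (χ : IrrCharacter G) (K : Subgroup G) [hKn : K.Normal]
    (hK : ∀ g : G, g ∈ K ↔ (χ : G → ℂ) g = (χ : G → ℂ) 1)
    (hnil : ¬ K ≤ fittingSubgroup G) :
    ∃ ψ : IrrCharacter G, charDegree (χ : G → ℂ) < charDegree (ψ : G → ℂ) ∧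
      ∃ L : Subgroup G, (∀ g : G, g ∈ L ↔ (ψ : G → ℂ) g = (ψ : G → ℂ) 1) ∧ L < K := by
  by_contra hno
  apply hnil
  have hKnil : Group.IsNilpotent K := by
    apply isNilpotent_of_sylow_normalizer
    intro p hp P
    by_contra hN
    obtain ⟨M, hM, hNM⟩ := (eq_top_or_exists_le_coatom _).resolve_left hN
    have hfr := Sylow.normalizer_sup_eq_top P
    have hKM : ¬ K ≤ M := by
      intro h
      apply hM.1
      rw [eq_top_iff, ← hfr]
      exact sup_le hNM h
    rcases broline_garrison_step χ K hK M hM hKM with hgood | hbad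
    · exact hno hgood
    · have hχ1 : (χ : G → ℂ) 1 ≠ 0 := by
        obtain ⟨d, hd0, hd⟩ := irr_degree χ.2
        rw [hd]
        exact_mod_cast hd0.ne'
      have hnorm : (K ⊓ M).Normal := by
        constructor
        intro y hy g
        refine ⟨hKn.conj_mem y hy.1 g, ?_⟩
        have h1 := hbad y hy.2 (by rw [(hK y).mp hy.1]; exact hχ1) g⁻¹
        rw [inv_inv] at h1
        exact h1
      exact false_of_coatom_normalizer K P M hM hNM (K ⊓ M) inf_le_left inf_le_right
        (le_inf (Subgroup.map_subtype_le _) (Subgroup.le_normalizer.trans hNM))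
  exact le_sSup ⟨hKn, hKnil⟩

/-- **Broline–Garrison**, case (b): the kernel is the Fitting subgroup, with solvable quotient -/
theorem broline_garrison_b (χ : IrrCharacter G) (K : Subgroup G) [hKn : K.Normal]
    (hK : ∀ g : G, g ∈ K ↔ (χ : G → ℂ) g = (χ : G → ℂ) 1)
    (hKF : K = fittingSubgroup G) (hsol : Group.IsSolvable (G ⧸ K)) (hne : K ≠ ⊤) :
    ∃ ψ : IrrCharacter G, charDegree (χ : G → ℂ) < charDegree (ψ : G → ℂ) ∧
      ∃ L : Subgroup G, (∀ g : G, g ∈ L ↔ (ψ : G → ℂ) g = (ψ : G → ℂ) 1) ∧ L < K := by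
  by_contra hno
  have hχ1 : (χ : G → ℂ) 1 ≠ 0 := by
    obtain ⟨d, hd0, hd⟩ := irr_degree χ.2
    rw [hd]
    exact_mod_cast hd0.ne'
  have hbad : ∀ M : Subgroup G, IsCoatom M → ¬ K ≤ M →
      ∀ m ∈ M, (χ : G → ℂ) m ≠ 0 → ∀ g : G, g⁻¹ * m * g ∈ M := by
    intro M hM hKM
    rcases broline_garrison_step χ K hK M hM hKM with hgood | hbad
    · exact absurd hgood hno
    · exact hbad
  have hcore : ∀ M : Subgroup G, IsCoatom M → ¬ K ≤ M → ∀ k ∈ K ⊓ M, ∀ g : G,
      g * k * g⁻¹ ∈ M := by
    intro M hM hKM k hk g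
    have h1 := hbad M hM hKM k hk.2 (by rw [(hK k).mp hk.1]; exact hχ1) g⁻¹
    rw [inv_inv] at h1
    exact h1
  -- the normal subgroup generated by `K` and the support of `χ`
  obtain ⟨X, hXdef⟩ : ∃ X : Subgroup G,
      X = K ⊔ Subgroup.normalClosure {g : G | (χ : G → ℂ) g ≠ 0} := ⟨_, rfl⟩
  haveI hXn : X.Normal := by
    rw [hXdef]
    exact Subgroup.sup_normal _ _
  have hKX : K ≤ X := by rw [hXdef]; exact le_sup_left
  have hXle : ∀ M : Subgroup G, IsCoatom M → ¬ K ≤ M → X ≤ K ⊔ M.normalCore := by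
    intro M hM hKM
    rw [hXdef]
    apply sup_le le_sup_left
    apply Subgroup.normalClosure_le_normal
    intro g hg
    have hsup : K ⊔ M = ⊤ := by
      have h1 : M < K ⊔ M := by
        apply lt_of_le_of_ne le_sup_right
        intro h
        apply hKM
        rw [h]
        exact le_sup_left
      exact hM.2 _ h1
    have hg' : g ∈ K ⊔ M := by rw [hsup]; exact Subgroup.mem_top g
    have hset : (g : G) ∈ ((K ⊔ M : Subgroup G) : Set G) := hg'
    rw [Subgroup.normal_mul] at hset
    obtain ⟨k, hk, m, hm, rfl⟩ := Set.mem_mul.mp hset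
    have hχm : (χ : G → ℂ) m ≠ 0 := by
      rw [← irr_mul_ker χ K hK k m hk]
      exact hg
    have hmcore : m ∈ M.normalCore := by
      intro b
      have := hbad M hM hKM m hm hχm b⁻¹
      rw [inv_inv] at this
      exact this
    exact Subgroup.mul_mem_sup hk hmcore
  -- descending induction along the derived series of `G ⧸ K`
  obtain ⟨N₀, hN₀⟩ := hsol.solvable
  have hclaim : ∀ i : ℕ, i ≤ N₀ → ∀ Y : Subgroup G, Y.Normal → K ≤ Y → Y ≤ X →
      Y.map (QuotientGroup.mk' K) ≤ derivedSeries (G ⧸ K) (N₀ - i) → Y ≤ K := by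
    intro i
    induction i with
    | zero =>
      intro _ Y _ _ _ hmap y hy
      rw [Nat.sub_zero, hN₀] at hmap
      have h1 : QuotientGroup.mk' K y ∈ Y.map (QuotientGroup.mk' K) :=
        Subgroup.mem_map_of_mem _ hy
      have h2 := Subgroup.mem_bot.mp (hmap h1)
      exact (QuotientGroup.eq_one_iff y).mp h2
    | succ i ih =>
      intro hi Y hYn hKY hYX hmap
      haveI := hYn
      -- `Y₁ = K [Y, Y]`
      have hY₁ : K ⊔ ⁅Y, Y⁆ ≤ K := by
        apply ih (by omega) (K ⊔ ⁅Y, Y⁆) (Subgroup.sup_normal _ _) le_sup_left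
        · exact sup_le hKX ((Subgroup.commutator_le_right Y Y).trans hYX)
        · rw [Subgroup.map_sup, Subgroup.map_commutator]
          apply sup_le
          · rw [(Subgroup.map_eq_bot_iff _).mpr (by rw [QuotientGroup.ker_mk'])]
            exact bot_le
          · have h1 : N₀ - i = (N₀ - (i + 1)) + 1 := by omega
            rw [h1, derivedSeries_succ]
            exact Subgroup.commutator_mono hmap hmap
      have hab : ⁅Y, Y⁆ ≤ K := le_sup_right.trans hY₁
      exact le_fitting_of_abelian_over K hKF Y hKY hab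
        (fun M hM hKM => hYX.trans (hXle M hM hKM)) hcore
  have hXK : X ≤ K := by
    apply hclaim N₀ le_rfl X hXn hKX le_rfl
    rw [Nat.sub_self, derivedSeries_zero]
    exact le_top
  -- `χ` vanishes off its kernel: contradiction
  have hvan : ∀ g : G, g ∉ K → (χ : G → ℂ) g = 0 := by
    intro g hg
    by_contra h0
    apply hg
    apply hXK
    rw [hXdef]
    exact Subgroup.mem_sup_right (Subgroup.subset_normalClosure h0)
  have h1irr : IsIrrCharacter G (fun _ : G => (1 : ℂ)) := isIrrCharacter_one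
  have hinner : classInner (χ : G → ℂ) (fun _ : G => (1 : ℂ)) ≠ 0 := by
    unfold classInner
    have hsum : ∑ g : G, (χ : G → ℂ) g * conj ((fun _ : G => (1 : ℂ)) g) =
        (Nat.card K : ℂ) * (χ : G → ℂ) 1 := by
      have h2 : ∀ g : G, (χ : G → ℂ) g * conj ((fun _ : G => (1 : ℂ)) g) =
          if g ∈ K then (χ : G → ℂ) 1 else 0 := by
        intro g
        simp only [map_one, mul_one]
        by_cases hg : g ∈ K
        · rw [if_pos hg, (hK g).mp hg]
        · rw [if_neg hg, hvan g hg]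
      rw [Finset.sum_congr rfl fun g _ => h2 g, ← Finset.sum_filter, Finset.sum_const,
        nsmul_eq_mul]
      congr 2
      rw [Nat.card_eq_fintype_card, ← Fintype.card_subtype]
    rw [hsum]
    have hG : (Nat.card G : ℂ) ≠ 0 := by
      have : Nat.card G ≠ 0 := Nat.card_pos.ne'
      exact_mod_cast this
    have hKc : (Nat.card K : ℂ) ≠ 0 := by
      have : Nat.card K ≠ 0 := Nat.card_pos.ne'
      exact_mod_cast this
    exact mul_ne_zero (inv_ne_zero hG) (mul_ne_zero hKc hχ1)
  rw [Cfsg.Agent.Lib.Helper26.classInner_irr χ.2 h1irr] at hinner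
  have heq : (χ : G → ℂ) = fun _ : G => (1 : ℂ) := by
    by_contra hne'
    rw [if_neg hne'] at hinner
    exact hinner rfl
  apply hne
  rw [eq_top_iff]
  intro g _
  rw [hK, heq]

end Main

end Cfsg.Agent.Lib.Helper4
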