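import Mathlib
import Cfsg.Prelude.Def_Characters
import Cfsg.Agent.Lib.Helper4.ProdChar
import Cfsg.Agent.Lib.Helper4.BurnsideClass
import Cfsg.Agent.Lib.Helper7.Gallagher
import Cfsg.Agent.Lib.Helper2.CharConj

set_option autoImplicit false

/-! Characters of finite direct powers `Q → M`. -/

namespace Cfsg.Agent.Lib.Helper4

open Cfsg Cfsg.Agent.Lib.Helper26
open scoped ComplexConjugate Classical

section

variable {Q : Type*} [Fintype Q] {M : Type*} [Group M] [Fintype M]

/-- inner product of product functions on `Q → M` -/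
theorem classInner_pi (a b : Q → M → ℂ) :
    classInner (fun f : Q → M => ∏ q, a q (f q)) (fun f : Q → M => ∏ q, b q (f q)) =
      ∏ q, classInner (a q) (b q) := by
  unfold classInner
  rw [Finset.prod_mul_distrib, Finset.prod_const, Finset.card_univ, Finset.prod_univ_sum,
    Fintype.piFinset_univ]
  have hc : (Nat.card (Q → M) : ℂ)⁻¹ = (Nat.card M : ℂ)⁻¹ ^ Fintype.card Q := by
    rw [Nat.card_fun, Nat.card_eq_fintype_card (α := Q)]
    push_cast
    rw [inv_pow]
  rw [hc]
  congr 1
  refine Finset.sum_congr rfl fun f _ => ?_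
  rw [map_prod, ← Finset.prod_mul_distrib]

/-- a product of characters of the factors is a character of `Q → M` -/
theorem isCharacter_pi {a : Q → M → ℂ} (ha : ∀ q, IsCharacter M (a q)) :
    IsCharacter (Q → M) (fun f : Q → M => ∏ q, a q (f q)) := by
  have key : ∀ s : Finset Q, IsCharacter (Q → M) (fun f : Q → M => ∏ q ∈ s, a q (f q)) := by
    intro s
    induction s using Finset.induction_on with
    | empty =>
      simp only [Finset.prod_empty]
      exact isCharacter_of_isIrrCharacter (isIrrCharacter_one (G := Q → M))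
    | insert q s hq ih =>
      have h1 : IsCharacter (Q → M) ((a q) ∘ (Pi.evalMonoidHom (fun _ : Q => M) q)) :=
        Cfsg.Agent.Lib.Helper2.isCharacter_comp_hom (ha q) _
      have h2 := Cfsg.Agent.Lib.Helper7.isCharacter_mul h1 ih
      have : (fun f : Q → M => ∏ q' ∈ insert q s, a q' (f q')) =
          ((a q) ∘ (Pi.evalMonoidHom (fun _ : Q => M) q)) *
            (fun f : Q → M => ∏ q ∈ s, a q (f q)) := by
        funext f
        rw [Finset.prod_insert hq]
        rfl
      rw [this]
      exact h2
  exact key Finset.univ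

/-- a product of irreducible characters of the factors is irreducible -/
theorem isIrrCharacter_pi {a : Q → M → ℂ} (ha : ∀ q, IsIrrCharacter M (a q)) :
    IsIrrCharacter (Q → M) (fun f : Q → M => ∏ q, a q (f q)) := by
  have hchar := isCharacter_pi (fun q => isCharacter_of_isIrrCharacter (ha q))
  apply isIrrCharacter_of_norm_one (isGeneralizedCharacter_of_isCharacter hchar)
  · rw [classInner_pi]
    apply Finset.prod_eq_one
    intro q _
    rw [Cfsg.Agent.Lib.Helper26.classInner_irr (ha q) (ha q), if_pos rfl]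
  · have h : ∀ q, ∃ d : ℕ, 0 < d ∧ a q 1 = d := fun q => irr_degree (ha q)
    choose d hd hd1 using h
    show 0 < (∏ q, a q ((1 : Q → M) q)).re
    simp only [Pi.one_apply, hd1]
    rw [← Nat.cast_prod, Complex.natCast_re]
    exact_mod_cast Finset.prod_pos (fun q _ => hd q)

/-- the components of a product of irreducible characters are unique -/
theorem pi_unique {a b : Q → M → ℂ} (ha : ∀ q, IsIrrCharacter M (a q))
    (hb : ∀ q, IsIrrCharacter M (b q))
    (h : (fun f : Q → M => ∏ q, a q (f q)) = (fun f : Q → M => ∏ q, b q (f q))) :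
    a = b := by
  have h1 : classInner (fun f : Q → M => ∏ q, a q (f q)) (fun f : Q → M => ∏ q, b q (f q)) = 1 := by
    rw [h, Cfsg.Agent.Lib.Helper26.classInner_irr (isIrrCharacter_pi hb) (isIrrCharacter_pi hb),
      if_pos rfl]
  rw [classInner_pi] at h1
  funext q
  by_contra hne
  have : classInner (a q) (b q) = 0 := by
    rw [Cfsg.Agent.Lib.Helper26.classInner_irr (ha q) (hb q), if_neg hne]
  have h0 : ∏ q, classInner (a q) (b q) = 0 := Finset.prod_eq_zero (Finset.mem_univ q) this
  rw [h0] at h1
  exact zero_ne_one h1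

/-- every irreducible character of `Q → M` is a product of irreducible characters -/
theorem exists_pi_of_isIrrCharacter {θ : (Q → M) → ℂ} (hθ : IsIrrCharacter (Q → M) θ) :
    ∃ a : Q → M → ℂ, (∀ q, IsIrrCharacter M (a q)) ∧ θ = fun f => ∏ q, a q (f q) := by
  by_contra hcon
  push Not at hcon
  have : Fintype (IrrCharacter M) := Fintype.ofFinite _
  have : Fintype (IrrCharacter (Q → M)) := Fintype.ofFinite _
  let ι : (Q → IrrCharacter M) → IrrCharacter (Q → M) := fun t =>
    ⟨fun f => ∏ q, (t q : M → ℂ) (f q), isIrrCharacter_pi (fun q => (t q).2)⟩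
  have hι : Function.Injective ι := by
    intro s t hst
    have h1 : (fun f : Q → M => ∏ q, (s q : M → ℂ) (f q)) =
        (fun f : Q → M => ∏ q, (t q : M → ℂ) (f q)) := congrArg Subtype.val hst
    have h2 := pi_unique (a := fun q => (s q : M → ℂ)) (b := fun q => (t q : M → ℂ))
      (fun q => (s q).2) (fun q => (t q).2) h1
    funext q
    exact Subtype.ext (congrFun h2 q)
  let θ0 : IrrCharacter (Q → M) := ⟨θ, hθ⟩
  have hθ0 : θ0 ∉ Finset.univ.image ι := by
    intro hmem
    obtain ⟨t, _, ht⟩ := Finset.mem_image.mp hmem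
    exact hcon (fun q => (t q : M → ℂ)) (fun q => (t q).2) (congrArg Subtype.val ht).symm
  have hsub : insert θ0 (Finset.univ.image ι) ⊆
      (Finset.univ : Finset (IrrCharacter (Q → M))) := Finset.subset_univ _
  have hle := Finset.sum_le_sum_of_subset_of_nonneg
    (f := fun χ : IrrCharacter (Q → M) => Complex.normSq ((χ : (Q → M) → ℂ) 1)) hsub
    (fun χ _ _ => Complex.normSq_nonneg _)
  rw [Finset.sum_insert hθ0, Finset.sum_image (fun a _ b _ h => hι h),
    sum_normSq_char (1 : Q → M)] at hle
  have h3 : ∑ t : Q → IrrCharacter M, Complex.normSq ((ι t : (Q → M) → ℂ) 1) =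
      (Nat.card M : ℝ) ^ Fintype.card Q := by
    have hM := sum_normSq_char (1 : M)
    rw [card_centralizer_one M] at hM
    rw [← hM]
    have hpc : (∑ χ : IrrCharacter M, Complex.normSq ((χ : M → ℂ) 1)) ^ Fintype.card Q =
        ∏ _q : Q, ∑ χ : IrrCharacter M, Complex.normSq ((χ : M → ℂ) 1) := by
      rw [Finset.prod_const, Finset.card_univ]
    rw [hpc, Finset.prod_univ_sum, Fintype.piFinset_univ]
    refine Finset.sum_congr rfl fun t _ => ?_
    show Complex.normSq (∏ q, (t q : M → ℂ) ((1 : Q → M) q)) = _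
    rw [map_prod]
    rfl
  rw [h3, card_centralizer_one (Q → M), Nat.card_fun, Nat.card_eq_fintype_card (α := Q)] at hle
  push_cast at hle
  have hz : Complex.normSq (θ 1) ≤ 0 := by
    have : Complex.normSq ((θ0 : (Q → M) → ℂ) 1) = Complex.normSq (θ 1) := rfl
    rw [this] at hle
    linarith
  have hz' : θ 1 = 0 := Complex.normSq_eq_zero.mp (le_antisymm hz (Complex.normSq_nonneg _))
  obtain ⟨d, hd, hd1⟩ := irr_degree hθ
  rw [hd1] at hz'
  have : d = 0 := by exact_mod_cast hz'
  omega

end

end Cfsg.Agent.Lib.Helper4
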