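import Mathlib
import Cfsg.Prelude.Def_Characters
import Cfsg.Agent.Lib.Helper26.CharBasic

set_option autoImplicit false

/-! Induction from a "box" subgroup of a group isomorphic to a finite direct power. -/

namespace Cfsg.Agent.Lib.Helper4

open Cfsg Cfsg.Agent.Lib.Helper26
open scoped ComplexConjugate Classical

section

variable {Q : Type*} [Fintype Q] {M : Type*} [Group M] [Fintype M]
  {K : Type*} [Group K] [Fintype K]

/-- induction from a box subgroup is the product of the inductions -/
theorem indFun_pi_equiv (e : K ≃* (Q → M)) (H : Q → Subgroup M) (lam : ∀ q, H q → ℂ)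
    (P : Subgroup K) (hP : ∀ k, k ∈ P ↔ ∀ q, e k q ∈ H q) (Λ : P → ℂ)
    (hΛ : ∀ h : P, Λ h = ∏ q, lam q ⟨e h.1 q, (hP h.1).1 h.2 q⟩) (k : K) :
    indFun P Λ k = ∏ q, indFun (H q) (lam q) (e k q) := by
  unfold indFun
  -- cardinality
  have hcard : (Nat.card P : ℂ) = ∏ q, (Nat.card (H q) : ℂ) := by
    have eP : P ≃ (∀ q, H q) :=
      { toFun := fun h q => ⟨e h.1 q, (hP h.1).1 h.2 q⟩
        invFun := fun g => ⟨e.symm (fun q => (g q : M)), by
          rw [hP]
          intro q
          rw [MulEquiv.apply_symm_apply]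
          exact (g q).2⟩
        left_inv := by
          intro h
          apply Subtype.ext
          show e.symm (fun q => e h.1 q) = h.1
          exact e.symm_apply_apply h.1
        right_inv := by
          intro g
          funext q
          apply Subtype.ext
          show e (e.symm (fun q => (g q : M))) q = g q
          rw [MulEquiv.apply_symm_apply] }
    rw [Nat.card_congr eP, Nat.card_pi]
    push_cast
    rfl
  rw [hcard, Finset.prod_mul_distrib, Finset.prod_inv_distrib]
  congr 1
  rw [Finset.prod_univ_sum, Fintype.piFinset_univ]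
  rw [← Equiv.sum_comp e.toEquiv]
  refine Finset.sum_congr rfl fun x _ => ?_
  show extendByZero P Λ (x⁻¹ * k * x) = ∏ q, extendByZero (H q) (lam q) ((e x q)⁻¹ * e k q * e x q)
  have hex : ∀ q, e (x⁻¹ * k * x) q = (e x q)⁻¹ * e k q * e x q := by
    intro q
    rw [map_mul, map_mul, map_inv]
    rfl
  by_cases hmem : x⁻¹ * k * x ∈ P
  · rw [extendByZero_apply_mem P Λ _ hmem, hΛ]
    refine Finset.prod_congr rfl fun q _ => ?_
    have hq : (e x q)⁻¹ * e k q * e x q ∈ H q := by
      rw [← hex q]
      exact (hP _).1 hmem q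
    rw [extendByZero_apply_mem (H q) (lam q) _ hq]
    congr 1
    apply Subtype.ext
    exact hex q
  · rw [extendByZero_apply_not_mem P Λ _ hmem]
    rw [hP] at hmem
    push Not at hmem
    obtain ⟨q, hq⟩ := hmem
    rw [hex q] at hq
    symm
    apply Finset.prod_eq_zero (Finset.mem_univ q)
    exact extendByZero_apply_not_mem (H q) (lam q) _ hq

end

end Cfsg.Agent.Lib.Helper4
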