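import Mathlib
import Cfsg.Prelude.Def_Characters
import Cfsg.Agent.Lib.Helper4.PiChar
import Cfsg.Agent.Lib.Helper4.PiInd
import Cfsg.Agent.Lib.Helper4.CliffordGen
import Cfsg.Agent.Lib.Helper4.Monomial
import Cfsg.Agent.Lib.Helper7.RestrictIrr
import Cfsg.Agent.Lib.Helper7.IndTrans
import Cfsg.Agent.Lib.Helper7.MaxIndChar
import Cfsg.Agent.Lib.Helper7.Gallagher
import Cfsg.Agent.Lib.Helper7.CliffordCorr
import Cfsg.Agent.Lib.Helper26.PrimeActChar
import Cfsg.Agent.Lib.Helper26.LinCharOrtho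
import Cfsg.Agent.Lib.Helper2.CharConj

set_option autoImplicit false

/-! The regular wreath product of an M-group with a group of prime order is an M-group. -/

namespace Cfsg.Agent.Lib.Helper4

open Cfsg Cfsg.Agent.Lib.Helper26 RegularWreathProduct
open scoped ComplexConjugate Classical

universe u

/-- every irreducible character is induced from a linear character -/
def IsMGroup (K : Type*) [Group K] [Fintype K] : Prop :=
  ∀ χ : K → ℂ, IsIrrCharacter K χ →
    ∃ (H : Subgroup K) (lam : ↥H →* ℂˣ), χ = indFun H (fun h => ((lam h : ℂˣ) : ℂ))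

/-- an irreducible character of degree one is a homomorphism -/
theorem hom_of_irr_deg_one {G : Type*} [Group G] [Fintype G] {ν : G → ℂ}
    (hν : IsIrrCharacter G ν) (h1 : ν 1 = 1) :
    ∃ μ : G →* ℂˣ, ∀ g, ν g = ((μ g : ℂˣ) : ℂ) := by
  obtain ⟨n, ρ, hρ, rfl⟩ := hν
  have hn : Module.finrank ℂ (Fin n → ℂ) = 1 := by
    have : (ρ.character 1 : ℂ) = (Module.finrank ℂ (Fin n → ℂ) : ℂ) := Representation.char_one ρ
    rw [h1] at this
    exact_mod_cast this.symm
  obtain ⟨μ, hμ⟩ := exists_hom_of_finrank_eq_one ρ hn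
  exact ⟨μ, fun g => (hμ g).symm⟩

section

variable {M : Type u} [Group M] {Q : Type u} [Group Q]

/-- the base group of the wreath product -/
def wBase (M Q : Type u) [Group M] [Group Q] : Subgroup (M ≀ᵣ Q) :=
  (rightHom : M ≀ᵣ Q →* Q).ker

instance wBase_normal : (wBase M Q).Normal := MonoidHom.normal_ker _

theorem mem_wBase (w : M ≀ᵣ Q) : w ∈ wBase M Q ↔ w.right = 1 := MonoidHom.mem_ker

/-- the base group is the direct power -/
def wBaseEquiv : wBase M Q ≃* (Q → M) where
  toFun b := b.1.left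
  invFun f := ⟨⟨f, 1⟩, (mem_wBase _).2 rfl⟩
  left_inv b := by
    apply Subtype.ext
    apply RegularWreathProduct.ext
    · rfl
    · exact ((mem_wBase _).1 b.2).symm
  right_inv f := rfl
  map_mul' a b := by
    show (a.1 * b.1).left = a.1.left * b.1.left
    rw [RegularWreathProduct.mul_left]
    have : a.1.right = 1 := (mem_wBase _).1 a.2
    funext q
    simp [this]

theorem wBaseEquiv_apply (b : wBase M Q) (q : Q) : wBaseEquiv b q = b.1.left q := rfl

theorem wBase_index : (wBase M Q).index = Nat.card Q := by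
  unfold wBase
  rw [Subgroup.index_ker]
  have : (rightHom : M ≀ᵣ Q →* Q).range = ⊤ :=
    MonoidHom.range_eq_top.mpr (fun q => ⟨inl q, rfl⟩)
  rw [this, Subgroup.card_top]

theorem conj_left (w n : M ≀ᵣ Q) (hn : n.right = 1) (q : Q) :
    (w * n * w⁻¹).left q = w.left q * n.left (w.right⁻¹ * q) * (w.left q)⁻¹ := by
  simp [hn]

/-- the wreath product of a subgroup -/
def wSub (H : Subgroup M) (Q : Type u) [Group Q] : Subgroup (M ≀ᵣ Q) where
  carrier := {w | ∀ q, w.left q ∈ H}
  one_mem' := fun q => H.one_mem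
  mul_mem' := by
    intro a b ha hb q
    rw [RegularWreathProduct.mul_left]
    exact H.mul_mem (ha q) (hb _)
  inv_mem' := by
    intro a ha q
    rw [RegularWreathProduct.inv_left]
    exact H.inv_mem (ha _)

theorem mem_wSub (H : Subgroup M) (w : M ≀ᵣ Q) : w ∈ wSub H Q ↔ ∀ q, w.left q ∈ H := Iff.rfl

/-- the product linear character of the wreath product of a subgroup -/
noncomputable def wLin [Fintype Q] (H : Subgroup M) (lam : ↥H →* ℂˣ) : ↥(wSub H Q) →* ℂˣ where
  toFun w := ∏ q, lam ⟨w.1.left q, w.2 q⟩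
  map_one' := by
    apply Finset.prod_eq_one
    intro q _
    have : (⟨(1 : ↥(wSub H Q)).1.left q, (1 : ↥(wSub H Q)).2 q⟩ : ↥H) = 1 := rfl
    rw [this, map_one]
  map_mul' := by
    intro a b
    have h1 : ∀ q, (⟨(a * b).1.left q, (a * b).2 q⟩ : ↥H) =
        ⟨a.1.left q, a.2 q⟩ * ⟨b.1.left (a.1.right⁻¹ * q), b.2 _⟩ := by
      intro q
      apply Subtype.ext
      rfl
    simp only [h1, map_mul]
    rw [Finset.prod_mul_distrib]
    congr 1
    exact Equiv.prod_comp (Equiv.mulLeft a.1.right⁻¹) (fun q => lam ⟨b.1.left q, b.2 q⟩)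

end

end Cfsg.Agent.Lib.Helper4
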