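import Mathlib
import Cfsg.Prelude.Def_Characters
import Cfsg.Agent.Lib.Helper4.WreathM

set_option autoImplicit false

namespace Cfsg.Agent.Lib.Helper4

open Cfsg Cfsg.Agent.Lib.Helper26 RegularWreathProduct
open scoped ComplexConjugate Classical

universe u

section

variable {M : Type u} [Group M] [Fintype M] {Q : Type u} [Group Q] [Fintype Q]

/-- product form of an irreducible character of the base group -/
theorem base_char_form [Fintype (M ≀ᵣ Q)] (θ : wBase M Q → ℂ) (hθ : IsIrrCharacter (wBase M Q) θ) :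
    ∃ a : Q → M → ℂ, (∀ q, IsIrrCharacter M (a q)) ∧ ∀ n : wBase M Q, θ n = ∏ q, a q (n.1.left q) := by
  have hθ' : IsIrrCharacter (Q → M) (θ ∘ (wBaseEquiv (M := M) (Q := Q)).symm) :=
    Cfsg.Agent.Lib.Helper2.isIrrCharacter_comp_mulEquiv hθ (wBaseEquiv (M := M) (Q := Q)).symm
  obtain ⟨a, ha, hθa⟩ := exists_pi_of_isIrrCharacter hθ'
  refine ⟨a, ha, fun n => ?_⟩
  have := congrFun hθa (wBaseEquiv n)
  simp only [Function.comp_apply, MulEquiv.symm_apply_apply] at this
  exact this

/-- an irreducible character of the base group is monomial, with explicit data -/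
theorem base_char_monomial [Fintype (M ≀ᵣ Q)] (a : Q → M → ℂ) (H : Q → Subgroup M)
    (lam : ∀ q, ↥(H q) →* ℂˣ) (hlam : ∀ q, a q = indFun (H q) (fun h => ((lam q h : ℂˣ) : ℂ)))
    (θ : wBase M Q → ℂ) (hθa : ∀ n : wBase M Q, θ n = ∏ q, a q (n.1.left q)) :
    ∃ (P : Subgroup (wBase M Q)) (Λ : ↥P →* ℂˣ), θ = indFun P (fun h => ((Λ h : ℂˣ) : ℂ)) := by
  let P : Subgroup (wBase M Q) :=
    { carrier := {n | ∀ q, n.1.left q ∈ H q}
      one_mem' := fun q => (H q).one_mem
      mul_mem' := by
        intro x y hx hy q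
        have : (x * y).1.left q = x.1.left q * y.1.left q := by
          have := congrFun (map_mul (wBaseEquiv (M := M) (Q := Q)) x y) q
          exact this
        rw [this]
        exact (H q).mul_mem (hx q) (hy q)
      inv_mem' := by
        intro x hx q
        have : (x⁻¹).1.left q = (x.1.left q)⁻¹ := by
          have := congrFun (map_inv (wBaseEquiv (M := M) (Q := Q)) x) q
          exact this
        rw [this]
        exact (H q).inv_mem (hx q) }
  have hP : ∀ k : wBase M Q, k ∈ P ↔ ∀ q, wBaseEquiv k q ∈ H q := fun k => Iff.rfl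
  let Λ : ↥P →* ℂˣ :=
    { toFun := fun h => ∏ q, lam q ⟨h.1.1.left q, h.2 q⟩
      map_one' := by
        apply Finset.prod_eq_one
        intro q _
        have : (⟨(1 : ↥P).1.1.left q, (1 : ↥P).2 q⟩ : ↥(H q)) = 1 := rfl
        rw [this, map_one]
      map_mul' := by
        intro x y
        have h1 : ∀ q, (⟨(x * y).1.1.left q, (x * y).2 q⟩ : ↥(H q)) =
            ⟨x.1.1.left q, x.2 q⟩ * ⟨y.1.1.left q, y.2 q⟩ := by
          intro q
          apply Subtype.ext
          have := congrFun (map_mul (wBaseEquiv (M := M) (Q := Q)) x.1 y.1) q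
          exact this
        simp only [h1, map_mul]
        rw [Finset.prod_mul_distrib] }
  refine ⟨P, Λ, ?_⟩
  funext n
  have h := indFun_pi_equiv (wBaseEquiv (M := M) (Q := Q)) H
    (fun q h => ((lam q h : ℂˣ) : ℂ)) P hP (fun h => ((Λ h : ℂˣ) : ℂ))
    (by
      intro h
      show ((∏ q, lam q ⟨h.1.1.left q, h.2 q⟩ : ℂˣ) : ℂ) = _
      rw [Units.coe_prod]
      rfl) n
  rw [h, hθa]
  refine Finset.prod_congr rfl fun q _ => ?_
  rw [hlam q]
  rfl

end

end Cfsg.Agent.Lib.Helper4
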