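import Mathlib
import Cfsg.Prelude.Def_Characters
import Cfsg.Agent.Lib.Helper4.WreathM2

set_option autoImplicit false

namespace Cfsg.Agent.Lib.Helper4

open Cfsg Cfsg.Agent.Lib.Helper26 RegularWreathProduct
open scoped ComplexConjugate Classical

universe u

section

variable {M : Type u} [Group M] [Fintype M] {Q : Type u} [Group Q] [Fintype Q]

/-- the non-invariant case: the character is induced from the base group -/
theorem wreath_case_noninv [Fintype (M ≀ᵣ Q)] (hp : (Nat.card Q).Prime)
    (χ : M ≀ᵣ Q → ℂ) (hχ : IsIrrCharacter (M ≀ᵣ Q) χ)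
    (θ : wBase M Q → ℂ) (hθ : IsIrrCharacter (wBase M Q) θ)
    (hθcon : classInner (fun n : wBase M Q => χ n) θ ≠ 0)
    (hinv : ¬ ∀ (w : M ≀ᵣ Q) (n : wBase M Q),
      θ ⟨w * n * w⁻¹, (wBase_normal (M := M) (Q := Q)).conj_mem (n : M ≀ᵣ Q) n.2 w⟩ = θ n) :
    χ = indFun (wBase M Q) θ := by
  have hχc := isCharacter_of_isIrrCharacter hχ
  have hχcl := isClassFunction_of_isCharacter hχc
  have hI : inertiaSub (wBase M Q) θ ≤ wBase M Q := by
    have hBI : wBase M Q ≤ inertiaSub (wBase M Q) θ :=
      le_inertiaSub (wBase M Q) (isClassFunction_of_isIrrCharacter hθ)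
    have hidx := Subgroup.relIndex_mul_index hBI
    rw [wBase_index] at hidx
    have hdvd : (inertiaSub (wBase M Q) θ).index ∣ Nat.card Q := Dvd.intro_left _ hidx
    rcases (Nat.dvd_prime hp).1 hdvd with h1 | h1
    · exfalso
      apply hinv
      intro w n
      have : w ∈ inertiaSub (wBase M Q) θ := by
        rw [Subgroup.index_eq_one.1 h1]
        trivial
      exact (mem_inertiaSub (wBase M Q) θ w).1 this n
    · rw [h1] at hidx
      have h2 : (wBase M Q).relIndex (inertiaSub (wBase M Q) θ) = 1 := by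
        have hpos := hp.pos
        have : (wBase M Q).relIndex (inertiaSub (wBase M Q) θ) * Nat.card Q = 1 * Nat.card Q := by
          rw [hidx, one_mul]
        exact Nat.eq_of_mul_eq_mul_right hpos this
      exact Subgroup.relIndex_eq_one.1 h2
  have hcon2 : classInner (fun n : wBase M Q => θ ⟨(n : M ≀ᵣ Q), le_refl (wBase M Q) n.2⟩) θ ≠ 0 := by
    have : (fun n : wBase M Q => θ ⟨(n : M ≀ᵣ Q), le_refl (wBase M Q) n.2⟩) = θ := by
      funext n
      rfl
    rw [this, Cfsg.Agent.Lib.Helper26.classInner_irr hθ hθ, if_pos rfl]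
    exact one_ne_zero
  have hind : classInner (indFun (wBase M Q) θ) χ ≠ 0 := by
    rw [classInner_indFun_left' (wBase M Q) _ χ hχcl, ← classInner_conj_symm]
    intro h0
    apply hθcon
    exact (map_eq_zero (starRingEnd ℂ)).1 h0
  exact (clifford_corr_general (wBase M Q) (le_refl _) θ hθ hI θ hθ hcon2 χ hχ hind).1


/-- a constituent of the restriction of a constituent is a constituent of the restriction -/
theorem restrict_constituent_ne_zero {G : Type*} [Group G] [Fintype G] (N : Subgroup G)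
    {X : G → ℂ} (hX : IsCharacter G X) {ν : G → ℂ} (hν : IsIrrCharacter G ν)
    (hXν : classInner X ν ≠ 0) {η : N → ℂ} (hη : IsCharacter N η)
    (hνη : classInner (fun k : N => ν k) η ≠ 0) :
    classInner (fun k : N => X k) η ≠ 0 := by
  have : Fintype (IrrCharacter G) := Fintype.ofFinite _
  have hexp := Cfsg.Agent.Lib.Helper4.classFunction_expansion X (isClassFunction_of_isCharacter hX)
  have h1 : (fun n : N => X n) = ∑ μ : IrrCharacter G,
      classInner X (μ : G → ℂ) • (fun n : N => (μ : G → ℂ) n) := by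
    funext n
    have := congrFun hexp (n : G)
    simp only [Finset.sum_apply, Pi.smul_apply] at this ⊢
    exact this
  rw [h1, classInner_sum_left]
  simp_rw [classInner_smul_left]
  have hnat1 : ∀ μ : IrrCharacter G, ∃ a : ℕ, classInner X (μ : G → ℂ) = a :=
    fun μ => classInner_isCharacter_nat hX (isCharacter_of_isIrrCharacter μ.2)
  have hnat2 : ∀ μ : IrrCharacter G, ∃ c : ℕ,
      classInner (fun k : N => (μ : G → ℂ) k) η = c := fun μ =>
    classInner_isCharacter_nat
      (Cfsg.Agent.Lib.Helper2.isCharacter_comp_hom (isCharacter_of_isIrrCharacter μ.2) N.subtype) hη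
  choose a ha using hnat1
  choose c hc using hnat2
  simp_rw [ha, hc]
  let ν₀ : IrrCharacter G := ⟨ν, hν⟩
  have ha0 : a ν₀ ≠ 0 := by
    intro h0
    apply hXν
    have := ha ν₀
    simp only [ν₀] at this
    rw [this, h0]
    simp
  have hc0 : c ν₀ ≠ 0 := by
    intro h0
    apply hνη
    have := hc ν₀
    simp only [ν₀] at this
    rw [this, h0]
    simp
  have hle : a ν₀ * c ν₀ ≤ ∑ μ : IrrCharacter G, a μ * c μ :=
    Finset.single_le_sum (f := fun μ => a μ * c μ) (fun _ _ => Nat.zero_le _)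
      (Finset.mem_univ ν₀)
  have hpos : 0 < a ν₀ * c ν₀ := Nat.mul_pos (Nat.pos_of_ne_zero ha0) (Nat.pos_of_ne_zero hc0)
  have : (∑ μ : IrrCharacter G, a μ * c μ) ≠ 0 := by omega
  exact_mod_cast this

/-- invariance forces equal components -/
theorem inv_components_eq [Fintype (M ≀ᵣ Q)]
    (θ : wBase M Q → ℂ)
    (hinv : ∀ (w : M ≀ᵣ Q) (n : wBase M Q),
      θ ⟨w * n * w⁻¹, (wBase_normal (M := M) (Q := Q)).conj_mem (n : M ≀ᵣ Q) n.2 w⟩ = θ n)
    (a : Q → M → ℂ) (ha : ∀ q, IsIrrCharacter M (a q))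
    (hθa : ∀ n : wBase M Q, θ n = ∏ q, a q (n.1.left q)) (c : Q) : a c = a 1 := by
  have key : (fun f : Q → M => ∏ q, a (c * q) (f q)) = (fun f : Q → M => ∏ q, a q (f q)) := by
    funext f
    have h1 := hinv (inl c) ((wBaseEquiv (M := M) (Q := Q)).symm f)
    rw [hθa, hθa] at h1
    have h2 : ∀ q, (inl c * (((wBaseEquiv (M := M) (Q := Q)).symm f : wBase M Q) : M ≀ᵣ Q) *
        (inl c)⁻¹).left q = f (c⁻¹ * q) := by
      intro q
      rw [conj_left _ _ rfl]
      simp
      rfl
    simp only [h2] at h1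
    have h3 : ∀ q, (((wBaseEquiv (M := M) (Q := Q)).symm f : wBase M Q) : M ≀ᵣ Q).left q = f q :=
      fun q => rfl
    simp only [h3] at h1
    rw [← h1]
    have h4 := Equiv.prod_comp (Equiv.mulLeft c) (fun q => a q (f (c⁻¹ * q)))
    rw [← h4]
    refine Finset.prod_congr rfl fun q _ => ?_
    simp
  have := pi_unique (a := fun q => a (c * q)) (b := a) (fun q => ha _) ha key
  have h := congrFun this 1
  simpa using h

end

end Cfsg.Agent.Lib.Helper4
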