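import Mathlib
import Cfsg.Prelude.Def_Characters
import Cfsg.Agent.Lib.Helper4.WreathM3

set_option autoImplicit false

namespace Cfsg.Agent.Lib.Helper4

open Cfsg Cfsg.Agent.Lib.Helper26 RegularWreathProduct
open scoped ComplexConjugate Classical

universe u

section

variable {M : Type u} [Group M] [Fintype M] {Q : Type u} [Group Q] [Fintype Q]

/-- the invariant case: the character is induced from the wreath product of a subgroup -/
theorem wreath_case_inv [Fintype (M ≀ᵣ Q)] (hp : (Nat.card Q).Prime)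
    (χ : M ≀ᵣ Q → ℂ) (hχ : IsIrrCharacter (M ≀ᵣ Q) χ)
    (θ : wBase M Q → ℂ) (hθ : IsIrrCharacter (wBase M Q) θ)
    (hθcon : classInner (fun n : wBase M Q => χ n) θ ≠ 0)
    (hinv : ∀ (w : M ≀ᵣ Q) (n : wBase M Q),
      θ ⟨w * n * w⁻¹, (wBase_normal (M := M) (Q := Q)).conj_mem (n : M ≀ᵣ Q) n.2 w⟩ = θ n)
    (a0 : M → ℂ) (hθa : ∀ n : wBase M Q, θ n = ∏ q, a0 (n.1.left q))
    (H : Subgroup M) (lam : ↥H →* ℂˣ) (hlam : a0 = indFun H (fun h => ((lam h : ℂˣ) : ℂ))) :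
    ∃ (K : Subgroup (M ≀ᵣ Q)) (Λ : ↥K →* ℂˣ), χ = indFun K (fun h => ((Λ h : ℂˣ) : ℂ)) := by
  have hχc := isCharacter_of_isIrrCharacter hχ
  have hχcl := isClassFunction_of_isCharacter hχc
  obtain ⟨ϑ, hϑdef⟩ : ∃ ϑ : wSub H Q → ℂ, ϑ = fun h => ((wLin (Q := Q) H lam h : ℂˣ) : ℂ) := ⟨_, rfl⟩
  have hϑirr : IsIrrCharacter (wSub H Q) ϑ := by
    rw [hϑdef]
    exact isIrrCharacter_linFun (wLin (Q := Q) H lam)
  have hϑc := isCharacter_of_isIrrCharacter hϑirr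
  obtain ⟨ψ0, hψ0def⟩ : ∃ ψ0 : M ≀ᵣ Q → ℂ, ψ0 = indFun (wSub H Q) ϑ := ⟨_, rfl⟩
  have hψ0c : IsCharacter (M ≀ᵣ Q) ψ0 := by
    rw [hψ0def]
    exact isCharacter_indFun (wSub H Q) hϑc
  -- B ⊔ K = ⊤
  have htop : wBase M Q ⊔ wSub H Q = ⊤ := by
    rw [eq_top_iff]
    intro w _
    have hw : w = (⟨w.left, 1⟩ : M ≀ᵣ Q) * inl w.right := by
      apply RegularWreathProduct.ext
      · funext q
        simp
      · simp
    rw [hw]
    apply Subgroup.mul_mem_sup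
    · exact (mem_wBase _).2 rfl
    · intro q
      exact H.one_mem
  -- ψ0 restricted to B is θ
  have hres : ∀ n : wBase M Q, ψ0 n = θ n := by
    intro n
    have h1 := Cfsg.Agent.Lib.Helper7.MaxInd.mackey_prod (wSub H Q) (wBase M Q) htop ϑ
      (isClassFunction_of_isCharacter hϑc) n
    rw [hψ0def, h1]
    have h2 := indFun_pi_equiv (wBaseEquiv (M := M) (Q := Q)) (fun _ => H)
      (fun _ h => ((lam h : ℂˣ) : ℂ))
      ((wSub H Q).subgroupOf (wBase M Q)) (fun k => Iff.rfl)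
      (fun d : (wSub H Q).subgroupOf (wBase M Q) => ϑ ⟨((d : wBase M Q) : M ≀ᵣ Q), d.2⟩)
      (by
        intro h
        rw [hϑdef]
        show ((∏ q, lam ⟨h.1.1.left q, _⟩ : ℂˣ) : ℂ) = _
        rw [Units.coe_prod]
        rfl) n
    rw [h2, hθa, hlam]
    rfl
  have hidx : (wBase M Q).index.Prime := by
    rw [wBase_index]
    exact hp
  have hχres := Cfsg.Agent.Lib.Helper7.restrict_prime_index (wBase M Q) hidx θ hθ hinv χ hχ hθcon
  obtain ⟨dθ, hdθ, hdθ1⟩ := irr_degree hθ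
  have hdne : (dθ : ℂ) ≠ 0 := by exact_mod_cast hdθ.ne'
  have hψ01 : ψ0 1 = dθ := by
    have := hres 1
    rw [← hdθ1, ← this]
    rfl
  -- ψ0 is irreducible
  obtain ⟨β, hβ⟩ := Cfsg.Agent.Lib.Helper7.exists_constituent hψ0c (by rw [hψ01]; exact hdne)
  have hβc := isCharacter_of_isIrrCharacter β.2
  have hβB : IsCharacter (wBase M Q) (fun n : wBase M Q => (β : M ≀ᵣ Q → ℂ) n) :=
    Cfsg.Agent.Lib.Helper2.isCharacter_comp_hom hβc (wBase M Q).subtype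
  obtain ⟨dβ, hdβ, hdβ1⟩ := irr_degree β.2
  obtain ⟨η, hη⟩ := Cfsg.Agent.Lib.Helper7.exists_constituent hβB (by
    show (β : M ≀ᵣ Q → ℂ) ((1 : wBase M Q) : M ≀ᵣ Q) ≠ 0
    rw [Subgroup.coe_one, hdβ1]
    exact_mod_cast hdβ.ne')
  have hηθ : classInner (fun k : wBase M Q => ψ0 k) (η : wBase M Q → ℂ) ≠ 0 :=
    restrict_constituent_ne_zero (wBase M Q) hψ0c β.2 hβ (isCharacter_of_isIrrCharacter η.2) hη
  have hfun : (fun k : wBase M Q => ψ0 k) = θ := funext hres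
  rw [hfun, Cfsg.Agent.Lib.Helper26.classInner_irr hθ η.2] at hηθ
  have hηeq : θ = (η : wBase M Q → ℂ) := by
    by_contra h
    rw [if_neg h] at hηθ
    exact hηθ rfl
  have hβθ : classInner (fun n : wBase M Q => (β : M ≀ᵣ Q → ℂ) n) θ ≠ 0 := by
    rw [hηeq]
    exact hη
  have hβres := Cfsg.Agent.Lib.Helper7.restrict_prime_index (wBase M Q) hidx θ hθ hinv β β.2 hβθ
  have hβ1 : (β : M ≀ᵣ Q → ℂ) 1 = dθ := by
    have := hβres 1
    rw [← hdθ1, ← this]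
    rfl
  have hψ0β : (β : M ≀ᵣ Q → ℂ) = ψ0 :=
    eq_of_constituent_of_degree_le hψ0c β.2 hβ hψ01 hβ1 le_rfl
  have hψ0irr : IsIrrCharacter (M ≀ᵣ Q) ψ0 := hψ0β ▸ β.2
  -- Gallagher
  have hone : IsIrrCharacter (wBase M Q) (1 : wBase M Q → ℂ) := isIrrCharacter_one (G := wBase M Q)
  obtain ⟨-, -, hG3⟩ := Cfsg.Agent.Lib.Helper7.gallagher_gen (wBase M Q) (1 : wBase M Q → ℂ) θ hone
    (fun _ _ => rfl) hinv (by rw [one_mul]; exact hθ) ψ0 hψ0irr hres
  have hindχ : classInner (indFun (wBase M Q) ((1 : wBase M Q → ℂ) * θ)) χ ≠ 0 := by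
    rw [one_mul, classInner_indFun_left' (wBase M Q) _ χ hχcl, ← classInner_conj_symm]
    intro h0
    apply hθcon
    exact (map_eq_zero (starRingEnd ℂ)).1 h0
  obtain ⟨μ, hμirr, -, hμχ⟩ := hG3 χ hχ hindχ
  have hμ1 : μ 1 = 1 := by
    have h1 := congrFun hμχ 1
    simp only [Pi.mul_apply] at h1
    have hχ1 : χ 1 = dθ := by
      have := hχres 1
      rw [← hdθ1, ← this]
      rfl
    rw [hψ01, hχ1] at h1
    exact mul_right_cancel₀ hdne (by rw [h1, one_mul])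
  obtain ⟨ν, hν⟩ := hom_of_irr_deg_one hμirr hμ1
  refine ⟨wSub H Q, wLin (Q := Q) H lam * (ν.comp (wSub H Q).subtype), ?_⟩
  have hmul := Cfsg.Agent.Lib.Helper7.indFun_mul_restrict (wSub H Q) ϑ μ
    (isClassFunction_of_isCharacter (isCharacter_of_isIrrCharacter hμirr))
  rw [← hμχ, mul_comm, hψ0def, ← hmul]
  congr 1
  funext h
  rw [hϑdef]
  simp only [Pi.mul_apply, MonoidHom.mul_apply, Units.val_mul, MonoidHom.comp_apply,
    Subgroup.coe_subtype]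
  rw [hν]

end

end Cfsg.Agent.Lib.Helper4
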