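import Mathlib
import Cfsg.Prelude.Def_Characters
import Cfsg.Agent.Lib.Helper4.WreathM4

set_option autoImplicit false

namespace Cfsg.Agent.Lib.Helper4

open Cfsg Cfsg.Agent.Lib.Helper26 RegularWreathProduct
open scoped ComplexConjugate Classical

universe u

section

variable {M : Type u} [Group M] [Fintype M] {Q : Type u} [Group Q] [Fintype Q]

/-- the wreath product of an M-group with a group of prime order is an M-group -/
theorem isMGroup_wreath [Fintype (M ≀ᵣ Q)] (hM : IsMGroup M) (hp : (Nat.card Q).Prime) :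
    IsMGroup (M ≀ᵣ Q) := by
  intro χ hχ
  have hχc := isCharacter_of_isIrrCharacter hχ
  have hχB : IsCharacter (wBase M Q) (fun n : wBase M Q => χ n) :=
    Cfsg.Agent.Lib.Helper2.isCharacter_comp_hom hχc (wBase M Q).subtype
  obtain ⟨dχ, hdχ, hdχ1⟩ := irr_degree hχ
  obtain ⟨θ, hθcon⟩ := Cfsg.Agent.Lib.Helper7.exists_constituent hχB (by
    show χ ((1 : wBase M Q) : M ≀ᵣ Q) ≠ 0
    rw [Subgroup.coe_one, hdχ1]
    exact_mod_cast hdχ.ne')
  obtain ⟨a, ha, hθa⟩ := base_char_form (θ : wBase M Q → ℂ) θ.2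
  have hmon : ∀ q, ∃ (H : Subgroup M) (lam : ↥H →* ℂˣ),
      a q = indFun H (fun h => ((lam h : ℂˣ) : ℂ)) := fun q => hM (a q) (ha q)
  choose H lam hlam using hmon
  by_cases hinv : ∀ (w : M ≀ᵣ Q) (n : wBase M Q),
      (θ : wBase M Q → ℂ) ⟨w * n * w⁻¹,
        (wBase_normal (M := M) (Q := Q)).conj_mem (n : M ≀ᵣ Q) n.2 w⟩ = (θ : wBase M Q → ℂ) n
  · have hall : ∀ c, a c = a 1 := inv_components_eq (θ : wBase M Q → ℂ) hinv a ha hθa
    have hθa' : ∀ n : wBase M Q, (θ : wBase M Q → ℂ) n = ∏ q, a 1 (n.1.left q) := by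
      intro n
      rw [hθa n]
      refine Finset.prod_congr rfl fun q _ => ?_
      rw [hall q]
    exact wreath_case_inv hp χ hχ (θ : wBase M Q → ℂ) θ.2 hθcon hinv (a 1) hθa' (H 1) (lam 1) (hlam 1)
  · have hχeq := wreath_case_noninv hp χ hχ (θ : wBase M Q → ℂ) θ.2 hθcon hinv
    obtain ⟨P, Λ, hPΛ⟩ := base_char_monomial a H lam hlam (θ : wBase M Q → ℂ) hθa
    rw [hPΛ, Cfsg.Agent.Lib.Helper7.indFun_trans] at hχeq
    refine ⟨P.map (wBase M Q).subtype,
      Λ.comp (P.equivMapOfInjective (wBase M Q).subtype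
        (wBase M Q).subtype_injective).symm.toMonoidHom, ?_⟩
    rw [hχeq]
    rfl

end

end Cfsg.Agent.Lib.Helper4
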