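import Mathlib
import Cfsg.Prelude.Def_Characters
import Cfsg.Agent.Lib.Helper4.WreathM5
import Cfsg.Agent.S0537
import Cfsg.Agent.Lib.Helper26.BrauerSuzuki

set_option autoImplicit false

/-! Dade: every finite solvable group embeds in an M-group (via iterated wreath products). -/

namespace Cfsg.Agent.Lib.Helper4

open Cfsg Cfsg.Agent.Lib.Helper26 RegularWreathProduct
open scoped ComplexConjugate Classical

universe u

section KK

variable {G : Type u} [Group G] (N : Subgroup G) [N.Normal] {M : Type u} [Group M] (j : N →* M)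

/-- a transversal -/
noncomputable def kkTrans (q : G ⧸ N) : G := Quotient.out q

theorem kkTrans_mk (q : G ⧸ N) : (QuotientGroup.mk (kkTrans N q) : G ⧸ N) = q :=
  QuotientGroup.out_eq' q

theorem kk_mem (g : G) (q : G ⧸ N) :
    (kkTrans N q)⁻¹ * g * kkTrans N ((QuotientGroup.mk g : G ⧸ N)⁻¹ * q) ∈ N := by
  rw [← QuotientGroup.eq_one_iff]
  simp only [QuotientGroup.mk_mul, QuotientGroup.mk_inv, kkTrans_mk]
  group

/-- the Kaloujnine-Krasner embedding, composed with a homomorphism of the normal subgroup -/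
noncomputable def kkHom : G →* M ≀ᵣ (G ⧸ N) where
  toFun g := ⟨fun q => j ⟨(kkTrans N q)⁻¹ * g *
    kkTrans N ((QuotientGroup.mk g : G ⧸ N)⁻¹ * q), kk_mem N g q⟩, QuotientGroup.mk g⟩
  map_one' := by
    apply RegularWreathProduct.ext
    · funext q
      have : (⟨(kkTrans N q)⁻¹ * 1 * kkTrans N ((QuotientGroup.mk (1 : G) : G ⧸ N)⁻¹ * q),
          kk_mem N 1 q⟩ : N) = 1 := by
        apply Subtype.ext
        simp
      show j _ = 1
      rw [this, map_one]
    · rfl
  map_mul' g h := by
    apply RegularWreathProduct.ext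
    · funext q
      show j _ = j _ * j _
      rw [← map_mul]
      congr 1
      apply Subtype.ext
      show (kkTrans N q)⁻¹ * (g * h) * kkTrans N ((QuotientGroup.mk (g * h) : G ⧸ N)⁻¹ * q) =
        (kkTrans N q)⁻¹ * g * kkTrans N ((QuotientGroup.mk g : G ⧸ N)⁻¹ * q) *
          ((kkTrans N ((QuotientGroup.mk g : G ⧸ N)⁻¹ * q))⁻¹ * h *
            kkTrans N ((QuotientGroup.mk h : G ⧸ N)⁻¹ * ((QuotientGroup.mk g : G ⧸ N)⁻¹ * q)))
      have : (QuotientGroup.mk (g * h) : G ⧸ N)⁻¹ * q =
          (QuotientGroup.mk h : G ⧸ N)⁻¹ * ((QuotientGroup.mk g : G ⧸ N)⁻¹ * q) := by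
        rw [QuotientGroup.mk_mul, mul_inv_rev, mul_assoc]
      rw [this]
      group
    · rfl

theorem kkHom_injective (hj : Function.Injective j) : Function.Injective (kkHom N j) := by
  rw [injective_iff_map_eq_one]
  intro g hg
  have h1 : (QuotientGroup.mk g : G ⧸ N) = 1 := congrArg RegularWreathProduct.right hg
  have h2 := congrFun (congrArg RegularWreathProduct.left hg) 1
  have h3 : j ⟨(kkTrans N 1)⁻¹ * g * kkTrans N ((QuotientGroup.mk g : G ⧸ N)⁻¹ * 1),
      kk_mem N g 1⟩ = 1 := h2
  have h4 := (injective_iff_map_eq_one j).1 hj _ h3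
  have h5 : (kkTrans N 1)⁻¹ * g * kkTrans N ((QuotientGroup.mk g : G ⧸ N)⁻¹ * 1) = 1 :=
    congrArg Subtype.val h4
  rw [h1, inv_one, one_mul] at h5
  have : g = kkTrans N 1 * (kkTrans N 1)⁻¹ := by
    have h6 : (kkTrans N (1 : G ⧸ N))⁻¹ * g = (kkTrans N 1)⁻¹ := by
      have := congrArg (· * (kkTrans N (1 : G ⧸ N))⁻¹) h5
      simpa [mul_assoc] using this
    have := congrArg (kkTrans N (1 : G ⧸ N) * ·) h6
    simpa [mul_assoc] using this
  rw [this, mul_inv_cancel]

end KK

/-- a commutative group is an M-group -/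
theorem isMGroup_of_comm {G : Type*} [Group G] [Fintype G] (hcomm : ∀ a b : G, a * b = b * a) :
    IsMGroup G := by
  intro χ hχ
  have h1 := irr_degree_one_of_comm hcomm hχ
  obtain ⟨μ, hμ⟩ := hom_of_irr_deg_one hχ h1
  refine ⟨⊤, μ.comp (⊤ : Subgroup G).subtype, ?_⟩
  have h2 := Cfsg.Agent.Lib.Helper7.indFun_top χ
    (isClassFunction_of_isCharacter (isCharacter_of_isIrrCharacter hχ))
  rw [← h2]
  congr 1
  funext x
  rw [hμ]
  rfl

/-- Dade: every finite solvable group embeds in an M-group -/
theorem exists_mgroup_embedding : ∀ (n : ℕ) (G : Type u) [Group G] [Finite G],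
    Group.IsSolvable G → Nat.card G = n →
    ∃ (M : Type u) (_ : Group M) (_ : Fintype M), IsMGroup M ∧
      ∃ f : G →* M, Function.Injective f := by
  intro n
  induction n using Nat.strong_induction_on with
  | _ n ih =>
    intro G _ _ hsolv hcard
    by_cases htriv : Subsingleton G
    · have hF : Fintype G := Fintype.ofFinite G
      exact ⟨G, inferInstance, hF, isMGroup_of_comm (fun a b => Subsingleton.elim _ _),
        MonoidHom.id G, Function.injective_id⟩
    · haveI : Nontrivial G := not_subsingleton_iff_nontrivial.1 htriv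
      haveI := hsolv
      obtain ⟨N, p, hp, hNn, hidx⟩ := Cfsg.Agent.S0537.exists_normal_prime_index G
      haveI := hNn
      have hNcard : Nat.card N < n := by
        have h1 := Subgroup.card_mul_index N
        rw [hidx, hcard] at h1
        have h2 := hp.one_lt
        have h3 : 0 < Nat.card N := Nat.card_pos
        nlinarith
      obtain ⟨M, iM, fM, hMM, j, hj⟩ := ih (Nat.card N) hNcard N inferInstance rfl
      have hFQ : Fintype (G ⧸ N) := Fintype.ofFinite _
      have hFW : Fintype (M ≀ᵣ (G ⧸ N)) := Fintype.ofFinite _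
      have hQp : (Nat.card (G ⧸ N)).Prime := by
        rw [← Subgroup.index_eq_card, hidx]
        exact hp
      exact ⟨M ≀ᵣ (G ⧸ N), inferInstance, hFW, isMGroup_wreath hMM hQp, kkHom N j,
        kkHom_injective N j hj⟩

end Cfsg.Agent.Lib.Helper4
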