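import Mathlib
import Cfsg.Prelude.Def_Characters
import Cfsg.Prelude.Def_Local
import Cfsg.Agent.Lib.Helper4.PermLemma
import Cfsg.Agent.Lib.Helper4.CharOrtho
import Cfsg.Agent.Lib.Helper14.ConjUnion
import Cfsg.Agent.Lib.Helper3.PSolvable
import Cfsg.Agent.S4493

set_option autoImplicit false

/-!
# Itô–Michler for `p`-solvable groups (helper4)

A `p`-solvable group all of whose irreducible characters have degree prime to `p` has a normal
abelian Sylow `p`-subgroup.
-/

namespace Cfsg.Agent.Lib.Helper4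

open Cfsg

section KL

variable {X : Type*} [Group X] [Fintype X]

/-- if all irreducible characters of the normal subgroup `R` are `X`-invariant, then conjugation
by any `y : X` fixes all conjugacy classes of `R` (Brauer's permutation lemma) -/
theorem isConj_conjNormal_of_invariant (R : Subgroup X) [hR : R.Normal]
    (hinv : ∀ θ : IrrCharacter R, ∀ (x : X) (m : R),
      (θ : R → ℂ) ⟨x * m * x⁻¹, hR.conj_mem m m.2 x⟩ = (θ : R → ℂ) m)
    (y : X) (g : R) : IsConj (MulAut.conjNormal y g : R) g := by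
  classical
  have : Fintype R := Fintype.ofFinite R
  have : Fintype (ConjClasses R) := Fintype.ofFinite _
  have : Fintype (IrrCharacter R) := Fintype.ofFinite _
  let β : R → R := fun r => MulAut.conjNormal y r
  have hβ : ∀ r : R, β r = ⟨y * r * y⁻¹, hR.conj_mem r r.2 y⟩ := by
    intro r
    apply Subtype.ext
    exact MulAut.conjNormal_apply y r
  let Q : ConjClasses R → Prop := fun C => IsConj (β (Quotient.out C)) (Quotient.out C)
  have hQ : ∀ r : R, Q (ConjClasses.mk r) ↔ IsConj (β r) r := by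
    intro r
    have h1 : IsConj (Quotient.out (ConjClasses.mk r)) r :=
      ConjClasses.mk_eq_mk_iff_isConj.mp (Quotient.out_eq (ConjClasses.mk r))
    have h2 : IsConj (β (Quotient.out (ConjClasses.mk r))) (β r) :=
      (MulAut.conjNormal y : R ≃* R).toMonoidHom.map_isConj h1
    constructor
    · intro h
      exact (h2.symm.trans h).trans h1
    · intro h
      exact (h2.trans h).trans h1.symm
  have hcard := card_fixed_irr_eq β id (fun χ r => by rw [hβ r, hinv χ y r]; rfl) Q hQ
  have h3 : Nat.card {χ : IrrCharacter R // id χ = χ} = Nat.card (IrrCharacter R) :=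
    Nat.card_congr (Equiv.subtypeUnivEquiv (fun χ => rfl))
  rw [h3, card_irr_eq_card_conjClasses] at hcard
  have hall : ∀ C : ConjClasses R, Q C := by
    by_contra hcon
    push Not at hcon
    obtain ⟨C₀, hC₀⟩ := hcon
    have hlt : Fintype.card {C : ConjClasses R // Q C} < Fintype.card (ConjClasses R) :=
      Fintype.card_subtype_lt hC₀
    rw [Nat.card_eq_fintype_card, Nat.card_eq_fintype_card] at hcard
    omega
  exact (hQ g).mp (hall _)

/-- if conjugation by every element of `X` fixes all classes of the normal `p'`-subgroup `R`,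
then every `p`-subgroup `S` of `X` centralizes `R` -/
theorem centralizes_of_isConj {p : ℕ} [Fact p.Prime] (R : Subgroup X) [hR : R.Normal]
    (hRp : (Nat.card R).Coprime p) (S : Subgroup X) (hS : IsPGroup p S)
    (hconj : ∀ (y : X) (g : R), IsConj (MulAut.conjNormal y g : R) g) :
    ∀ s ∈ S, ∀ r ∈ R, s * r = r * s := by
  classical
  have hp : p.Prime := Fact.out
  have : Fintype R := Fintype.ofFinite R
  obtain ⟨C, hCdef⟩ : ∃ C : Subgroup R,
      C = (Subgroup.centralizer (S : Set X)).subgroupOf R := ⟨_, rfl⟩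
  have hCtop : C = ⊤ := by
    by_contra hne
    obtain ⟨g, hg⟩ := Cfsg.Agent.Lib.Helper14.exists_not_mem_conj C hne
    let K := {r : R // IsConj g r}
    let act : MulAction S K :=
      { smul := fun s k => ⟨MulAut.conjNormal (s : X) k.1, k.2.trans (hconj (s : X) k.1).symm⟩
        one_smul := by
          intro k
          apply Subtype.ext
          show MulAut.conjNormal ((1 : S) : X) k.1 = k.1
          rw [Subgroup.coe_one, map_one]
          rfl
        mul_smul := by
          intro s t k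
          apply Subtype.ext
          show MulAut.conjNormal ((s * t : S) : X) k.1 =
            MulAut.conjNormal (s : X) (MulAut.conjNormal (t : X) k.1)
          rw [Subgroup.coe_mul, map_mul]
          rfl }
    have hcardK : ¬ p ∣ Nat.card K := by
      have h1 : Nat.card K = (Subgroup.centralizer ({g} : Set R)).index := by
        rw [← ncard_conj_eq_index g]
        exact Nat.card_coe_set_eq _
      rw [h1]
      intro hd
      have h2 : p ∣ Nat.card R := hd.trans (Subgroup.index_dvd_card _)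
      have h3 : p ∣ Nat.gcd (Nat.card R) p := Nat.dvd_gcd h2 dvd_rfl
      rw [Nat.Coprime.gcd_eq_one hRp] at h3
      exact hp.one_lt.ne' (Nat.dvd_one.mp h3)
    obtain ⟨k₀, hk₀⟩ := hS.nonempty_fixed_point_of_prime_not_dvd_card K hcardK
    have hmem : k₀.1 ∈ C := by
      rw [hCdef, Subgroup.mem_subgroupOf, Subgroup.mem_centralizer_iff]
      intro s hs
      have h1 := hk₀ ⟨s, hs⟩
      have h2 : (MulAut.conjNormal s k₀.1 : R) = k₀.1 := congrArg Subtype.val h1
      have h3 := congrArg Subtype.val h2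
      rw [MulAut.conjNormal_apply] at h3
      calc s * (k₀.1 : X) = (s * (k₀.1 : X) * s⁻¹) * s := by group
        _ = (k₀.1 : X) * s := by rw [h3]
    obtain ⟨c, hc⟩ := isConj_iff.mp k₀.2
    apply hg c⁻¹
    rw [inv_inv, hc]
    exact hmem
  intro s hs r hr
  have h1 : (⟨r, hr⟩ : R) ∈ C := by
    rw [hCtop]
    exact Subgroup.mem_top _
  rw [hCdef, Subgroup.mem_subgroupOf, Subgroup.mem_centralizer_iff] at h1
  exact h1 s hs

theorem charDegree_eq_of_one_eq'' {χ : X → ℂ} {d : ℕ} (h : χ 1 = d) : charDegree χ = d := by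
  unfold charDegree
  rw [h, Complex.natCast_re, Nat.floor_natCast]

/-- **key lemma**: if `R` is a normal `p'`-subgroup of `p`-power index and all irreducible
characters of `X` have `p'`-degree, then every `p`-subgroup of `X` centralizes `R` -/
theorem centralizes_of_pPrime_degrees {p : ℕ} [Fact p.Prime] (R : Subgroup X) [hR : R.Normal]
    (hRp : (Nat.card R).Coprime p) (k : ℕ) (hidx : R.index = p ^ k)
    (hdeg : ∀ ψ : IrrCharacter X, ¬ p ∣ charDegree (ψ : X → ℂ))
    (S : Subgroup X) (hS : IsPGroup p S) : ∀ s ∈ S, ∀ r ∈ R, s * r = r * s := by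
  classical
  have hp : p.Prime := Fact.out
  have : Fintype R := Fintype.ofFinite R
  apply centralizes_of_isConj R hRp S hS
  apply isConj_conjNormal_of_invariant R
  intro θ
  by_contra hx
  obtain ⟨ψ, hψ⟩ := Cfsg.Agent.S4493.exists_over R (θ : R → ℂ) θ.2
  obtain ⟨d, hd⟩ := Cfsg.Agent.S4493.p_dvd_of_not_invariant R p hp k hidx (θ : R → ℂ) θ.2 hx
    (ψ : X → ℂ) ψ.2 hψ
  apply hdeg ψ
  rw [charDegree_eq_of_one_eq'' hd]
  exact dvd_mul_right p d

end KL

universe u

/-- a `p`-solvable group whose irreducible characters all have `p'`-degree has a normal Sylow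
`p`-subgroup -/
theorem normal_sylow_aux (p : ℕ) [hpf : Fact p.Prime] : ∀ (n : ℕ) (X : Type u) [Group X] [Finite X],
    Nat.card X = n → IsPSolvable p X →
    (∀ χ : IrrCharacter X, ¬ p ∣ charDegree (χ : X → ℂ)) →
    ∃ P : Subgroup X, P.Normal ∧ IsPGroup p P ∧ ¬ p ∣ P.index := by
  have hp : p.Prime := Fact.out
  intro n
  induction n using Nat.strong_induction_on with
  | _ n ih =>
  intro X _ _ hcard hsol hdeg
  classical
  haveI : Fintype X := Fintype.ofFinite X
  by_cases htriv : (⊤ : Subgroup X) = ⊥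
  · refine ⟨⊥, inferInstance, IsPGroup.of_bot, ?_⟩
    rw [← htriv, Subgroup.index_top]
    exact fun h => hp.one_lt.ne' (Nat.dvd_one.mp h)
  have hlt : (⊥ : Subgroup X) < ⊤ := Ne.bot_lt htriv
  obtain ⟨M, hMn, hMbot, -, hM⟩ := Cfsg.Agent.Lib.Helper3.exists_normal_between hp hsol
    (inferInstance : (⊥ : Subgroup X).Normal) (inferInstance : (⊤ : Subgroup X).Normal) hlt
  rw [Subgroup.relIndex_bot_left] at hM
  haveI := hMn
  have hMcard : 1 < Nat.card M := (Subgroup.one_lt_card_iff_ne_bot M).mpr hMbot.ne'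
  have hcardQ : Nat.card (X ⧸ M) < n := by
    rw [← hcard, ← M.index_mul_card]
    show M.index < M.index * Nat.card M
    have : 0 < M.index := Nat.pos_of_ne_zero M.index_ne_zero_of_finite
    nlinarith
  have hdegQ : ∀ χ : IrrCharacter (X ⧸ M), ¬ p ∣ charDegree (χ : X ⧸ M → ℂ) := by
    intro χ
    have hirr := Cfsg.Agent.Lib.Helper2.isIrrCharacter_comp_of_surjective χ.2 (QuotientGroup.mk' M)
      (QuotientGroup.mk'_surjective M)
    have h1 := hdeg ⟨_, hirr⟩
    have h2 : charDegree ((χ : X ⧸ M → ℂ) ∘ (QuotientGroup.mk' M)) =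
        charDegree (χ : X ⧸ M → ℂ) := by
      unfold charDegree
      simp
    rw [← h2]
    exact h1
  have hsolQ : IsPSolvable p (X ⧸ M) := Cfsg.Agent.Lib.Helper3.isPSolvable_quotient hp hsol M
  obtain ⟨Pbar, hPn, hPp, hPidx⟩ := ih _ hcardQ (X ⧸ M) rfl hsolQ hdegQ
  set Y : Subgroup X := Pbar.comap (QuotientGroup.mk' M) with hYdef
  haveI hYn : Y.Normal := hPn.comap _
  have hYmem : ∀ x : X, x ∈ Y ↔ (QuotientGroup.mk x : X ⧸ M) ∈ Pbar := fun x => Iff.rfl
  have hMY : M ≤ Y := by
    intro x hx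
    rw [hYmem, (QuotientGroup.eq_one_iff x).mpr hx]
    exact Pbar.one_mem
  have hYidx : Y.index = Pbar.index :=
    Subgroup.index_comap_of_surjective _ (QuotientGroup.mk'_surjective M)
  have hYp : ∀ x ∈ Y, ∃ k : ℕ, x ^ (p ^ k) ∈ M := by
    intro x hx
    obtain ⟨k, hk⟩ := hPp ⟨_, (hYmem x).mp hx⟩
    refine ⟨k, ?_⟩
    rw [← QuotientGroup.eq_one_iff]
    have := congrArg (fun z : Pbar => (z : X ⧸ M)) hk
    simpa using this
  rcases hM with ⟨m, hm⟩ | hcop
  · -- `M` is a `p`-group
    refine ⟨Y, hYn, ?_, by rw [hYidx]; exact hPidx⟩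
    intro y
    obtain ⟨k, hk⟩ := hYp y y.2
    refine ⟨k + m, ?_⟩
    apply Subtype.ext
    have h1 : (⟨(y : X) ^ (p ^ k), hk⟩ : M) ^ Nat.card M = 1 := pow_card_eq_one'
    have h2 := congrArg Subtype.val h1
    rw [hm] at h2
    simp only [Subgroup.coe_pow, Subgroup.coe_one] at h2 ⊢
    rw [pow_add, pow_mul]
    exact h2
  · -- `M` is a `p'`-group
    haveI : Fintype Y := Fintype.ofFinite _
    haveI hRn : (M.subgroupOf Y).Normal := Subgroup.normal_subgroupOf
    have hRcard : Nat.card (M.subgroupOf Y) = Nat.card M := by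
      rw [← Subgroup.card_map_of_injective Y.subtype_injective,
        Subgroup.map_subgroupOf_eq_of_le hMY]
    have hQM : IsPGroup p (Y ⧸ M.subgroupOf Y) := by
      intro x
      induction x using QuotientGroup.induction_on with
      | H x =>
        obtain ⟨k, hk⟩ := hYp x x.2
        refine ⟨k, ?_⟩
        rw [← QuotientGroup.mk_pow, QuotientGroup.eq_one_iff]
        exact hk
    obtain ⟨nidx, hnidx⟩ := (IsPGroup.iff_card).mp hQM
    have hidx : (M.subgroupOf Y).index = p ^ nidx := hnidx
    have hdegY : ∀ ψ : IrrCharacter Y, ¬ p ∣ charDegree (ψ : Y → ℂ) := by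
      intro ψ hdvd
      obtain ⟨χ, hχ⟩ := Cfsg.Agent.S4493.exists_over Y (ψ : Y → ℂ) ψ.2
      obtain ⟨mm, hmm⟩ := Cfsg.Agent.S4493.degree_dvd_of_constituent Y (χ : X → ℂ) χ.2
        (ψ : Y → ℂ) ψ.2 hχ
      obtain ⟨D, _, hD1⟩ := Cfsg.Agent.Lib.Helper26.irr_degree χ.2
      obtain ⟨dψ, _, hdψ⟩ := Cfsg.Agent.Lib.Helper26.irr_degree ψ.2
      rw [charDegree_eq_of_one_eq'' hdψ] at hdvd
      apply hdeg χ
      rw [charDegree_eq_of_one_eq'' hD1]
      have hDeq : D = mm * dψ := by
        have : (D : ℂ) = ((mm * dψ : ℕ) : ℂ) := by rw [← hD1, hmm, hdψ]; push_cast; ring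
        exact_mod_cast this
      rw [hDeq]
      exact Dvd.dvd.mul_left hdvd mm
    obtain ⟨S⟩ : Nonempty (Sylow p Y) := inferInstance
    have hcen := centralizes_of_pPrime_degrees (M.subgroupOf Y) (by rw [hRcard]; exact hcop)
      nidx hidx hdegY (S : Subgroup Y) S.2
    -- `S` is normal in `Y`
    have hRle : M.subgroupOf Y ≤ Subgroup.normalizer ((S : Subgroup Y) : Set Y) := by
      intro r hr
      rw [Subgroup.mem_normalizer_iff]
      intro h
      constructor
      · intro hh
        have h1 := hcen h hh r hr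
        have h2 : r * h * r⁻¹ = h := by rw [← h1]; group
        rw [h2]
        exact hh
      · intro hh
        have h1 := hcen _ hh r⁻¹ ((M.subgroupOf Y).inv_mem hr)
        have h2 : h = r * h * r⁻¹ := by
          calc h = r⁻¹ * (r * h * r⁻¹) * r⁻¹⁻¹ := by group
            _ = (r * h * r⁻¹) * r⁻¹ * r⁻¹⁻¹ := by rw [← h1]
            _ = r * h * r⁻¹ := by group
        rw [h2]
        exact hh
    have hSle : (S : Subgroup Y) ≤ Subgroup.normalizer ((S : Subgroup Y) : Set Y) :=
      Subgroup.le_normalizer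
    have hScard : Nat.card (S : Subgroup Y) = p ^ (Nat.card Y).factorization p :=
      Sylow.card_eq_multiplicity S
    have hYcard : Nat.card (M.subgroupOf Y) * p ^ nidx = Nat.card Y := by
      rw [← hidx]
      exact Subgroup.card_mul_index _
    have hRcop : (Nat.card (M.subgroupOf Y)).Coprime p := by rw [hRcard]; exact hcop
    have hfac : (Nat.card Y).factorization p = nidx := by
      rw [← hYcard, Nat.factorization_mul Nat.card_pos.ne' (pow_pos hp.pos _).ne',
        Finsupp.add_apply, Nat.factorization_eq_zero_of_not_dvd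
          ((Nat.Prime.coprime_iff_not_dvd hp).mp hRcop.symm), zero_add,
        hp.factorization_pow]
      simp
    have hdvd : Nat.card Y ∣ Nat.card (Subgroup.normalizer ((S : Subgroup Y) : Set Y)) := by
      rw [← hYcard, ← hfac, ← hScard]
      apply Nat.Coprime.mul_dvd_of_dvd_of_dvd
      · rw [hScard]
        exact Nat.Coprime.pow_right _ hRcop
      · exact Subgroup.card_dvd_of_le hRle
      · exact Subgroup.card_dvd_of_le hSle
    have hNtop : Subgroup.normalizer ((S : Subgroup Y) : Set Y) = ⊤ := by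
      apply Subgroup.eq_top_of_le_card
      exact Nat.le_of_dvd Nat.card_pos hdvd
    haveI hSn : (S : Subgroup Y).Normal := Subgroup.normalizer_eq_top_iff.mp hNtop
    haveI hSc : (S : Subgroup Y).Characteristic := Sylow.characteristic_of_normal S hSn
    refine ⟨(S : Subgroup Y).map Y.subtype, ConjAct.normal_of_characteristic_of_normal,
      S.isPGroup'.map Y.subtype, ?_⟩
    rw [Subgroup.index_map_subtype]
    intro hdvd'
    rcases (Nat.Prime.dvd_mul hp).mp hdvd' with h | h
    · exact S.not_dvd_index h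
    · rw [hYidx] at h; exact hPidx h

/-- **Itô–Michler for `p`-solvable groups**: if all irreducible characters of the `p`-solvable
group `X` have `p'`-degree, then the `p`-subgroups of `X` are abelian (and `X` has a normal
Sylow `p`-subgroup) -/
theorem pSubgroup_comm_of_pPrime_degrees {X : Type u} [Group X] [Finite X] (p : ℕ)
    [hpf : Fact p.Prime] (hsol : IsPSolvable p X)
    (hdeg : ∀ χ : IrrCharacter X, ¬ p ∣ charDegree (χ : X → ℂ))
    (P : Subgroup X) (hP : IsPGroup p P) : ∀ a ∈ P, ∀ b ∈ P, a * b = b * a := by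
  classical
  have hp : p.Prime := Fact.out
  haveI : Fintype X := Fintype.ofFinite X
  obtain ⟨P₀, hn, hp₀, hidx⟩ := normal_sylow_aux p _ X rfl hsol hdeg
  haveI := hn
  haveI : Fintype P₀ := Fintype.ofFinite _
  have hle : P ≤ P₀ := by
    intro x hx
    obtain ⟨k, hk⟩ := (IsPGroup.iff_orderOf.mp hP) ⟨x, hx⟩
    rw [Subgroup.orderOf_mk] at hk
    have h1 : orderOf (QuotientGroup.mk' P₀ x) ∣ p ^ k := by
      rw [← hk]
      exact orderOf_map_dvd _ x
    have h2 : orderOf (QuotientGroup.mk' P₀ x) ∣ P₀.index := by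
      rw [Subgroup.index_eq_card]
      exact orderOf_dvd_natCard _
    have hcop : (p ^ k).Coprime P₀.index :=
      Nat.Coprime.pow_left k ((Nat.Prime.coprime_iff_not_dvd hp).mpr hidx)
    have h4 : orderOf (QuotientGroup.mk' P₀ x) = 1 := Nat.eq_one_of_dvd_coprimes hcop h1 h2
    rw [orderOf_eq_one_iff] at h4
    exact (QuotientGroup.eq_one_iff x).mp h4
  obtain ⟨nq, hnq⟩ := (IsPGroup.iff_card).mp hp₀
  have hlin : ∀ θ : IrrCharacter P₀, (θ : P₀ → ℂ) 1 = 1 := by
    intro θ
    obtain ⟨χ, hχ⟩ := Cfsg.Agent.S4493.exists_over P₀ (θ : P₀ → ℂ) θ.2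
    obtain ⟨m, hm⟩ := Cfsg.Agent.S4493.degree_dvd_of_constituent P₀ (χ : X → ℂ) χ.2
      (θ : P₀ → ℂ) θ.2 hχ
    obtain ⟨D, hD, hD1⟩ := Cfsg.Agent.Lib.Helper26.irr_degree χ.2
    obtain ⟨dθ, ρ, hirr, hρ⟩ := θ.2
    have hdvd := degree_dvd_card ρ hirr
    have hfin : Module.finrank ℂ (Fin dθ → ℂ) = dθ := by simp
    rw [hfin, hnq] at hdvd
    have hθ1 : (θ : P₀ → ℂ) 1 = dθ := by rw [← hρ]; simp
    obtain ⟨j, -, hj⟩ := (Nat.dvd_prime_pow hp).mp hdvd
    have hDeq : D = m * dθ := by
      have : (D : ℂ) = ((m * dθ : ℕ) : ℂ) := by rw [← hD1, hm, hθ1]; push_cast; ring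
      exact_mod_cast this
    have hnd : ¬ p ∣ D := by
      have := hdeg χ
      rwa [charDegree_eq_of_one_eq'' hD1] at this
    have hj0 : j = 0 := by
      by_contra hj0
      apply hnd
      rw [hDeq, hj]
      exact Dvd.dvd.mul_left (dvd_pow_self p hj0) m
    rw [hθ1, hj, hj0, pow_zero]; simp
  have hab := Cfsg.Agent.S4493.comm_of_all_linear hlin
  intro a ha b hb
  have := hab ⟨a, hle ha⟩ ⟨b, hle hb⟩
  exact congrArg Subtype.val this

end Cfsg.Agent.Lib.Helper4
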