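import Mathlib
import Cfsg.Prelude.Def_Characters
import Cfsg.Prelude.Def_Local
import Cfsg.Agent.Lib.Helper4.CliffordGen
import Cfsg.Agent.Lib.Helper4.Monomial
import Cfsg.Agent.Lib.Helper4.ItoPSolv
import Cfsg.Agent.Lib.Helper7.ExtDet
import Cfsg.Agent.S0857
import Cfsg.Agent.S4798
import Cfsg.Agent.Lib.Helper2.Cores
import Cfsg.Agent.Lib.Helper2.CharConj
import Cfsg.Agent.Lib.Helper26.LinCharOrtho

/-!
# A relative Itô theorem for `p`-solvable groups (helper4)

`N` a normal `p`-subgroup of the `p`-solvable group `G`.  If every irreducible character of `G`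
that is nontrivial on `N` has `p'`-degree, then `P/N` is abelian for every `p`-subgroup `P`.
-/

set_option autoImplicit false

namespace Cfsg.Agent.Lib.Helper4
open Cfsg Cfsg.Agent.Lib.Helper26 Cfsg.Agent.Lib.Helper2 Cfsg.Agent.Lib.Helper7
open scoped ComplexConjugate Classical

universe u

section L1

variable {G : Type*} [Group G] [Fintype G]

/-- an irreducible character of degree one is a homomorphism -/
theorem exists_hom_of_irr_degree_one {ν : G → ℂ} (hν : IsIrrCharacter G ν) (h1 : ν 1 = 1) :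
    ∃ μ : G →* ℂˣ, ν = linFun μ := by
  obtain ⟨n, ρ, hρ, rfl⟩ := hν
  have hn : Module.finrank ℂ (Fin n → ℂ) = 1 := by
    have : (ρ.character 1 : ℂ) = (Module.finrank ℂ (Fin n → ℂ) : ℂ) := Representation.char_one ρ
    rw [h1] at this
    exact_mod_cast this.symm
  obtain ⟨μ, hμ⟩ := exists_hom_of_finrank_eq_one ρ hn
  refine ⟨μ, ?_⟩
  funext g
  rw [linFun_apply, hμ g]

/-- a character of `p'`-degree has a linear constituent on every `p`-subgroup -/
theorem exists_linear_constituent {p : ℕ} [Fact p.Prime] {χ : G → ℂ} (hχ : IsCharacter G χ)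
    (d : ℕ) (hd : χ 1 = d) (hpd : ¬ p ∣ d) (P : Subgroup G) (hP : IsPGroup p P) :
    ∃ μ : P →* ℂˣ, classInner (fun x : P => χ x) (linFun μ) ≠ 0 := by
  have hp : p.Prime := Fact.out
  have : Fintype (IrrCharacter P) := Fintype.ofFinite _
  have hres : IsCharacter P (fun x : P => χ x) := isCharacter_restrict P hχ
  obtain ⟨c, hc, hdec⟩ := Cfsg.Agent.S4798.char_decomp (fun x : P => χ x) hres
  by_contra hcon
  push Not at hcon
  apply hpd
  have hdeg : ∀ ν : IrrCharacter P, ∃ e : ℕ, (ν : P → ℂ) 1 = e ∧ e ∣ Nat.card P := by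
    intro ν
    obtain ⟨e, _, he⟩ := irr_degree ν.2
    exact ⟨e, he, irr_degree_dvd_card ν.2 e he⟩
  choose e he hedvd using hdeg
  have h1 := hdec 1
  simp only [OneMemClass.coe_one] at h1
  have h2 : (d : ℂ) = ((∑ ν : IrrCharacter P, c ν * e ν : ℕ) : ℂ) := by
    rw [← hd, h1]
    push_cast
    exact Finset.sum_congr rfl fun ν _ => by rw [he ν]
  have h3 : d = ∑ ν : IrrCharacter P, c ν * e ν := by exact_mod_cast h2
  rw [h3]
  apply Finset.dvd_sum
  intro ν _
  by_cases hν1 : e ν = 1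
  · obtain ⟨μ, hμ⟩ := exists_hom_of_irr_degree_one ν.2 (by rw [he ν, hν1]; simp)
    have := hcon μ
    rw [← hμ, hc ν] at this
    have hc0 : c ν = 0 := by exact_mod_cast this
    rw [hc0, zero_mul]
    exact dvd_zero p
  · obtain ⟨k, hk⟩ := (IsPGroup.iff_card.mp hP)
    have h4 : e ν ∣ p ^ k := hk ▸ hedvd ν
    obtain ⟨j, _, hj⟩ := (Nat.dvd_prime_pow hp).mp h4
    rcases j with _ | j
    · exact absurd (by rw [hj, pow_zero]) hν1
    · rw [hj, pow_succ]
      exact Dvd.dvd.mul_left (Dvd.intro_left _ rfl) _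

end L1

section B1

variable {G : Type*} [Group G] [Fintype G]

/-- a nontrivial subgroup is not in the kernel of all irreducible characters -/
theorem exists_irr_nontrivial_on (N : Subgroup G) (hN : N ≠ ⊥) :
    ∃ χ : IrrCharacter G, ∃ n ∈ N, (χ : G → ℂ) n ≠ (χ : G → ℂ) 1 := by
  classical
  have : Fintype (IrrCharacter G) := Fintype.ofFinite _
  obtain ⟨n₀, hne⟩ := (Subgroup.ne_bot_iff_exists_ne_one).mp hN
  have hn₀' : (n₀ : G) ≠ 1 := fun h => hne (Subtype.ext h)
  by_contra hcon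
  push Not at hcon
  have h1 := column_orthogonality (n₀ : G) 1
  rw [if_neg (by rw [isConj_one_left]; exact hn₀')] at h1
  have h2 : ∀ χ : IrrCharacter G, (χ : G → ℂ) (n₀ : G) * conj ((χ : G → ℂ) 1) =
      (χ : G → ℂ) 1 ^ 2 := by
    intro χ
    rw [hcon χ (n₀ : G) n₀.2]
    obtain ⟨d, _, hd⟩ := irr_degree χ.2
    rw [hd, Complex.conj_natCast, sq]
  rw [Finset.sum_congr rfl fun χ _ => h2 χ, sum_sq_degree] at h1
  have : (Nat.card G : ℂ) ≠ 0 := by
    have : Nat.card G ≠ 0 := Nat.card_pos.ne'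
    exact_mod_cast this
  exact this h1

variable (N : Subgroup G) [hN : N.Normal]

/-- a linear constituent of the restriction to `P ≥ N` of an irreducible character that is
nontrivial on the normal subgroup `N` is nontrivial on `N` -/
theorem restrict_ne_one_of_constituent {χ : G → ℂ} (hχ : IsIrrCharacter G χ) (n₀ : N)
    (hn₀ : χ n₀ ≠ χ 1) (P : Subgroup G) (hNP : N ≤ P) (μ : P →* ℂˣ)
    (hμ : classInner (fun x : P => χ x) (linFun μ) ≠ 0) :
    ∃ n : N, μ ⟨(n : G), hNP n.2⟩ ≠ 1 := by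
  classical
  by_contra hcon
  push Not at hcon
  have h1irr : IsIrrCharacter N (linFun (1 : N →* ℂˣ)) := isIrr_of_hom' 1
  have hres : IsCharacter P (fun x : P => χ x) :=
    isCharacter_restrict P (isCharacter_of_isIrrCharacter hχ)
  have h2 : classInner (fun k : N => (linFun μ) ⟨(k : G), hNP k.2⟩) (linFun (1 : N →* ℂˣ)) ≠ 0 := by
    have : (fun k : N => (linFun μ) ⟨(k : G), hNP k.2⟩) = linFun (1 : N →* ℂˣ) := by
      funext k
      rw [linFun_apply, hcon k, linFun_apply]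
      simp
    rw [this, classInner_linFun, if_pos rfl]
    exact one_ne_zero
  have h3 := classInner_restrict_ne_zero_of_constituent hNP hres (isIrr_of_hom' μ) hμ
    (isCharacter_of_isIrrCharacter h1irr) h2
  have h4 : classInner (χ ∘ N.subtype) (linFun (1 : N →* ℂˣ)) ≠ 0 := h3
  have h5 := clifford_restrict N hχ h1irr h4
  have h6 : Finset.univ.image (conjFunN N (linFun (1 : N →* ℂˣ))) =
      {linFun (1 : N →* ℂˣ)} := by
    ext ψ
    rw [Finset.mem_image, Finset.mem_singleton]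
    constructor
    · rintro ⟨g, _, rfl⟩
      funext n
      simp [conjFunN, linFun_apply]
    · rintro rfl
      refine ⟨1, Finset.mem_univ _, ?_⟩
      funext n
      simp [conjFunN, linFun_apply]
  rw [h6, Finset.sum_singleton] at h5
  apply hn₀
  have h7 := congrFun h5 n₀
  have h8 := congrFun h5 1
  simp only [Function.comp_apply, Subgroup.coe_subtype, Pi.smul_apply, linFun_apply,
    MonoidHom.one_apply, Units.val_one, smul_eq_mul, mul_one, OneMemClass.coe_one] at h7 h8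
  rw [h7, h8]

end B1

section TransferExt
open Subgroup MonoidHom

/-- an invariant linear character of a normal `p`-subgroup `N` which extends to a subgroup `P ≥ N`
of index prime to `p` extends to the whole group -/
theorem lin_ext_of_sylow {T : Type*} [Group T] [Finite T] {p : ℕ} [Fact p.Prime]
    (N P : Subgroup T) [hN : N.Normal] (hNP : N ≤ P) (hNp : IsPGroup p N)
    (hidx : ¬ p ∣ P.index) (μ : P →* ℂˣ)
    (hinv : ∀ (t : T) (n : N), μ ⟨t * n * t⁻¹, hNP (hN.conj_mem (n : T) n.2 t)⟩ =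
      μ ⟨(n : T), hNP n.2⟩) :
    ∃ ν : T →* ℂˣ, ∀ n : N, ν (n : T) = μ ⟨(n : T), hNP n.2⟩ := by
  classical
  have hp : p.Prime := Fact.out
  let lam : N →* ℂˣ := μ.comp (Subgroup.inclusion hNP)
  have hlam : ∀ n : N, lam n = μ ⟨(n : T), hNP n.2⟩ := fun n => rfl
  -- the transfer of `μ` restricts to `lam ^ index`
  have htr : ∀ n : N, MonoidHom.transfer μ (n : T) = lam n ^ P.index := by
    intro n
    let _ := P.fintypeQuotientOfFiniteIndex
    let S : P.LeftTransversal := default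
    rw [MonoidHom.transfer_def μ S (n : T)]
    unfold Subgroup.leftTransversals.diff
    simp only []
    have hfix : ∀ q : T ⧸ P, ((n : T)⁻¹ • q) = q := by
      intro q
      induction q using QuotientGroup.induction_on with
      | H g =>
        show ((((n : T)⁻¹ * g : T)) : T ⧸ P) = (g : T ⧸ P)
        rw [QuotientGroup.eq]
        have : ((n : T)⁻¹ * g)⁻¹ * g = g⁻¹ * n * g⁻¹⁻¹ := by group
        rw [this]
        exact hNP (hN.conj_mem _ n.2 _)
    have hterm : ∀ q : T ⧸ P, μ ⟨((S.2.leftQuotientEquiv q : T))⁻¹ *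
        (((n : T) • S).2.leftQuotientEquiv q : T), QuotientGroup.leftRel_apply.mp <|
            Quotient.exact' ((S.2.leftQuotientEquiv.symm_apply_apply q).trans
              ((((n : T) • S).2.leftQuotientEquiv).symm_apply_apply q).symm)⟩ = lam n := by
      intro q
      rw [hlam n, ← hinv ((S.2.leftQuotientEquiv q : T))⁻¹ n]
      congr 1
      apply Subtype.ext
      simp only
      rw [Subgroup.smul_apply_eq_smul_apply_inv_smul, hfix q, inv_inv, smul_eq_mul, mul_assoc]
    rw [Finset.prod_congr rfl (fun q _ => hterm q), Finset.prod_const, Finset.card_univ]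
    congr 1
    rw [Subgroup.index_eq_card, Nat.card_eq_fintype_card]
  -- the order of `lam` is a power of `p`
  have hord : orderOf lam ∣ Nat.card N := by
    apply orderOf_dvd_of_pow_eq_one
    apply MonoidHom.ext
    intro n
    show (lam n) ^ Nat.card N = 1
    rw [← map_pow, pow_card_eq_one', map_one]
  obtain ⟨k, hk⟩ := IsPGroup.iff_card.mp hNp
  have hcop : Nat.Coprime P.index (orderOf lam) := by
    apply Nat.Coprime.coprime_dvd_right hord
    rw [hk]
    apply Nat.Coprime.pow_right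
    exact ((Nat.Prime.coprime_iff_not_dvd hp).mpr hidx).symm
  obtain ⟨m, hm⟩ := exists_pow_eq_self_of_coprime hcop
  refine ⟨(MonoidHom.transfer μ) ^ m, fun n => ?_⟩
  show (MonoidHom.transfer μ (n : T)) ^ m = μ ⟨(n : T), hNP n.2⟩
  rw [htr n, ← hlam n]
  exact DFunLike.congr_fun hm n

end TransferExt

section PSolvSub
open Cfsg.Agent.Lib.Helper3

/-- subgroups of `p`-solvable groups are `p`-solvable (local copy) -/
theorem isPSolvable_subgroup_h4 {p : ℕ} (hp : p.Prime) {G : Type*} [Group G]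
    (hsol : Cfsg.IsPSolvable p G) (L : Subgroup G) : Cfsg.IsPSolvable p L := by
  obtain ⟨n, H, h0, hlast, hmono, hnorm, hstep⟩ := hsol
  refine ⟨n, fun i => (H i).subgroupOf L, ?_, ?_, ?_, ?_, ?_⟩
  · simp only [h0, Subgroup.bot_subgroupOf]
  · simp only [hlast, Subgroup.top_subgroupOf]
  · intro i j hij
    exact Subgroup.subgroupOf_mono L (hmono hij)
  · intro i
    exact (hnorm i).subgroupOf L
  · intro i
    have hle : H i.castSucc ≤ H i.succ := hmono (Fin.castSucc_le_succ i)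
    have h1 : ((H i.castSucc).subgroupOf L).relIndex ((H i.succ).subgroupOf L)
        = (H i.castSucc ⊓ L).relIndex (H i.succ ⊓ L) := by
      rw [← Subgroup.inf_subgroupOf_right (H i.succ) L,
        Subgroup.relIndex_subgroupOf inf_le_right]
      have h2 : H i.castSucc ⊓ L = H i.castSucc ⊓ (H i.succ ⊓ L) := by
        rw [← inf_assoc, inf_eq_left.mpr hle]
      rw [h2, Subgroup.inf_relIndex_right]
    have hd : ((H i.castSucc).subgroupOf L).relIndex ((H i.succ).subgroupOf L) ∣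
        (H i.castSucc).relIndex (H i.succ) := by
      rw [h1]; exact inf_relIndex_inf_dvd (hnorm _) hle
    have : IsPOrP' p ((H i.castSucc).relIndex (H i.succ)) := by
      rcases hstep i with ⟨m, hm⟩ | h
      · exact Or.inl ⟨m, hm⟩
      · exact Or.inr h
    rcases this.of_dvd hp hd with ⟨m, hm⟩ | h
    · exact Or.inl ⟨m, hm⟩
    · exact Or.inr h

end PSolvSub

section CaseB

variable {G : Type u} [Group G] [Fintype G]

/-- **relative Itô theorem** (`p`-solvable case, `N` a normal `p`-subgroup): if all irreducible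
characters of `G` nontrivial on `N` have `p'`-degree, then `P/N` is abelian -/
theorem comm_mem_of_pPrime_over {p : ℕ} [hpf : Fact p.Prime] (hsol : IsPSolvable p G)
    (N : Subgroup G) [hN : N.Normal] (hNp : IsPGroup p N) (hNne : N ≠ ⊥)
    (hdeg : ∀ χ : IrrCharacter G, (∃ n ∈ N, (χ : G → ℂ) n ≠ (χ : G → ℂ) 1) →
      ¬ p ∣ charDegree (χ : G → ℂ))
    (P : Sylow p G) :
    ∀ a ∈ (P : Subgroup G), ∀ b ∈ (P : Subgroup G), a * b * a⁻¹ * b⁻¹ ∈ N := by
  have hp : p.Prime := Fact.out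
  have hNP : N ≤ (P : Subgroup G) := (le_pCore hN hNp).trans (pCore_le_sylow p P)
  -- a linear character of `P` nontrivial on `N`
  obtain ⟨χ₀, n₀, hn₀N, hne₀⟩ := exists_irr_nontrivial_on N hNne
  have hpd₀ := hdeg χ₀ ⟨n₀, hn₀N, hne₀⟩
  obtain ⟨d₀, _, hd₀⟩ := irr_degree χ₀.2
  rw [charDegree_eq_of_one_eq'' hd₀] at hpd₀
  obtain ⟨μ, hμ⟩ := exists_linear_constituent (isCharacter_of_isIrrCharacter χ₀.2) d₀ hd₀ hpd₀
    (P : Subgroup G) P.2
  obtain ⟨n₁, hn₁⟩ := restrict_ne_one_of_constituent N χ₀.2 ⟨n₀, hn₀N⟩ hne₀ (P : Subgroup G)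
    hNP μ hμ
  obtain ⟨lam, hlamdef⟩ : ∃ lam : N →* ℂˣ, lam = μ.comp (Subgroup.inclusion hNP) := ⟨_, rfl⟩
  have hlam : ∀ n : N, lam n = μ ⟨(n : G), hNP n.2⟩ := fun n => by rw [hlamdef]; rfl
  have hlam1 : lam ≠ 1 := by
    intro h
    apply hn₁
    rw [← hlam n₁, h]
    rfl
  have hϑ : IsIrrCharacter N (linFun lam) := isIrr_of_hom' lam
  obtain ⟨T, hTdef⟩ : ∃ T : Subgroup G, T = inertiaSub N (linFun lam) := ⟨_, rfl⟩
  have hTmem : ∀ g : G, g ∈ T ↔ ∀ n : N, lam ⟨g * n * g⁻¹, hN.conj_mem (n : G) n.2 g⟩ = lam n := by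
    intro g
    rw [hTdef, mem_inertiaSub]
    constructor
    · intro h n
      apply Units.ext
      exact h n
    · intro h n
      rw [linFun_apply, linFun_apply, h n]
  have hPT : (P : Subgroup G) ≤ T := by
    intro g hg
    rw [hTmem]
    intro n
    rw [hlam, hlam]
    have : (⟨g * n * g⁻¹, hNP (hN.conj_mem (n : G) n.2 g)⟩ : (P : Subgroup G)) =
        ⟨g, hg⟩ * ⟨(n : G), hNP n.2⟩ * ⟨g, hg⟩⁻¹ := rfl
    rw [this, map_mul, map_mul, map_inv, mul_comm, ← mul_assoc, inv_mul_cancel, one_mul]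
  have hNT : N ≤ T := hNP.trans hPT
  -- the subgroups of `T`
  obtain ⟨N', hN'def⟩ : ∃ N' : Subgroup T, N' = N.subgroupOf T := ⟨_, rfl⟩
  obtain ⟨P', hP'def⟩ : ∃ P' : Subgroup T, P' = (P : Subgroup G).subgroupOf T := ⟨_, rfl⟩
  haveI hN'n : N'.Normal := by rw [hN'def]; exact Subgroup.normal_subgroupOf
  have hN'mem : ∀ t : T, t ∈ N' ↔ (t : G) ∈ N := by
    intro t
    rw [hN'def, Subgroup.mem_subgroupOf]
  have hP'mem : ∀ t : T, t ∈ P' ↔ (t : G) ∈ (P : Subgroup G) := by
    intro t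
    rw [hP'def, Subgroup.mem_subgroupOf]
  have hN'P' : N' ≤ P' := by
    intro t ht
    rw [hP'mem]
    exact hNP ((hN'mem t).mp ht)
  have hN'p : IsPGroup p N' := by
    rw [hN'def]
    exact hNp.comap_subtype
  have hidx : ¬ p ∣ P'.index := by
    intro hdvd
    have h1 : P'.index ∣ (P : Subgroup G).index := by
      rw [hP'def]
      exact Dvd.intro _ (Subgroup.relIndex_mul_index hPT)
    exact Sylow.not_dvd_index P (hdvd.trans h1)
  obtain ⟨μ', hμ'def⟩ : ∃ μ' : P' →* ℂˣ,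
      ∀ x : P', μ' x = μ ⟨((x : T) : G), (hP'mem x).mp x.2⟩ := by
    refine ⟨μ.comp ⟨⟨fun x => ⟨((x : T) : G), (hP'mem x).mp x.2⟩, rfl⟩, fun _ _ => rfl⟩, fun x => rfl⟩
  have hinv : ∀ (t : T) (n : N'), μ' ⟨t * n * t⁻¹, hN'P' (hN'n.conj_mem (n : T) n.2 t)⟩ =
      μ' ⟨(n : T), hN'P' n.2⟩ := by
    intro t n
    rw [hμ'def, hμ'def]
    have h1 := (hTmem (t : G)).mp t.2 ⟨((n : T) : G), (hN'mem n).mp n.2⟩
    rw [hlam, hlam] at h1
    exact h1
  obtain ⟨ν, hν⟩ := lin_ext_of_sylow N' P' hN'P' hN'p hidx μ' hinv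
  have hνN : ∀ n : N, ν ⟨(n : G), hNT n.2⟩ = lam n := by
    intro n
    have h1 := hν ⟨⟨(n : G), hNT n.2⟩, (hN'mem _).mpr n.2⟩
    rw [hμ'def] at h1
    rw [hlam]
    exact h1
  -- all irreducible characters of `T ⧸ N'` have `p'`-degree
  have hπ : Function.Surjective (QuotientGroup.mk' N') := QuotientGroup.mk'_surjective _
  have hdegQ : ∀ θ : IrrCharacter (T ⧸ N'), ¬ p ∣ charDegree (θ : T ⧸ N' → ℂ) := by
    intro θ
    obtain ⟨dθ, hdθ0, hdθ⟩ := irr_degree θ.2
    rw [charDegree_eq_of_one_eq'' hdθ]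
    have hinfl : IsIrrCharacter T ((θ : T ⧸ N' → ℂ) ∘ (QuotientGroup.mk' N')) :=
      isIrrCharacter_comp_of_surjective θ.2 (QuotientGroup.mk' N') hπ
    obtain ⟨ψ, hψdef⟩ : ∃ ψ : T → ℂ, ψ = fun t => ((ν t : ℂˣ) : ℂ) *
        ((θ : T ⧸ N' → ℂ) ∘ (QuotientGroup.mk' N')) t := ⟨_, rfl⟩
    have hψ : IsIrrCharacter T ψ := by
      rw [hψdef]
      exact Cfsg.Agent.S0857.isIrr_twist ν _ hinfl
    have hψN : (fun n : N => ψ ⟨(n : G), hNT n.2⟩) = (dθ : ℂ) • linFun lam := by
      funext n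
      rw [hψdef]
      simp only [Function.comp_apply, Pi.smul_apply, smul_eq_mul, linFun_apply]
      rw [hνN n]
      have h1 : QuotientGroup.mk' N' ⟨(n : G), hNT n.2⟩ = 1 := by
        rw [QuotientGroup.mk'_apply, QuotientGroup.eq_one_iff, hN'mem]
        exact n.2
      rw [h1, hdθ, mul_comm]
    have hcon : classInner (fun n : N => ψ ⟨(n : G), hNT n.2⟩) (linFun lam) ≠ 0 := by
      rw [hψN, classInner_smul_left, classInner_linFun, if_pos rfl, mul_one]
      exact_mod_cast hdθ0.ne'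
    have hψ1 : ψ 1 = dθ := by
      rw [hψdef]
      simp only [Function.comp_apply, map_one, Units.val_one, one_mul]
      exact hdθ
    have hΨ : IsCharacter G (indFun T ψ) := isCharacter_indFun T (isCharacter_of_isIrrCharacter hψ)
    have hΨ1 : indFun T ψ 1 = ((T.index * dθ : ℕ) : ℂ) := by
      have hcK : (Nat.card ↥T : ℂ) ≠ 0 := by
        have : Nat.card ↥T ≠ 0 := Nat.card_pos.ne'
        exact_mod_cast this
      rw [indFun_one, ← Nat.card_eq_fintype_card, ← Subgroup.card_mul_index T, hψ1]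
      push_cast
      field_simp
    have hTidx : T.index ≠ 0 := Subgroup.index_ne_zero_of_finite
    have hΨne : indFun T ψ 1 ≠ 0 := by
      rw [hΨ1]
      have : T.index * dθ ≠ 0 := Nat.mul_ne_zero hTidx hdθ0.ne'
      exact_mod_cast this
    obtain ⟨χ, hχ⟩ := exists_constituent hΨ hΨne
    obtain ⟨hχeq, hχN⟩ := clifford_corr_general N hNT (linFun lam) hϑ (by rw [hTdef]) ψ hψ hcon
      (χ : G → ℂ) χ.2 hχ
    -- `χ` is nontrivial on `N`
    have hχnt : ∃ n ∈ N, (χ : G → ℂ) n ≠ (χ : G → ℂ) 1 := by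
      by_contra hall
      push Not at hall
      apply hχN
      have : (fun n : N => (χ : G → ℂ) n) = ((χ : G → ℂ) 1) • linFun (1 : N →* ℂˣ) := by
        funext n
        rw [hall (n : G) n.2]
        simp [linFun_apply]
      rw [this, classInner_smul_left, classInner_linFun, if_neg (Ne.symm hlam1), mul_zero]
    have hpχ := hdeg χ hχnt
    have hχ1 : (χ : G → ℂ) 1 = ((T.index * dθ : ℕ) : ℂ) := by rw [hχeq, hΨ1]
    rw [charDegree_eq_of_one_eq'' hχ1] at hpχ
    exact fun h => hpχ (Dvd.dvd.mul_left h _)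
  -- Itô's theorem for `T ⧸ N'`
  have hsolQ : IsPSolvable p (T ⧸ N') :=
    Cfsg.Agent.Lib.Helper3.isPSolvable_quotient hp (isPSolvable_subgroup_h4 hp hsol T) N'
  have hP'p : IsPGroup p P' := by
    rw [hP'def]
    exact P.2.comap_subtype
  have hcomm := pSubgroup_comm_of_pPrime_degrees p hsolQ hdegQ (P'.map (QuotientGroup.mk' N'))
    (hP'p.map _)
  intro a ha b hb
  have ha' : (⟨a, hPT ha⟩ : T) ∈ P' := (hP'mem _).mpr ha
  have hb' : (⟨b, hPT hb⟩ : T) ∈ P' := (hP'mem _).mpr hb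
  have h1 := hcomm _ (Subgroup.mem_map_of_mem _ ha') _ (Subgroup.mem_map_of_mem _ hb')
  have h2 : QuotientGroup.mk' N' ((⟨a, hPT ha⟩ : T) * ⟨b, hPT hb⟩ * (⟨a, hPT ha⟩ : T)⁻¹ *
      (⟨b, hPT hb⟩ : T)⁻¹) = 1 := by
    rw [map_mul, map_mul, map_mul, map_inv, map_inv, h1]
    group
  rw [QuotientGroup.mk'_apply, QuotientGroup.eq_one_iff, hN'mem] at h2
  exact h2

end CaseB

end Cfsg.Agent.Lib.Helper4
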