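import Mathlib
import Cfsg.Prelude.Def_Characters
import Cfsg.Prelude.Def_Local
import Cfsg.Agent.Lib.Helper4.RelIto

/-!
# Derived length of `p`-subgroups of `p`-solvable groups and characters of degree divisible
by `p` (helper4)

`dl(P) ≤ 1 + #{χ ∈ Irr(G) : p ∣ χ(1)}` for `p`-solvable `G`.
-/

set_option autoImplicit false

namespace Cfsg.Agent.Lib.Helper4
open Cfsg Cfsg.Agent.Lib.Helper26 Cfsg.Agent.Lib.Helper2 Cfsg.Agent.Lib.Helper7
open scoped ComplexConjugate Classical

universe u

section Count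

variable {X : Type u} [Group X] [Finite X]

/-- the number of irreducible characters of degree divisible by `p` -/
noncomputable def kp (p : ℕ) (X : Type u) [Group X] : ℕ :=
  Nat.card {χ : IrrCharacter X // p ∣ charDegree (χ : X → ℂ)}

/-- inflation of characters of degree divisible by `p` -/
noncomputable def inflP (p : ℕ) (N : Subgroup X) [N.Normal] :
    {θ : IrrCharacter (X ⧸ N) // p ∣ charDegree (θ : X ⧸ N → ℂ)} →
      {χ : IrrCharacter X // p ∣ charDegree (χ : X → ℂ)} :=
  fun θ => ⟨⟨(θ.1 : X ⧸ N → ℂ) ∘ (QuotientGroup.mk' N),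
    isIrrCharacter_comp_of_surjective θ.1.2 (QuotientGroup.mk' N) (QuotientGroup.mk'_surjective N)⟩,
    by
      have h := θ.2
      have h2 : charDegree ((θ.1 : X ⧸ N → ℂ) ∘ (QuotientGroup.mk' N)) =
          charDegree (θ.1 : X ⧸ N → ℂ) := by
        unfold charDegree
        simp
      show p ∣ charDegree ((θ.1 : X ⧸ N → ℂ) ∘ (QuotientGroup.mk' N))
      rw [h2]
      exact h⟩

theorem inflP_injective (p : ℕ) (N : Subgroup X) [N.Normal] : Function.Injective (inflP p N) := by
  intro θ θ' h
  apply Subtype.ext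
  apply Subtype.ext
  funext q
  obtain ⟨x, rfl⟩ := QuotientGroup.mk'_surjective N q
  have h1 := congrArg (fun z => (z.1 : X → ℂ) x) h
  exact h1

theorem kp_quotient_le (p : ℕ) (N : Subgroup X) [N.Normal] : kp p (X ⧸ N) ≤ kp p X := by
  unfold kp
  haveI : Fintype X := Fintype.ofFinite X
  exact Nat.card_le_card_of_injective _ (inflP_injective p N)

theorem kp_quotient_lt (p : ℕ) (N : Subgroup X) [N.Normal] (χ₁ : IrrCharacter X)
    (h1 : p ∣ charDegree (χ₁ : X → ℂ)) (n : X) (hn : n ∈ N)
    (hne : (χ₁ : X → ℂ) n ≠ (χ₁ : X → ℂ) 1) : kp p (X ⧸ N) < kp p X := by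
  unfold kp
  haveI : Fintype X := Fintype.ofFinite X
  have : Fintype {θ : IrrCharacter (X ⧸ N) // p ∣ charDegree (θ : X ⧸ N → ℂ)} :=
    Fintype.ofFinite _
  have : Fintype {χ : IrrCharacter X // p ∣ charDegree (χ : X → ℂ)} := Fintype.ofFinite _
  rw [Nat.card_eq_fintype_card, Nat.card_eq_fintype_card]
  apply Fintype.card_lt_of_injective_of_notMem (inflP p N) (inflP_injective p N)
    (b := ⟨χ₁, h1⟩)
  rintro ⟨θ, hθ⟩
  apply hne
  have h2 := congrArg (fun z => (z.1 : X → ℂ)) hθ
  simp only at h2
  rw [← h2]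
  show (θ.1 : X ⧸ N → ℂ) (QuotientGroup.mk' N n) = (θ.1 : X ⧸ N → ℂ) (QuotientGroup.mk' N 1)
  have : QuotientGroup.mk' N n = QuotientGroup.mk' N 1 := by
    rw [map_one]
    exact (QuotientGroup.eq_one_iff n).mpr hn
  rw [this]

end Count

section Derived

variable {X : Type u} [Group X]

theorem derivedSeries_eq_bot_of_le {Y : Type*} [Group Y] {k m : ℕ}
    (h : derivedSeries Y k = ⊥) (hkm : k ≤ m) : derivedSeries Y m = ⊥ :=
  le_bot_iff.mp (h ▸ derivedSeries_antitone Y hkm)

/-- if the image of `P` in `X ⧸ N` has derived length `≤ m`, the `m`-th derived subgroup of `P`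
lies in `N` -/
theorem mem_of_derivedSeries_map (N : Subgroup X) [N.Normal] (P : Subgroup X) (m : ℕ)
    (h : derivedSeries ↥(P.map (QuotientGroup.mk' N)) m = ⊥) :
    ∀ x ∈ derivedSeries ↥P m, ((x : ↥P) : X) ∈ N := by
  intro x hx
  let f : ↥P →* ↥(P.map (QuotientGroup.mk' N)) := (QuotientGroup.mk' N).subgroupMap P
  have hf : Function.Surjective f := (QuotientGroup.mk' N).subgroupMap_surjective P
  have h1 := map_derivedSeries_eq hf m
  rw [h] at h1
  have h2 : f x = 1 := by
    have : f x ∈ (derivedSeries ↥P m).map f := Subgroup.mem_map_of_mem f hx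
    rw [h1] at this
    exact Subgroup.mem_bot.mp this
  have h3 : ((f x : ↥(P.map (QuotientGroup.mk' N))) : X ⧸ N) = 1 := by rw [h2]; rfl
  have h4 : ((f x : ↥(P.map (QuotientGroup.mk' N))) : X ⧸ N) = QuotientGroup.mk' N (x : X) := rfl
  rw [h4, QuotientGroup.mk'_apply, QuotientGroup.eq_one_iff] at h3
  exact h3

/-- if the `m`-th derived subgroup of `P` lies in an abelian subgroup, the next one is trivial -/
theorem derivedSeries_succ_eq_bot (N : Subgroup X) (hNab : ∀ a ∈ N, ∀ b ∈ N, a * b = b * a)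
    (P : Subgroup X) (m : ℕ) (h : ∀ x ∈ derivedSeries ↥P m, ((x : ↥P) : X) ∈ N) :
    derivedSeries ↥P (m + 1) = ⊥ := by
  rw [derivedSeries_succ, Subgroup.commutator_eq_bot_iff_le_centralizer]
  intro x hx
  rw [Subgroup.mem_centralizer_iff]
  intro y hy
  apply Subtype.ext
  have := hNab _ (h y hy) _ (h x hx)
  exact this

end Derived

section Main

theorem derivedSeries_pSubgroup_aux (p : ℕ) [hpf : Fact p.Prime] :
    ∀ (n : ℕ) (X : Type u) [Group X] [Finite X], Nat.card X = n → IsPSolvable p X →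
    ∀ P : Subgroup X, IsPGroup p P → derivedSeries ↥P (kp p X + 1) = ⊥ := by
  have hp : p.Prime := Fact.out
  intro n
  induction n using Nat.strong_induction_on with
  | _ n ih =>
  intro X _ _ hcard hsol P hP
  haveI : Fintype X := Fintype.ofFinite X
  by_cases hk : kp p X = 0
  · -- all degrees are prime to `p`: `P` is abelian
    have hdeg : ∀ χ : IrrCharacter X, ¬ p ∣ charDegree (χ : X → ℂ) := by
      intro χ hχ
      unfold kp at hk
      rcases Nat.card_eq_zero.mp hk with h | h
      · exact h.false ⟨χ, hχ⟩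
      · exact h.false
    have hab := pSubgroup_comm_of_pPrime_degrees p hsol hdeg P hP
    rw [hk, zero_add, derivedSeries_succ, Subgroup.commutator_eq_bot_iff_le_centralizer]
    intro x _
    rw [Subgroup.mem_centralizer_iff]
    intro y _
    apply Subtype.ext
    exact hab _ y.2 _ x.2
  have hk1 : 1 ≤ kp p X := Nat.one_le_iff_ne_zero.mpr hk
  by_cases hO : pPrimeCore p X = ⊥
  · -- `O_{p'}(X) = 1`
    by_cases htriv : pCore p X = ⊥
    · -- then `X` is trivial
      have h1 := Cfsg.Agent.Lib.Helper3.centralizer_pCore_le hsol hO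
      rw [htriv] at h1
      have h2 : ∀ x : X, x = 1 := by
        intro x
        have : x ∈ Subgroup.centralizer ((⊥ : Subgroup X) : Set X) := by
          rw [Subgroup.mem_centralizer_iff]
          intro y hy
          have : y = 1 := Subgroup.mem_bot.mp hy
          rw [this, one_mul, mul_one]
        exact Subgroup.mem_bot.mp (h1 this)
      rw [eq_bot_iff]
      intro x _
      rw [Subgroup.mem_bot]
      apply Subtype.ext
      exact h2 _
    · -- `N = Z(O_p(X))`
      obtain ⟨Q, hQdef⟩ : ∃ Q : Subgroup X, Q = pCore p X := ⟨_, rfl⟩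
      haveI hQn : Q.Normal := by rw [hQdef]; exact Cfsg.Agent.Lib.Helper2.pCore_normal p
      have hQp : IsPGroup p Q := by rw [hQdef]; exact pCore_isPGroup p
      have hQne : Q ≠ ⊥ := by rw [hQdef]; exact htriv
      obtain ⟨N, hNdef⟩ : ∃ N : Subgroup X, N = (Subgroup.center ↥Q).map Q.subtype := ⟨_, rfl⟩
      haveI hNn : N.Normal := by
        rw [hNdef]
        exact ConjAct.normal_of_characteristic_of_normal
      have hNp : IsPGroup p N := by
        rw [hNdef]
        exact (hQp.to_subgroup _).map _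
      have hNne : N ≠ ⊥ := by
        rw [hNdef]
        intro h
        rw [Subgroup.map_eq_bot_iff_of_injective _ Q.subtype_injective] at h
        haveI : Nontrivial ↥Q := (Subgroup.nontrivial_iff_ne_bot Q).mpr hQne
        have := hQp.center_nontrivial
        rw [Subgroup.nontrivial_iff_ne_bot] at this
        exact this h
      have hNab : ∀ a ∈ N, ∀ b ∈ N, a * b = b * a := by
        intro a ha b hb
        rw [hNdef] at ha hb
        obtain ⟨a', ha', rfl⟩ := Subgroup.mem_map.mp ha
        obtain ⟨b', _, rfl⟩ := Subgroup.mem_map.mp hb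
        have := (Subgroup.mem_center_iff.mp ha') b'
        have h2 := congrArg Subtype.val this
        simp only [Subgroup.coe_mul] at h2
        exact h2.symm
      have hcardlt : Nat.card (X ⧸ N) < n := by
        rw [← hcard, ← Subgroup.index_eq_card, ← Subgroup.card_mul_index N]
        have h1 : 1 < Nat.card N := (Subgroup.one_lt_card_iff_ne_bot N).mpr hNne
        have h2 : 0 < N.index := Nat.pos_of_ne_zero Subgroup.index_ne_zero_of_finite
        nlinarith
      have hsolQ : IsPSolvable p (X ⧸ N) := Cfsg.Agent.Lib.Helper3.isPSolvable_quotient hp hsol N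
      by_cases hA : ∃ χ₁ : IrrCharacter X, p ∣ charDegree (χ₁ : X → ℂ) ∧
          ∃ n ∈ N, (χ₁ : X → ℂ) n ≠ (χ₁ : X → ℂ) 1
      · -- Case A
        obtain ⟨χ₁, hχ₁, n₁, hn₁, hne₁⟩ := hA
        have hlt := kp_quotient_lt p N χ₁ hχ₁ n₁ hn₁ hne₁
        have h1 := ih _ hcardlt (X ⧸ N) rfl hsolQ (P.map (QuotientGroup.mk' N)) (hP.map _)
        have h2 : derivedSeries ↥(P.map (QuotientGroup.mk' N)) (kp p X) = ⊥ :=
          derivedSeries_eq_bot_of_le h1 (by omega)
        exact derivedSeries_succ_eq_bot N hNab P _ (mem_of_derivedSeries_map N P _ h2)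
      · -- Case B
        push Not at hA
        have hdeg : ∀ χ : IrrCharacter X, (∃ n ∈ N, (χ : X → ℂ) n ≠ (χ : X → ℂ) 1) →
            ¬ p ∣ charDegree (χ : X → ℂ) := by
          rintro χ ⟨n₀, hn₀, hne⟩ hdvd
          exact hne (hA χ hdvd n₀ hn₀)
        obtain ⟨P₂, hPP₂⟩ := hP.exists_le_sylow
        have hcomm := comm_mem_of_pPrime_over hsol N hNp hNne hdeg P₂
        have h1 : ∀ x ∈ derivedSeries ↥P 1, ((x : ↥P) : X) ∈ N := by
          have hle : derivedSeries ↥P 1 ≤ N.subgroupOf P := by
            rw [derivedSeries_succ, derivedSeries_zero, Subgroup.commutator_le]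
            intro a _ b _
            rw [Subgroup.mem_subgroupOf]
            exact hcomm _ (hPP₂ a.2) _ (hPP₂ b.2)
          intro x hx
          exact Subgroup.mem_subgroupOf.mp (hle hx)
        have h2 := derivedSeries_succ_eq_bot N hNab P 1 h1
        exact derivedSeries_eq_bot_of_le h2 (by omega)
  · -- `O_{p'}(X) ≠ 1`
    obtain ⟨R, hRdef⟩ : ∃ R : Subgroup X, R = pPrimeCore p X := ⟨_, rfl⟩
    haveI hRn : R.Normal := by rw [hRdef]; exact Cfsg.Agent.Lib.Helper2.pPrimeCore_normal p
    have hRc : (Nat.card R).Coprime p := by rw [hRdef]; exact pPrimeCore_coprime p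
    have hRne : R ≠ ⊥ := by rw [hRdef]; exact hO
    have hcardlt : Nat.card (X ⧸ R) < n := by
      rw [← hcard, ← Subgroup.index_eq_card, ← Subgroup.card_mul_index R]
      have h1 : 1 < Nat.card R := (Subgroup.one_lt_card_iff_ne_bot R).mpr hRne
      have h2 : 0 < R.index := Nat.pos_of_ne_zero Subgroup.index_ne_zero_of_finite
      nlinarith
    have hsolQ : IsPSolvable p (X ⧸ R) := Cfsg.Agent.Lib.Helper3.isPSolvable_quotient hp hsol R
    have h1 := ih _ hcardlt (X ⧸ R) rfl hsolQ (P.map (QuotientGroup.mk' R)) (hP.map _)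
    have h2 : derivedSeries ↥(P.map (QuotientGroup.mk' R)) (kp p X + 1) = ⊥ :=
      derivedSeries_eq_bot_of_le h1 (by have := kp_quotient_le p R; omega)
    have h3 := mem_of_derivedSeries_map R P _ h2
    rw [eq_bot_iff]
    intro x hx
    rw [Subgroup.mem_bot]
    have hxR := h3 x hx
    obtain ⟨k, hk⟩ := (IsPGroup.iff_orderOf.mp hP) x
    have h4 : orderOf (x : X) ∣ Nat.card R := Subgroup.orderOf_dvd_natCard _ hxR
    rw [Subgroup.orderOf_coe, hk] at h4
    have h5 : (p ^ k).Coprime p := Nat.Coprime.coprime_dvd_left h4 hRc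
    rcases k with _ | k
    · rw [pow_zero, orderOf_eq_one_iff] at hk
      exact hk
    · exfalso
      have : p ∣ 1 := by
        have h6 := Nat.Coprime.gcd_eq_one h5
        rw [← h6]
        exact Nat.dvd_gcd (dvd_pow_self p (Nat.succ_ne_zero k)) dvd_rfl
      exact hp.one_lt.ne' (Nat.dvd_one.mp this)

/-- **derived length of `p`-subgroups**: in a `p`-solvable group the derived length of a
`p`-subgroup is at most one more than the number of irreducible characters of degree divisible
by `p` -/
theorem derivedSeries_pSubgroup_eq_bot {X : Type u} [Group X] [Finite X] (p : ℕ)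
    [Fact p.Prime] (hsol : IsPSolvable p X) (P : Subgroup X) (hP : IsPGroup p P) :
    derivedSeries ↥P (Nat.card {χ : IrrCharacter X // p ∣ charDegree (χ : X → ℂ)} + 1) = ⊥ :=
  derivedSeries_pSubgroup_aux p _ X rfl hsol P hP

end Main

end Cfsg.Agent.Lib.Helper4
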