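import Mathlib
import Cfsg.Prelude.Def_Characters
import Cfsg.Prelude.Def_Solvable
import Cfsg.Agent.Lib.Helper4.BrolineGarrison
import Cfsg.Agent.Lib.Helper2.Cores

/-!
# Garrison's theorem (helper4): the nilpotent length of a solvable group is at most the number
of its irreducible character degrees
-/

set_option autoImplicit false

namespace Cfsg.Agent.Lib.Helper4
open Cfsg Cfsg.Agent.Lib.Helper26 Cfsg.Agent.Lib.Helper2 Cfsg.Agent.Lib.Helper7
open scoped ComplexConjugate Classical

universe u

section Convert

variable {G : Type*} [Group G]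

/-- `B/A` is nilpotent when the lower central series of `B` reaches `A` -/
theorem isNilpotent_quotient_of_lcs_le (A B : Subgroup G) [hn : (A.subgroupOf B).Normal]
    (c : ℕ) (hc : B.lowerCentralSeries c ≤ A) :
    Group.IsNilpotent (↥B ⧸ A.subgroupOf B) := by
  rw [nilpotent_iff_lowerCentralSeries]
  refine ⟨c, ?_⟩
  have hsurj : Function.Surjective (QuotientGroup.mk' (A.subgroupOf B)) :=
    QuotientGroup.mk'_surjective _
  have htop : (⊤ : Subgroup (↥B ⧸ A.subgroupOf B)) =
      (⊤ : Subgroup ↥B).map (QuotientGroup.mk' (A.subgroupOf B)) := by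
    rw [← MonoidHom.range_eq_map, MonoidHom.range_eq_top.mpr hsurj]
  rw [htop, ← Subgroup.map_lowerCentralSeries, Subgroup.map_eq_bot_iff, QuotientGroup.ker_mk']
  intro x hx
  rw [Subgroup.mem_subgroupOf]
  apply hc
  rw [← Subgroup.top_subtype_lowerCentralSeries]
  exact Subgroup.mem_map_of_mem _ hx

end Convert

section Chain

/-- a normal series of length `k` with nilpotent factors -/
def HasNilChain (k : ℕ) (G : Type u) [Group G] : Prop :=
  ∃ N : ℕ → Subgroup G, N 0 = ⊥ ∧ N k = ⊤ ∧ Monotone N ∧ (∀ i, (N i).Normal) ∧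
    ∀ i, ∃ c, (N (i + 1)).lowerCentralSeries c ≤ N i

/-- the number of irreducible character degrees -/
noncomputable def cdCount (G : Type u) [Group G] : ℕ :=
  Nat.card {d : ℕ // ∃ χ : IrrCharacter G, charDegree (χ : G → ℂ) = d}

variable {G : Type u} [Group G] [Finite G]

theorem fitting_normal : (fittingSubgroup G).Normal :=
  Subgroup.sSup_normal _ (fun _ hH => hH.1)

theorem fitting_nilpotent : Group.IsNilpotent (fittingSubgroup G) := by
  rw [fittingSubgroup_eq_iSup_pCore]
  exact isNilpotent_iSup_pCore

theorem finite_cd : Finite {d : ℕ // ∃ χ : IrrCharacter G, charDegree (χ : G → ℂ) = d} := by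
  haveI : Fintype G := Fintype.ofFinite G
  exact (Set.finite_range (fun χ : IrrCharacter G => charDegree (χ : G → ℂ))).to_subtype

theorem cdCount_pos : 0 < cdCount G := by
  haveI : Fintype G := Fintype.ofFinite G
  haveI := finite_cd (G := G)
  unfold cdCount
  apply Nat.card_pos_iff.mpr
  refine ⟨⟨⟨_, ⟨⟨_, isIrrCharacter_one⟩, rfl⟩⟩⟩, inferInstance⟩

/-- the quotient by a proper Fitting subgroup has fewer character degrees -/
theorem cdCount_quotient_fitting_lt (hsol : Group.IsSolvable G) (hF : fittingSubgroup G ≠ ⊤) :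
    haveI := fitting_normal (G := G)
    cdCount (G ⧸ fittingSubgroup G) < cdCount G := by
  haveI := fitting_normal (G := G)
  haveI : Fintype G := Fintype.ofFinite G
  haveI : Fintype (G ⧸ fittingSubgroup G) := Fintype.ofFinite _
  haveI hfin1 := finite_cd (G := G)
  haveI hfin2 := finite_cd (G := G ⧸ fittingSubgroup G)
  have hπ : Function.Surjective (QuotientGroup.mk' (fittingSubgroup G)) :=
    QuotientGroup.mk'_surjective _
  -- inflation
  have hinfl : ∀ θ : IrrCharacter (G ⧸ fittingSubgroup G), ∃ χ : IrrCharacter G,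
      (χ : G → ℂ) = (θ : G ⧸ fittingSubgroup G → ℂ) ∘ (QuotientGroup.mk' (fittingSubgroup G)) ∧
      charDegree (χ : G → ℂ) = charDegree (θ : G ⧸ fittingSubgroup G → ℂ) := by
    intro θ
    refine ⟨⟨_, isIrrCharacter_comp_of_surjective θ.2 _ hπ⟩, rfl, ?_⟩
    unfold charDegree
    simp
  -- a character of maximal degree of the quotient
  haveI : Nonempty (IrrCharacter (G ⧸ fittingSubgroup G)) := ⟨⟨_, isIrrCharacter_one⟩⟩
  obtain ⟨θ, hθmax⟩ := Finite.exists_max
    (fun θ : IrrCharacter (G ⧸ fittingSubgroup G) => charDegree (θ : G ⧸ fittingSubgroup G → ℂ))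
  obtain ⟨χ, hχθ, hχdeg⟩ := hinfl θ
  obtain ⟨n, ρ, hρ, hχρ⟩ := χ.2
  have hKmem : ∀ g : G, g ∈ MonoidHom.ker ρ ↔ (χ : G → ℂ) g = (χ : G → ℂ) 1 := by
    intro g
    rw [← hχρ]
    exact (character_eq_one_iff_mem_ker ρ g).symm
  haveI hKn : (MonoidHom.ker ρ).Normal := MonoidHom.normal_ker ρ
  have hFK : fittingSubgroup G ≤ MonoidHom.ker ρ := by
    intro f hf
    rw [hKmem, hχθ]
    show (θ : G ⧸ fittingSubgroup G → ℂ) (QuotientGroup.mk' _ f) =
      (θ : G ⧸ fittingSubgroup G → ℂ) (QuotientGroup.mk' _ 1)
    have : QuotientGroup.mk' (fittingSubgroup G) f = QuotientGroup.mk' (fittingSubgroup G) 1 := by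
      rw [map_one]
      exact (QuotientGroup.eq_one_iff f).mpr hf
    rw [this]
  -- a character of larger degree
  have hex : ∃ ψ : IrrCharacter G, charDegree (χ : G → ℂ) < charDegree (ψ : G → ℂ) := by
    by_cases hle : MonoidHom.ker ρ ≤ fittingSubgroup G
    · have heq : MonoidHom.ker ρ = fittingSubgroup G := le_antisymm hle hFK
      have hsolQ : Group.IsSolvable (G ⧸ MonoidHom.ker ρ) :=
        Group.isSolvable_of_surjective (QuotientGroup.mk'_surjective _)
      obtain ⟨ψ, hψ, _⟩ := broline_garrison_b χ (MonoidHom.ker ρ) hKmem heq hsolQ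
        (by rw [heq]; exact hF)
      exact ⟨ψ, hψ⟩
    · obtain ⟨ψ, hψ, _⟩ := broline_garrison_a χ (MonoidHom.ker ρ) hKmem hle
      exact ⟨ψ, hψ⟩
  obtain ⟨ψ, hψ⟩ := hex
  -- the injection of degree sets
  let ι : {d : ℕ // ∃ θ' : IrrCharacter (G ⧸ fittingSubgroup G),
      charDegree (θ' : G ⧸ fittingSubgroup G → ℂ) = d} →
      {d : ℕ // ∃ χ' : IrrCharacter G, charDegree (χ' : G → ℂ) = d} :=
    fun d => ⟨d.1, by
      obtain ⟨θ', hθ'⟩ := d.2
      obtain ⟨χ', _, hχ'⟩ := hinfl θ'
      exact ⟨χ', hχ'.trans hθ'⟩⟩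
  have hι : Function.Injective ι := by
    intro a b hab
    apply Subtype.ext
    exact congrArg (fun z => z.1) hab
  unfold cdCount
  have : Fintype {d : ℕ // ∃ θ' : IrrCharacter (G ⧸ fittingSubgroup G),
      charDegree (θ' : G ⧸ fittingSubgroup G → ℂ) = d} := Fintype.ofFinite _
  have : Fintype {d : ℕ // ∃ χ' : IrrCharacter G, charDegree (χ' : G → ℂ) = d} :=
    Fintype.ofFinite _
  rw [Nat.card_eq_fintype_card, Nat.card_eq_fintype_card]
  apply Fintype.card_lt_of_injective_of_notMem ι hι
    (b := ⟨charDegree (ψ : G → ℂ), ψ, rfl⟩)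
  rintro ⟨⟨d, θ', hθ'⟩, hd⟩
  have h1 : d = charDegree (ψ : G → ℂ) := congrArg Subtype.val hd
  have h2 : charDegree (θ' : G ⧸ fittingSubgroup G → ℂ) ≤
      charDegree (θ : G ⧸ fittingSubgroup G → ℂ) := hθmax θ'
  rw [hθ', h1, ← hχdeg] at h2
  omega

theorem hasNilChain_aux : ∀ (k : ℕ) (G : Type u) [Group G] [Finite G], Group.IsSolvable G →
    cdCount G ≤ k → HasNilChain k G := by
  intro k
  induction k with
  | zero =>
    intro G _ _ _ h
    have := cdCount_pos (G := G)
    omega
  | succ k ih =>
    intro G _ _ hsol hcd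
    by_cases hF : fittingSubgroup G = ⊤
    · -- `G` is nilpotent
      have hnil : Group.IsNilpotent G := by
        have h1 := fitting_nilpotent (G := G)
        rw [hF] at h1
        exact Group.isNilpotent_top.mp h1
      obtain ⟨c, hc⟩ := nilpotent_iff_lowerCentralSeries.mp hnil
      refine ⟨fun i => if i = 0 then ⊥ else ⊤, by simp, by simp, ?_, ?_, ?_⟩
      · intro i j hij
        by_cases hi : i = 0
        · simp [hi]
        · have hj : j ≠ 0 := by omega
          simp [hi, hj]
      · intro i
        by_cases hi : i = 0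
        · simp only [hi, if_true]; infer_instance
        · simp only [hi, if_false]; infer_instance
      · intro i
        by_cases hi : i = 0
        · refine ⟨c, ?_⟩
          simp only [hi, zero_add, one_ne_zero, if_false, if_true]
          rw [hc]
        · refine ⟨0, ?_⟩
          simp [hi]
    · -- pull back a chain of `G ⧸ F(G)`
      haveI hFn := fitting_normal (G := G)
      have hlt := cdCount_quotient_fitting_lt hsol hF
      have hsolQ : Group.IsSolvable (G ⧸ fittingSubgroup G) :=
        Group.isSolvable_of_surjective (QuotientGroup.mk'_surjective _)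
      obtain ⟨N, hN0, hNk, hNmono, hNn, hNfac⟩ := ih (G ⧸ fittingSubgroup G) hsolQ (by omega)
      have hπ : Function.Surjective (QuotientGroup.mk' (fittingSubgroup G)) :=
        QuotientGroup.mk'_surjective _
      refine ⟨fun i => match i with
        | 0 => ⊥
        | (j + 1) => (N j).comap (QuotientGroup.mk' (fittingSubgroup G)), rfl, ?_, ?_, ?_, ?_⟩
      · show (N k).comap (QuotientGroup.mk' (fittingSubgroup G)) = ⊤
        rw [hNk, Subgroup.comap_top]
      · apply monotone_nat_of_le_succ
        intro i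
        rcases i with _ | j
        · exact bot_le
        · exact Subgroup.comap_mono (hNmono (Nat.le_succ j))
      · intro i
        rcases i with _ | j
        · show (⊥ : Subgroup G).Normal
          infer_instance
        · haveI := hNn j
          show ((N j).comap (QuotientGroup.mk' (fittingSubgroup G))).Normal
          infer_instance
      · intro i
        rcases i with _ | j
        · -- the bottom factor is `F(G)`
          show ∃ c, ((N 0).comap (QuotientGroup.mk' (fittingSubgroup G))).lowerCentralSeries c ≤ ⊥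
          have h1 : (N 0).comap (QuotientGroup.mk' (fittingSubgroup G)) = fittingSubgroup G := by
            rw [hN0]
            exact QuotientGroup.ker_mk' _
          rw [h1]
          obtain ⟨c, hc⟩ := (Subgroup.isNilpotent_iff_lowerCentralSeries _).mp
            (fitting_nilpotent (G := G))
          exact ⟨c, hc.le⟩
        · obtain ⟨c, hc⟩ := hNfac j
          refine ⟨c, ?_⟩
          show ((N (j + 1)).comap (QuotientGroup.mk' (fittingSubgroup G))).lowerCentralSeries c ≤
            (N j).comap (QuotientGroup.mk' (fittingSubgroup G))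
          rw [← Subgroup.map_le_iff_le_comap, Subgroup.map_lowerCentralSeries,
            Subgroup.map_comap_eq_self_of_surjective hπ]
          exact hc

end Chain

end Cfsg.Agent.Lib.Helper4
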