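import Mathlib

set_option autoImplicit false

/-!
# A combinatorial lemma for the Glauberman correspondence

For a family `a : κ → ℕ` with `|κ| = p` put `V a = p ∑ a² - (∑ a)²`.  Then `V a ≥ 0`, and
`V a ≠ 0` implies `V a ≥ p - 1`.  Consequently, if `∑ᵢ V (n i) = p - 1` then exactly one
`∑ₖ n i k` is prime to `p`, and it is `≡ ±1`.
-/

namespace Cfsg.Agent.Lib.Helper4

section Comb

variable {κ : Type*} [Fintype κ]

/-- the "variance" `p ∑ a² - (∑ a)²` -/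
def varZ (p : ℕ) (a : κ → ℕ) : ℤ := (p : ℤ) * ∑ k, (a k : ℤ) ^ 2 - (∑ k, (a k : ℤ)) ^ 2

theorem varZ_shift [DecidableEq κ] (p : ℕ) (hκ : Fintype.card κ = p) (a : κ → ℕ) (k₀ : κ) :
    varZ p a = (p : ℤ) * ∑ k, ((a k : ℤ) - a k₀) ^ 2 - (∑ k, ((a k : ℤ) - a k₀)) ^ 2 := by
  unfold varZ
  have h1 : ∑ k : κ, ((a k : ℤ) - a k₀) ^ 2 =
      ∑ k, (a k : ℤ) ^ 2 - 2 * (a k₀ : ℤ) * ∑ k, (a k : ℤ) + (p : ℤ) * (a k₀ : ℤ) ^ 2 := by
    have : ∀ k : κ, ((a k : ℤ) - a k₀) ^ 2 =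
        (a k : ℤ) ^ 2 - 2 * (a k₀ : ℤ) * (a k : ℤ) + (a k₀ : ℤ) ^ 2 := fun k => by ring
    simp only [this]
    rw [Finset.sum_add_distrib, Finset.sum_sub_distrib, ← Finset.mul_sum, Finset.sum_const,
      Finset.card_univ, hκ, nsmul_eq_mul]
  have h2 : ∑ k : κ, ((a k : ℤ) - a k₀) = ∑ k, (a k : ℤ) - (p : ℤ) * (a k₀ : ℤ) := by
    rw [Finset.sum_sub_distrib, Finset.sum_const, Finset.card_univ, hκ, nsmul_eq_mul]
  rw [h1, h2]
  ring

theorem varZ_lower [DecidableEq κ] (p : ℕ) (hκ : Fintype.card κ = p) (a : κ → ℕ) :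
    0 ≤ varZ p a ∧ (varZ p a ≠ 0 → (p : ℤ) - 1 ≤ varZ p a) := by
  classical
  by_cases hemp : IsEmpty κ
  · have hp0 : p = 0 := by
      rw [← hκ]
      exact Fintype.card_eq_zero
    unfold varZ
    simp [hp0]
  rw [not_isEmpty_iff] at hemp
  obtain ⟨k₀⟩ := hemp
  set d : κ → ℤ := fun k => (a k : ℤ) - a k₀ with hd
  have hV : varZ p a = (p : ℤ) * ∑ k, d k ^ 2 - (∑ k, d k) ^ 2 := varZ_shift p hκ a k₀
  set S : Finset κ := Finset.univ.filter (fun k => d k ≠ 0) with hS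
  have hk₀ : k₀ ∉ S := by
    rw [hS, Finset.mem_filter]
    rintro ⟨_, h⟩
    apply h
    simp [hd]
  have hsum1 : ∑ k, d k = ∑ k ∈ S, d k := by
    rw [hS, Finset.sum_filter]
    refine Finset.sum_congr rfl fun k _ => ?_
    split_ifs with h
    · rfl
    · push Not at h
      exact h
  have hsum2 : ∑ k, d k ^ 2 = ∑ k ∈ S, d k ^ 2 := by
    rw [hS, Finset.sum_filter]
    refine Finset.sum_congr rfl fun k _ => ?_
    split_ifs with h
    · rfl
    · push Not at h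
      rw [h]
      ring
  have hcs : (∑ k ∈ S, d k) ^ 2 ≤ (S.card : ℤ) * ∑ k ∈ S, d k ^ 2 :=
    sq_sum_le_card_mul_sum_sq
  have hge : (S.card : ℤ) ≤ ∑ k ∈ S, d k ^ 2 := by
    have : ∀ k ∈ S, (1 : ℤ) ≤ d k ^ 2 := by
      intro k hk
      rw [hS, Finset.mem_filter] at hk
      have h1 : d k ≠ 0 := hk.2
      have h2 : 0 < d k ^ 2 := by positivity
      linarith
    calc (S.card : ℤ) = ∑ k ∈ S, (1 : ℤ) := by simp
      _ ≤ ∑ k ∈ S, d k ^ 2 := Finset.sum_le_sum this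
  have htle : S.card + 1 ≤ p := by
    have h1 : (insert k₀ S).card = S.card + 1 := Finset.card_insert_of_notMem hk₀
    have h2 : (insert k₀ S).card ≤ Fintype.card κ := Finset.card_le_univ _
    omega
  have htle' : (S.card : ℤ) + 1 ≤ (p : ℤ) := by exact_mod_cast htle
  set t : ℤ := (S.card : ℤ) with ht
  set Q : ℤ := ∑ k ∈ S, d k ^ 2 with hQ
  have ht0 : 0 ≤ t := by positivity
  have hVge : ((p : ℤ) - t) * Q ≤ varZ p a := by
    rw [hV, hsum1, hsum2]
    nlinarith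
  constructor
  · have : 0 ≤ ((p : ℤ) - t) * Q := by
      apply mul_nonneg
      · linarith
      · linarith
    linarith
  · intro hne
    have ht1 : 1 ≤ t := by
      by_contra hlt
      have ht0' : t = 0 := by omega
      have hS0 : S = ∅ := by
        have h3 : (S.card : ℤ) = 0 := ht0'
        have : S.card = 0 := by exact_mod_cast h3
        exact Finset.card_eq_zero.mp this
      have hQ0 : Q = 0 := by
        rw [hQ, hS0]
        simp
      apply hne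
      rw [hV, hsum1, hsum2, hQ0, hS0]
      simp
    have h1 : ((p : ℤ) - t) * t ≤ ((p : ℤ) - t) * Q := by
      apply mul_le_mul_of_nonneg_left hge
      linarith
    have h2 : (p : ℤ) - 1 ≤ ((p : ℤ) - t) * t := by nlinarith
    linarith

end Comb

section Main

variable {ι κ : Type*} [Fintype ι] [Fintype κ]

theorem comb_unique [DecidableEq ι] [DecidableEq κ] (p : ℕ) (hp : p.Prime)
    (hκ : Fintype.card κ = p) (n : ι → κ → ℕ)
    (h : ∑ i, varZ p (n i) = (p : ℤ) - 1) :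
    ∃ i₀, ((∑ k, (n i₀ k : ℤ)) ≡ 1 [ZMOD p] ∨ (∑ k, (n i₀ k : ℤ)) ≡ -1 [ZMOD p]) ∧
      ∀ i, i ≠ i₀ → (p : ℤ) ∣ ∑ k, (n i k : ℤ) := by
  classical
  have hp1 : (1 : ℤ) < p := by exact_mod_cast hp.one_lt
  -- some term is nonzero
  have hex : ∃ i₀, varZ p (n i₀) ≠ 0 := by
    by_contra hcon
    push Not at hcon
    rw [Finset.sum_congr rfl (fun i _ => hcon i), Finset.sum_const_zero] at h
    linarith
  obtain ⟨i₀, hi₀⟩ := hex
  have hnn : ∀ i, 0 ≤ varZ p (n i) := fun i => (varZ_lower p hκ (n i)).1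
  have hge : (p : ℤ) - 1 ≤ varZ p (n i₀) := (varZ_lower p hκ (n i₀)).2 hi₀
  have hsplit : ∑ i, varZ p (n i) = varZ p (n i₀) + ∑ i ∈ Finset.univ.erase i₀, varZ p (n i) := by
    exact (Finset.add_sum_erase Finset.univ (fun i => varZ p (n i)) (Finset.mem_univ i₀)).symm
  have hrest_nn : 0 ≤ ∑ i ∈ Finset.univ.erase i₀, varZ p (n i) :=
    Finset.sum_nonneg fun i _ => hnn i
  have hV0 : varZ p (n i₀) = (p : ℤ) - 1 := by linarith
  have hrest0 : ∑ i ∈ Finset.univ.erase i₀, varZ p (n i) = 0 := by linarith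
  have hothers : ∀ i, i ≠ i₀ → varZ p (n i) = 0 := by
    intro i hi
    exact (Finset.sum_eq_zero_iff_of_nonneg (fun j _ => hnn j)).mp hrest0 i
      (Finset.mem_erase.mpr ⟨hi, Finset.mem_univ i⟩)
  have hprime : Prime (p : ℤ) := Nat.prime_iff_prime_int.mp hp
  refine ⟨i₀, ?_, ?_⟩
  · -- M² ≡ 1
    set M : ℤ := ∑ k, (n i₀ k : ℤ) with hM
    have h1 : (p : ℤ) ∣ (M - 1) * (M + 1) := by
      unfold varZ at hV0
      rw [← hM] at hV0
      refine ⟨∑ k, (n i₀ k : ℤ) ^ 2 - 1, ?_⟩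
      linarith [hV0]
    rcases hprime.dvd_or_dvd h1 with h2 | h2
    · left
      exact Int.modEq_iff_dvd.mpr (by
        have : (1 : ℤ) - M = -(M - 1) := by ring
        rw [this]
        exact (dvd_neg.mpr h2))
    · right
      exact Int.modEq_iff_dvd.mpr (by
        have : (-1 : ℤ) - M = -(M + 1) := by ring
        rw [this]
        exact (dvd_neg.mpr h2))
  · intro i hi
    have h0 := hothers i hi
    unfold varZ at h0
    set M : ℤ := ∑ k, (n i k : ℤ) with hM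
    have h1 : (p : ℤ) ∣ M ^ 2 := ⟨∑ k, (n i k : ℤ) ^ 2, by linarith⟩
    exact hprime.dvd_of_dvd_pow h1

end Main

end Cfsg.Agent.Lib.Helper4
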