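import Mathlib
import Cfsg.Agent.Lib.Helper4.FongReynoldsF
import Cfsg.Agent.Lib.Helper4.BrauerFong
import Cfsg.Agent.Lib.Helper4.BrauerLocal
import Cfsg.Agent.Lib.Helper26.TIFN2
import Cfsg.Agent.Lib.Helper26.CliffordHom

set_option autoImplicit false

/-!
# A height-zero character whose inertia group has index prime to `p` (helper4, S4723)
-/

namespace Cfsg.Agent.Lib.Helper4

open Cfsg Cfsg.Agent.Lib.Helper28 Cfsg.Agent.Lib.Helper26
open scoped ComplexConjugate Classical

/-- orbit-stabilizer counting for a map constant exactly on the right cosets of `S` -/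
theorem card_image_eq_index_of_right {Γ X : Type*} [Group Γ] [Fintype Γ] [DecidableEq X] (f : Γ → X)
    (S : Subgroup Γ) (h : ∀ x y, f x = f y ↔ x * y⁻¹ ∈ S) :
    (Finset.univ.image f).card = S.index := by
  have : Fintype (Γ ⧸ S) := Fintype.ofFinite _
  rw [Subgroup.index_eq_card, Nat.card_eq_fintype_card]
  let g : Γ ⧸ S → X := Quotient.lift (fun a : Γ => f a⁻¹) (fun a b hab => by
    show f a⁻¹ = f b⁻¹
    rw [h, inv_inv]
    exact QuotientGroup.leftRel_apply.1 hab)
  have hg : Function.Injective g := by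
    intro a b
    induction a using QuotientGroup.induction_on with
    | H a =>
      induction b using QuotientGroup.induction_on with
      | H b =>
        intro hab
        have hab' : f a⁻¹ = f b⁻¹ := hab
        rw [h, inv_inv] at hab'
        exact QuotientGroup.eq.2 hab'
  have himg : Finset.univ.image f = Finset.univ.image g := by
    ext x
    simp only [Finset.mem_image, Finset.mem_univ, true_and]
    constructor
    · rintro ⟨a, rfl⟩
      refine ⟨(a⁻¹ : Γ), ?_⟩
      show f (a⁻¹)⁻¹ = f a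
      rw [inv_inv]
    · rintro ⟨a, rfl⟩
      induction a using QuotientGroup.induction_on with
      | H a => exact ⟨a⁻¹, rfl⟩
  rw [himg, Finset.card_image_of_injective _ hg, Finset.card_univ]

section

variable {G : Type*} [Group G] [Fintype G] {M : Ideal AlgInt} (N : Subgroup G) [hN : N.Normal]

omit [Fintype G] in
theorem mem_inertiaSub_iff_conjFunN (θ : N → ℂ) (g : G) :
    g ∈ inertiaSub N θ ↔ conjFunN N θ g = θ := by
  rw [mem_inertiaSub]
  constructor
  · intro h
    funext n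
    exact h n
  · intro h n
    exact congrFun h n

/-- the number of conjugates of `θ` is the index of its inertia group -/
theorem card_image_conjFunN [DecidableEq (N → ℂ)] (θ : N → ℂ) :
    (Finset.univ.image (conjFunN N θ)).card = (inertiaSub N θ).index := by
  refine card_image_eq_index_of_right (conjFunN N θ) (inertiaSub N θ) ?_
  intro x y
  rw [mem_inertiaSub_iff_conjFunN]
  constructor
  · intro h
    rw [← conjFunN_mul, h, conjFunN_conjFunN_inv]
  · intro h
    have h2 : conjFunN N (conjFunN N θ (x * y⁻¹)) y = conjFunN N θ y := by rw [h]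
    rw [conjFunN_mul, inv_mul_cancel_right] at h2
    exact h2

/-- the degree formula from Clifford's theorem -/
theorem charDegree_eq_clifford (χ : IrrCharacter G) (θ : IrrCharacter N)
    (hcon : classInner ((χ : G → ℂ) ∘ N.subtype) (θ : N → ℂ) ≠ 0) :
    ∃ m : ℕ, m ≠ 0 ∧ charDegree (χ : G → ℂ) =
      m * (inertiaSub N (θ : N → ℂ)).index * charDegree (θ : N → ℂ) := by
  have hcl := clifford_restrict N χ.2 θ.2 hcon
  obtain ⟨m, hm⟩ := classInner_isCharacter_nat
    (isCharacter_restrict N (isCharacter_of_isIrrCharacter χ.2))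
    (isCharacter_of_isIrrCharacter θ.2)
  have hm0 : m ≠ 0 := by
    rintro rfl
    apply hcon
    rw [hm]
    simp
  refine ⟨m, hm0, ?_⟩
  have h1 := congrFun hcl 1
  simp only [Function.comp_apply, Pi.smul_apply, Finset.sum_apply, smul_eq_mul] at h1
  have h2 : ∀ ψ ∈ Finset.univ.image (conjFunN N (θ : N → ℂ)), ψ 1 = (θ : N → ℂ) 1 := by
    intro ψ hψ
    obtain ⟨x, -, rfl⟩ := Finset.mem_image.1 hψ
    unfold conjFunN
    refine congrArg _ (Subtype.ext ?_)
    simp
  rw [Finset.sum_congr rfl h2, Finset.sum_const, card_image_conjFunN, hm, map_one,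
    irr_one_eq_charDegree χ, irr_one_eq_charDegree θ, nsmul_eq_mul] at h1
  have h3 : (charDegree (χ : G → ℂ) : ℂ) =
      ((m * (inertiaSub N (θ : N → ℂ)).index * charDegree (θ : N → ℂ) : ℕ) : ℂ) := by
    rw [h1]
    push_cast
    ring
  exact_mod_cast h3

/-- **S4723, in the stable case**: a stable block of a normal subgroup contains a height-zero
character whose inertia group has index prime to `p` -/
theorem exists_height_zero_inertia {p : ℕ} [Fact p.Prime] (hM : IsPModular p M)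
    {c : Set (IrrCharacter N)} (hc : IsPBlock M c) (hst : ∀ t : G, StabilizesBlock N c t) :
    ∃ θ ∈ c, blockHeight p c (θ : N → ℂ) = 0 ∧
      ¬ p ∣ (inertiaSub N (θ : N → ℂ)).index := by
  have hMprime : M.IsPrime := hM.2.1.isPrime
  have hMtop : M ≠ ⊤ := Ideal.IsPrime.ne_top hMprime
  have hp : p.Prime := Fact.out
  have : Fintype (IrrCharacter G) := Fintype.ofFinite _
  obtain ⟨θ₀, hθ₀⟩ := block_nonempty hc
  obtain ⟨Θ, hΘ, hΘcon⟩ := Cfsg.Agent.Lib.Helper26.CH.exists_above N.subtype N.subtype_injective θ₀.2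
  obtain ⟨S, hS⟩ : ∃ S : Finset (IrrCharacter G), S = Finset.univ.filter
      (fun χ : IrrCharacter G => ∃ θ ∈ c,
        classInner ((χ : G → ℂ) ∘ N.subtype) (θ : N → ℂ) ≠ 0) := ⟨_, rfl⟩
  have hSne : S.Nonempty := by
    refine ⟨⟨Θ, hΘ⟩, ?_⟩
    rw [hS]
    exact Finset.mem_filter.2 ⟨Finset.mem_univ _, θ₀, hθ₀, hΘcon⟩
  obtain ⟨χ₀, hχ₀S, hχ₀max⟩ := Finset.exists_max_image S
    (fun χ : IrrCharacter G => blockDefect p (blockOf M (χ : G → ℂ))) hSne
  obtain ⟨B, hBdef⟩ : ∃ B, B = blockOf M (χ₀ : G → ℂ) := ⟨_, rfl⟩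
  have hB : IsPBlock M B := ⟨χ₀, hBdef⟩
  have hχ₀B : χ₀ ∈ B := by
    rw [hBdef]
    exact sameBlock_refl hMtop _
  obtain ⟨θ₁, hθ₁, hcon₁⟩ : ∃ θ ∈ c,
      classInner ((χ₀ : G → ℂ) ∘ N.subtype) (θ : N → ℂ) ≠ 0 := by
    rw [hS] at hχ₀S
    exact (Finset.mem_filter.1 hχ₀S).2
  have hcov : ∃ χ ∈ B, ∃ θ ∈ c,
      classInner ((χ : G → ℂ) ∘ N.subtype) ((θ : IrrCharacter N) : N → ℂ) ≠ 0 :=
    ⟨χ₀, hχ₀B, θ₁, hθ₁, hcon₁⟩
  have hmax : ∀ B' : Set (IrrCharacter G), IsPBlock M B' →
      (∃ χ ∈ B', ∃ θ ∈ c,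
        classInner ((χ : G → ℂ) ∘ N.subtype) ((θ : IrrCharacter N) : N → ℂ) ≠ 0) →
      blockDefect p B' ≤ blockDefect p B := by
    intro B' hB' ⟨χ', hχ', θ', hθ', hcon'⟩
    have hB'eq : B' = blockOf M (χ' : G → ℂ) :=
      Cfsg.Agent.Lib.Helper4.block_eq_of_mem hB' ⟨χ', rfl⟩ hχ' (sameBlock_refl hMtop _)
    rw [hB'eq, hBdef]
    exact hχ₀max χ' (by
      rw [hS]
      exact Finset.mem_filter.2 ⟨Finset.mem_univ _, θ', hθ', hcon'⟩)
  obtain ⟨P, hP⟩ := exists_isDefectGroup hM hB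
  obtain ⟨-, -, hdef⟩ := fong N hM hc hst hB hcov hmax hP
  -- minimal valuations
  have hneB : ((fun χ : IrrCharacter G => (charDegree (χ : G → ℂ)).factorization p) ''
      B).Nonempty := ⟨_, χ₀, hχ₀B, rfl⟩
  obtain ⟨χ, hχB, hχval⟩ := Nat.sInf_mem hneB
  obtain ⟨mB, hmB⟩ : ∃ mB, mB =
    sInf ((fun χ : IrrCharacter G => (charDegree (χ : G → ℂ)).factorization p) '' B) := ⟨_, rfl⟩
  obtain ⟨mc, hmc⟩ : ∃ mc, mc =
    sInf ((fun χ : IrrCharacter N => (charDegree (χ : N → ℂ)).factorization p) '' c) := ⟨_, rfl⟩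
  have hχval' : (charDegree (χ : G → ℂ)).factorization p = mB := by
    rw [hmB]
    exact hχval
  have hdvd : ∀ {K : Type _} [Group K] [Fintype K] (ξ : IrrCharacter K),
      (charDegree (ξ : K → ℂ)).factorization p ≤ (Nat.card K).factorization p := by
    intro K _ _ ξ
    obtain ⟨d, hd0, hd1, hdd⟩ := irr_degree_dvd_card ξ.2
    rw [charDegree_eq_of_one_eq hd1]
    exact (Nat.factorization_le_iff_dvd hd0.ne' Nat.card_pos.ne').2 hdd p
  have hb1 : mB ≤ (Nat.card G).factorization p := by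
    rw [← hχval']
    exact hdvd χ
  have hb2 : mc ≤ (Nat.card N).factorization p := by
    refine le_trans ?_ (hdvd θ₁)
    rw [hmc]
    exact Nat.sInf_le ⟨θ₁, hθ₁, rfl⟩
  have hcard : (Nat.card G).factorization p =
      (Nat.card N).factorization p + N.index.factorization p := by
    rw [← Subgroup.card_mul_index N, Nat.factorization_mul Nat.card_pos.ne'
      Subgroup.index_ne_zero_of_finite]
    rfl
  have hmm : mB = mc := by
    unfold blockDefect at hdef
    rw [← hmB, ← hmc] at hdef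
    omega
  -- a constituent of `χ` in `c`
  obtain ⟨θ, hθ, hcon⟩ := exists_over_of_covers N hc hB hcov hχB
  obtain ⟨m, hm0, hdeg⟩ := charDegree_eq_clifford N χ θ hcon
  have hidx0 : (inertiaSub N (θ : N → ℂ)).index ≠ 0 := Subgroup.index_ne_zero_of_finite
  have hθ0 : charDegree (θ : N → ℂ) ≠ 0 := (irr_charDegree_pos θ).ne'
  have hfac : (charDegree (χ : G → ℂ)).factorization p =
      m.factorization p + (inertiaSub N (θ : N → ℂ)).index.factorization p +
        (charDegree (θ : N → ℂ)).factorization p := by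
    rw [hdeg, Nat.factorization_mul (Nat.mul_ne_zero hm0 hidx0) hθ0,
      Nat.factorization_mul hm0 hidx0]
    rfl
  have hθge : mc ≤ (charDegree (θ : N → ℂ)).factorization p := by
    rw [hmc]
    exact Nat.sInf_le ⟨θ, hθ, rfl⟩
  refine ⟨θ, hθ, ?_, ?_⟩
  · unfold blockHeight
    rw [← hmc]
    omega
  · have h0 : (inertiaSub N (θ : N → ℂ)).index.factorization p = 0 := by omega
    rcases (Nat.factorization_eq_zero_iff _ _).1 h0 with h | h | h
    · exact absurd hp h
    · exact h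
    · exact absurd h hidx0

end

section Transfer

theorem blockHeight_preimage_irrEquiv {K K' : Type*} [Group K] [Group K'] (p : ℕ) (φ : K ≃* K')
    (f : Set (IrrCharacter K)) (ξ' : IrrCharacter K') :
    blockHeight p ((irrEquiv φ) ⁻¹' f) (ξ' : K' → ℂ) =
      blockHeight p f (irrEquiv φ ξ' : K → ℂ) := by
  unfold blockHeight
  rw [charDegree_irrEquiv]
  congr 2
  ext n
  constructor
  · rintro ⟨ξ', hξ', rfl⟩
    refine ⟨irrEquiv φ ξ', hξ', ?_⟩
    show (charDegree (irrEquiv φ ξ' : K → ℂ)).factorization p = _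
    rw [charDegree_irrEquiv]
  · rintro ⟨ξ, hξ, rfl⟩
    refine ⟨(irrEquiv φ).symm ξ, ?_, ?_⟩
    · show irrEquiv φ ((irrEquiv φ).symm ξ) ∈ f
      rw [Equiv.apply_symm_apply]; exact hξ
    · show (charDegree ((irrEquiv φ).symm ξ : K' → ℂ)).factorization p = _
      rw [← charDegree_irrEquiv φ, Equiv.apply_symm_apply]

variable {G : Type*} [Group G] [Fintype G] {M : Ideal AlgInt}

/-- **S4723** -/
theorem height_zero_stab {p : ℕ} [Fact p.Prime] (hM : IsPModular p M) (H : Subgroup G)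
    [hH : H.Normal] {b : Set (IrrCharacter H)} (hb : IsPBlock M b) (T : Subgroup G)
    (hT : ∀ g : G, g ∈ T ↔ ∀ θ ∈ b, ∀ θ' : IrrCharacter H,
      (∀ h h' : H, (h' : G) = g * h * g⁻¹ → (θ' : H → ℂ) h' = (θ : H → ℂ) h) → θ' ∈ b) :
    ∃ θ ∈ b, blockHeight p b (θ : H → ℂ) = 0 ∧ ∃ S : Subgroup G, S ≤ T ∧
      (∀ g : G, g ∈ S ↔ (g ∈ T ∧ ∀ h h' : H, (h' : G) = g * h * g⁻¹ →
        (θ : H → ℂ) h' = (θ : H → ℂ) h)) ∧ ¬ p ∣ S.relIndex T := by
  have hstab : ∀ g : G, g ∈ T ↔ StabilizesBlock H b g := by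
    intro g
    rw [hT g, stabilizesBlock_iff]
    constructor
    · intro h
      refine ⟨normal_le_normalizer H g, fun χ hχ => ?_⟩
      exact h χ hχ _ (isConjCharOf_conjIrr H g _ χ)
    · rintro ⟨hg, h⟩ θ hθ θ' hθ'
      have : θ' = conjIrr H g hg θ := (isConjCharOf_iff H g hg θ θ').mp hθ'
      rw [this]
      exact h θ hθ
  have hHT : H ≤ T := by
    intro g hg
    rw [hstab, stabilizesBlock_iff]
    refine ⟨normal_le_normalizer H g, fun χ hχ => ?_⟩
    have : conjIrr H g (normal_le_normalizer H g) χ = χ := by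
      apply Subtype.ext
      funext k
      rw [conjIrr_apply]
      have hcl := Cfsg.Agent.Lib.Helper26.isClassFunction_of_isIrrCharacter χ.2
      have h1 := hcl k (⟨g, hg⟩ : H)⁻¹
      rw [← h1]
      refine congrArg _ (Subtype.ext ?_)
      rw [conjK_symm_apply]
      simp
    rw [this]
    exact hχ
  have : Fintype T := Fintype.ofFinite _
  obtain ⟨φ, hφ⟩ : ∃ φ : H ≃* H.subgroupOf T, φ = (Subgroup.subgroupOfEquivOfLe hHT).symm :=
    ⟨_, rfl⟩
  have hφcoe : ∀ h : H, (((φ h : H.subgroupOf T) : T) : G) = (h : G) := by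
    intro h
    rw [hφ]
    rfl
  have hst : ∀ t : T, StabilizesBlock (H.subgroupOf T) (subBlock hHT b) t :=
    fun t => stabilizesBlock_subBlock hHT ((hstab t).1 t.2)
  obtain ⟨θ', hθ'c, hht, hidx⟩ := exists_height_zero_inertia (H.subgroupOf T) hM
    (isPBlock_subBlock hHT hb) hst
  have hθ'b : irrEquiv φ θ' ∈ b := by
    rw [hφ]
    exact hθ'c
  refine ⟨irrEquiv φ θ', hθ'b, ?_, ?_⟩
  · rw [← blockHeight_preimage_irrEquiv, hφ]
    exact hht
  · refine ⟨(inertiaSub (H.subgroupOf T) (θ' : H.subgroupOf T → ℂ)).map T.subtype,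
      Subgroup.map_subtype_le _, ?_, ?_⟩
    · intro g
      constructor
      · intro hg
        obtain ⟨t, ht, rfl⟩ := Subgroup.mem_map.1 hg
        refine ⟨t.2, ?_⟩
        intro h h' hh'
        rw [irrEquiv_apply, irrEquiv_apply]
        have h1 := (mem_inertiaSub (H.subgroupOf T) (θ' : H.subgroupOf T → ℂ) t).1 ht (φ h)
        rw [← h1]
        refine congrArg _ (Subtype.ext (Subtype.ext ?_))
        show (((φ h' : H.subgroupOf T) : T) : G) = (t : G) * (((φ h : H.subgroupOf T) : T) : G) *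
          ((t⁻¹ : T) : G)
        rw [hφcoe, hφcoe, hh']
        rfl
      · rintro ⟨hgT, hcond⟩
        refine Subgroup.mem_map.2 ⟨⟨g, hgT⟩, ?_, rfl⟩
        rw [mem_inertiaSub]
        intro n
        obtain ⟨h, hh⟩ : ∃ h : H, h = φ.symm n := ⟨_, rfl⟩
        have hn : φ h = n := by rw [hh, MulEquiv.apply_symm_apply]
        have h2 := hcond h ⟨g * h * g⁻¹, hH.conj_mem _ h.2 g⟩ rfl
        rw [irrEquiv_apply, irrEquiv_apply, hn] at h2
        rw [← h2]
        refine congrArg _ (Subtype.ext (Subtype.ext ?_))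
        show g * (((n : H.subgroupOf T) : T) : G) * ((⟨g, hgT⟩ : T)⁻¹ : T) = _
        rw [hφcoe, ← hn, hφcoe]
        rfl
    · show ¬ p ∣ (((inertiaSub (H.subgroupOf T) (θ' : H.subgroupOf T → ℂ)).map
        T.subtype).comap T.subtype).index
      rw [Subgroup.comap_map_eq_self_of_injective T.subtype_injective]
      exact hidx

end Transfer

end Cfsg.Agent.Lib.Helper4
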