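import Mathlib
import Cfsg.Agent.Lib.Helper4.Artin

set_option autoImplicit false

namespace Cfsg.Agent.Lib.Helper4.Jordan

open scoped InnerProductSpace ComplexConjugate

variable {E : Type*} [NormedAddCommGroup E] [InnerProductSpace ℂ E]

/-- eigenvectors of a linear isometry with distinct eigenvalues are orthogonal -/
theorem inner_eq_zero_of_eigen (A : E →ₗ[ℂ] E) (hA : ∀ v, ‖A v‖ = ‖v‖) {u w : E} {α β : ℂ}
    (hα : ‖α‖ = 1) (hu : A u = α • u) (hw : A w = β • w) (hne : α ≠ β) : ⟪u, w⟫_ℂ = 0 := by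
  have hiso : ∀ a b : E, ⟪A a, A b⟫_ℂ = ⟪a, b⟫_ℂ := by
    intro a b
    exact (LinearIsometry.mk A hA).inner_map_map a b
  have h1 := hiso u w
  rw [hu, hw, inner_smul_left, inner_smul_right] at h1
  by_contra h0
  have h2 : conj α * β = 1 := by
    have h3 : (1 - conj α * β) * ⟪u, w⟫_ℂ = 0 := by linear_combination -h1
    rcases mul_eq_zero.mp h3 with h | h
    · linear_combination -h
    · exact absurd h h0
  have h3 : α * conj α = 1 := by
    rw [Complex.mul_conj, Complex.normSq_eq_norm_sq, hα]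
    simp
  apply hne
  calc α = α * (conj α * β) := by rw [h2, mul_one]
    _ = (α * conj α) * β := by ring
    _ = β := by rw [h3, one_mul]

theorem eq_zero_of_sum_eq_zero_of_orthogonal {ι : Type*} [Fintype ι] [DecidableEq ι] (a : ι → E)
    (horth : ∀ i j, i ≠ j → ⟪a i, a j⟫_ℂ = 0) (hsum : ∑ i, a i = 0) (i : ι) : a i = 0 := by
  have h : ⟪a i, ∑ j, a j⟫_ℂ = ⟪a i, a i⟫_ℂ := by
    rw [inner_sum]
    exact Finset.sum_eq_single i (fun j _ hj => horth i j (Ne.symm hj))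
      (fun h => absurd (Finset.mem_univ i) h)
  rw [hsum, inner_zero_right] at h
  exact inner_self_eq_zero.mp h.symm

theorem norm_sq_sum_of_orthogonal {ι : Type*} [Fintype ι] [DecidableEq ι] (a : ι → E)
    (horth : ∀ i j, i ≠ j → ⟪a i, a j⟫_ℂ = 0) : ‖∑ i, a i‖ ^ 2 = ∑ i, ‖a i‖ ^ 2 := by
  have h : ⟪∑ i, a i, ∑ j, a j⟫_ℂ = ∑ i, ⟪a i, a i⟫_ℂ := by
    rw [sum_inner]
    apply Finset.sum_congr rfl
    intro i _
    rw [inner_sum]
    exact Finset.sum_eq_single i (fun j _ hj => horth i j (Ne.symm hj))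
      (fun h => absurd (Finset.mem_univ i) h)
  rw [inner_self_eq_norm_sq_to_K] at h
  simp only [inner_self_eq_norm_sq_to_K] at h
  exact_mod_cast h

theorem norm_sum_smul_le {ι : Type*} [Fintype ι] [DecidableEq ι] (a : ι → E) (s : ι → ℂ) (C : ℝ)
    (hC : 0 ≤ C) (horth : ∀ i j, i ≠ j → ⟪a i, a j⟫_ℂ = 0)
    (hs : ∀ i, ‖s i • a i‖ ≤ C * ‖a i‖) : ‖∑ i, s i • a i‖ ≤ C * ‖∑ i, a i‖ := by
  have h1 := norm_sq_sum_of_orthogonal (fun i => s i • a i) (by
    intro i j hij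
    rw [inner_smul_left, inner_smul_right, horth i j hij]
    ring)
  have h2 := norm_sq_sum_of_orthogonal a horth
  have h3 : ‖∑ i, s i • a i‖ ^ 2 ≤ (C * ‖∑ i, a i‖) ^ 2 := by
    rw [h1, mul_pow, h2, Finset.mul_sum]
    apply Finset.sum_le_sum
    intro i _
    rw [← mul_pow]
    exact pow_le_pow_left₀ (norm_nonneg _) (hs i) 2
  exact (pow_le_pow_iff_left₀ (norm_nonneg _) (by positivity) two_ne_zero).mp h3

section Decomp

variable {B : Type*} [CommGroup B] [Fintype B] (T : Representation ℂ B E)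

/-- isotypic component of `v` for the linear character `lam` -/
noncomputable def comp (lam : B →* ℂˣ) (v : E) : E :=
  ((Fintype.card B : ℂ)⁻¹) • ∑ b : B, (((lam b)⁻¹ : ℂˣ) : ℂ) • T b v

theorem T_comp (lam : B →* ℂˣ) (a : B) (v : E) :
    T a (comp T lam v) = ((lam a : ℂˣ) : ℂ) • comp T lam v := by
  unfold comp
  rw [map_smul, map_sum, smul_comm ((lam a : ℂˣ) : ℂ)]
  congr 1
  rw [Finset.smul_sum]
  rw [← Equiv.sum_comp (Equiv.mulLeft a)
    (fun b => ((lam a : ℂˣ) : ℂ) • (((lam b)⁻¹ : ℂˣ) : ℂ) • T b v)]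
  apply Finset.sum_congr rfl
  intro b _
  simp only [Equiv.coe_mulLeft, map_smul, map_mul, mul_inv_rev, Units.val_mul, Module.End.mul_apply]
  rw [smul_smul]
  congr 1
  rw [mul_comm (((lam b)⁻¹ : ℂˣ) : ℂ), ← mul_assoc, ← Units.val_mul, mul_inv_cancel, Units.val_one,
    one_mul]

theorem sum_comp [Fintype (B →* ℂˣ)] (v : E) : ∑ lam : B →* ℂˣ, comp T lam v = v := by
  classical
  unfold comp
  rw [← Finset.smul_sum, Finset.sum_comm]
  have h1 : ∀ b : B, ∑ lam : B →* ℂˣ, (((lam b)⁻¹ : ℂˣ) : ℂ) • T b v =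
      (if b = 1 then (Nat.card B : ℂ) else 0) • T b v := by
    intro b
    rw [← Finset.sum_smul]
    congr 1
    have h2 := Cfsg.Agent.Lib.Helper4.sum_monoidHom_apply (A := B) b⁻¹
    simp only [map_inv, inv_eq_one] at h2
    exact h2
  rw [Finset.sum_congr rfl (fun b _ => h1 b)]
  rw [Finset.sum_eq_single (1 : B)]
  · rw [if_pos rfl, map_one, Module.End.one_apply, smul_smul, Nat.card_eq_fintype_card,
      inv_mul_cancel₀, one_smul]
    exact Nat.cast_ne_zero.mpr Fintype.card_ne_zero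
  · intro b _ hb
    rw [if_neg hb, zero_smul]
  · intro h
    exact absurd (Finset.mem_univ _) h

theorem norm_lam (lam : B →* ℂˣ) (b : B) : ‖((lam b : ℂˣ) : ℂ)‖ = 1 := by
  apply Complex.norm_eq_one_of_pow_eq_one (n := Fintype.card B)
  · rw [← Units.val_pow_eq_pow_val, ← map_pow, pow_card_eq_one, map_one, Units.val_one]
  · exact Fintype.card_ne_zero

theorem inner_comp_eq_zero (hiso : ∀ b v, ‖T b v‖ = ‖v‖) {lam mu : B →* ℂˣ} (h : lam ≠ mu)
    (v w : E) : ⟪comp T lam v, comp T mu w⟫_ℂ = 0 := by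
  have h1 : ∃ b : B, lam b ≠ mu b := by
    by_contra hcon
    exact h (MonoidHom.ext fun b => not_not.mp fun hb => hcon ⟨b, hb⟩)
  obtain ⟨b, hb⟩ := h1
  exact inner_eq_zero_of_eigen (T b) (hiso b) (norm_lam lam b) (T_comp T lam b v)
    (T_comp T mu b w) (fun hc => hb (Units.ext hc))

end Decomp

end Cfsg.Agent.Lib.Helper4.Jordan
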