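import Mathlib
import Cfsg.Agent.Lib.Helper4.JordanA

set_option autoImplicit false

namespace Cfsg.Agent.Lib.Helper4.Jordan

open scoped InnerProductSpace ComplexConjugate

variable {E : Type*} [NormedAddCommGroup E] [InnerProductSpace ℂ E]
variable {G : Type*} [Group G] (T : Representation ℂ G E)

theorem T_inv_apply (g : G) (v : E) : T g⁻¹ (T g v) = v := by
  rw [← Module.End.mul_apply, ← map_mul, inv_mul_cancel, map_one, Module.End.one_apply]

theorem T_apply_inv (g : G) (v : E) : T g (T g⁻¹ v) = v := by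
  rw [← Module.End.mul_apply, ← map_mul, mul_inv_cancel, map_one, Module.End.one_apply]

theorem T_mul_apply (g h : G) (v : E) : T (g * h) v = T g (T h v) := by
  rw [map_mul, Module.End.mul_apply]

/-- a vector orthogonal to its image under a map close to the identity vanishes -/
theorem eq_zero_of_inner_eq_zero (y : G) (s : ℝ) (hs : s < 1)
    (hY : ∀ v, ‖v - T y v‖ ≤ s * ‖v‖) (u : E) (h0 : ⟪u, T y u⟫_ℂ = 0) : u = 0 := by
  have h1 : (⟪u, u - T y u⟫_ℂ).re = ‖u‖ ^ 2 := by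
    rw [inner_sub_right, h0, sub_zero]
    exact inner_self_eq_norm_sq (𝕜 := ℂ) u
  have h2 : (⟪u, u - T y u⟫_ℂ).re ≤ ‖u‖ * (s * ‖u‖) := by
    calc (⟪u, u - T y u⟫_ℂ).re ≤ ‖⟪u, u - T y u⟫_ℂ‖ := Complex.re_le_norm _
      _ ≤ ‖u‖ * ‖u - T y u‖ := norm_inner_le_norm _ _
      _ ≤ ‖u‖ * (s * ‖u‖) := mul_le_mul_of_nonneg_left (hY u) (norm_nonneg _)
  rw [h1] at h2
  have h3 : (1 - s) * ‖u‖ ^ 2 ≤ 0 := by nlinarith
  have h4 : ‖u‖ ^ 2 ≤ 0 := by
    by_contra hc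
    push Not at hc
    have : 0 < (1 - s) * ‖u‖ ^ 2 := mul_pos (by linarith) hc
    linarith
  have h5 : ‖u‖ = 0 := by
    have := sq_nonneg ‖u‖
    exact pow_eq_zero_iff (two_ne_zero) |>.mp (le_antisymm h4 this)
  exact norm_eq_zero.mp h5

theorem hom_zpowers_ne {x : G} {mu mu' : ↥(Subgroup.zpowers x) →* ℂˣ} (h : mu ≠ mu') :
    ((mu ⟨x, Subgroup.mem_zpowers x⟩ : ℂˣ) : ℂ) ≠ ((mu' ⟨x, Subgroup.mem_zpowers x⟩ : ℂˣ) : ℂ) := by
  intro hc
  apply h
  have hc' : mu ⟨x, Subgroup.mem_zpowers x⟩ = mu' ⟨x, Subgroup.mem_zpowers x⟩ := Units.ext hc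
  apply MonoidHom.ext
  rintro ⟨b, hb⟩
  obtain ⟨k, rfl⟩ := Subgroup.mem_zpowers_iff.mp hb
  have : (⟨x ^ k, hb⟩ : ↥(Subgroup.zpowers x)) = (⟨x, Subgroup.mem_zpowers x⟩ : ↥(Subgroup.zpowers x)) ^ k := by
    apply Subtype.ext
    simp
  rw [this, map_zpow, map_zpow, hc']

section Finite

variable [Finite G]

/-- key lemma: on eigenvectors -/
theorem eigen_of_near (hiso : ∀ g v, ‖T g v‖ = ‖v‖) (x y : G)
    (hcomm : x * (y⁻¹ * x * y) = (y⁻¹ * x * y) * x) (s : ℝ) (hs : s < 1)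
    (hY : ∀ v, ‖v - T y v‖ ≤ s * ‖v‖) (α : ℂ) (hα : ‖α‖ = 1) (v : E) (hv : T x v = α • v) :
    T x (T y v) = α • T y v := by
  classical
  letI : CommGroup ↥(Subgroup.zpowers x) :=
    { (inferInstance : Group ↥(Subgroup.zpowers x)) with mul_comm := fun a b => mul_comm' a b }
  haveI : Fintype ↥(Subgroup.zpowers x) := Fintype.ofFinite _
  haveI : Finite (↥(Subgroup.zpowers x) →* ℂˣ) := Cfsg.Agent.Lib.Helper4.finite_monoidHom_units
  haveI : Fintype (↥(Subgroup.zpowers x) →* ℂˣ) := Fintype.ofFinite _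
  let TB : Representation ℂ ↥(Subgroup.zpowers x) E := T.comp (Subgroup.zpowers x).subtype
  let xB : ↥(Subgroup.zpowers x) := ⟨x, Subgroup.mem_zpowers x⟩
  set w : (↥(Subgroup.zpowers x) →* ℂˣ) → E := fun mu => comp TB mu (T y v) with hw_def
  set u : (↥(Subgroup.zpowers x) →* ℂˣ) → E := fun mu => T y⁻¹ (w mu) with hu_def
  have hw : ∀ mu, T x (w mu) = ((mu xB : ℂˣ) : ℂ) • w mu := fun mu => T_comp TB mu xB (T y v)
  have hsumw : ∑ mu, w mu = T y v := sum_comp TB (T y v)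
  have hsumu : ∑ mu, u mu = v := by
    simp only [hu_def]
    rw [← map_sum, hsumw, T_inv_apply]
  have hyu : ∀ mu, T y (u mu) = w mu := fun mu => T_apply_inv T y (w mu)
  have hz : ∀ mu, T (y⁻¹ * x * y) (u mu) = ((mu xB : ℂˣ) : ℂ) • u mu := by
    intro mu
    rw [T_mul_apply, T_mul_apply, hyu, hw, map_smul]
  have hxz : ∀ e, T x (T (y⁻¹ * x * y) e) = T (y⁻¹ * x * y) (T x e) := by
    intro e
    rw [← T_mul_apply, ← T_mul_apply, hcomm]
  set d : (↥(Subgroup.zpowers x) →* ℂˣ) → E := fun mu => T x (u mu) - α • u mu with hd_def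
  have hd : ∀ mu, T (y⁻¹ * x * y) (d mu) = ((mu xB : ℂˣ) : ℂ) • d mu := by
    intro mu
    have e1 : T (y⁻¹ * x * y) (T x (u mu)) = ((mu xB : ℂˣ) : ℂ) • T x (u mu) := by
      rw [← hxz, hz, map_smul]
    have e2 : T (y⁻¹ * x * y) (α • u mu) = ((mu xB : ℂˣ) : ℂ) • (α • u mu) := by
      rw [map_smul, hz, smul_comm]
    simp only [hd_def]
    rw [map_sub, e1, e2, smul_sub]
  have hsumd : ∑ mu, d mu = 0 := by
    simp only [hd_def]
    rw [Finset.sum_sub_distrib, ← map_sum, ← Finset.smul_sum, hsumu, hv, sub_self]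
  have horth : ∀ mu mu', mu ≠ mu' → ⟪d mu, d mu'⟫_ℂ = 0 := by
    intro mu mu' hne
    exact inner_eq_zero_of_eigen (T (y⁻¹ * x * y)) (hiso _) (norm_lam mu xB) (hd mu) (hd mu')
      (hom_zpowers_ne hne)
  have hd0 : ∀ mu, d mu = 0 := eq_zero_of_sum_eq_zero_of_orthogonal d horth hsumd
  have hxu : ∀ mu, T x (u mu) = α • u mu := fun mu => sub_eq_zero.mp (hd0 mu)
  have hw0 : ∀ mu, ((mu xB : ℂˣ) : ℂ) ≠ α → w mu = 0 := by
    intro mu hne
    have h1 : ⟪u mu, w mu⟫_ℂ = 0 :=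
      inner_eq_zero_of_eigen (T x) (hiso x) hα (hxu mu) (hw mu) (Ne.symm hne)
    rw [← hyu mu] at h1
    have h2 := eq_zero_of_inner_eq_zero T y s hs hY (u mu) h1
    rw [← hyu mu, h2, map_zero]
  rw [← hsumw, map_sum, Finset.smul_sum]
  apply Finset.sum_congr rfl
  intro mu _
  by_cases h : ((mu xB : ℂˣ) : ℂ) = α
  · rw [hw, h]
  · rw [hw0 mu h, map_zero, smul_zero]

theorem commute_of_near (hiso : ∀ g v, ‖T g v‖ = ‖v‖) (x y : G)
    (hcomm : x * (y⁻¹ * x * y) = (y⁻¹ * x * y) * x) (s : ℝ) (hs : s < 1)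
    (hY : ∀ v, ‖v - T y v‖ ≤ s * ‖v‖) (v : E) : T x (T y v) = T y (T x v) := by
  classical
  letI : CommGroup ↥(Subgroup.zpowers x) :=
    { (inferInstance : Group ↥(Subgroup.zpowers x)) with mul_comm := fun a b => mul_comm' a b }
  haveI : Fintype ↥(Subgroup.zpowers x) := Fintype.ofFinite _
  haveI : Finite (↥(Subgroup.zpowers x) →* ℂˣ) := Cfsg.Agent.Lib.Helper4.finite_monoidHom_units
  haveI : Fintype (↥(Subgroup.zpowers x) →* ℂˣ) := Fintype.ofFinite _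
  let TB : Representation ℂ ↥(Subgroup.zpowers x) E := T.comp (Subgroup.zpowers x).subtype
  let xB : ↥(Subgroup.zpowers x) := ⟨x, Subgroup.mem_zpowers x⟩
  have hdec := sum_comp TB v
  have key : ∀ lam, T x (T y (comp TB lam v)) = T y (T x (comp TB lam v)) := by
    intro lam
    have h1 : T x (comp TB lam v) = ((lam xB : ℂˣ) : ℂ) • comp TB lam v := T_comp TB lam xB v
    rw [eigen_of_near T hiso x y hcomm s hs hY _ (norm_lam lam xB) _ h1, h1, map_smul]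
  calc T x (T y v) = T x (T y (∑ lam, comp TB lam v)) := by rw [hdec]
    _ = ∑ lam, T x (T y (comp TB lam v)) := by rw [map_sum, map_sum]
    _ = ∑ lam, T y (T x (comp TB lam v)) := Finset.sum_congr rfl (fun lam _ => key lam)
    _ = T y (T x (∑ lam, comp TB lam v)) := by rw [map_sum, map_sum]
    _ = T y (T x v) := by rw [hdec]

end Finite

end Cfsg.Agent.Lib.Helper4.Jordan
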