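import Mathlib
import Cfsg.Agent.Lib.Helper4.JordanB

set_option autoImplicit false
set_option linter.style.haveILetI false
set_option linter.unusedSectionVars false

namespace Cfsg.Agent.Lib.Helper4.Jordan

open scoped InnerProductSpace ComplexConjugate

variable {E : Type*} [NormedAddCommGroup E] [InnerProductSpace ℂ E] [FiniteDimensional ℂ E]
variable {G : Type*} [Group G] (T : Representation ℂ G E)

/-- the constant `√3 / 2` -/
noncomputable def cc : ℝ := Real.sqrt 3 / 2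

theorem cc_sq : cc ^ 2 = 3 / 4 := by
  unfold cc
  rw [div_pow, Real.sq_sqrt (by norm_num : (0 : ℝ) ≤ 3)]
  norm_num

theorem half_lt_cc : (1 : ℝ) / 2 < cc := by
  have h1 : (0 : ℝ) ≤ cc := by unfold cc; positivity
  nlinarith [cc_sq]

theorem cc_lt_one : cc < 1 := by
  have h1 : (0 : ℝ) ≤ cc := by unfold cc; positivity
  nlinarith [cc_sq]

/-- distance of `T g` from the identity, as an operator norm -/
noncomputable def dist1 (g : G) : ℝ := ‖LinearMap.toContinuousLinearMap (1 - T g)‖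

theorem dist1_nonneg (g : G) : 0 ≤ dist1 T g := norm_nonneg _

theorem le_dist1 (g : G) (v : E) : ‖v - T g v‖ ≤ dist1 T g * ‖v‖ := by
  have h := (LinearMap.toContinuousLinearMap (1 - T g)).le_opNorm v
  simpa [dist1] using h

theorem dist1_le (g : G) (s : ℝ) (hs : 0 ≤ s) (h : ∀ v, ‖v - T g v‖ ≤ s * ‖v‖) :
    dist1 T g ≤ s := by
  apply ContinuousLinearMap.opNorm_le_bound _ hs
  intro v
  simpa using h v

theorem eq_one_of_dist1_eq_zero (g : G) (h : dist1 T g = 0) : T g = 1 := by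
  apply LinearMap.ext
  intro v
  have h1 := le_dist1 T g v
  rw [h, zero_mul] at h1
  have h2 : v - T g v = 0 := norm_eq_zero.mp (le_antisymm h1 (norm_nonneg _))
  rw [Module.End.one_apply]
  exact (sub_eq_zero.mp h2).symm

/-- membership in the generating set: `T g` is within `1/2` of the scalar `√3/2` -/
def InS (g : G) : Prop := ∃ r : ℝ, 0 ≤ r ∧ r < 1 / 2 ∧ ∀ v : E, ‖T g v - (cc : ℂ) • v‖ ≤ r * ‖v‖

theorem norm_cc_smul (v : E) : ‖v - (cc : ℂ) • v‖ = (1 - cc) * ‖v‖ := by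
  have h : v - (cc : ℂ) • v = ((1 - cc : ℝ) : ℂ) • v := by
    rw [Complex.ofReal_sub, Complex.ofReal_one, sub_smul, one_smul]
  rw [h, norm_smul, Complex.norm_real, Real.norm_eq_abs, abs_of_nonneg (by linarith [cc_lt_one])]

theorem dist1_lt_one_of_inS (g : G) (h : InS T g) : dist1 T g < 1 := by
  obtain ⟨r, hr0, hr, hb⟩ := h
  have h1 : dist1 T g ≤ (1 - cc) + r := by
    apply dist1_le T g _ (by linarith [cc_lt_one])
    intro v
    calc ‖v - T g v‖ = ‖(v - (cc : ℂ) • v) - (T g v - (cc : ℂ) • v)‖ := by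
          congr 1; abel
      _ ≤ ‖v - (cc : ℂ) • v‖ + ‖T g v - (cc : ℂ) • v‖ := norm_sub_le _ _
      _ ≤ (1 - cc) * ‖v‖ + r * ‖v‖ := by
          rw [norm_cc_smul]
          exact add_le_add le_rfl (hb v)
      _ = ((1 - cc) + r) * ‖v‖ := by ring
  linarith [half_lt_cc]

theorem inS_conj (hiso : ∀ g v, ‖T g v‖ = ‖v‖) (g x : G) (h : InS T x) : InS T (g * x * g⁻¹) := by
  obtain ⟨r, hr0, hr, hb⟩ := h
  refine ⟨r, hr0, hr, ?_⟩
  intro v
  have h1 : T (g * x * g⁻¹) v - (cc : ℂ) • v =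
      T g (T x (T g⁻¹ v) - (cc : ℂ) • T g⁻¹ v) := by
    rw [map_sub, map_smul, T_apply_inv, T_mul_apply, T_mul_apply]
  rw [h1, hiso]
  calc ‖T x (T g⁻¹ v) - (cc : ℂ) • T g⁻¹ v‖ ≤ r * ‖T g⁻¹ v‖ := hb _
    _ = r * ‖v‖ := by rw [hiso]

/-- contraction estimate for commutators -/
theorem dist1_comm_le (hiso : ∀ g v, ‖T g v‖ = ‖v‖) (x y : G) (r : ℝ) (hr0 : 0 ≤ r)
    (hb : ∀ v : E, ‖T x v - (cc : ℂ) • v‖ ≤ r * ‖v‖) :
    dist1 T (x⁻¹ * y⁻¹ * x * y) ≤ 2 * r * dist1 T y := by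
  apply dist1_le T _ _ (by have := dist1_nonneg T y; positivity)
  intro v
  have h1 : v - T (x⁻¹ * y⁻¹ * x * y) v = T (x⁻¹ * y⁻¹) (T y (T x v) - T x (T y v)) := by
    rw [map_sub, ← T_mul_apply, ← T_mul_apply, ← T_mul_apply, ← T_mul_apply]
    have e1 : x⁻¹ * y⁻¹ * y * x = 1 := by group
    rw [e1, map_one, Module.End.one_apply]
  rw [h1, hiso]
  have h2 : T y (T x v) - T x (T y v) =
      (T y (T x v - (cc : ℂ) • v) - (T x v - (cc : ℂ) • v)) -
        (T x (T y v - v) - (cc : ℂ) • (T y v - v)) := by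
    simp only [map_sub, map_smul, smul_sub]
    abel
  rw [h2]
  have h3 : ‖T y (T x v - (cc : ℂ) • v) - (T x v - (cc : ℂ) • v)‖ ≤ dist1 T y * (r * ‖v‖) := by
    rw [← norm_neg, neg_sub]
    calc ‖(T x v - (cc : ℂ) • v) - T y (T x v - (cc : ℂ) • v)‖
        ≤ dist1 T y * ‖T x v - (cc : ℂ) • v‖ := le_dist1 T y _
      _ ≤ dist1 T y * (r * ‖v‖) := mul_le_mul_of_nonneg_left (hb v) (dist1_nonneg T y)
  have h4 : ‖T x (T y v - v) - (cc : ℂ) • (T y v - v)‖ ≤ r * (dist1 T y * ‖v‖) := by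
    calc ‖T x (T y v - v) - (cc : ℂ) • (T y v - v)‖ ≤ r * ‖T y v - v‖ := hb _
      _ = r * ‖v - T y v‖ := by rw [norm_sub_rev]
      _ ≤ r * (dist1 T y * ‖v‖) := mul_le_mul_of_nonneg_left (le_dist1 T y v) hr0
  calc _ ≤ ‖T y (T x v - (cc : ℂ) • v) - (T x v - (cc : ℂ) • v)‖ +
        ‖T x (T y v - v) - (cc : ℂ) • (T y v - v)‖ := norm_sub_le _ _
    _ ≤ dist1 T y * (r * ‖v‖) + r * (dist1 T y * ‖v‖) := add_le_add h3 h4
    _ = 2 * r * dist1 T y * ‖v‖ := by ring

section Finite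

variable [Finite G]

/-- Frobenius: elements of `S` commute with all elements close to the identity -/
theorem comm_of_inS_of_near (hiso : ∀ g v, ‖T g v‖ = ‖v‖) (hinj : Function.Injective T) (x : G)
    (hx : InS T x) : ∀ y : G, dist1 T y < 1 → x * y = y * x := by
  obtain ⟨r, hr0, hr, hb⟩ := hx
  have hwf : WellFounded (fun a b : G => dist1 T a < dist1 T b) :=
    Finite.wellFounded_of_trans_of_irrefl _
  intro y
  induction y using hwf.induction with
  | _ y ih =>
    intro hy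
    by_cases h0 : dist1 T y = 0
    · have h1 : T y = T 1 := by rw [eq_one_of_dist1_eq_zero T y h0, map_one]
      rw [hinj h1, mul_one, one_mul]
    · have hpos : 0 < dist1 T y := lt_of_le_of_ne (dist1_nonneg T y) (Ne.symm h0)
      have h1 : dist1 T (x⁻¹ * y⁻¹ * x * y) < dist1 T y := by
        calc dist1 T (x⁻¹ * y⁻¹ * x * y) ≤ 2 * r * dist1 T y := dist1_comm_le T hiso x y r hr0 hb
          _ < 1 * dist1 T y := by
              apply mul_lt_mul_of_pos_right _ hpos
              linarith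
          _ = dist1 T y := one_mul _
      have h2 := ih _ h1 (lt_trans h1 hy)
      have hcomm : x * (y⁻¹ * x * y) = (y⁻¹ * x * y) * x := by
        have e1 : y⁻¹ * x * y = x * (x⁻¹ * y⁻¹ * x * y) := by group
        rw [e1, mul_assoc x, ← h2]
      have h3 : ∀ v, T x (T y v) = T y (T x v) :=
        commute_of_near T hiso x y hcomm (dist1 T y) hy (le_dist1 T y)
      apply hinj
      apply LinearMap.ext
      intro v
      rw [T_mul_apply, T_mul_apply, h3]

theorem comm_of_inS (hiso : ∀ g v, ‖T g v‖ = ‖v‖) (hinj : Function.Injective T) (x y : G)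
    (hx : InS T x) (hy : InS T y) : x * y = y * x :=
  comm_of_inS_of_near T hiso hinj x hx y (dist1_lt_one_of_inS T y hy)

end Finite

end Cfsg.Agent.Lib.Helper4.Jordan
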