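import Mathlib
import Cfsg.Agent.Lib.Helper4.JordanC

set_option autoImplicit false
set_option linter.style.haveILetI false
set_option linter.unusedSectionVars false

namespace Cfsg.Agent.Lib.Helper4.Jordan

open scoped InnerProductSpace ComplexConjugate

/-- sector index of a complex number: twelve half-open sectors of angle `π/6` -/
noncomputable def sector (z : ℂ) : ℕ := ⌊(Real.pi - Complex.arg z) * 6 / Real.pi⌋₊

theorem sector_arg_nonneg (z : ℂ) : 0 ≤ (Real.pi - Complex.arg z) * 6 / Real.pi := by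
  have h1 := Complex.arg_le_pi z
  have h2 := Real.pi_pos
  apply div_nonneg _ h2.le
  nlinarith

theorem sector_lt (z : ℂ) : sector z < 12 := by
  unfold sector
  rw [Nat.floor_lt (sector_arg_nonneg z)]
  have h1 := Complex.neg_pi_lt_arg z
  have h2 := Real.pi_pos
  rw [div_lt_iff₀ h2]
  push_cast
  nlinarith

theorem re_gt_of_sector_eq (z w : ℂ) (hz : ‖z‖ = 1) (hw : ‖w‖ = 1) (h : sector z = sector w) :
    cc < (z * (starRingEnd ℂ) w).re := by
  have h2 := Real.pi_pos
  set a := (Real.pi - Complex.arg z) * 6 / Real.pi with ha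
  set b := (Real.pi - Complex.arg w) * 6 / Real.pi with hb
  have ha0 : 0 ≤ a := sector_arg_nonneg z
  have hb0 : 0 ≤ b := sector_arg_nonneg w
  have h3 : |a - b| < 1 := by
    have e1 := Nat.floor_le ha0
    have e2 := Nat.lt_floor_add_one a
    have e3 := Nat.floor_le hb0
    have e4 := Nat.lt_floor_add_one b
    have e5 : (⌊a⌋₊ : ℝ) = ⌊b⌋₊ := by
      have : ⌊a⌋₊ = ⌊b⌋₊ := h
      rw [this]
    rw [abs_lt]
    constructor <;> linarith
  have h4 : a - b = (Complex.arg w - Complex.arg z) * 6 / Real.pi := by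
    rw [ha, hb]
    field_simp
    ring
  have h5 : |Complex.arg z - Complex.arg w| < Real.pi / 6 := by
    rw [h4, abs_div, abs_mul, abs_of_pos h2, abs_of_pos (by norm_num : (0 : ℝ) < 6),
      div_lt_one h2] at h3
    rw [abs_sub_comm]
    linarith
  have hz' : z = Complex.exp (Complex.arg z * Complex.I) := by
    have := Complex.norm_mul_exp_arg_mul_I z
    rw [hz, Complex.ofReal_one, one_mul] at this
    exact this.symm
  have hw' : w = Complex.exp (Complex.arg w * Complex.I) := by
    have := Complex.norm_mul_exp_arg_mul_I w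
    rw [hw, Complex.ofReal_one, one_mul] at this
    exact this.symm
  have h6 : z * (starRingEnd ℂ) w =
      Complex.exp (((Complex.arg z - Complex.arg w : ℝ) : ℂ) * Complex.I) := by
    conv_lhs => rw [hz', hw']
    rw [← Complex.exp_conj, ← Complex.exp_add]
    congr 1
    simp only [map_mul, Complex.conj_ofReal, Complex.conj_I, Complex.ofReal_sub]
    ring
  rw [h6, Complex.exp_ofReal_mul_I_re, ← Real.cos_abs]
  have h7 : cc = Real.cos (Real.pi / 6) := by
    rw [Real.cos_pi_div_six]
    rfl
  rw [h7]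
  apply Real.cos_lt_cos_of_nonneg_of_le_pi_div_two (abs_nonneg _) _ h5
  linarith

theorem norm_sub_cc_lt (u : ℂ) (hu : ‖u‖ = 1) (h : cc < u.re) : ‖u - (cc : ℂ)‖ < 1 / 2 := by
  have h1 : ‖u - (cc : ℂ)‖ ^ 2 = 1 - 2 * cc * u.re + cc ^ 2 := by
    rw [← Complex.normSq_eq_norm_sq, Complex.normSq_apply]
    have h2 : u.re * u.re + u.im * u.im = 1 := by
      have := Complex.normSq_eq_norm_sq u
      rw [hu, Complex.normSq_apply] at this
      linarith
    simp only [Complex.sub_re, Complex.ofReal_re, Complex.sub_im, Complex.ofReal_im, sub_zero]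
    nlinarith
  have h3 : ‖u - (cc : ℂ)‖ ^ 2 < (1 / 2) ^ 2 := by
    rw [h1]
    have := cc_sq
    have hc := half_lt_cc
    nlinarith
  exact lt_of_pow_lt_pow_left₀ 2 (by norm_num) h3

variable {E : Type*} [NormedAddCommGroup E] [InnerProductSpace ℂ E] [FiniteDimensional ℂ E]
variable {G : Type*} [Group G] [Finite G] (T : Representation ℂ G E)

/-- the index bound: an abelian subgroup meets any subgroup containing `S` in index `≤ 12^n` -/
theorem index_le (hiso : ∀ g v, ‖T g v‖ = ‖v‖) (A : Subgroup G) (hSA : ∀ g, InS T g → g ∈ A)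
    (H : Subgroup G) (hH : ∀ x ∈ H, ∀ y ∈ H, x * y = y * x) :
    (A.subgroupOf H).index ≤ 12 ^ Module.finrank ℂ E := by
  classical
  letI : CommGroup ↥H :=
    { (inferInstance : Group ↥H) with
      mul_comm := fun a b => Subtype.ext (hH a a.2 b b.2) }
  haveI : Fintype ↥H := Fintype.ofFinite _
  haveI : Finite (↥H →* ℂˣ) := Cfsg.Agent.Lib.Helper4.finite_monoidHom_units
  haveI : Fintype (↥H →* ℂˣ) := Fintype.ofFinite _
  let TH : Representation ℂ ↥H E := T.comp H.subtype
  have hisoH : ∀ b v, ‖TH b v‖ = ‖v‖ := fun b v => hiso _ v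
  let Λ : Finset (↥H →* ℂˣ) := Finset.univ.filter (fun lam => ∃ v, comp TH lam v ≠ 0)
  -- cardinality of Λ
  have hcard : Λ.card ≤ Module.finrank ℂ E := by
    have hex : ∀ lam : ↥Λ, ∃ v, comp TH lam.1 v ≠ 0 := fun lam => (Finset.mem_filter.mp lam.2).2
    choose vv hvv using hex
    have hli : LinearIndependent ℂ (fun lam : ↥Λ => comp TH lam.1 (vv lam)) := by
      apply linearIndependent_of_ne_zero_of_inner_eq_zero hvv
      intro lam mu hne
      exact inner_comp_eq_zero TH hisoH (fun h => hne (Subtype.ext h)) _ _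
    have := hli.fintype_card_le_finrank
    rwa [Fintype.card_coe] at this
  -- the box map
  let f : ↥H → (↥Λ → Fin 12) := fun h lam => ⟨sector ((lam.1 h : ℂˣ) : ℂ), sector_lt _⟩
  have hf : ∀ h k : ↥H, f h = f k → h⁻¹ * k ∈ A.subgroupOf H := by
    intro h k hfk
    rw [Subgroup.mem_subgroupOf]
    apply hSA
    set g : ↥H := h⁻¹ * k with hg
    have hlam : ∀ lam ∈ Λ, ‖((lam g : ℂˣ) : ℂ) - (cc : ℂ)‖ < 1 / 2 := by
      intro lam hlam
      have e1 : sector ((lam h : ℂˣ) : ℂ) = sector ((lam k : ℂˣ) : ℂ) := by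
        have := congrFun hfk ⟨lam, hlam⟩
        exact congrArg Fin.val this
      have e2 := re_gt_of_sector_eq _ _ (norm_lam lam k) (norm_lam lam h) e1.symm
      have e3 : ((lam g : ℂˣ) : ℂ) = ((lam k : ℂˣ) : ℂ) * (starRingEnd ℂ) ((lam h : ℂˣ) : ℂ) := by
        rw [hg, map_mul, map_inv, Units.val_mul, Units.val_inv_eq_inv_val,
          Complex.inv_eq_conj (norm_lam lam h), mul_comm]
      rw [e3]
      apply norm_sub_cc_lt _ _ e2
      rw [← e3]
      exact norm_lam lam g
    let rr : NNReal := Λ.sup (fun lam => ‖((lam g : ℂˣ) : ℂ) - (cc : ℂ)‖₊)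
    have hrr : (rr : ℝ) < 1 / 2 := by
      have h1 : rr < (1 / 2 : NNReal) := by
        rw [Finset.sup_lt_iff (by norm_num : (⊥ : NNReal) < 1 / 2)]
        intro lam hlam'
        have := hlam lam hlam'
        rw [← NNReal.coe_lt_coe]
        simpa using this
      have := NNReal.coe_lt_coe.mpr h1
      simpa using this
    refine ⟨rr, rr.2, hrr, ?_⟩
    intro v
    have hdec := sum_comp TH v
    have h1 : T (g : G) v - (cc : ℂ) • v =
        ∑ lam : ↥H →* ℂˣ, (((lam g : ℂˣ) : ℂ) - (cc : ℂ)) • comp TH lam v := by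
      have h2 : T (g : G) v = ∑ lam : ↥H →* ℂˣ, ((lam g : ℂˣ) : ℂ) • comp TH lam v := by
        conv_lhs => rw [← hdec]
        rw [map_sum]
        apply Finset.sum_congr rfl
        intro lam _
        exact T_comp TH lam g v
      have h3 : (cc : ℂ) • v = ∑ lam : ↥H →* ℂˣ, (cc : ℂ) • comp TH lam v := by
        rw [← Finset.smul_sum, hdec]
      rw [h2, h3, ← Finset.sum_sub_distrib]
      apply Finset.sum_congr rfl
      intro lam _
      rw [sub_smul]
    rw [h1]
    have h4 := norm_sum_smul_le (fun lam : ↥H →* ℂˣ => comp TH lam v)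
      (fun lam => ((lam g : ℂˣ) : ℂ) - (cc : ℂ)) (rr : ℝ) rr.2
      (fun lam mu hne => inner_comp_eq_zero TH hisoH hne v v) (by
        intro lam
        by_cases hl : lam ∈ Λ
        · rw [norm_smul]
          apply mul_le_mul_of_nonneg_right _ (norm_nonneg _)
          have : ‖((lam g : ℂˣ) : ℂ) - (cc : ℂ)‖₊ ≤ rr :=
            Finset.le_sup (f := fun lam => ‖((lam g : ℂˣ) : ℂ) - (cc : ℂ)‖₊) hl
          exact_mod_cast this
        · have h0 : comp TH lam v = 0 := by
            by_contra hne
            exact hl (Finset.mem_filter.mpr ⟨Finset.mem_univ _, v, hne⟩)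
          rw [h0, smul_zero, norm_zero, mul_zero])
    rw [hdec] at h4
    exact h4
  -- counting
  have hinj : Function.Injective
      (fun q : ↥H ⧸ A.subgroupOf H => f (Quotient.out q)) := by
    intro q q' hqq
    have h1 := hf _ _ hqq
    have h2 : (QuotientGroup.mk (Quotient.out q) : ↥H ⧸ A.subgroupOf H) =
        QuotientGroup.mk (Quotient.out q') := QuotientGroup.eq.mpr h1
    rw [QuotientGroup.out_eq', QuotientGroup.out_eq'] at h2
    exact h2
  have h1 : Nat.card (↥H ⧸ A.subgroupOf H) ≤ Nat.card (↥Λ → Fin 12) :=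
    Nat.card_le_card_of_injective _ hinj
  have h2 : Nat.card (↥Λ → Fin 12) = 12 ^ Λ.card := by
    rw [Nat.card_eq_fintype_card, Fintype.card_fun, Fintype.card_fin, Fintype.card_coe]
  rw [h2] at h1
  calc (A.subgroupOf H).index = Nat.card (↥H ⧸ A.subgroupOf H) := rfl
    _ ≤ 12 ^ Λ.card := h1
    _ ≤ 12 ^ Module.finrank ℂ E := Nat.pow_le_pow_right (by norm_num) hcard

/-- Jordan's theorem, abstract unitary form -/
theorem jordan_abstract (hiso : ∀ g v, ‖T g v‖ = ‖v‖) (hinj : Function.Injective T) :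
    ∃ A : Subgroup G, A.Normal ∧ (∀ x ∈ A, ∀ y ∈ A, x * y = y * x) ∧
      ∀ H : Subgroup G, (∀ x ∈ H, ∀ y ∈ H, x * y = y * x) →
        (A.subgroupOf H).index ≤ 12 ^ Module.finrank ℂ E := by
  refine ⟨Subgroup.closure {g | InS T g}, ?_, ?_, ?_⟩
  · constructor
    intro a ha g
    induction ha using Subgroup.closure_induction with
    | mem x hx => exact Subgroup.subset_closure (inS_conj T hiso g x hx)
    | one => simp
    | mul x y _ _ hx hy =>
      have : g * (x * y) * g⁻¹ = (g * x * g⁻¹) * (g * y * g⁻¹) := by group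
      rw [this]
      exact Subgroup.mul_mem _ hx hy
    | inv x _ hx =>
      have : g * x⁻¹ * g⁻¹ = (g * x * g⁻¹)⁻¹ := by group
      rw [this]
      exact Subgroup.inv_mem _ hx
  · have h1 : Subgroup.closure {g | InS T g} ≤ Subgroup.centralizer ({g | InS T g} : Set G) := by
      rw [Subgroup.closure_le]
      intro s hs
      rw [SetLike.mem_coe, Subgroup.mem_centralizer_iff]
      intro t ht
      exact comm_of_inS T hiso hinj t s ht hs
    have h2 : Subgroup.closure {g | InS T g} ≤
        Subgroup.centralizer (Subgroup.closure {g | InS T g} : Set G) := by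
      rw [Subgroup.closure_le]
      intro s hs
      rw [SetLike.mem_coe, Subgroup.mem_centralizer_iff]
      intro t ht
      have := h1 ht
      rw [Subgroup.mem_centralizer_iff] at this
      exact (this s hs).symm
    intro x hx y hy
    have := h2 hy
    rw [Subgroup.mem_centralizer_iff] at this
    exact this x hx
  · intro H hH
    exact index_le T hiso _ (fun g hg => Subgroup.subset_closure hg) H hH

end Cfsg.Agent.Lib.Helper4.Jordan
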