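import Mathlib
import Cfsg.Agent.Lib.Helper4.JordanD

set_option autoImplicit false
set_option linter.style.haveILetI false
set_option linter.unusedSectionVars false

namespace Cfsg.Agent.Lib.Helper4.Jordan

open scoped ComplexConjugate

section avg

variable {G : Type*} [Group G] [Fintype G] {n : ℕ} (ρ : Representation ℂ G (Fin n → ℂ))

/-- averaged inner product -/
noncomputable def avgInner (x y : Fin n → ℂ) : ℂ :=
  ∑ g : G, ∑ i, conj (ρ g x i) * ρ g y i

theorem avgInner_map (h : G) (x y : Fin n → ℂ) :
    avgInner ρ (ρ h x) (ρ h y) = avgInner ρ x y := by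
  unfold avgInner
  refine Fintype.sum_equiv (Equiv.mulRight h) _ _ ?_
  intro g
  simp [map_mul, Module.End.mul_apply]

theorem avgInner_term (g : G) (x : Fin n → ℂ) (i : Fin n) :
    conj (ρ g x i) * ρ g x i = ((Complex.normSq (ρ g x i) : ℝ) : ℂ) :=
  (Complex.normSq_eq_conj_mul_self).symm

/-- the averaged inner product as a core -/
@[instance_reducible]
noncomputable def avgCore : InnerProductSpace.Core ℂ (Fin n → ℂ) where
  inner := avgInner ρ
  conj_inner_symm x y := by
    simp only [avgInner, map_sum, map_mul, Complex.conj_conj]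
    refine Finset.sum_congr rfl fun g _ => Finset.sum_congr rfl fun i _ => ?_
    ring
  re_inner_nonneg x := by
    simp only [avgInner, avgInner_term]
    have h0 : (∑ g : G, ∑ i, ((Complex.normSq (ρ g x i) : ℝ) : ℂ)) =
        ((∑ g : G, ∑ i, Complex.normSq (ρ g x i) : ℝ) : ℂ) := by
      push_cast; rfl
    rw [h0]
    rw [RCLike.re_to_complex, Complex.ofReal_re]
    exact Finset.sum_nonneg fun g _ => Finset.sum_nonneg fun i _ => Complex.normSq_nonneg _
  add_left x y z := by
    simp [avgInner, map_add, add_mul, Finset.sum_add_distrib]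
  smul_left x y r := by
    simp [avgInner, map_smul, Finset.mul_sum, mul_assoc]
  definite x hx := by
    have h2 : (∑ g : G, ∑ i, Complex.normSq (ρ g x i)) = 0 := by
      have h3 : ((∑ g : G, ∑ i, Complex.normSq (ρ g x i) : ℝ) : ℂ) = 0 := by
        push_cast
        simpa only [avgInner, avgInner_term] using hx
      exact_mod_cast h3
    have h4 := (Finset.sum_eq_zero_iff_of_nonneg (fun g _ =>
      Finset.sum_nonneg (fun i _ => Complex.normSq_nonneg _))).mp h2 1 (Finset.mem_univ _)
    have h5 := fun i => (Finset.sum_eq_zero_iff_of_nonneg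
      (fun i _ => Complex.normSq_nonneg _)).mp h4 i (Finset.mem_univ _)
    funext i
    have := h5 i
    simpa using this

end avg

theorem jordan_rep {G : Type*} [Group G] [Finite G] {n : ℕ}
    (ρ : Representation ℂ G (Fin n → ℂ)) (hinj : Function.Injective ρ) :
    ∃ A : Subgroup G, A.Normal ∧ (∀ x ∈ A, ∀ y ∈ A, x * y = y * x) ∧
      ∀ H : Subgroup G, (∀ x ∈ H, ∀ y ∈ H, x * y = y * x) →
        (A.subgroupOf H).index ≤ 12 ^ n := by
  haveI : Fintype G := Fintype.ofFinite G
  letI c : InnerProductSpace.Core ℂ (Fin n → ℂ) := avgCore ρ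
  letI i1 : NormedAddCommGroup (Fin n → ℂ) :=
    @InnerProductSpace.Core.toNormedAddCommGroup ℂ _ _ _ _ c
  letI i2 : @InnerProductSpace ℂ (Fin n → ℂ) _ i1.toSeminormedAddCommGroup :=
    InnerProductSpace.ofCore c.toCore
  have hiso : ∀ g v, @norm _ i1.toNorm (ρ g v) = @norm _ i1.toNorm v := by
    intro g v
    show Real.sqrt (Complex.re (avgInner ρ (ρ g v) (ρ g v))) =
      Real.sqrt (Complex.re (avgInner ρ v v))
    rw [avgInner_map]
  have key := @jordan_abstract (Fin n → ℂ) i1 i2 inferInstance G _ _ ρ hiso hinj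
  rw [Module.finrank_fin_fun] at key
  exact key

end Cfsg.Agent.Lib.Helper4.Jordan
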