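import Mathlib
import Cfsg.Prelude.Def_Characters
import Cfsg.Agent.Lib.Helper4.Deflate
import Cfsg.Agent.Lib.Helper4.CharOrtho
import Cfsg.Agent.Lib.Helper4.Decomp
import Cfsg.Agent.Lib.Helper26.CharInt
import Cfsg.Agent.Lib.Helper26.IndChar
import Cfsg.Agent.Lib.Helper26.LinCharOrtho
import Cfsg.Agent.Lib.Helper7.ExtDet
import Cfsg.Agent.Lib.Helper14.FrattiniQuot

set_option autoImplicit false

/-!
# The common kernel of the irreducible characters of `p'`-degree (helper4)

* `sum_degree_mul_ker` : the regular character of `G ⧸ N` inflated to `G`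
* `lin_eq_one_of_constituent` : a linear constituent of `χ|_P` is trivial on `P ∩ ker χ`
* `exists_lin_ne_one` : elements outside the commutator subgroup are detected by linear characters
* `mem_frattini_of_ker_pPrime` : if `x ∈ P` (a Sylow `p`-subgroup) lies in the kernel of every
  irreducible character of `p'`-degree having the normal `p'`-subgroup `N` in its kernel, then
  `x ∈ Φ(P)`
-/

namespace Cfsg.Agent.Lib.Helper4

open Cfsg Cfsg.Agent.Lib.Helper26
open scoped ComplexConjugate

section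

variable {G : Type*} [Group G] [Fintype G]

open scoped Classical in
/-- the regular character of `G ⧸ N`, inflated to `G` -/
theorem sum_degree_mul_ker (N : Subgroup G) [N.Normal] [Fintype (Cfsg.IrrCharacter G)] (y : G) :
    ∑ χ ∈ Finset.univ.filter (fun χ : Cfsg.IrrCharacter G =>
      ∀ n ∈ N, (χ : G → ℂ) n = (χ : G → ℂ) 1), (χ : G → ℂ) 1 * (χ : G → ℂ) y =
      if y ∈ N then (N.index : ℂ) else 0 := by
  have : Fintype (G ⧸ N) := Fintype.ofFinite _
  have : Fintype (Cfsg.IrrCharacter (G ⧸ N)) := Fintype.ofFinite _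
  let π : G →* G ⧸ N := QuotientGroup.mk' N
  have hπ : Function.Surjective π := QuotientGroup.mk'_surjective N
  let ι : Cfsg.IrrCharacter (G ⧸ N) → Cfsg.IrrCharacter G := fun ψ =>
    ⟨(ψ : G ⧸ N → ℂ) ∘ π, isIrrCharacter_comp_of_surjective ψ.2 π hπ⟩
  have hι : Function.Injective ι := by
    intro χ ψ h
    apply Subtype.ext
    funext y
    obtain ⟨x, rfl⟩ := hπ y
    exact congrFun (congrArg Subtype.val h) x
  have himg : Finset.univ.filter (fun χ : Cfsg.IrrCharacter G =>
      ∀ n ∈ N, (χ : G → ℂ) n = (χ : G → ℂ) 1) = Finset.univ.image ι := by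
    ext χ
    simp only [Finset.mem_filter, Finset.mem_univ, true_and, Finset.mem_image]
    constructor
    · intro h
      obtain ⟨ψ, hψ⟩ := exists_deflate_irr N χ h
      refine ⟨ψ, ?_⟩
      apply Subtype.ext
      funext g
      exact hψ g
    · rintro ⟨ψ, rfl⟩ n hn
      show (ψ : G ⧸ N → ℂ) (π n) = (ψ : G ⧸ N → ℂ) (π 1)
      have : π n = π 1 := by
        rw [map_one]
        exact (QuotientGroup.eq_one_iff n).mpr hn
      rw [this]
  rw [himg, Finset.sum_image (fun a _ b _ h => hι h)]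
  have h1 := column_orthogonality (G := G ⧸ N) (π y) 1
  have h2 : ∑ ψ : Cfsg.IrrCharacter (G ⧸ N), ((ι ψ : Cfsg.IrrCharacter G) : G → ℂ) 1 *
      ((ι ψ : Cfsg.IrrCharacter G) : G → ℂ) y =
      ∑ ψ : Cfsg.IrrCharacter (G ⧸ N), (ψ : G ⧸ N → ℂ) (π y) * conj ((ψ : G ⧸ N → ℂ) 1) := by
    refine Finset.sum_congr rfl fun ψ _ => ?_
    show (ψ : G ⧸ N → ℂ) (π 1) * (ψ : G ⧸ N → ℂ) (π y) = _
    obtain ⟨d, _, hd⟩ := irr_degree ψ.2
    rw [map_one, hd, Complex.conj_natCast, mul_comm]
  rw [h2, h1]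
  have hiff : IsConj (π y) 1 ↔ y ∈ N := by
    rw [isConj_one_left]
    exact QuotientGroup.eq_one_iff y
  by_cases hy : y ∈ N
  · rw [if_pos hy, if_pos (hiff.mpr hy)]
    have hy1 : π y = 1 := (QuotientGroup.eq_one_iff y).mpr hy
    rw [hy1]
    have : Subgroup.centralizer ({1} : Set (G ⧸ N)) = ⊤ := by
      ext x
      simp [Subgroup.mem_centralizer_iff]
    rw [this, Subgroup.card_top, Subgroup.index_eq_card]
  · rw [if_neg hy, if_neg (fun h => hy (hiff.mp h))]

/-- a linear constituent of the restriction of `χ` to `P` is trivial on `P ∩ ker χ` -/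
theorem lin_eq_one_of_constituent {χ : G → ℂ} (hχ : IsIrrCharacter G χ) (P : Subgroup G)
    [Fintype P] (lam : P →* ℂˣ)
    (hne : classInner (χ ∘ P.subtype) (linFun lam) ≠ 0) (x : P) (hx : χ (x : G) = χ 1) :
    lam x = 1 := by
  obtain ⟨n, ρ, hρ, rfl⟩ := hχ
  obtain ⟨m, τ, hτ, hτl⟩ := Cfsg.Agent.Lib.Helper7.isIrr_of_hom' lam
  have hker : (x : G) ∈ MonoidHom.ker ρ := (character_eq_one_iff_mem_ker ρ _).mp hx
  obtain ⟨ρP, hρP⟩ : ∃ ρP : Representation ℂ P (Fin n → ℂ), ρP = MonoidHom.comp ρ P.subtype :=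
    ⟨_, rfl⟩
  have hchar : ρP.character = ρ.character ∘ P.subtype := by
    rw [hρP]
    rfl
  have hl : linFun lam = τ.character := hτl.symm
  rw [← hchar, hl] at hne
  obtain ⟨f, hf⟩ := exists_injective_of_classInner_ne_zero τ ρP hτ hne
  have hτx : τ x = 1 := by
    apply LinearMap.ext
    intro w
    apply hf
    have h1 := f.isIntertwining' x
    have h2 := congrFun (congrArg DFunLike.coe h1) w
    simp only [LinearMap.coe_comp, Function.comp_apply] at h2
    rw [Module.End.one_apply]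
    have h3 : ρP x = 1 := by
      rw [hρP]
      show ρ ((x : G)) = 1
      exact hker
    rw [h3, Module.End.one_apply] at h2
    exact h2
  have h4 : τ.character x = τ.character 1 := by
    unfold Representation.character
    rw [hτx, map_one τ]
  rw [← hl, linFun_apply, linFun_apply, map_one, Units.val_one] at h4
  exact Units.ext h4

end

/-- elements outside the commutator subgroup are detected by linear characters -/
theorem exists_lin_ne_one {P : Type*} [Group P] [Finite P] (x : P) (hx : x ∉ commutator P) :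
    ∃ lam : P →* ℂˣ, lam x ≠ 1 := by
  have hne : (Abelianization.of x : Abelianization P) ≠ 1 := by
    intro h
    apply hx
    rw [← Abelianization.ker_of, MonoidHom.mem_ker]
    exact h
  obtain ⟨φ, hφ⟩ := CommGroup.exists_apply_ne_one_of_hasEnoughRootsOfUnity
    (Abelianization P) ℂ hne
  exact ⟨φ.comp Abelianization.of, hφ⟩

section

variable {G : Type*} [Group G] [Fintype G]

theorem charDegree_eq_of_one_eq' {χ : G → ℂ} {d : ℕ} (h : χ 1 = d) : charDegree χ = d := by
  unfold charDegree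
  rw [h, Complex.natCast_re, Nat.floor_natCast]

open scoped Classical in
/-- **the common kernel of the `p'`-degree characters of `G ⧸ N` meets a Sylow `p`-subgroup `P`
inside `P'`** (`N` a normal `p'`-subgroup) -/
theorem mem_commutator_of_ker_pPrime {p : ℕ} [Fact p.Prime] (N : Subgroup G) [N.Normal]
    (hN : (Nat.card N).Coprime p) (P : Sylow p G) (x : P)
    (hx : ∀ χ : IrrCharacter G, (∀ n ∈ N, (χ : G → ℂ) n = (χ : G → ℂ) 1) →
      ¬ p ∣ charDegree (χ : G → ℂ) → (χ : G → ℂ) (x : G) = (χ : G → ℂ) 1) :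
    x ∈ commutator P := by
  have hp : p.Prime := Fact.out
  have : Fintype (IrrCharacter G) := Fintype.ofFinite _
  have : Fintype (P : Subgroup G) := Fintype.ofFinite _
  by_contra hxc
  obtain ⟨lam, hlam⟩ := exists_lin_ne_one x hxc
  set S := Finset.univ.filter (fun χ : Cfsg.IrrCharacter G =>
      ∀ n ∈ N, (χ : G → ℂ) n = (χ : G → ℂ) 1) with hS
  have hlamirr : IsIrrCharacter (P : Subgroup G) (linFun lam) :=
    Cfsg.Agent.Lib.Helper7.isIrr_of_hom' lam
  have hm : ∀ χ : IrrCharacter G, ∃ m : ℕ,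
      classInner ((χ : G → ℂ) ∘ (P : Subgroup G).subtype) (linFun lam) = m := fun χ =>
    classInner_isCharacter_nat (isCharacter_restrict _ (isCharacter_of_isIrrCharacter χ.2))
      (isCharacter_of_isIrrCharacter hlamirr)
  choose m hmeq using hm
  have hd : ∀ χ : IrrCharacter G, ∃ d : ℕ, (χ : G → ℂ) 1 = d ∧ charDegree (χ : G → ℂ) = d := by
    intro χ
    obtain ⟨d, _, hd⟩ := irr_degree χ.2
    exact ⟨d, hd, charDegree_eq_of_one_eq' hd⟩
  choose d hd1 hd2 using hd
  -- `P ∩ N = 1`
  have hPN : ∀ y : (P : Subgroup G), (y : G) ∈ N → y = 1 := by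
    intro y hy
    obtain ⟨k, hk⟩ := (IsPGroup.iff_orderOf.mp P.2) y
    have h1 : orderOf (y : G) ∣ Nat.card N := Subgroup.orderOf_dvd_natCard N hy
    rw [Subgroup.orderOf_coe, hk] at h1
    have h2 : (p ^ k).Coprime p := Nat.Coprime.coprime_dvd_left h1 hN
    rcases k with _ | k
    · rw [pow_zero, orderOf_eq_one_iff] at hk
      exact hk
    · exfalso
      have : p ∣ 1 := by
        have h3 := Nat.Coprime.gcd_eq_one h2
        rw [← h3]
        exact Nat.dvd_gcd (dvd_pow_self p (Nat.succ_ne_zero k)) dvd_rfl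
      exact hp.one_lt.ne' (Nat.dvd_one.mp this)
  have hcardP : (Nat.card (P : Subgroup G) : ℂ) ≠ 0 := by
    have : Nat.card (P : Subgroup G) ≠ 0 := Nat.card_pos.ne'
    exact_mod_cast this
  have hkey : (Nat.card (P : Subgroup G) : ℂ) * ∑ χ ∈ S, ((d χ : ℂ) * (m χ : ℂ)) = (N.index : ℂ) := by
    have h1 : ∀ χ ∈ S, ((d χ : ℂ) * (m χ : ℂ)) = (Nat.card (P : Subgroup G) : ℂ)⁻¹ *
        ∑ y : (P : Subgroup G), ((χ : G → ℂ) 1 * (χ : G → ℂ) (y : G)) * conj (linFun lam y) := by
      intro χ _
      rw [← hd1 χ, ← hmeq χ]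
      unfold classInner
      rw [Finset.mul_sum, Finset.mul_sum, Finset.mul_sum]
      refine Finset.sum_congr rfl fun y _ => ?_
      simp only [Function.comp_apply, Subgroup.coe_subtype]
      ring
    rw [Finset.sum_congr rfl h1, ← Finset.mul_sum, ← mul_assoc, mul_inv_cancel₀ hcardP, one_mul,
      Finset.sum_comm]
    have h2 : ∀ y : (P : Subgroup G), ∑ χ ∈ S, ((χ : G → ℂ) 1 * (χ : G → ℂ) (y : G)) *
        conj (linFun lam y) = if y = 1 then (N.index : ℂ) else 0 := by
      intro y
      rw [← Finset.sum_mul, hS, sum_degree_mul_ker N (y : G)]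
      by_cases hy : y = 1
      · rw [if_pos hy, hy, if_pos (by simp), linFun_apply, map_one, Units.val_one, map_one,
          mul_one]
      · rw [if_neg hy, if_neg (fun h => hy (hPN y h)), zero_mul]
    rw [Finset.sum_congr rfl (fun y _ => h2 y), Finset.sum_ite_eq' Finset.univ (1 : (P : Subgroup G))]
    simp
  have hkeyN : Nat.card (P : Subgroup G) * ∑ χ ∈ S, d χ * m χ = N.index := by
    have : ((Nat.card (P : Subgroup G) * ∑ χ ∈ S, d χ * m χ : ℕ) : ℂ) = ((N.index : ℕ) : ℂ) := by
      push_cast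
      exact hkey
    exact_mod_cast this
  have hnd : ¬ p ∣ ∑ χ ∈ S, d χ * m χ := by
    intro hdvd
    have h1 : p ^ ((Nat.card G).factorization p + 1) ∣ Nat.card G := by
      have h2 : Nat.card (P : Subgroup G) = p ^ (Nat.card G).factorization p :=
        Sylow.card_eq_multiplicity P
      have h3 : p ^ ((Nat.card G).factorization p + 1) ∣ N.index := by
        rw [← hkeyN, h2, pow_succ]
        exact Nat.mul_dvd_mul_left _ hdvd
      exact dvd_trans h3 (Subgroup.index_dvd_card N)
    exact Nat.pow_succ_factorization_not_dvd Nat.card_pos.ne' hp h1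
  have hex : ∃ χ ∈ S, ¬ p ∣ d χ * m χ := by
    by_contra hcon
    push Not at hcon
    exact hnd (Finset.dvd_sum hcon)
  obtain ⟨χ, hχS, hχ⟩ := hex
  have hχN : ∀ n ∈ N, (χ : G → ℂ) n = (χ : G → ℂ) 1 := (Finset.mem_filter.mp hχS).2
  have hχd : ¬ p ∣ charDegree (χ : G → ℂ) := by
    rw [hd2 χ]
    exact fun h => hχ (dvd_mul_of_dvd_left h _)
  have hχm : classInner ((χ : G → ℂ) ∘ (P : Subgroup G).subtype) (linFun lam) ≠ 0 := by
    rw [hmeq χ]
    intro h0
    have : m χ = 0 := by exact_mod_cast h0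
    apply hχ
    rw [this, mul_zero]
    exact dvd_zero p
  exact hlam (lin_eq_one_of_constituent χ.2 (P : Subgroup G) lam hχm x (hx χ hχN hχd))

end

end Cfsg.Agent.Lib.Helper4
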