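import Mathlib

set_option autoImplicit false

namespace Cfsg.Agent.Lib.Helper4

/-- If a Klein four-subgroup `E` has all its involutions conjugate to `z` and a normal subgroup `N`
meets `C(z)` trivially, then `N` is trivial. -/
theorem normal_eq_bot_of_klein {H : Type*} [Group H] [Finite H] (z : H)
    (E : Subgroup H) (hE : IsKleinFour ↥E) (hzE : z ∈ E) (hz : z ≠ 1)
    (hc : ∀ e ∈ E, e ≠ 1 → IsConj z e) (N : Subgroup H) [hN : N.Normal]
    (hNz : N ⊓ Subgroup.centralizer ({z} : Set H) = ⊥) : N = ⊥ := by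
  -- step 1: every involution of E has trivial centralizer in N
  have h1 : ∀ e ∈ E, e ≠ 1 → ∀ n ∈ N, n * e = e * n → n = 1 := by
    intro e he he1 n hn hcomm
    obtain ⟨c, hc'⟩ := isConj_iff.mp (hc e he he1)
    have hmem : c⁻¹ * n * c ∈ N ⊓ Subgroup.centralizer ({z} : Set H) := by
      refine ⟨?_, ?_⟩
      · have := hN.conj_mem n hn c⁻¹
        simpa using this
      · show c⁻¹ * n * c ∈ Subgroup.centralizer ({z} : Set H)
        rw [Subgroup.mem_centralizer_iff]
        intro y hy
        rw [Set.mem_singleton_iff] at hy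
        subst hy
        have hz' : y = c⁻¹ * e * c := by rw [← hc']; group
        rw [hz']
        calc c⁻¹ * e * c * (c⁻¹ * n * c) = c⁻¹ * (e * n) * c := by group
          _ = c⁻¹ * (n * e) * c := by rw [hcomm]
          _ = c⁻¹ * n * c * (c⁻¹ * e * c) := by group
    rw [hNz, Subgroup.mem_bot] at hmem
    have : n = c * (c⁻¹ * n * c) * c⁻¹ := by group
    rw [this, hmem]; group
  -- squares
  have hsq : ∀ e ∈ E, e * e = 1 := by
    intro e he
    have := IsKleinFour.mul_self (⟨e, he⟩ : E)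
    exact congrArg Subtype.val this
  -- step 2: every involution of E inverts N
  have h2 : ∀ e ∈ E, e ≠ 1 → ∀ n ∈ N, e * n * e⁻¹ = n⁻¹ := by
    intro e he he1
    have hee : e⁻¹ = e := inv_eq_of_mul_eq_one_left (hsq e he)
    let φ : N → N := fun m => ⟨(m : H)⁻¹ * (e * m * e⁻¹), N.mul_mem (N.inv_mem m.2) (hN.conj_mem m m.2 e)⟩
    have hφinj : Function.Injective φ := by
      intro m1 m2 h12
      have h12' : (m1 : H)⁻¹ * (e * m1 * e⁻¹) = (m2 : H)⁻¹ * (e * m2 * e⁻¹) := congrArg Subtype.val h12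
      have hcm : ((m2 : H) * (m1 : H)⁻¹) * e = e * ((m2 : H) * (m1 : H)⁻¹) := by
        have e1 : (m2 : H) * ((m1 : H)⁻¹ * (e * m1 * e⁻¹)) * e * (m1 : H)⁻¹ = (m2 : H) * (m1 : H)⁻¹ * e := by group
        have e2 : (m2 : H) * ((m2 : H)⁻¹ * (e * m2 * e⁻¹)) * e * (m1 : H)⁻¹ = e * ((m2 : H) * (m1 : H)⁻¹) := by group
        rw [← e1, h12', e2]
      have := h1 e he he1 _ (N.mul_mem m2.2 (N.inv_mem m1.2)) hcm
      have h3 : (m2 : H) = m1 := by
        have := mul_inv_eq_one.mp this
        exact this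
      exact Subtype.ext h3.symm
    have hφsurj : Function.Surjective φ := Finite.surjective_of_injective hφinj
    intro n hn
    obtain ⟨m, hm⟩ := hφsurj ⟨n, hn⟩
    have hm' : (m : H)⁻¹ * (e * m * e⁻¹) = n := congrArg Subtype.val hm
    rw [← hm', hee]
    have : e * ((m : H)⁻¹ * (e * m * e)) * e = e * (m : H)⁻¹ * e * m * (e * e) := by group
    rw [this, hsq e he]
    have : ((m : H)⁻¹ * (e * m * e))⁻¹ = e⁻¹ * (m : H)⁻¹ * e⁻¹ * m := by group
    rw [this, hee]; group
  -- step 3: another involution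
  have h3 : ∃ b ∈ E, b ≠ 1 ∧ b ≠ z := by
    by_contra hcon
    push Not at hcon
    have hcard : Nat.card E = 4 := hE.card_four
    classical
    let f : E → Bool := fun b => decide (b = 1)
    have hf : Function.Injective f := by
      intro b1 b2 h12
      by_cases hb1 : b1 = 1
      · have h4 : f b2 = true := by rw [← h12]; simp [f, hb1]
        have h5 : b2 = 1 := by simpa [f] using h4
        rw [hb1, h5]
      · have hb2 : b2 ≠ 1 := by
          intro hb2
          have h4 : f b1 = true := by rw [h12]; simp [f, hb2]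
          exact hb1 (by simpa [f] using h4)
        have hb1' : (b1 : H) ≠ 1 := fun h => hb1 (Subtype.ext h)
        have hb2' : (b2 : H) ≠ 1 := fun h => hb2 (Subtype.ext h)
        exact Subtype.ext ((hcon b1 b1.2 hb1').trans (hcon b2 b2.2 hb2').symm)
    have hfin : Finite E := Subtype.finite
    have := Nat.card_le_card_of_injective f hf
    rw [hcard] at this
    simp at this
  obtain ⟨b, hbE, hb1, hbz⟩ := h3
  have hzb : z * b ≠ 1 := by
    intro h
    have hbb : b⁻¹ = b := inv_eq_of_mul_eq_one_left (hsq b hbE)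
    have : z = b⁻¹ := eq_inv_of_mul_eq_one_left h
    rw [hbb] at this
    exact hbz this.symm
  rw [eq_bot_iff]
  intro n hn
  rw [Subgroup.mem_bot]
  have hzbE : z * b ∈ E := E.mul_mem hzE hbE
  apply h1 (z * b) hzbE hzb n hn
  have i1 := h2 z hzE hz (b * n * b⁻¹) (hN.conj_mem n hn b)
  have i2 := h2 b hbE hb1 n hn
  rw [i2, inv_inv] at i1
  -- i1 : z * n⁻¹ * z⁻¹ = n  ... wait
  have : z * b * n = n * (z * b) := by
    have i3 : z * (b * n * b⁻¹) * z⁻¹ = n := by rw [i2]; exact i1
    calc z * b * n = (z * (b * n * b⁻¹) * z⁻¹) * (z * b) := by group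
      _ = n * (z * b) := by rw [i3]
  exact this.symm

end Cfsg.Agent.Lib.Helper4
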