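import Mathlib
import Cfsg.Prelude.Def_Characters
import Cfsg.Agent.Lib.Helper4.LinConst
import Cfsg.Agent.Lib.Helper4.BurnsideClass

set_option autoImplicit false

namespace Cfsg.Agent.Lib.Helper4

open scoped ComplexConjugate

section

variable {G : Type*} [Group G] [Fintype G]

/-- in a simple group with a Sylow `p`-subgroup containing non-commuting `a`, `b`, every
nontrivial irreducible character has degree at least `p` -/
theorem degree_ge_of_nonabelian_sylow [IsSimpleGroup G] (p : ℕ) [Fact p.Prime] (P : Sylow p G)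
    (a b : G) (ha : a ∈ P) (hb : b ∈ P) (hab : a * b ≠ b * a)
    (χ : Cfsg.IrrCharacter G) (hχ : (χ : G → ℂ) ≠ fun _ => 1) :
    ∃ n : ℕ, (χ : G → ℂ) 1 = (n : ℂ) ∧ p ≤ n := by
  classical
  obtain ⟨n, τ, hτ, hτχ⟩ := χ.2
  refine ⟨Module.finrank ℂ (Fin n → ℂ), by rw [← hτχ, Representation.char_one], ?_⟩
  by_contra hlt
  push Not at hlt
  have : Fintype (P : Subgroup G) := Fintype.ofFinite _
  let τP : Representation ℂ (P : Subgroup G) (Fin n → ℂ) := τ.comp (P : Subgroup G).subtype
  have hlin : ∀ ψ : Cfsg.IrrCharacter (P : Subgroup G),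
      Cfsg.classInner τP.character ψ.1 ≠ 0 → ψ.1 1 = 1 := by
    intro ψ hne
    obtain ⟨m, hm, hpos, hle, hdvd⟩ := constituent_degree τP ψ hne
    rw [hm]
    obtain ⟨k, hk⟩ := (IsPGroup.iff_card.mp P.isPGroup')
    rw [hk] at hdvd
    obtain ⟨j, hj, hj'⟩ := (Nat.dvd_prime_pow (Fact.out : p.Prime)).mp hdvd
    have hj0 : j = 0 := by
      by_contra hne0
      have : p ≤ m := by
        rw [hj']
        calc p = p ^ 1 := (pow_one p).symm
          _ ≤ p ^ j := Nat.pow_le_pow_right (Fact.out : p.Prime).pos (Nat.one_le_iff_ne_zero.mpr hne0)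
      omega
    rw [hj', hj0, pow_zero, Nat.cast_one]
  have hc := rho_commutator_of_linear_constituents τP hlin ⟨a, ha⟩ ⟨b, hb⟩
  have hc' : τ (a * b * a⁻¹ * b⁻¹) = 1 := hc
  have hmem : a * b * a⁻¹ * b⁻¹ ∈ MonoidHom.ker τ := MonoidHom.mem_ker.mpr hc'
  have hne1 : a * b * a⁻¹ * b⁻¹ ≠ 1 := by
    intro h
    apply hab
    calc a * b = a * b * a⁻¹ * b⁻¹ * b * a := by group
      _ = b * a := by rw [h, one_mul]
  have hker : MonoidHom.ker τ = ⊤ := by
    rcases (MonoidHom.normal_ker τ).eq_bot_or_eq_top with h | h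
    · exfalso
      rw [h, Subgroup.mem_bot] at hmem
      exact hne1 hmem
    · exact h
  have htriv : ∀ x, τ x = LinearMap.id := by
    intro x
    have : x ∈ MonoidHom.ker τ := by rw [hker]; trivial
    exact MonoidHom.mem_ker.mp this
  apply hχ
  rw [← hτχ]
  exact character_eq_one_of_trivial τ hτ htriv

/-- a simple group with more than `|G| / p^2` classes has abelian Sylow `p`-subgroups -/
theorem sylow_comm_of_many_classes [IsSimpleGroup G] (p : ℕ) [Fact p.Prime]
    (hmany : Nat.card G < p ^ 2 * Nat.card (ConjClasses G)) (P : Sylow p G)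
    (a b : G) (ha : a ∈ P) (hb : b ∈ P) : a * b = b * a := by
  classical
  by_contra hab
  have : Fintype (Cfsg.IrrCharacter G) := Fintype.ofFinite _
  have hp : p.Prime := Fact.out
  -- degrees
  have hdegex : ∀ χ : Cfsg.IrrCharacter G, ∃ n : ℕ, (χ : G → ℂ) 1 = (n : ℂ) := by
    intro χ
    obtain ⟨n, τ, hτ, hτχ⟩ := χ.2
    exact ⟨_, by rw [← hτχ, Representation.char_one]⟩
  choose deg hdeg using hdegex
  have hsum : ∑ χ : Cfsg.IrrCharacter G, deg χ ^ 2 = Nat.card G := by
    have h := sum_sq_degree (G := G)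
    have h2 : (∑ χ : Cfsg.IrrCharacter G, (χ : G → ℂ) 1 ^ 2) =
        ((∑ χ : Cfsg.IrrCharacter G, deg χ ^ 2 : ℕ) : ℂ) := by
      rw [Nat.cast_sum]
      refine Finset.sum_congr rfl fun χ _ => ?_
      rw [hdeg χ, Nat.cast_pow]
    rw [h2] at h
    exact_mod_cast h
  let χ0 : Cfsg.IrrCharacter G := ⟨fun _ => 1, isIrrCharacter_one⟩
  have hχ0 : deg χ0 = 1 := by
    have := hdeg χ0
    have h1 : (χ0 : G → ℂ) 1 = 1 := rfl
    rw [h1] at this
    exact_mod_cast this.symm
  have hge : ∀ χ ∈ Finset.univ.erase χ0, p ^ 2 ≤ deg χ ^ 2 := by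
    intro χ hχ
    have hne : χ ≠ χ0 := (Finset.mem_erase.mp hχ).1
    have hne' : (χ : G → ℂ) ≠ fun _ => 1 := by
      intro h
      apply hne
      exact Subtype.ext h
    obtain ⟨n, hn, hpn⟩ := degree_ge_of_nonabelian_sylow p P a b ha hb hab χ hne'
    have : deg χ = n := by
      have h1 := hdeg χ
      rw [hn] at h1
      exact_mod_cast h1.symm
    rw [this]
    exact Nat.pow_le_pow_left hpn 2
  have hsplit : ∑ χ : Cfsg.IrrCharacter G, deg χ ^ 2 =
      deg χ0 ^ 2 + ∑ χ ∈ Finset.univ.erase χ0, deg χ ^ 2 :=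
    (Finset.add_sum_erase Finset.univ (fun χ => deg χ ^ 2) (Finset.mem_univ χ0)).symm
  have hlow : (Finset.univ.erase χ0).card • p ^ 2 ≤ ∑ χ ∈ Finset.univ.erase χ0, deg χ ^ 2 :=
    Finset.card_nsmul_le_sum _ _ _ hge
  have hcard : (Finset.univ.erase χ0).card = Nat.card (ConjClasses G) - 1 := by
    rw [Finset.card_erase_of_mem (Finset.mem_univ _), Finset.card_univ,
      ← Nat.card_eq_fintype_card, card_irr_eq_card_conjClasses]
  have hk : 0 < Nat.card (ConjClasses G) := Nat.card_pos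
  -- p^2 divides |G|
  have hp2 : p ^ 2 ∣ Nat.card G := by
    obtain ⟨k, hk⟩ := (IsPGroup.iff_card.mp P.isPGroup')
    have hPdvd : Nat.card (P : Subgroup G) ∣ Nat.card G := Subgroup.card_subgroup_dvd_card _
    have hk2 : 2 ≤ k := by
      by_contra hlt
      push Not at hlt
      apply hab
      have hcycl : IsCyclic (P : Subgroup G) := by
        interval_cases k
        · rw [pow_zero] at hk
          have : Subsingleton (P : Subgroup G) := (Nat.card_eq_one_iff_unique.mp hk).1
          infer_instance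
        · rw [pow_one] at hk
          exact isCyclic_of_prime_card hk
      let inst : CommGroup (P : Subgroup G) := hcycl.commGroup
      have := inst.mul_comm (⟨a, ha⟩ : (P : Subgroup G)) ⟨b, hb⟩
      exact congrArg Subtype.val this
    exact (pow_dvd_pow p hk2).trans (hk ▸ hPdvd)
  obtain ⟨t, ht⟩ := hp2
  rw [smul_eq_mul, hcard] at hlow
  rw [hsplit, hχ0] at hsum
  have hpp : 0 < p ^ 2 := pow_pos hp.pos 2
  have h1 : t < Nat.card (ConjClasses G) := by
    rw [ht] at hmany
    exact Nat.lt_of_mul_lt_mul_left hmany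
  have h2 : p ^ 2 * t ≤ p ^ 2 * (Nat.card (ConjClasses G) - 1) :=
    Nat.mul_le_mul_left _ (by omega)
  have h3 : (Nat.card (ConjClasses G) - 1) * p ^ 2 = p ^ 2 * (Nat.card (ConjClasses G) - 1) :=
    mul_comm _ _
  omega

end

end Cfsg.Agent.Lib.Helper4
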