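import Mathlib
import Cfsg.Prelude.Def_Characters
import Cfsg.Agent.Lib.Helper4.GaloisChar

set_option autoImplicit false

namespace Cfsg.Agent.Lib.Helper4

section

variable {G : Type*} [Group G] [Fintype G]
variable {V : Type*} [AddCommGroup V] [Module ℂ V] [FiniteDimensional ℂ V]

/-- On a set `S` stable under coprime powers, the sum of `|χ|²` is at least the number of
elements of `S` where `χ` does not vanish (Galois averaging + AM-GM). -/
theorem card_nonvanishing_le_sum_normSq (ρ : Representation ℂ G V) (S : Finset G)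
    (hS : ∀ m : ℕ, m.Coprime (Nat.card G) → ∀ a, a ^ m ∈ S ↔ a ∈ S) [DecidableEq G] :
    ((S.filter (fun g => ρ.character g ≠ 0)).card : ℝ) ≤
      ∑ g ∈ S, Complex.normSq (ρ.character g) := by
  classical
  have hN : 0 < Nat.card G := Nat.card_pos
  have : NeZero (Nat.card G) := ⟨hN.ne'⟩
  set k := Fintype.card (cycK (Nat.card G) →ₐ[ℚ] ℂ) with hk
  have hkpos : 0 < k := by
    rw [hk, AlgHom.card ℚ (cycK (Nat.card G)) ℂ]
    exact Module.finrank_pos
  have hkR : (0 : ℝ) < k := by exact_mod_cast hkpos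
  let A : G → ℝ := fun g => ∑ σ : cycK (Nat.card G) →ₐ[ℚ] ℂ, Complex.normSq (σ (charK ρ g))
  have hA0 : ∀ g, 0 ≤ A g := fun g => Finset.sum_nonneg fun σ _ => Complex.normSq_nonneg _
  have hlow : ∀ g : G, ρ.character g ≠ 0 → (k : ℝ) ≤ A g := by
    intro g hg
    apply sum_normSq_embeddings_ge
    · intro h
      apply hg
      have := congrArg (fun x : cycK (Nat.card G) => (x : ℂ)) h
      simpa using this
    · exact charK_isIntegral ρ g
  have htot : ∑ g ∈ S, A g = (k : ℝ) * ∑ g ∈ S, Complex.normSq (ρ.character g) := by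
    simp only [A]
    rw [Finset.sum_comm]
    have hσ : ∀ σ : cycK (Nat.card G) →ₐ[ℚ] ℂ,
        ∑ g ∈ S, Complex.normSq (σ (charK ρ g)) = ∑ g ∈ S, Complex.normSq (ρ.character g) := by
      intro σ
      obtain ⟨m, hm, hσm⟩ := embedding_pow (Nat.card G) hN σ
      simp only [embedding_charK ρ σ m hσm]
      refine Finset.sum_equiv (powCoprime hm.symm) ?_ ?_
      · intro a
        rw [powCoprime_apply]
        exact (hS m hm a).symm
      · intro a _
        rw [powCoprime_apply]
    simp only [hσ]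
    rw [Finset.sum_const, Finset.card_univ, nsmul_eq_mul, ← hk]
  have h1 : ∑ _g ∈ S.filter (fun g => ρ.character g ≠ 0), (k : ℝ) ≤ ∑ g ∈ S, A g := by
    calc ∑ _g ∈ S.filter (fun g => ρ.character g ≠ 0), (k : ℝ)
        ≤ ∑ g ∈ S.filter (fun g => ρ.character g ≠ 0), A g :=
          Finset.sum_le_sum fun g hg => hlow g (Finset.mem_filter.mp hg).2
      _ ≤ ∑ g ∈ S, A g :=
          Finset.sum_le_sum_of_subset_of_nonneg (Finset.filter_subset _ _) (fun g _ _ => hA0 g)
  rw [Finset.sum_const, nsmul_eq_mul, htot, mul_comm] at h1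
  exact le_of_mul_le_mul_left h1 hkR

end

end Cfsg.Agent.Lib.Helper4
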