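import Mathlib

set_option autoImplicit false

namespace Cfsg.Agent.Lib.Helper4

section abstract

variable {G : Type*} [Group G] {X : Type*} [MulAction G X]

/-- an involution commuting with the action: `ι (g • x) = x` iff `x` is fixed by both -/
theorem fixed_iota_iff (ι : X → X) (hι : ∀ x, ι (ι x) = x) (hcomm : ∀ (g : G) (x : X), ι (g • x) = g • ι x)
    (g : G) (m : ℕ) (hm : Odd m) (x : X) (hK : g ^ m • x = x) :
    ι (g • x) = x ↔ (ι x = x ∧ g • x = x) := by
  constructor
  · intro h
    have h2 : (g * g) • x = x := by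
      have h1 : ι (g • ι (g • x)) = x := by rw [h, h]
      rw [hcomm, hι, ← mul_smul] at h1
      exact h1
    have hg2 : g * g ∈ MulAction.stabilizer G x := h2
    have hgm : g ^ m ∈ MulAction.stabilizer G x := hK
    obtain ⟨j, hj⟩ := hm
    have hg : g ∈ MulAction.stabilizer G x := by
      have h3 : g = g ^ m * ((g * g) ^ j)⁻¹ := by
        rw [hj, ← pow_two, ← pow_mul, pow_succ]
        group
      rw [h3]
      exact Subgroup.mul_mem _ hgm (Subgroup.inv_mem _ (Subgroup.pow_mem _ hg2 j))
    have hgx : g • x = x := hg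
    refine ⟨?_, hgx⟩
    rw [hgx] at h
    exact h
  · rintro ⟨h1, h2⟩
    rw [h2, h1]

/-- Burnside's lemma for an invariant subset, with the orbit relation written out -/
theorem burnside_subtype [Finite G] [Finite X] (P : X → Prop) (hP : ∀ (g : G) (x : X), P x → P (g • x)) :
    Nat.card (Quot (fun a b : {x : X // P x} => ∃ g : G, b.1 = g • a.1)) * Nat.card G =
      ∑ᶠ g : G, Nat.card {x : X // P x ∧ g • x = x} := by
  classical
  have : Fintype G := Fintype.ofFinite G
  letI : MulAction G {x : X // P x} :=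
    { smul := fun g x => ⟨g • x.1, hP g x.1 x.2⟩
      one_smul := fun x => Subtype.ext (one_smul G x.1)
      mul_smul := fun g h x => Subtype.ext (mul_smul g h x.1) }
  have hsm : ∀ (g : G) (x : {x : X // P x}), (g • x).1 = g • x.1 := fun g x => rfl
  have e1 : Quot (fun a b : {x : X // P x} => ∃ g : G, b.1 = g • a.1) ≃
      Quotient (MulAction.orbitRel G {x : X // P x}) := by
    refine Quot.congrRight ?_
    intro a b
    rw [MulAction.orbitRel_apply, MulAction.mem_orbit_iff]
    constructor
    · rintro ⟨g, hg⟩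
      refine ⟨g⁻¹, ?_⟩
      apply Subtype.ext
      rw [hsm, hg, inv_smul_smul]
    · rintro ⟨g, hg⟩
      refine ⟨g⁻¹, ?_⟩
      rw [← hg, hsm, inv_smul_smul]
  have e2 := MulAction.sigmaFixedByEquivOrbitsProdGroup G {x : X // P x}
  rw [Nat.card_congr e1, ← Nat.card_prod, ← Nat.card_congr e2, Nat.card_sigma,
    finsum_eq_sum_of_fintype]
  refine Finset.sum_congr rfl fun g _ => ?_
  apply Nat.card_congr
  refine ⟨fun x => ⟨x.1.1, x.1.2, ?_⟩, fun x => ⟨⟨x.1, x.2.1⟩, ?_⟩, ?_, ?_⟩
  · have := x.2
    rw [MulAction.mem_fixedBy] at this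
    exact congrArg Subtype.val this
  · rw [MulAction.mem_fixedBy]
    exact Subtype.ext x.2.2
  · intro x; rfl
  · intro x; rfl

/-- the orbit relation on an invariant subset, written out, is an equivalence relation -/
theorem orbit_rel_equivalence (P : X → Prop) :
    Equivalence (fun a b : {x : X // P x} => ∃ g : G, b.1 = g • a.1) :=
  ⟨fun a => ⟨1, (one_smul G a.1).symm⟩,
    fun {a b} ⟨g, hg⟩ => ⟨g⁻¹, by rw [hg, inv_smul_smul]⟩,
    fun {a b c} ⟨g, hg⟩ ⟨h, hh⟩ => ⟨h * g, by rw [hh, hg, mul_smul]⟩⟩

/-- comparing two quotient types through a map that is surjective up to the target relation -/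
theorem card_quot_eq_of_surj {α β : Type*} (r : α → α → Prop) (s : β → β → Prop)
    (hs : Equivalence s) (f : α → β) (hf : ∀ b, ∃ a, s (f a) b)
    (hrs : ∀ a a', r a a' ↔ s (f a) (f a')) : Nat.card (Quot r) = Nat.card (Quot s) := by
  apply Nat.card_eq_of_bijective (Quot.map f (fun a a' h => (hrs a a').1 h))
  constructor
  · intro x y
    induction x using Quot.ind with | _ a => ?_
    induction y using Quot.ind with | _ a' => ?_
    intro h
    have h1 : Quot.mk s (f a) = Quot.mk s (f a') := h
    rw [Quot.eq, hs.eqvGen_iff] at h1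
    exact Quot.sound ((hrs a a').2 h1)
  · intro y
    induction y using Quot.ind with | _ b => ?_
    obtain ⟨a, ha⟩ := hf b
    exact ⟨Quot.mk r a, Quot.sound ha⟩

end abstract

end Cfsg.Agent.Lib.Helper4
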