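import Cfsg.Prelude
import Cfsg.Agent.Lib.Helper4.RepEigen
import Cfsg.Agent.Lib.Helper4.GaloisChar
import Cfsg.Agent.Lib.Helper4.CenterDegree

set_option autoImplicit false
open Cfsg

namespace Cfsg.Agent.Lib.Helper4

section NV

variable {G : Type*} [Group G] [Fintype G]
variable {V : Type*} [AddCommGroup V] [Module ℂ V] [FiniteDimensional ℂ V]

/-- for `g` of `p`-power order, `χ(g)^(p^a) - χ(1)` is `p` times an algebraic integer -/
theorem character_pow_sub_degree (ρ : Representation ℂ G V) (p : ℕ) [hp : Fact p.Prime] (a : ℕ)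
    (g : G) (hg : g ^ (p ^ a) = 1) :
    ∃ r : ℂ, IsIntegral ℤ r ∧
      ρ.character g ^ (p ^ a) - (Module.finrank ℂ V : ℂ) = (p : ℂ) * r := by
  classical
  let R := integralClosure ℤ ℂ
  have hpnu : ((p : ℕ) : R) ∈ nonunits R := by
    rw [mem_nonunits_iff]
    intro hu
    obtain ⟨u, hu⟩ := hu.exists_right_inv
    have h1 : ((p : ℂ)) * (u : ℂ) = 1 := by
      have := congrArg (fun x : R => (x : ℂ)) hu
      simpa using this
    have hp0 : (p : ℂ) ≠ 0 := Nat.cast_ne_zero.mpr hp.out.ne_zero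
    have h2 : (u : ℂ) = (1 : ℕ) / (p : ℂ) := by
      field_simp
      rw [mul_comm]
      simpa using h1
    have h3 : IsIntegral ℤ (((1 : ℕ) : ℂ) / (p : ℂ)) := by
      rw [← h2]
      exact u.2
    have := dvd_of_isIntegral_div 1 p hp.out.ne_zero h3
    exact hp.out.one_lt.ne' (Nat.dvd_one.mp this)
  let I : Ideal R := Ideal.span {((p : ℕ) : R)}
  haveI hchar : CharP (R ⧸ I) p := CharP.quotient R p hpnu
  haveI : ExpChar (R ⧸ I) p := ExpChar.prime hp.out
  -- eigenvalues as elements of R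
  have hμint : ∀ μ ∈ eigvals ρ g, IsIntegral ℤ μ := by
    intro μ hμ
    have h1 := eigenvalue_pow_orderOf ρ g μ ((mem_eigvals ρ g).mp hμ)
    exact IsIntegral.of_pow (orderOf_pos g) (by rw [h1]; exact isIntegral_one)
  have hμpow : ∀ μ ∈ eigvals ρ g, μ ^ (p ^ a) = 1 := by
    intro μ hμ
    have h1 := eigenvalue_pow_orderOf ρ g μ ((mem_eigvals ρ g).mp hμ)
    obtain ⟨k, hk⟩ := orderOf_dvd_of_pow_eq_one hg
    rw [hk, pow_mul, h1, one_pow]
  let x : R := ∑ μ ∈ (eigvals ρ g).attach,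
    (⟨μ.1, hμint μ.1 μ.2⟩ : R) * ((eigmult ρ g μ.1 : ℕ) : R)
  have hx : (x : ℂ) = ρ.character g := by
    rw [character_eq_sum]
    simp only [x]
    rw [AddSubmonoidClass.coe_finsetSum]
    simp only [MulMemClass.coe_mul, SubringClass.coe_natCast]
    exact Finset.sum_attach (eigvals ρ g) (fun μ => μ * (eigmult ρ g μ : ℂ))
  have hd : ∑ μ ∈ eigvals ρ g, eigmult ρ g μ = Module.finrank ℂ V := by
    have h1 := character_pow_eq_sum ρ g (p ^ a)
    rw [hg, Representation.char_one] at h1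
    have h2 : ∑ μ ∈ eigvals ρ g, μ ^ (p ^ a) * (eigmult ρ g μ : ℂ) =
        ∑ μ ∈ eigvals ρ g, (eigmult ρ g μ : ℂ) := by
      refine Finset.sum_congr rfl fun μ hμ => ?_
      rw [hμpow μ hμ, one_mul]
    rw [h2] at h1
    have h3 : ((Module.finrank ℂ V : ℕ) : ℂ) = ((∑ μ ∈ eigvals ρ g, eigmult ρ g μ : ℕ) : ℂ) := by
      rw [h1]
      push_cast
      rfl
    exact_mod_cast h3.symm
  -- the Frobenius computation
  have hq : (Ideal.Quotient.mk I x) ^ (p ^ a) =
      Ideal.Quotient.mk I ((Module.finrank ℂ V : ℕ) : R) := by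
    have h1 : (Ideal.Quotient.mk I x) ^ (p ^ a) = iterateFrobenius (R ⧸ I) p a
        (Ideal.Quotient.mk I x) := by
      rw [iterateFrobenius_def]
    rw [h1]
    simp only [x, map_sum, map_mul, map_natCast]
    have h2 : ∀ μ ∈ (eigvals ρ g).attach, (iterateFrobenius (R ⧸ I) p a)
        ((Ideal.Quotient.mk I) (⟨μ.1, hμint μ.1 μ.2⟩ : R)) = 1 := by
      intro μ _
      rw [iterateFrobenius_def, ← map_pow]
      have : (⟨μ.1, hμint μ.1 μ.2⟩ : R) ^ (p ^ a) = 1 := by
        apply Subtype.ext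
        simp only [SubmonoidClass.coe_pow]
        exact hμpow μ.1 μ.2
      rw [this, map_one]
    rw [Finset.sum_congr rfl (fun μ hμ => by rw [h2 μ hμ, one_mul])]
    rw [← Nat.cast_sum, Finset.sum_attach (eigvals ρ g) (fun μ => eigmult ρ g μ), hd]
  have hmem : x ^ (p ^ a) - ((Module.finrank ℂ V : ℕ) : R) ∈ I := by
    rw [← Ideal.Quotient.eq, map_pow]
    exact hq
  obtain ⟨r, hr⟩ := Ideal.mem_span_singleton'.mp hmem
  refine ⟨(r : ℂ), r.2, ?_⟩
  have := congrArg (fun y : R => (y : ℂ)) hr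
  simp only [MulMemClass.coe_mul, SubringClass.coe_natCast, AddSubgroupClass.coe_sub,
    SubmonoidClass.coe_pow, hx] at this
  rw [← this]
  ring

/-- an irreducible (or any) character of degree prime to `p` does not vanish on `p`-elements -/
theorem character_ne_zero_of_pElement (ρ : Representation ℂ G V) (p : ℕ) [hp : Fact p.Prime]
    (a : ℕ) (g : G) (hg : g ^ (p ^ a) = 1) (hd : ¬ p ∣ Module.finrank ℂ V) :
    ρ.character g ≠ 0 := by
  intro h0
  obtain ⟨r, hr, h1⟩ := character_pow_sub_degree ρ p a g hg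
  rw [h0, zero_pow (pow_pos hp.out.pos a).ne', zero_sub] at h1
  apply hd
  apply dvd_of_isIntegral_div _ _ hp.out.ne_zero
  have hp0 : (p : ℂ) ≠ 0 := Nat.cast_ne_zero.mpr hp.out.ne_zero
  have : ((Module.finrank ℂ V : ℕ) : ℂ) / (p : ℂ) = -r := by
    field_simp
    linear_combination -h1
  rw [this]
  exact hr.neg

end NV

end Cfsg.Agent.Lib.Helper4
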