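import Mathlib
import Cfsg.Prelude.Def_Characters
import Cfsg.Agent.Lib.Helper4.GaloisChar

set_option autoImplicit false

/-!
# Values of `p`-rational characters on `p`-elements
-/

namespace Cfsg.Agent.Lib.Helper4

open scoped IntermediateField ComplexConjugate

section

variable {G : Type*} [Group G] [Fintype G]
variable {V : Type*} [AddCommGroup V] [Module ℂ V] [FiniteDimensional ℂ V]

theorem eigval_pow_of_dvd (ρ : Representation ℂ G V) (g : G) {μ : ℂ} (hμ : μ ∈ eigvals ρ g)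
    (M : ℕ) (hdvd : Nat.card G ∣ M) : μ ^ M = 1 := by
  obtain ⟨k, rfl⟩ := hdvd
  rw [pow_mul, eigval_pow_card ρ g hμ, one_pow]

/-- `embedding_charK` for a cyclotomic field of any order divisible by `|G|` -/
theorem embedding_char_of_dvd (ρ : Representation ℂ G V) (M : ℕ) (hM : 0 < M)
    (hdvd : Nat.card G ∣ M) (σ : cycK M →ₐ[ℚ] ℂ) (m : ℕ)
    (hσ : ∀ μ : cycK M, (μ : ℂ) ^ M = 1 → σ μ = (μ : ℂ) ^ m) (g : G)
    (hmem : ρ.character g ∈ cycK M) : σ ⟨ρ.character g, hmem⟩ = ρ.character (g ^ m) := by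
  classical
  have hx : (⟨ρ.character g, hmem⟩ : cycK M) = ∑ μ ∈ (eigvals ρ g).attach,
      (⟨μ.1, root_mem_cycK _ hM μ.1 (eigval_pow_of_dvd ρ g μ.2 M hdvd)⟩ : cycK M) *
        ((eigmult ρ g μ.1 : ℕ) : cycK M) := by
    apply Subtype.ext
    show ρ.character g = _
    rw [character_eq_sum]
    push_cast
    exact (Finset.sum_attach (eigvals ρ g) (fun μ => μ * (eigmult ρ g μ : ℂ))).symm
  rw [hx, map_sum, character_pow_eq_sum]
  rw [← Finset.sum_attach (eigvals ρ g) (fun μ => μ ^ m * (eigmult ρ g μ : ℂ))]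
  refine Finset.sum_congr rfl fun μ _ => ?_
  rw [map_mul, map_natCast, hσ _ (eigval_pow_of_dvd ρ g μ.2 M hdvd)]

/-- a `p`-rational character value at a `p`-element is stable under powers prime to `p` -/
theorem character_pow_of_pRational (ρ : Representation ℂ G V) (p : ℕ) (hp : p.Prime) (r : ℕ)
    (hr : 0 < r) (hpr : ¬ p ∣ r) (x : G) (hx : ρ.character x ∈ cycK r) (k : ℕ)
    (hxo : x ^ (p ^ k) = 1) (j : ℕ) (hj : ¬ p ∣ j) : ρ.character (x ^ j) = ρ.character x := by
  obtain ⟨a, g', hg', hN⟩ :=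
    Nat.exists_eq_pow_mul_and_not_dvd (Nat.card_pos (α := G)).ne' p hp.ne_one
  set e := a + k + 1 with he
  have hco : Nat.Coprime (r * g') (p ^ e) := by
    apply Nat.Coprime.pow_right
    apply Nat.Coprime.mul_left
    · exact ((Nat.Prime.coprime_iff_not_dvd hp).mpr hpr).symm
    · exact ((Nat.Prime.coprime_iff_not_dvd hp).mpr hg').symm
  obtain ⟨m, hm1, hm2⟩ := Nat.chineseRemainder hco 1 j
  set M := (r * g') * p ^ e with hM
  have hg'pos : 0 < g' := by
    rcases Nat.eq_zero_or_pos g' with h | h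
    · exfalso; apply hg'; rw [h]; exact dvd_zero p
    · exact h
  have hMpos : 0 < M := Nat.mul_pos (Nat.mul_pos hr hg'pos) (pow_pos hp.pos e)
  have hmcop : m.Coprime M := by
    apply Nat.Coprime.mul_right
    · have := hm1.gcd_eq
      rw [Nat.Coprime, this]
      simp
    · apply Nat.Coprime.pow_right
      rw [Nat.coprime_comm, Nat.Prime.coprime_iff_not_dvd hp]
      intro hpm
      apply hj
      have h3 : m ≡ j [MOD p] := hm2.of_dvd (dvd_pow_self p (by omega))
      exact (h3.dvd_iff (dvd_refl p)).mp hpm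
  obtain ⟨σ, hσ⟩ := exists_embedding_pow M hMpos m hmcop
  have hdvd : Nat.card G ∣ M := by
    rw [hN, hM]
    have : p ^ a ∣ p ^ e := pow_dvd_pow p (by omega)
    obtain ⟨c, hc⟩ := this
    exact ⟨r * c, by rw [hc]; ring⟩
  have hrM : r ∣ M := ⟨g' * p ^ e, by rw [hM]; ring⟩
  have hζrM : zetaN r ^ M = 1 := by
    obtain ⟨c, hc⟩ := hrM
    rw [hc, pow_mul, (zetaN_isPrimitiveRoot r hr.ne').pow_eq_one, one_pow]
  have hζr : zetaN r ∈ cycK M := root_mem_cycK M hMpos _ hζrM
  have hle : cycK r ≤ cycK M := by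
    rw [IntermediateField.adjoin_simple_le_iff]
    exact hζr
  have hmemM : ρ.character x ∈ cycK M := hle hx
  have h1 := embedding_char_of_dvd ρ M hMpos hdvd σ m hσ x hmemM
  have hcomp : (σ.comp (IntermediateField.inclusion hle)) = (cycK r).val := by
    apply IntermediateField.adjoin_algHom_ext
    intro y hy
    rw [Set.mem_singleton_iff] at hy
    subst hy
    show σ ⟨zetaN r, hζr⟩ = zetaN r
    rw [hσ ⟨zetaN r, hζr⟩ hζrM]
    show zetaN r ^ m = zetaN r
    have hmr : m ≡ 1 [MOD r] := hm1.of_dvd (dvd_mul_right r g')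
    have hord : orderOf (zetaN r) = r := ((zetaN_isPrimitiveRoot r hr.ne').eq_orderOf).symm
    have h5 : zetaN r ^ m = zetaN r ^ 1 := by
      rw [← pow_mod_orderOf (zetaN r) m, ← pow_mod_orderOf (zetaN r) 1, hord]
      exact congrArg (fun i => zetaN r ^ i) hmr
    rw [h5, pow_one]
  have h2 : σ ⟨ρ.character x, hmemM⟩ = ρ.character x := by
    have := DFunLike.congr_fun hcomp ⟨ρ.character x, hx⟩
    exact this
  have hxm : x ^ m = x ^ j := by
    rw [pow_eq_pow_iff_modEq]
    apply hm2.of_dvd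
    apply orderOf_dvd_of_pow_eq_one
    have : p ^ k ∣ p ^ e := pow_dvd_pow p (by omega)
    obtain ⟨c, hc⟩ := this
    rw [hc, pow_mul, hxo, one_pow]
  rw [← hxm, ← h1, h2]

/-- a `p`-rational character value at a `p`-element is a rational integer -/
theorem int_of_pRational (ρ : Representation ℂ G V) (p : ℕ) (hp : p.Prime) (r : ℕ)
    (hr : 0 < r) (hpr : ¬ p ∣ r) (hrat : ∀ g : G, ρ.character g ∈ cycK r) (x : G) (k : ℕ)
    (hxo : x ^ (p ^ k) = 1) : ∃ z : ℤ, ρ.character x = z := by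
  by_cases hx1 : x = 1
  · refine ⟨(Module.finrank ℂ V : ℤ), ?_⟩
    rw [hx1, Representation.char_one]
    simp
  have hN : 0 < Nat.card G := Nat.card_pos
  have hpN : p ∣ Nat.card G := by
    have h1 : orderOf x ∣ p ^ k := orderOf_dvd_of_pow_eq_one hxo
    obtain ⟨i, _, hi⟩ := (Nat.dvd_prime_pow hp).mp h1
    have hi0 : i ≠ 0 := by
      rintro rfl
      rw [pow_zero, orderOf_eq_one_iff] at hi
      exact hx1 hi
    have h2 : p ∣ orderOf x := by
      rw [hi]
      exact dvd_pow_self p hi0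
    exact h2.trans (orderOf_dvd_natCard x)
  have hfix : ∀ σ : cycK (Nat.card G) →ₐ[ℚ] ℂ, σ (charK ρ x) = ((charK ρ x : cycK (Nat.card G)) : ℂ) := by
    intro σ
    obtain ⟨m, hm, hσ⟩ := embedding_pow (Nat.card G) hN σ
    rw [embedding_charK ρ σ m hσ, coe_charK]
    apply character_pow_of_pRational ρ p hp r hr hpr x (hrat x) k hxo
    intro hpm
    have := Nat.dvd_gcd hpm hpN
    rw [hm] at this
    exact hp.one_lt.ne' (Nat.dvd_one.mp this)
  obtain ⟨q, hq⟩ := rational_of_fixed (Nat.card G) hN (charK ρ x) hfix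
  rw [coe_charK] at hq
  have hint : IsIntegral ℤ (ρ.character x) := character_isIntegral ρ x
  have hint3 : IsIntegral ℤ (algebraMap ℚ ℂ q) := by
    have : ρ.character x = algebraMap ℚ ℂ q := by rw [hq]; rfl
    rwa [this] at hint
  rw [isIntegral_algebraMap_iff (algebraMap ℚ ℂ).injective] at hint3
  obtain ⟨z, hz⟩ := IsIntegrallyClosed.isIntegral_iff.mp hint3
  refine ⟨z, ?_⟩
  rw [hq, ← hz]
  simp

/-- the sum of the powers of a root of unity -/
theorem geom_sum_root (μ : ℂ) (q : ℕ) (hμ : μ ^ q = 1) :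
    ∑ i ∈ Finset.range q, μ ^ i = if μ = 1 then (q : ℂ) else 0 := by
  split_ifs with h
  · rw [h]
    simp
  · rw [geom_sum_eq h, hμ, sub_self, zero_div]

/-- the real part of the sum of the character over the powers of an element is nonnegative -/
theorem re_sum_character_pow_nonneg (ρ : Representation ℂ G V) (x : G) :
    0 ≤ (∑ i ∈ Finset.range (orderOf x), ρ.character (x ^ i)).re := by
  classical
  have h1 : ∑ i ∈ Finset.range (orderOf x), ρ.character (x ^ i) =
      ∑ μ ∈ eigvals ρ x, (if μ = 1 then (orderOf x : ℂ) else 0) * (eigmult ρ x μ : ℂ) := by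
    simp only [character_pow_eq_sum]
    rw [Finset.sum_comm]
    refine Finset.sum_congr rfl fun μ hμ => ?_
    rw [← Finset.sum_mul, geom_sum_root μ (orderOf x)
      (eigenvalue_pow_orderOf ρ x μ ((mem_eigvals ρ x).mp hμ))]
  rw [h1, Complex.re_sum]
  refine Finset.sum_nonneg fun μ _ => ?_
  split_ifs
  · rw [← Nat.cast_mul, Complex.natCast_re]
    exact Nat.cast_nonneg _
  · simp

/-- lower bound for the value of a `p`-rational character at a `p`-element -/
theorem lower_bound_of_pRational (ρ : Representation ℂ G V) (p : ℕ) (hp : p.Prime) (r : ℕ)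
    (hr : 0 < r) (hpr : ¬ p ∣ r) (hrat : ∀ g : G, ρ.character g ∈ cycK r) (x : G) (k : ℕ)
    (hxo : x ^ (p ^ k) = 1) (z : ℤ) (hz : ρ.character x = z) :
    0 ≤ (Module.finrank ℂ V : ℤ) + ((p : ℤ) - 1) * z := by
  classical
  set n := Module.finrank ℂ V with hn
  have hp1 : (0 : ℤ) ≤ (p : ℤ) - 1 := by
    have := hp.one_le
    omega
  by_cases hx1 : x = 1
  · have : (z : ℂ) = (n : ℂ) := by rw [← hz, hx1, Representation.char_one]
    have hzn : z = n := by exact_mod_cast this
    rw [hzn]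
    positivity
  have h1 : orderOf x ∣ p ^ k := orderOf_dvd_of_pow_eq_one hxo
  obtain ⟨i, _, hi⟩ := (Nat.dvd_prime_pow hp).mp h1
  have hi0 : i ≠ 0 := by
    rintro rfl
    rw [pow_zero, orderOf_eq_one_iff] at hi
    exact hx1 hi
  obtain ⟨i', rfl⟩ := Nat.exists_eq_succ_of_ne_zero hi0
  have hS := re_sum_character_pow_nonneg ρ x
  rw [← Finset.sum_filter_add_sum_filter_not (Finset.range (orderOf x))
    (fun j => (orderOf x).Coprime j), Complex.add_re] at hS
  -- the coprime part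
  have hA : ∑ j ∈ (Finset.range (orderOf x)).filter (fun j => (orderOf x).Coprime j),
      ρ.character (x ^ j) = ((Nat.totient (orderOf x) : ℤ) : ℂ) * (z : ℂ) := by
    have h2 : ∀ j ∈ (Finset.range (orderOf x)).filter (fun j => (orderOf x).Coprime j),
        ρ.character (x ^ j) = (z : ℂ) := by
      intro j hj
      rw [Finset.mem_filter] at hj
      rw [← hz]
      apply character_pow_of_pRational ρ p hp r hr hpr x (hrat x) k hxo
      intro hpj
      have h3 : p ∣ orderOf x := by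
        rw [hi]
        exact dvd_pow_self p (Nat.succ_ne_zero i')
      have := Nat.dvd_gcd h3 hpj
      rw [hj.2] at this
      exact hp.one_lt.ne' (Nat.dvd_one.mp this)
    rw [Finset.sum_congr rfl h2, Finset.sum_const, Nat.totient_eq_card_coprime, nsmul_eq_mul]
    push_cast
    rfl
  -- the non-coprime part
  have hB : (∑ j ∈ (Finset.range (orderOf x)).filter (fun j => ¬ (orderOf x).Coprime j),
      ρ.character (x ^ j)).re ≤ (((orderOf x - Nat.totient (orderOf x) : ℕ) : ℤ) : ℝ) * (n : ℝ) := by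
    rw [Complex.re_sum]
    have h2 : ∀ j ∈ (Finset.range (orderOf x)).filter (fun j => ¬ (orderOf x).Coprime j),
        (ρ.character (x ^ j)).re ≤ (n : ℝ) := by
      intro j _
      exact (Complex.re_le_norm _).trans (norm_character_le ρ (x ^ j))
    refine (Finset.sum_le_sum h2).trans ?_
    rw [Finset.sum_const, nsmul_eq_mul]
    have h3 : ((Finset.range (orderOf x)).filter (fun j => ¬ (orderOf x).Coprime j)).card =
        orderOf x - Nat.totient (orderOf x) := by
      have := Finset.card_filter_add_card_filter_not (s := Finset.range (orderOf x))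
        (fun j => (orderOf x).Coprime j)
      rw [Finset.card_range, ← Nat.totient_eq_card_coprime] at this
      omega
    rw [h3]
    push_cast
    rfl
  rw [hA] at hS
  have hS2 : (0 : ℝ) ≤ ((Nat.totient (orderOf x) : ℤ) : ℝ) * (z : ℝ) +
      (((orderOf x - Nat.totient (orderOf x) : ℕ) : ℤ) : ℝ) * (n : ℝ) := by
    have h4 : (((Nat.totient (orderOf x) : ℤ) : ℂ) * (z : ℂ)).re =
        ((Nat.totient (orderOf x) : ℤ) : ℝ) * (z : ℝ) := by
      rw [← Int.cast_mul, Complex.intCast_re, Int.cast_mul]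
    rw [h4] at hS
    linarith
  have htot : Nat.totient (orderOf x) = p ^ i' * (p - 1) := by
    rw [hi, Nat.totient_prime_pow_succ hp]
  have hsub : orderOf x - Nat.totient (orderOf x) = p ^ i' := by
    rw [htot, hi, pow_succ]
    have : p ^ i' * p = p ^ i' * (p - 1) + p ^ i' := by
      rw [← Nat.mul_succ, Nat.succ_eq_add_one, Nat.sub_add_cancel hp.one_le]
    omega
  rw [hsub, htot] at hS2
  have hS3 : (0 : ℤ) ≤ ((p ^ i' * (p - 1) : ℕ) : ℤ) * z + ((p ^ i' : ℕ) : ℤ) * (n : ℤ) := by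
    exact_mod_cast hS2
  have hcast : ((p ^ i' * (p - 1) : ℕ) : ℤ) = (p : ℤ) ^ i' * ((p : ℤ) - 1) := by
    rw [Nat.cast_mul, Nat.cast_pow, Nat.cast_sub hp.one_le]
    rfl
  rw [hcast, Nat.cast_pow] at hS3
  have hpos : (0 : ℤ) < (p : ℤ) ^ i' := by
    have := hp.pos
    positivity
  have h5 : (0 : ℤ) ≤ (p : ℤ) ^ i' * ((n : ℤ) + ((p : ℤ) - 1) * z) := by
    have : (p : ℤ) ^ i' * ((n : ℤ) + ((p : ℤ) - 1) * z) =
        (p : ℤ) ^ i' * ((p : ℤ) - 1) * z + (p : ℤ) ^ i' * (n : ℤ) := by ring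
    rw [this]
    exact hS3
  exact nonneg_of_mul_nonneg_right h5 hpos

/-- the freshman's dream modulo `p` for finite sums -/
theorem sum_pow_prime_pow {R : Type*} [CommRing R] (p k : ℕ) (hp : p.Prime) {ι : Type*}
    (s : Finset ι) (a : ι → R) :
    ∃ r : R, (∑ i ∈ s, a i) ^ (p ^ k) = ∑ i ∈ s, (a i) ^ (p ^ k) + (p : R) * r := by
  classical
  induction s using Finset.induction_on with
  | empty =>
    refine ⟨0, ?_⟩
    rw [Finset.sum_empty, Finset.sum_empty, zero_pow (pow_ne_zero k hp.ne_zero)]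
    simp
  | insert i s hi ih =>
    obtain ⟨r, hr⟩ := ih
    rw [Finset.sum_insert hi, Finset.sum_insert hi]
    obtain ⟨r', hr'⟩ := exists_add_pow_prime_pow_eq hp (a i) (∑ j ∈ s, a j) k
    refine ⟨r + a i * (∑ j ∈ s, a j) * r', ?_⟩
    rw [hr', hr]
    ring

/-- an integer value of a character at a `p`-element is congruent to the degree modulo `p` -/
theorem congr_of_pElement (ρ : Representation ℂ G V) (p : ℕ) (hp : p.Prime) (x : G) (k : ℕ)
    (hxo : x ^ (p ^ k) = 1) (z : ℤ) (hz : ρ.character x = z) :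
    (p : ℤ) ∣ (Module.finrank ℂ V : ℤ) - z := by
  classical
  have : Fact p.Prime := ⟨hp⟩
  have hμ : ∀ μ ∈ eigvals ρ x, μ ^ (p ^ k) = 1 := by
    intro μ hμ
    have h1 := eigenvalue_pow_orderOf ρ x μ ((mem_eigvals ρ x).mp hμ)
    obtain ⟨c, hc⟩ := orderOf_dvd_of_pow_eq_one hxo
    rw [hc, pow_mul, h1, one_pow]
  have hμint : ∀ μ ∈ eigvals ρ x, IsIntegral ℤ μ := by
    intro μ hμ'
    apply IsIntegral.of_pow (pow_pos hp.pos k)
    rw [hμ μ hμ']
    exact isIntegral_one
  let a : {μ : ℂ // μ ∈ eigvals ρ x} → integralClosure ℤ ℂ := fun μ =>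
    ⟨μ.1 * (eigmult ρ x μ.1 : ℂ), IsIntegral.mul (hμint μ.1 μ.2) (isIntegral_natCast _)⟩
  obtain ⟨r, hr⟩ := sum_pow_prime_pow p k hp (eigvals ρ x).attach a
  have hr2 := congrArg (fun y : integralClosure ℤ ℂ => (y : ℂ)) hr
  simp only [a] at hr2
  push_cast at hr2
  rw [Finset.sum_attach (eigvals ρ x) (fun μ => μ * (eigmult ρ x μ : ℂ)), ← character_eq_sum, hz,
    Finset.sum_attach (eigvals ρ x) (fun μ => (μ * (eigmult ρ x μ : ℂ)) ^ (p ^ k))] at hr2
  have h3 : ∑ μ ∈ eigvals ρ x, (μ * (eigmult ρ x μ : ℂ)) ^ (p ^ k) =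
      ((∑ μ ∈ eigvals ρ x, (eigmult ρ x μ : ℤ) ^ (p ^ k) : ℤ) : ℂ) := by
    push_cast
    refine Finset.sum_congr rfl fun μ hμ' => ?_
    rw [mul_pow, hμ μ hμ', one_mul]
  rw [h3] at hr2
  -- r is a rational integer
  set D : ℤ := z ^ (p ^ k) - ∑ μ ∈ eigvals ρ x, (eigmult ρ x μ : ℤ) ^ (p ^ k) with hD
  have hpC : (p : ℂ) ≠ 0 := by exact_mod_cast hp.ne_zero
  have hrD : ((r : integralClosure ℤ ℂ) : ℂ) = algebraMap ℚ ℂ ((D : ℚ) / (p : ℚ)) := by
    have : (D : ℂ) = (p : ℂ) * (r : ℂ) := by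
      rw [hD]
      push_cast
      rw [hr2]
      push_cast
      ring
    rw [map_div₀]
    simp only [eq_ratCast, Rat.cast_intCast, Rat.cast_natCast]
    rw [this]
    field_simp
  have hrint : IsIntegral ℤ (algebraMap ℚ ℂ ((D : ℚ) / (p : ℚ))) := by
    rw [← hrD]
    exact r.2
  rw [isIntegral_algebraMap_iff (algebraMap ℚ ℂ).injective] at hrint
  obtain ⟨w, hw⟩ := IsIntegrallyClosed.isIntegral_iff.mp hrint
  have hDw : D = (p : ℤ) * w := by
    have hpQ : (p : ℚ) ≠ 0 := by exact_mod_cast hp.ne_zero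
    have : (D : ℚ) = (p : ℚ) * (w : ℚ) := by
      have h5 : (w : ℚ) = (D : ℚ) / (p : ℚ) := by
        rw [← hw]
        simp
      rw [h5]
      field_simp
    exact_mod_cast this
  -- reduce modulo p
  have hmod : ((D : ℤ) : ZMod p) = 0 := by
    rw [hDw]
    simp
  rw [hD] at hmod
  push_cast at hmod
  simp only [ZMod.pow_card_pow] at hmod
  rw [← (ZMod.intCast_zmod_eq_zero_iff_dvd _ p)]
  push_cast
  have hn : ((Module.finrank ℂ V : ℕ) : ZMod p) = ∑ μ ∈ eigvals ρ x, ((eigmult ρ x μ : ℕ) : ZMod p) := by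
    rw [finrank_eq_sum_nat ρ x]
    push_cast
    rfl
  rw [hn]
  rw [sub_eq_zero] at hmod ⊢
  exact hmod.symm

end

end Cfsg.Agent.Lib.Helper4
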