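import Mathlib
import Cfsg.Prelude.Def_Blocks
import Cfsg.Prelude.Def_Local
import Cfsg.Agent.Lib.Helper4.BlockRegular
import Cfsg.Agent.Lib.Helper4.BlockCentralizer
import Cfsg.Agent.Lib.Helper4.BlockQuot
import Cfsg.Agent.Lib.Helper4.TwoClasses
import Cfsg.Agent.Lib.Helper4.BurnsideClass
import Cfsg.Agent.Lib.Helper3.PSolvable
import Cfsg.Agent.S0938

set_option autoImplicit false

/-!
# The principal block of a `p`-solvable group (helper4)

* `sameBlock_of_centralizer_le` : a group with a normal `p`-subgroup containing its centralizer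
  has a unique `p`-block
* `mem_principalBlock_iff_of_isPSolvable` : (Fong) in a `p`-solvable group the principal block
  consists of the irreducible characters with `O_{p'}(G)` in their kernel
-/

namespace Cfsg.Agent.Lib.Helper4

open Cfsg Cfsg.Agent.Lib.Helper28
open scoped Classical ComplexConjugate

section

variable {G : Type*} [Group G] [Fintype G] {M : Ideal AlgInt}

/-- a finite group with a normal `p`-subgroup `Q` such that `C_G(Q) ≤ Q` has only one `p`-block -/
theorem sameBlock_of_centralizer_le {p : ℕ} [Fact p.Prime] (hM : IsPModular p M)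
    (Q : Subgroup G) [Q.Normal] (hQ : IsPGroup p Q)
    (hC : Subgroup.centralizer (Q : Set G) ≤ Q) (χ ψ : IrrCharacter G) :
    SameBlock M (χ : G → ℂ) (ψ : G → ℂ) := by
  have hMprime : M.IsPrime := hM.2.1.isPrime
  have hMtop : M ≠ ⊤ := Ideal.IsPrime.ne_top hMprime
  have hp : p.Prime := Fact.out
  set B : Set (IrrCharacter G) := blockOf M (χ : G → ℂ) with hBdef
  have hB : IsPBlock M B := ⟨χ, rfl⟩
  have hχB : χ ∈ B := sameBlock_refl hMtop _
  have hsupp : ∀ g : G, g ≠ 1 → blockCoeff B g = 0 := by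
    intro g hg
    by_cases hgc : g ∈ Subgroup.centralizer (Q : Set G)
    · have hgQ : g ∈ Q := hC hgc
      obtain ⟨k, hk⟩ := (IsPGroup.iff_orderOf.mp hQ) ⟨g, hgQ⟩
      rw [Subgroup.orderOf_mk] at hk
      apply blockCoeff_eq_zero_of_pSingular hM hB
      rw [hk]
      rcases k with _ | k
      · exfalso
        rw [pow_zero, orderOf_eq_one_iff] at hk
        exact hg hk
      · exact dvd_pow_self p (Nat.succ_ne_zero k)
    · exact blockCoeff_eq_zero_of_not_mem_centralizer hM Q hQ hB g hgc
  have hom : ∀ φ : IrrCharacter G, omegaF (φ : G → ℂ) (blockCoeff B) = blockCoeff B 1 := by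
    intro φ
    unfold omegaF
    rw [Finset.sum_eq_single 1]
    · rw [mul_div_assoc, div_self (irr_one_ne_zero φ.2), mul_one]
    · intro g _ hg
      rw [hsupp g hg, zero_mul]
    · intro h
      exact absurd (Finset.mem_univ _) h
  have h1 := omegaF_blockCoeff B χ
  have h2 := omegaF_blockCoeff B ψ
  rw [hom χ, if_pos hχB] at h1
  rw [hom ψ, h1] at h2
  by_contra hnot
  have hψB : ψ ∉ B := hnot
  rw [if_neg hψB] at h2
  exact one_ne_zero h2

end

section

variable {G : Type*} [Group G] [Finite G] {M : Ideal AlgInt}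

/-- the trivial character as an element of `IrrCharacter G` -/
noncomputable def trivIrr (G : Type*) [Group G] [Finite G] : IrrCharacter G :=
  haveI : Fintype G := Fintype.ofFinite G
  ⟨fun _ => 1, isIrrCharacter_one⟩

theorem trivIrr_apply (g : G) : (trivIrr G : G → ℂ) g = 1 := rfl

/-- **Fong**: in a `p`-solvable group, the principal `p`-block consists of the irreducible
characters having `O_{p'}(G)` in their kernel -/
theorem mem_principalBlock_iff_of_isPSolvable {p : ℕ} [Fact p.Prime] (hM : IsPModular p M)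
    (hsol : IsPSolvable p G) (χ : IrrCharacter G) :
    χ ∈ principalBlock M G ↔ ∀ g ∈ pPrimeCore p G, (χ : G → ℂ) g = (χ : G → ℂ) 1 := by
  have : Fintype G := Fintype.ofFinite G
  have hMprime : M.IsPrime := hM.2.1.isPrime
  have hMtop : M ≠ ⊤ := Ideal.IsPrime.ne_top hMprime
  have hp : p.Prime := Fact.out
  have hNn : (pPrimeCore p G).Normal := Cfsg.Agent.Lib.Helper2.pPrimeCore_normal p
  have hNc : (Nat.card (pPrimeCore p G)).Coprime p := Cfsg.Agent.Lib.Helper2.pPrimeCore_coprime p
  constructor
  · intro hχ g hg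
    have hB : IsPBlock M (principalBlock M G) := ⟨trivIrr G, rfl⟩
    have h1B : trivIrr G ∈ principalBlock M G := sameBlock_refl hMtop _
    obtain ⟨K, _, hK, _, _, hmax⟩ := Cfsg.Agent.S0938.result p M hM (principalBlock M G) hB
      (trivIrr G) h1B
    have hle : pPrimeCore p G ≤ K := by
      apply hmax _ hNn
      · intro hdvd
        have := Nat.Coprime.eq_one_of_dvd hNc.symm hdvd
        exact hp.one_lt.ne' this
      · intro g _
        rfl
    have hgK : g ∈ (K : Set G) := hle hg
    rw [hK] at hgK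
    exact hgK χ hχ
  · intro hχ
    obtain ⟨ψ, hψ⟩ := exists_deflate_irr (pPrimeCore p G) χ hχ
    have : Fintype (G ⧸ pPrimeCore p G) := Fintype.ofFinite _
    have hsolQ : IsPSolvable p (G ⧸ pPrimeCore p G) :=
      Cfsg.Agent.Lib.Helper3.isPSolvable_quotient hp hsol _
    have hO : pPrimeCore p (G ⧸ pPrimeCore p G) = ⊥ :=
      Cfsg.Agent.Lib.Helper3.pPrimeCore_quotient_pPrimeCore p
    have hQn : (pCore p (G ⧸ pPrimeCore p G)).Normal := Cfsg.Agent.Lib.Helper2.pCore_normal p
    have hQp : IsPGroup p (pCore p (G ⧸ pPrimeCore p G)) := Cfsg.Agent.Lib.Helper2.pCore_isPGroup p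
    have hQc := Cfsg.Agent.Lib.Helper3.centralizer_pCore_le hsolQ hO
    have hsame := sameBlock_of_centralizer_le hM (pCore p (G ⧸ pPrimeCore p G)) hQp hQc
      (trivIrr (G ⧸ pPrimeCore p G)) ψ
    have hinf := sameBlock_inflate (pPrimeCore p G) hsame
    show SameBlock M (fun _ : G => (1 : ℂ)) (χ : G → ℂ)
    have e1 : ((trivIrr (G ⧸ pPrimeCore p G) : G ⧸ pPrimeCore p G → ℂ) ∘
        (QuotientGroup.mk : G → G ⧸ pPrimeCore p G)) = fun _ : G => (1 : ℂ) := rfl
    have e2 : ((ψ : G ⧸ pPrimeCore p G → ℂ) ∘ (QuotientGroup.mk : G → G ⧸ pPrimeCore p G)) =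
        (χ : G → ℂ) := by
      funext g
      exact hψ g
    rw [e1, e2] at hinf
    exact hinf

end

end Cfsg.Agent.Lib.Helper4
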