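import Mathlib

set_option autoImplicit false
set_option linter.unusedSectionVars false

namespace Cfsg.Agent.Lib.Helper4.Prim2

open Polynomial Module

variable {V : Type*} [AddCommGroup V] [Module ℂ V]

theorem exists_eigen_pair (M : Module.End ℂ V) (k : ℕ) (hk : 0 < k) (hM : M ^ k = 1)
    (hV : Module.finrank ℂ V = 2) :
    ∃ (v₁ v₂ : V) (l₁ l₂ : ℂ), M v₁ = l₁ • v₁ ∧ M v₂ = l₂ • v₂ ∧
      (∀ v, ∃ a b : ℂ, v = a • v₁ + b • v₂) ∧
      (∀ a b : ℂ, a • v₁ + b • v₂ = 0 → a = 0 ∧ b = 0) := by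
  haveI : FiniteDimensional ℂ V := Module.finite_of_finrank_pos (by omega)
  haveI : Nontrivial V := Module.nontrivial_of_finrank_pos (R := ℂ) (by omega)
  obtain ⟨l₁, hl₁⟩ := Module.End.exists_eigenvalue M
  obtain ⟨v₁, hv₁⟩ := hl₁.exists_hasEigenvector
  have hsep : (X ^ k - 1 : ℂ[X]).Separable := by
    rw [Polynomial.X_pow_sub_one_separable_iff]
    exact_mod_cast hk.ne'
  have hss : M.IsSemisimple := by
    apply Module.End.isSemisimple_of_squarefree_aeval_eq_zero hsep.squarefree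
    simp [hM]
  obtain ⟨p, hpdef⟩ : ∃ p : Submodule ℂ V, p = Submodule.span ℂ {v₁} := ⟨_, rfl⟩
  have hv₁p : v₁ ∈ p := by rw [hpdef]; exact Submodule.mem_span_singleton_self v₁
  have hp : p ∈ M.invtSubmodule := by
    rw [Module.End.mem_invtSubmodule]
    intro w hw
    rw [Submodule.mem_comap]
    rw [hpdef] at hw
    obtain ⟨c, rfl⟩ := Submodule.mem_span_singleton.mp hw
    rw [map_smul, hv₁.apply_eq_smul]
    exact Submodule.smul_mem _ _ (Submodule.smul_mem _ _ hv₁p)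
  obtain ⟨q, hq, hpq⟩ := (Module.End.isSemisimple_iff.mp hss) p hp
  have hfp : Module.finrank ℂ p = 1 := by rw [hpdef]; exact finrank_span_singleton hv₁.2
  have hfq : Module.finrank ℂ q = 1 := by
    have := Submodule.finrank_add_eq_of_isCompl hpq
    omega
  obtain ⟨v₂, hv₂ne, hv₂⟩ := finrank_eq_one_iff'.mp hfq
  have hMv₂ : M (v₂ : V) ∈ q := by
    rw [Module.End.mem_invtSubmodule] at hq
    exact hq v₂.2
  obtain ⟨l₂, hl₂⟩ := hv₂ ⟨M v₂, hMv₂⟩
  refine ⟨v₁, v₂, l₁, l₂, hv₁.apply_eq_smul, ?_, ?_, ?_⟩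
  · have := congrArg Subtype.val hl₂
    simpa using this.symm
  · intro v
    have hv : v ∈ p ⊔ q := by rw [hpq.sup_eq_top]; trivial
    obtain ⟨y, hy, w, hw, rfl⟩ := Submodule.mem_sup.mp hv
    rw [hpdef] at hy
    obtain ⟨a, rfl⟩ := Submodule.mem_span_singleton.mp hy
    obtain ⟨b, hb⟩ := hv₂ ⟨w, hw⟩
    refine ⟨a, b, ?_⟩
    have := congrArg Subtype.val hb
    simp only [Submodule.coe_smul] at this
    rw [this]
  · intro a b hab
    have h1 : a • v₁ ∈ p ⊓ q := by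
      refine ⟨Submodule.smul_mem _ _ hv₁p, ?_⟩
      have : a • v₁ = -(b • (v₂ : V)) := eq_neg_of_add_eq_zero_left hab
      rw [this]
      exact Submodule.neg_mem _ (Submodule.smul_mem _ _ v₂.2)
    rw [hpq.inf_eq_bot, Submodule.mem_bot] at h1
    have ha : a = 0 := by
      rcases smul_eq_zero.mp h1 with h | h
      · exact h
      · exact absurd h hv₁.2
    rw [ha, zero_smul, zero_add] at hab
    have hb : b = 0 := by
      rcases smul_eq_zero.mp hab with h | h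
      · exact h
      · exfalso; apply hv₂ne; exact Subtype.ext h
    exact ⟨ha, hb⟩

section Frame

/-- preserves both lines -/
def Dg (v₁ v₂ : V) (N : Module.End ℂ V) : Prop :=
  (∃ a : ℂ, N v₁ = a • v₁) ∧ (∃ d : ℂ, N v₂ = d • v₂)

/-- swaps the lines -/
def Sw (v₁ v₂ : V) (N : Module.End ℂ V) : Prop :=
  (∃ b : ℂ, N v₁ = b • v₂) ∧ (∃ c : ℂ, N v₂ = c • v₁)

variable {v₁ v₂ : V}

theorem ext_frame (hspan : ∀ v, ∃ a b : ℂ, v = a • v₁ + b • v₂)
    {N N' : Module.End ℂ V} (h1 : N v₁ = N' v₁) (h2 : N v₂ = N' v₂) : N = N' := by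
  ext v
  obtain ⟨a, b, rfl⟩ := hspan v
  simp [map_add, map_smul, h1, h2]

theorem v₁_ne (hind : ∀ a b : ℂ, a • v₁ + b • v₂ = 0 → a = 0 ∧ b = 0) : v₁ ≠ 0 := by
  intro h
  have := hind 1 0 (by simp [h])
  exact one_ne_zero this.1

theorem v₂_ne (hind : ∀ a b : ℂ, a • v₁ + b • v₂ = 0 → a = 0 ∧ b = 0) : v₂ ≠ 0 := by
  intro h
  have := hind 0 1 (by simp [h])
  exact one_ne_zero this.2

theorem coeff_unique (hind : ∀ a b : ℂ, a • v₁ + b • v₂ = 0 → a = 0 ∧ b = 0)
    {a b a' b' : ℂ} (h : a • v₁ + b • v₂ = a' • v₁ + b' • v₂) : a = a' ∧ b = b' := by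
  have h0 : (a - a') • v₁ + (b - b') • v₂ = 0 := by
    rw [sub_smul, sub_smul]
    have : a • v₁ - a' • v₁ + (b • v₂ - b' • v₂) =
        (a • v₁ + b • v₂) - (a' • v₁ + b' • v₂) := by abel
    rw [this, h, sub_self]
  have := hind _ _ h0
  exact ⟨sub_eq_zero.mp this.1, sub_eq_zero.mp this.2⟩

theorem Dg.commute (hspan : ∀ v, ∃ a b : ℂ, v = a • v₁ + b • v₂)
    {N N' : Module.End ℂ V} (h : Dg v₁ v₂ N) (h' : Dg v₁ v₂ N') : N * N' = N' * N := by
  obtain ⟨⟨a, ha⟩, ⟨d, hd⟩⟩ := h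
  obtain ⟨⟨a', ha'⟩, ⟨d', hd'⟩⟩ := h'
  apply ext_frame hspan
  · simp only [Module.End.mul_apply, ha, ha', map_smul]
    rw [smul_comm]
  · simp only [Module.End.mul_apply, hd, hd', map_smul]
    rw [smul_comm]

theorem dg_of_commute (hspan : ∀ v, ∃ a b : ℂ, v = a • v₁ + b • v₂)
    (hind : ∀ a b : ℂ, a • v₁ + b • v₂ = 0 → a = 0 ∧ b = 0)
    {M N : Module.End ℂ V} {l₁ l₂ : ℂ} (h1 : M v₁ = l₁ • v₁) (h2 : M v₂ = l₂ • v₂)
    (hne : l₁ ≠ l₂) (hc : N * M = M * N) : Dg v₁ v₂ N := by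
  constructor
  · obtain ⟨a, b, hab⟩ := hspan (N v₁)
    have h3 : M (N v₁) = l₁ • N v₁ := by
      have := LinearMap.congr_fun hc v₁
      simp only [Module.End.mul_apply] at this
      rw [← this, h1, map_smul]
    rw [hab, map_add, map_smul, map_smul, h1, h2, smul_add, smul_smul, smul_smul, smul_smul,
      smul_smul] at h3
    obtain ⟨-, h4⟩ := coeff_unique hind h3
    have hb : b = 0 := by
      have : b * (l₂ - l₁) = 0 := by linear_combination h4
      rcases mul_eq_zero.mp this with h | h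
      · exact h
      · exact absurd (sub_eq_zero.mp h).symm hne
    refine ⟨a, ?_⟩
    rw [hab, hb, zero_smul, add_zero]
  · obtain ⟨a, b, hab⟩ := hspan (N v₂)
    have h3 : M (N v₂) = l₂ • N v₂ := by
      have := LinearMap.congr_fun hc v₂
      simp only [Module.End.mul_apply] at this
      rw [← this, h2, map_smul]
    rw [hab, map_add, map_smul, map_smul, h1, h2, smul_add, smul_smul, smul_smul, smul_smul,
      smul_smul] at h3
    obtain ⟨h4, -⟩ := coeff_unique hind h3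
    have ha : a = 0 := by
      have : a * (l₁ - l₂) = 0 := by linear_combination h4
      rcases mul_eq_zero.mp this with h | h
      · exact h
      · exact absurd (sub_eq_zero.mp h) hne
    refine ⟨b, ?_⟩
    rw [hab, ha, zero_smul, zero_add]

theorem dg_or_sw (hspan : ∀ v, ∃ a b : ℂ, v = a • v₁ + b • v₂)
    (hind : ∀ a b : ℂ, a • v₁ + b • v₂ = 0 → a = 0 ∧ b = 0)
    {M N' R : Module.End ℂ V} {l₁ l₂ : ℂ} (h1 : M v₁ = l₁ • v₁) (h2 : M v₂ = l₂ • v₂)
    (hne : l₁ ≠ l₂) (hR : ∀ v, R v = 0 → v = 0) (hN' : Dg v₁ v₂ N')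
    (hconj : N' * R = R * M) : Dg v₁ v₂ R ∨ Sw v₁ v₂ R := by
  obtain ⟨⟨μ₁, hμ₁⟩, ⟨μ₂, hμ₂⟩⟩ := hN'
  obtain ⟨a, b, hab⟩ := hspan (R v₁)
  obtain ⟨c, d, hcd⟩ := hspan (R v₂)
  have e1 : N' (R v₁) = l₁ • R v₁ := by
    have := LinearMap.congr_fun hconj v₁
    simp only [Module.End.mul_apply] at this
    rw [this, h1, map_smul]
  have e2 : N' (R v₂) = l₂ • R v₂ := by
    have := LinearMap.congr_fun hconj v₂
    simp only [Module.End.mul_apply] at this
    rw [this, h2, map_smul]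
  rw [hab, map_add, map_smul, map_smul, hμ₁, hμ₂, smul_add, smul_smul, smul_smul, smul_smul,
    smul_smul] at e1
  rw [hcd, map_add, map_smul, map_smul, hμ₁, hμ₂, smul_add, smul_smul, smul_smul, smul_smul,
    smul_smul] at e2
  obtain ⟨e1a, e1b⟩ := coeff_unique hind e1
  obtain ⟨e2a, e2b⟩ := coeff_unique hind e2
  by_cases h : μ₁ = l₁
  · have hc : c = 0 := by
      have : c * (μ₁ - l₂) = 0 := by linear_combination e2a
      rcases mul_eq_zero.mp this with h' | h'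
      · exact h'
      · exfalso; apply hne; rw [← h]; exact sub_eq_zero.mp h'
    have hd : d ≠ 0 := by
      intro hd
      apply v₂_ne hind
      apply hR
      rw [hcd, hc, hd, zero_smul, zero_smul, add_zero]
    have hμ₂' : μ₂ = l₂ := by
      have : d * (μ₂ - l₂) = 0 := by linear_combination e2b
      rcases mul_eq_zero.mp this with h' | h'
      · exact absurd h' hd
      · exact sub_eq_zero.mp h'
    have hb : b = 0 := by
      have : b * (μ₂ - l₁) = 0 := by linear_combination e1b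
      rcases mul_eq_zero.mp this with h' | h'
      · exact h'
      · exfalso; apply hne; rw [← hμ₂']; exact (sub_eq_zero.mp h').symm
    left
    exact ⟨⟨a, by rw [hab, hb, zero_smul, add_zero]⟩, ⟨d, by rw [hcd, hc, zero_smul, zero_add]⟩⟩
  · have ha : a = 0 := by
      have : a * (μ₁ - l₁) = 0 := by linear_combination e1a
      rcases mul_eq_zero.mp this with h' | h'
      · exact h'
      · exact absurd (sub_eq_zero.mp h') h
    have hb : b ≠ 0 := by
      intro hb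
      apply v₁_ne hind
      apply hR
      rw [hab, ha, hb, zero_smul, zero_smul, add_zero]
    have hμ₂' : μ₂ = l₁ := by
      have : b * (μ₂ - l₁) = 0 := by linear_combination e1b
      rcases mul_eq_zero.mp this with h' | h'
      · exact absurd h' hb
      · exact sub_eq_zero.mp h'
    have hd : d = 0 := by
      have : d * (μ₂ - l₂) = 0 := by linear_combination e2b
      rcases mul_eq_zero.mp this with h' | h'
      · exact h'
      · exfalso; apply hne; rw [← hμ₂']; exact sub_eq_zero.mp h'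
    right
    exact ⟨⟨b, by rw [hab, ha, zero_smul, zero_add]⟩, ⟨c, by rw [hcd, hd, zero_smul, add_zero]⟩⟩

theorem dg_of_sw_sw (hind : ∀ a b : ℂ, a • v₁ + b • v₂ = 0 → a = 0 ∧ b = 0)
    {R R' Ri : Module.End ℂ V} (hRi : Ri * R = 1) (h : Sw v₁ v₂ R) (h' : Sw v₁ v₂ R') :
    Dg v₁ v₂ (Ri * R') := by
  obtain ⟨⟨b, hb⟩, ⟨c, hc⟩⟩ := h
  obtain ⟨⟨b', hb'⟩, ⟨c', hc'⟩⟩ := h'
  have hRi1 : Ri (R v₁) = v₁ := by
    have := LinearMap.congr_fun hRi v₁
    simpa [Module.End.mul_apply] using this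
  have hRi2 : Ri (R v₂) = v₂ := by
    have := LinearMap.congr_fun hRi v₂
    simpa [Module.End.mul_apply] using this
  have hb0 : b ≠ 0 := by
    intro h0
    rw [hb, h0, zero_smul, map_zero] at hRi1
    exact v₁_ne hind hRi1.symm
  have hc0 : c ≠ 0 := by
    intro h0
    rw [hc, h0, zero_smul, map_zero] at hRi2
    exact v₂_ne hind hRi2.symm
  have hRiv₂ : Ri v₂ = b⁻¹ • v₁ := by
    rw [hb, map_smul] at hRi1
    rw [← hRi1, smul_smul, inv_mul_cancel₀ hb0, one_smul]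
  have hRiv₁ : Ri v₁ = c⁻¹ • v₂ := by
    rw [hc, map_smul] at hRi2
    rw [← hRi2, smul_smul, inv_mul_cancel₀ hc0, one_smul]
  constructor
  · exact ⟨b' * b⁻¹, by rw [Module.End.mul_apply, hb', map_smul, hRiv₂, smul_smul]⟩
  · exact ⟨c' * c⁻¹, by rw [Module.End.mul_apply, hc', map_smul, hRiv₁, smul_smul]⟩

/-- the basis given by a frame -/
noncomputable def frameBasis (hspan : ∀ v, ∃ a b : ℂ, v = a • v₁ + b • v₂)
    (hind : ∀ a b : ℂ, a • v₁ + b • v₂ = 0 → a = 0 ∧ b = 0) : Basis (Fin 2) ℂ V :=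
  Basis.mk (v := ![v₁, v₂]) (LinearIndependent.pair_iff.mpr hind) (by
    intro v _
    obtain ⟨a, b, rfl⟩ := hspan v
    apply Submodule.add_mem <;> apply Submodule.smul_mem <;> apply Submodule.subset_span
    · exact ⟨0, rfl⟩
    · exact ⟨1, rfl⟩)

theorem trace_dg (hspan : ∀ v, ∃ a b : ℂ, v = a • v₁ + b • v₂)
    (hind : ∀ a b : ℂ, a • v₁ + b • v₂ = 0 → a = 0 ∧ b = 0)
    {N : Module.End ℂ V} {a d : ℂ} (h1 : N v₁ = a • v₁) (h2 : N v₂ = d • v₂) :
    LinearMap.trace ℂ V N = a + d := by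
  obtain ⟨b, hb⟩ : ∃ b, b = frameBasis hspan hind := ⟨_, rfl⟩
  have hb0 : b 0 = v₁ := by rw [hb]; simp [frameBasis]
  have hb1 : b 1 = v₂ := by rw [hb]; simp [frameBasis]
  have e1 : N (b 0) = a • b 0 := by rw [hb0]; exact h1
  have e2 : N (b 1) = d • b 1 := by rw [hb1]; exact h2
  rw [LinearMap.trace_eq_matrix_trace ℂ b N, Matrix.trace_fin_two, LinearMap.toMatrix_apply,
    LinearMap.toMatrix_apply, e1, e2]
  simp

theorem trace_sw (hspan : ∀ v, ∃ a b : ℂ, v = a • v₁ + b • v₂)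
    (hind : ∀ a b : ℂ, a • v₁ + b • v₂ = 0 → a = 0 ∧ b = 0)
    {N : Module.End ℂ V} {a d : ℂ} (h1 : N v₁ = a • v₂) (h2 : N v₂ = d • v₁) :
    LinearMap.trace ℂ V N = 0 := by
  obtain ⟨b, hb⟩ : ∃ b, b = frameBasis hspan hind := ⟨_, rfl⟩
  have hb0 : b 0 = v₁ := by rw [hb]; simp [frameBasis]
  have hb1 : b 1 = v₂ := by rw [hb]; simp [frameBasis]
  have e1 : N (b 0) = a • b 1 := by rw [hb0, hb1]; exact h1
  have e2 : N (b 1) = d • b 0 := by rw [hb1, hb0]; exact h2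
  rw [LinearMap.trace_eq_matrix_trace ℂ b N, Matrix.trace_fin_two, LinearMap.toMatrix_apply,
    LinearMap.toMatrix_apply, e1, e2]
  simp

end Frame

end Cfsg.Agent.Lib.Helper4.Prim2

namespace Cfsg.Agent.Lib.Helper4.Prim2

variable {V : Type*} [AddCommGroup V] [Module ℂ V]

theorem conj_coeff {v₁ v₂ : V} (hind : ∀ a b : ℂ, a • v₁ + b • v₂ = 0 → a = 0 ∧ b = 0)
    {R Ri N : Module.End ℂ V} (hRi : Ri * R = 1) (h : Sw v₁ v₂ R) {d : ℂ}
    (hN : N v₂ = d • v₂) : (Ri * N * R) v₁ = d • v₁ := by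
  obtain ⟨⟨b, hb⟩, -⟩ := h
  have hRi1 : Ri (R v₁) = v₁ := by
    have := LinearMap.congr_fun hRi v₁
    simpa [Module.End.mul_apply] using this
  have hb0 : b ≠ 0 := by
    intro h0
    rw [hb, h0, zero_smul, map_zero] at hRi1
    exact v₁_ne hind hRi1.symm
  have hRiv₂ : Ri v₂ = b⁻¹ • v₁ := by
    rw [hb, map_smul] at hRi1
    rw [← hRi1, smul_smul, inv_mul_cancel₀ hb0, one_smul]
  rw [Module.End.mul_apply, Module.End.mul_apply, hb, map_smul, hN, map_smul, map_smul, hRiv₂,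
    smul_smul, smul_smul]
  congr 1
  field_simp

end Cfsg.Agent.Lib.Helper4.Prim2
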