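import Mathlib

set_option autoImplicit false
set_option linter.unusedSectionVars false

namespace Cfsg.Agent.Lib.Helper4.Prim2

open scoped Classical

variable {G : Type*} [Group G]

theorem conj_commute (g : G) {u v : G} (h : Commute u v) :
    Commute (g * u * g⁻¹) (g * v * g⁻¹) := by
  have h1 := h.eq
  show g * u * g⁻¹ * (g * v * g⁻¹) = g * v * g⁻¹ * (g * u * g⁻¹)
  calc g * u * g⁻¹ * (g * v * g⁻¹) = g * (u * v) * g⁻¹ := by group
    _ = g * (v * u) * g⁻¹ := by rw [h1]
    _ = g * v * g⁻¹ * (g * u * g⁻¹) := by group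

theorem conj_not_mem_center (g : G) {x : G} (hx : x ∉ Subgroup.center G) :
    g * x * g⁻¹ ∉ Subgroup.center G := by
  intro hc
  apply hx
  have h1 := (inferInstance : (Subgroup.center G).Normal).conj_mem _ hc g⁻¹
  have h2 : g⁻¹ * (g * x * g⁻¹) * g⁻¹⁻¹ = x := by group
  rwa [h2] at h1

/-- `x` and `y` are linked: some conjugate of `x` commutes with `y` -/
def Linked (x y : G) : Prop := ∃ g : G, Commute (g * x * g⁻¹) y

theorem linked_refl (x : G) : Linked x x := ⟨1, by simp⟩

theorem linked_symm {x y : G} (h : Linked x y) : Linked y x := by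
  obtain ⟨g, hg⟩ := h
  refine ⟨g⁻¹, ?_⟩
  have h1 := conj_commute g⁻¹ hg.symm
  have h2 : g⁻¹ * (g * x * g⁻¹) * g⁻¹⁻¹ = x := by group
  rwa [h2] at h1

/-- the CA-type hypothesis: commuting is transitive through noncentral elements -/
def IsCA (G : Type*) [Group G] : Prop :=
  ∀ x : G, x ∉ Subgroup.center G → ∀ y z : G, Commute x y → Commute x z → Commute y z

theorem linked_trans (hCA : IsCA G) {x y w : G} (hy : y ∉ Subgroup.center G)
    (h1 : Linked x y) (h2 : Linked y w) : Linked x w := by
  obtain ⟨g, hg⟩ := h1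
  obtain ⟨h, hh⟩ := h2
  refine ⟨h * g, ?_⟩
  have h3 := conj_commute h hg
  have h4 : h * g * x * (h * g)⁻¹ = h * (g * x * g⁻¹) * h⁻¹ := by group
  rw [h4]
  exact hCA _ (conj_not_mem_center h hy) _ _ h3.symm hh

section Fin

variable [Fintype G]

/-- the class of `x`: noncentral elements linked to `x` -/
noncomputable def Cl (x : G) : Finset G :=
  Finset.univ.filter (fun y => y ∉ Subgroup.center G ∧ Linked x y)

theorem mem_Cl {x y : G} : y ∈ Cl x ↔ y ∉ Subgroup.center G ∧ Linked x y := by
  simp [Cl]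

theorem Cl_eq_of_linked (hCA : IsCA G) {x y : G} (hx : x ∉ Subgroup.center G)
    (hy : y ∉ Subgroup.center G) (h : Linked x y) : Cl x = Cl y := by
  ext w
  rw [mem_Cl, mem_Cl]
  constructor
  · rintro ⟨hw, hxw⟩
    exact ⟨hw, linked_trans hCA hx (linked_symm h) hxw⟩
  · rintro ⟨hw, hyw⟩
    exact ⟨hw, linked_trans hCA hy h hyw⟩

/-- the noncentral elements -/
noncomputable def NC (G : Type*) [Group G] [Fintype G] : Finset G :=
  Finset.univ.filter (fun y => y ∉ Subgroup.center G)

theorem mem_NC {y : G} : y ∈ NC G ↔ y ∉ Subgroup.center G := by simp [NC]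

theorem card_NC_eq_sum (hCA : IsCA G) :
    (NC G).card = ∑ c ∈ (NC G).image Cl, c.card := by
  rw [Finset.card_eq_sum_card_image Cl (NC G)]
  apply Finset.sum_congr rfl
  intro c hc
  obtain ⟨x, hx, rfl⟩ := Finset.mem_image.mp hc
  rw [mem_NC] at hx
  congr 1
  ext y
  rw [Finset.mem_filter, mem_NC, mem_Cl]
  constructor
  · rintro ⟨hy, hyx⟩
    have : y ∈ Cl y := mem_Cl.mpr ⟨hy, linked_refl y⟩
    rw [hyx] at this
    exact mem_Cl.mp this
  · rintro ⟨hy, hxy⟩
    exact ⟨hy, (Cl_eq_of_linked hCA hx hy hxy).symm⟩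

theorem card_NC_add : (NC G).card + Nat.card (Subgroup.center G) = Nat.card G := by
  have h1 := Finset.card_filter_add_card_filter_not (s := (Finset.univ : Finset G))
    (fun y => y ∈ Subgroup.center G)
  have h2 : (Finset.univ.filter (fun y : G => y ∈ Subgroup.center G)).card =
      Nat.card (Subgroup.center G) := by
    rw [Nat.card_eq_fintype_card, Fintype.card_subtype]
  rw [Nat.card_eq_fintype_card (α := G), ← Finset.card_univ, ← h1, h2, add_comm]
  rfl

/-- number of elements commuting with a conjugate of `x` -/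
theorem card_commute_conj (x g : G) :
    (Finset.univ.filter (fun y => Commute (g * x * g⁻¹) y)).card =
      Nat.card (Subgroup.centralizer ({x} : Set G)) := by
  have h1 : (Finset.univ.filter (fun y => Commute (g * x * g⁻¹) y)).card =
      (Finset.univ.filter (fun y => y ∈ Subgroup.centralizer ({x} : Set G))).card := by
    apply Finset.card_equiv (MulAut.conj g⁻¹).toEquiv
    intro y
    simp only [Finset.mem_filter, Finset.mem_univ, true_and, MulEquiv.toEquiv_eq_coe,
      MulEquiv.coe_toEquiv, MulAut.conj_apply, Subgroup.mem_centralizer_singleton_iff]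
    constructor
    · intro h
      have h2 := conj_commute g⁻¹ h
      have h3 : g⁻¹ * (g * x * g⁻¹) * g⁻¹⁻¹ = x := by group
      rw [h3] at h2
      exact h2.symm.eq
    · intro h
      have h2 : Commute x (g⁻¹ * y * g⁻¹⁻¹) := h.symm
      have h3 := conj_commute g h2
      have h4 : g * (g⁻¹ * y * g⁻¹⁻¹) * g⁻¹ = y := by group
      rwa [h4] at h3
  rw [h1, Nat.card_eq_fintype_card, Fintype.card_subtype]

theorem card_nc_commute_conj (x g : G) :
    (Finset.univ.filter (fun y => y ∉ Subgroup.center G ∧ Commute (g * x * g⁻¹) y)).card +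
      Nat.card (Subgroup.center G) = Nat.card (Subgroup.centralizer ({x} : Set G)) := by
  rw [← card_commute_conj x g]
  have h1 := Finset.card_filter_add_card_filter_not
    (s := Finset.univ.filter (fun y => Commute (g * x * g⁻¹) y))
    (fun y => y ∈ Subgroup.center G)
  rw [← h1]
  have h2 : (Finset.univ.filter (fun y => Commute (g * x * g⁻¹) y)).filter
      (fun y => y ∈ Subgroup.center G) =
      Finset.univ.filter (fun y : G => y ∈ Subgroup.center G) := by
    ext y
    simp only [Finset.mem_filter, Finset.mem_univ, true_and]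
    constructor
    · exact fun h => h.2
    · intro h
      refine ⟨?_, h⟩
      rw [Subgroup.mem_center_iff] at h
      exact h (g * x * g⁻¹)
  have h3 : (Finset.univ.filter (fun y => Commute (g * x * g⁻¹) y)).filter
      (fun y => ¬ y ∈ Subgroup.center G) =
      Finset.univ.filter (fun y => y ∉ Subgroup.center G ∧ Commute (g * x * g⁻¹) y) := by
    ext y
    simp only [Finset.mem_filter, Finset.mem_univ, true_and]
    tauto
  rw [h2, h3, add_comm]
  congr 1
  rw [Nat.card_eq_fintype_card, Fintype.card_subtype]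

theorem mem_normalizer_centralizer (hCA : IsCA G) {x : G} (hx : x ∉ Subgroup.center G) (g : G) :
    g ∈ Subgroup.normalizer ((Subgroup.centralizer ({x} : Set G) : Subgroup G) : Set G) ↔
      Commute (g * x * g⁻¹) x := by
  rw [Subgroup.mem_normalizer_iff]
  constructor
  · intro h
    have h1 : x ∈ Subgroup.centralizer ({x} : Set G) :=
      Subgroup.mem_centralizer_singleton_iff.mpr rfl
    have h2 := (h x).mp h1
    rw [Subgroup.mem_centralizer_singleton_iff] at h2
    exact h2
  · intro h y
    rw [Subgroup.mem_centralizer_singleton_iff, Subgroup.mem_centralizer_singleton_iff]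
    constructor
    · intro hy
      have h1 : Commute (g * x * g⁻¹) (g * y * g⁻¹) := conj_commute g (Commute.symm hy)
      exact (hCA _ (conj_not_mem_center g hx) _ _ h1 h).eq
    · intro hy
      have h1 : Commute x (g * y * g⁻¹) := Commute.symm hy
      have h2 := hCA x hx _ _ h1 h.symm
      have h3 := conj_commute g⁻¹ h2
      have h4 : g⁻¹ * (g * y * g⁻¹) * g⁻¹⁻¹ = y := by group
      have h5 : g⁻¹ * (g * x * g⁻¹) * g⁻¹⁻¹ = x := by group
      rw [h4, h5] at h3
      exact h3.eq

theorem card_linkers (hCA : IsCA G) {x y : G} (hx : x ∉ Subgroup.center G)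
    (hy : y ∈ Cl x) :
    (Finset.univ.filter (fun g => Commute (g * x * g⁻¹) y)).card =
      Nat.card (Subgroup.normalizer
        ((Subgroup.centralizer ({x} : Set G) : Subgroup G) : Set G)) := by
  obtain ⟨hyZ, g₀, hg₀⟩ := mem_Cl.mp hy
  have h1 : (Finset.univ.filter (fun g => Commute (g * x * g⁻¹) y)).card =
      (Finset.univ.filter (fun g => g ∈ Subgroup.normalizer
        ((Subgroup.centralizer ({x} : Set G) : Subgroup G) : Set G))).card := by
    apply Finset.card_equiv (Equiv.mulLeft g₀⁻¹)
    intro g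
    simp only [Finset.mem_filter, Finset.mem_univ, true_and, Equiv.coe_mulLeft]
    rw [mem_normalizer_centralizer hCA hx]
    have h5 : g₀⁻¹ * g * x * (g₀⁻¹ * g)⁻¹ = g₀⁻¹ * (g * x * g⁻¹) * g₀⁻¹⁻¹ := by group
    rw [h5]
    constructor
    · intro h
      have h2 : Commute (g * x * g⁻¹) (g₀ * x * g₀⁻¹) := hCA y hyZ _ _ h.symm hg₀.symm
      have h3 := conj_commute g₀⁻¹ h2
      have h4 : g₀⁻¹ * (g₀ * x * g₀⁻¹) * g₀⁻¹⁻¹ = x := by group
      rwa [h4] at h3
    · intro h
      have h3 := conj_commute g₀ h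
      have h4 : g₀ * (g₀⁻¹ * (g * x * g⁻¹) * g₀⁻¹⁻¹) * g₀⁻¹ = g * x * g⁻¹ := by group
      rw [h4] at h3
      exact hCA _ (conj_not_mem_center g₀ hx) _ _ h3.symm hg₀
  rw [h1, Nat.card_eq_fintype_card, Fintype.card_subtype]

/-- the size of a class by double counting -/
theorem card_Cl_mul (hCA : IsCA G) {x : G} (hx : x ∉ Subgroup.center G) :
    (Cl x).card * Nat.card (Subgroup.normalizer
        ((Subgroup.centralizer ({x} : Set G) : Subgroup G) : Set G)) +
      Nat.card G * Nat.card (Subgroup.center G) =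
      Nat.card G * Nat.card (Subgroup.centralizer ({x} : Set G)) := by
  have h1 := Finset.sum_card_bipartiteAbove_eq_sum_card_bipartiteBelow
    (s := (Finset.univ : Finset G)) (t := Cl x) (r := fun g y => Commute (g * x * g⁻¹) y)
  have h2 : ∀ y ∈ Cl x, ((Finset.univ : Finset G).bipartiteBelow
      (fun g y => Commute (g * x * g⁻¹) y) y).card =
      Nat.card (Subgroup.normalizer
        ((Subgroup.centralizer ({x} : Set G) : Subgroup G) : Set G)) := by
    intro y hy
    rw [← card_linkers hCA hx hy]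
    rfl
  have h3 : ∀ g ∈ (Finset.univ : Finset G), ((Cl x).bipartiteAbove
      (fun g y => Commute (g * x * g⁻¹) y) g).card + Nat.card (Subgroup.center G) =
      Nat.card (Subgroup.centralizer ({x} : Set G)) := by
    intro g _
    rw [← card_nc_commute_conj x g]
    congr 2
    ext y
    simp only [Finset.mem_bipartiteAbove, Finset.mem_filter, Finset.mem_univ, true_and, mem_Cl]
    constructor
    · rintro ⟨⟨hy, _⟩, h⟩
      exact ⟨hy, h⟩
    · rintro ⟨hy, h⟩
      exact ⟨⟨hy, g, h⟩, h⟩
  rw [Finset.sum_congr rfl h2, Finset.sum_const, smul_eq_mul] at h1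
  rw [← h1]
  have h4 : ∑ g ∈ (Finset.univ : Finset G), (((Cl x).bipartiteAbove
      (fun g y => Commute (g * x * g⁻¹) y) g).card + Nat.card (Subgroup.center G)) =
      ∑ _g ∈ (Finset.univ : Finset G), Nat.card (Subgroup.centralizer ({x} : Set G)) :=
    Finset.sum_congr rfl h3
  rw [Finset.sum_add_distrib, Finset.sum_const, Finset.sum_const, smul_eq_mul, smul_eq_mul,
    Finset.card_univ, ← Nat.card_eq_fintype_card] at h4
  exact h4

end Fin

end Cfsg.Agent.Lib.Helper4.Prim2
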