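import Mathlib

set_option autoImplicit false

namespace Cfsg.Agent.Lib.Helper4.Prim2

/-- numerical data of one class of maximal abelian subgroups: `m` conjugates, normalizer index
`ν`, order `a` modulo the centre; `c` counts the noncentral elements modulo the centre -/
def ClsData (N c : ℕ) : Prop :=
  ∃ m ν a : ℕ, 2 ≤ m ∧ (ν = 1 ∨ ν = 2) ∧ 2 ≤ a ∧ N = m * ν * a ∧ c + m = m * a

theorem ClsData.le {N c : ℕ} (h : ClsData N c) : N ≤ 4 * c := by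
  obtain ⟨m, ν, a, hm, hν, ha, hN, hc⟩ := h
  have h1 : m * 2 ≤ m * a := Nat.mul_le_mul_left m ha
  rcases hν with rfl | rfl
  · have : N = m * a := by rw [hN]; ring
    omega
  · have : N = 2 * (m * a) := by rw [hN]; ring
    omega

theorem case12 (N m₁ a₁ m₂ a₂ c₁ c₂ : ℕ) (hm₁ : 2 ≤ m₁) (hm₂ : 2 ≤ m₂) (ha₁ : 2 ≤ a₁)
    (ha₂ : 2 ≤ a₂) (hN₁ : N = m₁ * a₁) (hN₂ : N = 2 * (m₂ * a₂)) (hc₁ : c₁ + m₁ = m₁ * a₁)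
    (hc₂ : c₂ + m₂ = m₂ * a₂) (hsum : c₁ + c₂ + 1 = N) : N = 12 := by
  obtain ⟨K, hK⟩ : ∃ K, K = m₂ * a₂ := ⟨_, rfl⟩
  rw [← hK] at hN₂ hc₂
  have h2 : m₂ * 2 ≤ m₂ * a₂ := Nat.mul_le_mul_left m₂ ha₂
  rcases (show a₁ = 2 ∨ a₁ = 3 ∨ 4 ≤ a₁ by omega) with rfl | rfl | h4
  · omega
  · rcases (show a₂ = 2 ∨ 3 ≤ a₂ by omega) with rfl | h3
    · omega
    · have h5 : m₂ * 3 ≤ m₂ * a₂ := Nat.mul_le_mul_left m₂ h3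
      omega
  · have h5 : m₁ * 4 ≤ m₁ * a₁ := Nat.mul_le_mul_left m₁ h4
    omega

theorem case222_b (N m₁ m₂ a₂ m₃ a₃ c₁ c₂ c₃ : ℕ) (hm₁ : 2 ≤ m₁) (hm₂ : 2 ≤ m₂)
    (hm₃ : 2 ≤ m₃) (ha₂ : 2 ≤ a₂) (ha₂' : a₂ ≤ 3) (ha₃ : 2 ≤ a₃)
    (hN₁ : N = 2 * (m₁ * 2)) (hN₂ : N = 2 * (m₂ * a₂)) (hN₃ : N = 2 * (m₃ * a₃))
    (hc₁ : c₁ + m₁ = m₁ * 2) (hc₂ : c₂ + m₂ = m₂ * a₂) (hc₃ : c₃ + m₃ = m₃ * a₃)
    (hsum : c₁ + c₂ + c₃ + 1 = N) : N = 12 ∨ N = 24 ∨ N = 60 := by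
  rcases (show a₂ = 2 ∨ a₂ = 3 by omega) with rfl | rfl
  · omega
  · have h6 : 6 * m₃ = m₃ * a₃ + 6 := by omega
    have h7 : a₃ ≤ 5 := by
      by_contra h
      push_neg at h
      have h5 : m₃ * 6 ≤ m₃ * a₃ := Nat.mul_le_mul_left m₃ h
      omega
    interval_cases a₃ <;> omega

theorem case222_a (N m₁ m₂ a₂ m₃ a₃ c₁ c₂ c₃ : ℕ) (hm₁ : 2 ≤ m₁) (hm₂ : 2 ≤ m₂)
    (hm₃ : 2 ≤ m₃) (ha₂ : 2 ≤ a₂) (ha₃ : 2 ≤ a₃)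
    (hN₁ : N = 2 * (m₁ * 2)) (hN₂ : N = 2 * (m₂ * a₂)) (hN₃ : N = 2 * (m₃ * a₃))
    (hc₁ : c₁ + m₁ = m₁ * 2) (hc₂ : c₂ + m₂ = m₂ * a₂) (hc₃ : c₃ + m₃ = m₃ * a₃)
    (hsum : c₁ + c₂ + c₃ + 1 = N) : N = 12 ∨ N = 24 ∨ N = 60 := by
  by_cases h2 : a₂ ≤ 3
  · exact case222_b N m₁ m₂ a₂ m₃ a₃ c₁ c₂ c₃ hm₁ hm₂ hm₃ ha₂ h2 ha₃ hN₁ hN₂ hN₃ hc₁ hc₂ hc₃ hsum
  · by_cases h3 : a₃ ≤ 3
    · exact case222_b N m₁ m₃ a₃ m₂ a₂ c₁ c₃ c₂ hm₁ hm₃ hm₂ ha₃ h3 ha₂ hN₁ hN₃ hN₂ hc₁ hc₃ hc₂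
        (by omega)
    · push_neg at h2 h3
      have h5 : m₂ * 4 ≤ m₂ * a₂ := Nat.mul_le_mul_left m₂ h2
      have h6 : m₃ * 4 ≤ m₃ * a₃ := Nat.mul_le_mul_left m₃ h3
      omega

theorem case222 (N m₁ a₁ m₂ a₂ m₃ a₃ c₁ c₂ c₃ : ℕ) (hm₁ : 2 ≤ m₁) (hm₂ : 2 ≤ m₂)
    (hm₃ : 2 ≤ m₃) (ha₁ : 2 ≤ a₁) (ha₂ : 2 ≤ a₂) (ha₃ : 2 ≤ a₃)
    (hN₁ : N = 2 * (m₁ * a₁)) (hN₂ : N = 2 * (m₂ * a₂)) (hN₃ : N = 2 * (m₃ * a₃))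
    (hc₁ : c₁ + m₁ = m₁ * a₁) (hc₂ : c₂ + m₂ = m₂ * a₂) (hc₃ : c₃ + m₃ = m₃ * a₃)
    (hsum : c₁ + c₂ + c₃ + 1 = N) : N = 12 ∨ N = 24 ∨ N = 60 := by
  by_cases h1 : a₁ = 2
  · subst h1
    exact case222_a N m₁ m₂ a₂ m₃ a₃ c₁ c₂ c₃ hm₁ hm₂ hm₃ ha₂ ha₃ hN₁ hN₂ hN₃ hc₁ hc₂ hc₃ hsum
  · by_cases h2 : a₂ = 2
    · subst h2
      exact case222_a N m₂ m₁ a₁ m₃ a₃ c₂ c₁ c₃ hm₂ hm₁ hm₃ ha₁ ha₃ hN₂ hN₁ hN₃ hc₂ hc₁ hc₃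
        (by omega)
    · by_cases h3 : a₃ = 2
      · subst h3
        exact case222_a N m₃ m₁ a₁ m₂ a₂ c₃ c₁ c₂ hm₃ hm₁ hm₂ ha₁ ha₂ hN₃ hN₁ hN₂ hc₃ hc₁ hc₂
          (by omega)
      · have g1 : m₁ * 3 ≤ m₁ * a₁ := Nat.mul_le_mul_left m₁ (by omega)
        have g2 : m₂ * 3 ≤ m₂ * a₂ := Nat.mul_le_mul_left m₂ (by omega)
        have g3 : m₃ * 3 ≤ m₃ * a₃ := Nat.mul_le_mul_left m₃ (by omega)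
        omega

/-- normal form of the class data, with linear consequences -/
theorem ClsData.norm {N c : ℕ} (h : ClsData N c) :
    ∃ m a : ℕ, 2 ≤ m ∧ 2 ≤ a ∧ c + m = m * a ∧ m * 2 ≤ m * a ∧
      (N = m * a ∨ N = 2 * (m * a)) := by
  obtain ⟨m, ν, a, hm, hν, ha, hN, hc⟩ := h
  refine ⟨m, a, hm, ha, hc, Nat.mul_le_mul_left m ha, ?_⟩
  rcases hν with rfl | rfl
  · left; rw [hN]; ring
  · right; rw [hN]; ring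

theorem arith_main {ι : Type*} [DecidableEq ι] (s : Finset ι) (N : ℕ) (c : ι → ℕ)
    (hc : ∀ i ∈ s, ClsData N (c i)) (hsum : ∑ i ∈ s, c i + 1 = N) (hN : 2 ≤ N) :
    N = 12 ∨ N = 24 ∨ N = 60 := by
  have hk : s.card • N ≤ ∑ i ∈ s, 4 * c i :=
    Finset.card_nsmul_le_sum s (fun i => 4 * c i) N (fun i hi => (hc i hi).le)
  rw [← Finset.mul_sum, smul_eq_mul] at hk
  have hk3 : s.card ≤ 3 := by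
    by_contra h
    push_neg at h
    have : 4 * N ≤ s.card * N := Nat.mul_le_mul_right N h
    omega
  have hk1 : 1 ≤ s.card := by
    by_contra h
    push_neg at h
    have h0 : s = ∅ := Finset.card_eq_zero.mp (by omega)
    rw [h0, Finset.sum_empty] at hsum
    omega
  rcases (show s.card = 1 ∨ s.card = 2 ∨ s.card = 3 by omega) with h1 | h2 | h3
  · obtain ⟨i, rfl⟩ := Finset.card_eq_one.mp h1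
    rw [Finset.sum_singleton] at hsum
    obtain ⟨m, a, hm, ha, hcm, hma, hNN⟩ := (hc i (Finset.mem_singleton_self i)).norm
    rcases hNN with hNN | hNN <;> omega
  · obtain ⟨i, j, hij, rfl⟩ := Finset.card_eq_two.mp h2
    rw [Finset.sum_pair hij] at hsum
    obtain ⟨m₁, a₁, hm₁, ha₁, hc₁, hma₁, hN₁⟩ := (hc i (by simp)).norm
    obtain ⟨m₂, a₂, hm₂, ha₂, hc₂, hma₂, hN₂⟩ := (hc j (by simp)).norm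
    rcases hN₁ with hN₁ | hN₁ <;> rcases hN₂ with hN₂ | hN₂
    · omega
    · left
      exact case12 N m₁ a₁ m₂ a₂ (c i) (c j) hm₁ hm₂ ha₁ ha₂ hN₁ hN₂ hc₁ hc₂ hsum
    · left
      exact case12 N m₂ a₂ m₁ a₁ (c j) (c i) hm₂ hm₁ ha₂ ha₁ hN₂ hN₁ hc₂ hc₁ (by omega)
    · omega
  · obtain ⟨i, j, l, hij, hil, hjl, rfl⟩ := Finset.card_eq_three.mp h3
    have hs : ∑ x ∈ ({i, j, l} : Finset ι), c x = c i + c j + c l := by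
      rw [Finset.sum_insert (by simp [hij, hil]), Finset.sum_pair hjl]
      ring
    rw [hs] at hsum
    obtain ⟨m₁, a₁, hm₁, ha₁, hc₁, hma₁, hN₁⟩ := (hc i (by simp)).norm
    obtain ⟨m₂, a₂, hm₂, ha₂, hc₂, hma₂, hN₂⟩ := (hc j (by simp)).norm
    obtain ⟨m₃, a₃, hm₃, ha₃, hc₃, hma₃, hN₃⟩ := (hc l (by simp)).norm
    rcases hN₁ with hN₁ | hN₁ <;> rcases hN₂ with hN₂ | hN₂ <;> rcases hN₃ with hN₃ | hN₃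
    · omega
    · omega
    · omega
    · omega
    · omega
    · omega
    · omega
    · exact case222 N m₁ a₁ m₂ a₂ m₃ a₃ (c i) (c j) (c l) hm₁ hm₂ hm₃ ha₁ ha₂ ha₃ hN₁ hN₂ hN₃
        hc₁ hc₂ hc₃ hsum

end Cfsg.Agent.Lib.Helper4.Prim2
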