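import Mathlib
import Cfsg.Agent.Lib.Helper4.Prim2B
import Cfsg.Agent.Lib.Helper4.Prim2C

set_option autoImplicit false
set_option linter.unusedSectionVars false

namespace Cfsg.Agent.Lib.Helper4.Prim2

open scoped Classical

variable {G : Type*} [Group G] [Fintype G]

/-- abbreviation: the normalizer of the centralizer of `x` -/
abbrev NCz (x : G) : Subgroup G :=
  Subgroup.normalizer ((Subgroup.centralizer ({x} : Set G) : Subgroup G) : Set G)

theorem clsData_of (hCA : IsCA G)
    (hν : ∀ x : G, x ∉ Subgroup.center G →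
      (Subgroup.centralizer ({x} : Set G)).relIndex (NCz x) ≤ 2)
    (hm : ∀ x : G, x ∉ Subgroup.center G → NCz x ≠ ⊤)
    {x : G} (hx : x ∉ Subgroup.center G) :
    ∃ c, (Cl x).card = c * Nat.card (Subgroup.center G) ∧
      ClsData (Subgroup.center G).index c := by
  obtain ⟨Z, hZ⟩ : ∃ Z, Z = Subgroup.center G := ⟨_, rfl⟩
  obtain ⟨A, hA⟩ : ∃ A, A = Subgroup.centralizer ({x} : Set G) := ⟨_, rfl⟩
  obtain ⟨NA, hNA⟩ : ∃ NA, NA = NCz x := ⟨_, rfl⟩
  have hZA : Z ≤ A := by rw [hZ, hA]; exact Subgroup.center_le_centralizer _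
  have hANA : A ≤ NA := by rw [hNA, hA]; exact Subgroup.le_normalizer
  have e1 : Z.relIndex A * A.index = Z.index := Subgroup.relIndex_mul_index hZA
  have e2 : A.relIndex NA * NA.index = A.index := Subgroup.relIndex_mul_index hANA
  have c1 : Nat.card Z * Z.index = Nat.card G := Subgroup.card_mul_index Z
  have c2 : Nat.card A * A.index = Nat.card G := Subgroup.card_mul_index A
  have c3 : Nat.card NA * NA.index = Nat.card G := Subgroup.card_mul_index NA
  have key := card_Cl_mul hCA hx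
  have key' : (Cl x).card * Nat.card NA + Nat.card G * Nat.card Z = Nat.card G * Nat.card A := by
    rw [hNA, hZ, hA]; exact key
  have hm0 : NA.index ≠ 0 := Subgroup.index_ne_zero_of_finite
  have hm1 : NA.index ≠ 1 := by
    rw [Ne, Subgroup.index_eq_one, hNA]
    exact hm x hx
  have hν0 : A.relIndex NA ≠ 0 := by
    unfold Subgroup.relIndex
    exact Subgroup.index_ne_zero_of_finite
  have hν2 : A.relIndex NA ≤ 2 := by rw [hA, hNA]; exact hν x hx
  have ha0 : Z.relIndex A ≠ 0 := by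
    unfold Subgroup.relIndex
    exact Subgroup.index_ne_zero_of_finite
  have ha1 : Z.relIndex A ≠ 1 := by
    rw [Ne, Subgroup.relIndex_eq_one]
    intro h
    apply hx
    rw [← hZ]
    apply h
    rw [hA]
    exact Subgroup.mem_centralizer_singleton_iff.mpr rfl
  have hAi0 : A.index ≠ 0 := Subgroup.index_ne_zero_of_finite
  have hNApos : 0 < Nat.card NA := Nat.card_pos
  obtain ⟨a, haa⟩ : ∃ a, a = Z.relIndex A := ⟨_, rfl⟩
  obtain ⟨ν, hνν⟩ : ∃ ν, ν = A.relIndex NA := ⟨_, rfl⟩
  obtain ⟨m, hmm⟩ : ∃ m, m = NA.index := ⟨_, rfl⟩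
  rw [← haa] at e1 ha0 ha1
  rw [← hνν, ← hmm] at e2
  rw [← hνν] at hν0 hν2
  rw [← hmm] at c3 hm0 hm1
  -- card A = a * card Z
  have hcA : Nat.card A = a * Nat.card Z := by
    have h1 : Nat.card A * A.index = (a * Nat.card Z) * A.index := by
      rw [c2, ← c1, ← e1]; ring
    exact Nat.eq_of_mul_eq_mul_right (Nat.pos_of_ne_zero hAi0) h1
  -- the class size
  have hcl : (Cl x).card + m * Nat.card Z = m * (a * Nat.card Z) := by
    have h1 : ((Cl x).card + m * Nat.card Z) * Nat.card NA =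
        (m * (a * Nat.card Z)) * Nat.card NA := by
      have h2 : Nat.card G = Nat.card NA * m := c3.symm
      rw [hcA, h2] at key'
      linarith [key']
    exact Nat.eq_of_mul_eq_mul_right hNApos h1
  have ha2 : 2 ≤ a := by omega
  refine ⟨m * (a - 1), ?_, m, ν, a, by omega, by omega, ha2, ?_, ?_⟩
  · rw [← hZ]
    have h3 : m * (a - 1) * Nat.card Z + m * Nat.card Z = m * (a * Nat.card Z) := by
      obtain ⟨a', rfl⟩ : ∃ a', a = a' + 1 := ⟨a - 1, by omega⟩
      simp only [Nat.add_sub_cancel]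
      ring
    omega
  · rw [← hZ, ← e1, ← e2]; ring
  · obtain ⟨a', rfl⟩ : ∃ a', a = a' + 1 := ⟨a - 1, by omega⟩
    simp only [Nat.add_sub_cancel]
    ring

theorem index_center_of_CA (hCA : IsCA G)
    (hν : ∀ x : G, x ∉ Subgroup.center G →
      (Subgroup.centralizer ({x} : Set G)).relIndex (NCz x) ≤ 2)
    (hm : ∀ x : G, x ∉ Subgroup.center G → NCz x ≠ ⊤)
    (hne : ∃ x : G, x ∉ Subgroup.center G) :
    (Subgroup.center G).index = 12 ∨ (Subgroup.center G).index = 24 ∨
      (Subgroup.center G).index = 60 := by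
  obtain ⟨N, hN⟩ : ∃ N, N = (Subgroup.center G).index := ⟨_, rfl⟩
  obtain ⟨z, hz⟩ : ∃ z, z = Nat.card (Subgroup.center G) := ⟨_, rfl⟩
  have hzpos : 0 < z := by rw [hz]; exact Nat.card_pos
  have h1 : ∀ cl ∈ (NC G).image Cl, ClsData N (cl.card / z) ∧ cl.card = cl.card / z * z := by
    intro cl hcl
    obtain ⟨x, hx, rfl⟩ := Finset.mem_image.mp hcl
    rw [mem_NC] at hx
    obtain ⟨c, hc1, hc2⟩ := clsData_of hCA hν hm hx
    rw [← hz] at hc1
    rw [← hN] at hc2
    have h2 : (Cl x).card / z = c := by rw [hc1]; exact Nat.mul_div_cancel c hzpos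
    rw [h2]
    exact ⟨hc2, hc1⟩
  have h2 : (NC G).card = (∑ cl ∈ (NC G).image Cl, cl.card / z) * z := by
    rw [card_NC_eq_sum hCA, Finset.sum_mul]
    exact Finset.sum_congr rfl (fun cl hcl => (h1 cl hcl).2)
  have h3 := card_NC_add (G := G)
  have h4 : N * z = Nat.card G := by rw [hN, hz]; exact Subgroup.index_mul_card _
  have h5 : ∑ cl ∈ (NC G).image Cl, cl.card / z + 1 = N := by
    have h6 : (∑ cl ∈ (NC G).image Cl, cl.card / z + 1) * z = N * z := by
      rw [add_mul, one_mul, ← h2, hz, h3, ← hz, h4]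
    exact Nat.eq_of_mul_eq_mul_right hzpos h6
  have hN2 : 2 ≤ N := by
    have h0 : N ≠ 0 := by rw [hN]; exact Subgroup.index_ne_zero_of_finite
    have h1 : N ≠ 1 := by
      rw [hN, Ne, Subgroup.index_eq_one]
      intro h
      obtain ⟨x, hx⟩ := hne
      exact hx (by rw [h]; trivial)
    omega
  have := arith_main _ N (fun cl : Finset G => cl.card / z) (fun cl hcl => (h1 cl hcl).1) h5 hN2
  rw [← hN]
  exact this

end Cfsg.Agent.Lib.Helper4.Prim2
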