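import Mathlib
import Cfsg.Prelude.Def_Characters
import Cfsg.Agent.Lib.Helper26.CharBasic
import Cfsg.Agent.Lib.Helper26.IndChar
import Cfsg.Agent.Lib.Helper26.TIInd
import Cfsg.Agent.Lib.Helper26.LinCharOrtho
import Cfsg.Agent.Lib.Helper26.GenChar
import Cfsg.Agent.Lib.Helper7.ExtDet

/-!
# Induction of `1 - μ` from a subgroup `C` whose fusion is controlled by `C ∪ jC` (helper4)
-/

namespace Cfsg.Agent.Lib.Helper4
open Cfsg Cfsg.Agent.Lib.Helper26
open scoped ComplexConjugate

section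

variable {G : Type*} [Group G] [Fintype G]

theorem card_filter_mem_subgroup (C : Subgroup G) [DecidablePred (· ∈ C)] :
    ((Finset.univ.filter (fun t : G => t ∈ C)).card : ℂ) = (Nat.card C : ℂ) := by
  congr 1
  rw [← Fintype.card_subtype, ← Nat.card_eq_fintype_card]

/-- value of an induced class function when fusion is controlled by `C ∪ jC` -/
theorem indFun_eq_add_of_two_cosets (C : Subgroup G) (j : G) (hj : j ∉ C)
    (F : C → ℂ) (hF : IsClassFunction C F)
    (hjC : ∀ y ∈ C, j⁻¹ * y * j ∈ C)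
    {y : G} (hy : y ∈ C)
    (hTI : ∀ t : G, t⁻¹ * y * t ∈ C → t ∈ C ∨ j⁻¹ * t ∈ C) :
    indFun C F y = F ⟨y, hy⟩ + F ⟨j⁻¹ * y * j, hjC y hy⟩ := by
  classical
  unfold indFun
  have hne : (Nat.card C : ℂ) ≠ 0 := by
    have : Nat.card C ≠ 0 := Nat.card_pos.ne'
    exact_mod_cast this
  have hterm : ∀ t : G, extendByZero C F (t⁻¹ * y * t) =
      (if t ∈ C then F ⟨y, hy⟩ else 0) +
        (if j⁻¹ * t ∈ C then F ⟨j⁻¹ * y * j, hjC y hy⟩ else 0) := by
    intro t
    by_cases ht : t ∈ C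
    · have hjt : j⁻¹ * t ∉ C := by
        intro h
        apply hj
        have : j = t * (j⁻¹ * t)⁻¹ := by group
        rw [this]
        exact C.mul_mem ht (C.inv_mem h)
      rw [if_pos ht, if_neg hjt, add_zero]
      have hmem : t⁻¹ * y * t ∈ C := C.mul_mem (C.mul_mem (C.inv_mem ht) hy) ht
      rw [extendByZero_apply_mem C F _ hmem]
      have h2 := hF ⟨y, hy⟩ (⟨t, ht⟩⁻¹ : C)
      rw [← h2]
      congr 1
      apply Subtype.ext
      simp
    · rw [if_neg ht, zero_add]
      by_cases hjt : j⁻¹ * t ∈ C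
      · rw [if_pos hjt]
        have hmem : t⁻¹ * y * t ∈ C := by
          have : t⁻¹ * y * t = (j⁻¹ * t)⁻¹ * (j⁻¹ * y * j) * (j⁻¹ * t) := by group
          rw [this]
          exact C.mul_mem (C.mul_mem (C.inv_mem hjt) (hjC y hy)) hjt
        rw [extendByZero_apply_mem C F _ hmem]
        have h2 := hF ⟨j⁻¹ * y * j, hjC y hy⟩ (⟨j⁻¹ * t, hjt⟩⁻¹ : C)
        rw [← h2]
        congr 1
        apply Subtype.ext
        simp only [Subgroup.coe_mul, Subgroup.coe_inv, inv_inv]
        group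
      · rw [if_neg hjt]
        have hmem : t⁻¹ * y * t ∉ C := fun h => by
          rcases hTI t h with h1 | h1
          · exact ht h1
          · exact hjt h1
        exact extendByZero_apply_not_mem C F _ hmem
  simp_rw [hterm]
  rw [Finset.sum_add_distrib, Finset.sum_ite, Finset.sum_const_zero, add_zero, Finset.sum_const,
    nsmul_eq_mul, card_filter_mem_subgroup]
  have h2 : ∑ t : G, (if j⁻¹ * t ∈ C then F ⟨j⁻¹ * y * j, hjC y hy⟩ else 0) =
      ∑ t : G, (if t ∈ C then F ⟨j⁻¹ * y * j, hjC y hy⟩ else 0) := by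
    apply Fintype.sum_equiv (Equiv.mulLeft j⁻¹)
    intro t
    rfl
  rw [h2, Finset.sum_ite, Finset.sum_const_zero, add_zero, Finset.sum_const,
    nsmul_eq_mul, card_filter_mem_subgroup]
  field_simp

theorem linFun_one_apply' {W : Type*} [Group W] (w : W) :
    linFun (1 : W →* ℂˣ) w = 1 := by
  rw [linFun_apply, MonoidHom.one_apply, Units.val_one]

/-- **the generalized character `(1_C - μ)^G`** when the fusion of the elements of `C` satisfying
`Wp` is controlled by `C ∪ jC` and `μ` is trivial on the elements not satisfying `Wp`. -/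
theorem ind_one_sub_lin (C : Subgroup G) (j : G) (hj : j ∉ C)
    (hjC : ∀ y ∈ C, j⁻¹ * y * j ∈ C)
    (Wp : G → Prop) (hW : ∀ g y : G, Wp (g⁻¹ * y * g) ↔ Wp y)
    (hTI : ∀ y ∈ C, Wp y → ∀ t : G, t⁻¹ * y * t ∈ C → t ∈ C ∨ j⁻¹ * t ∈ C)
    (μ : C →* ℂˣ) (hμ1 : ∀ y : C, ¬ Wp (y : G) → μ y = 1)
    (hμj : ∀ y : C, μ ⟨j⁻¹ * y * j, hjC y y.2⟩ = (μ y)⁻¹) (hμ2 : μ * μ ≠ 1) :
    classInner (indFun C (linFun 1 - linFun μ)) (indFun C (linFun 1 - linFun μ)) = 3 ∧
    classInner (indFun C (linFun 1 - linFun μ)) (fun _ => 1) = 1 ∧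
    indFun C (linFun 1 - linFun μ) 1 = 0 ∧
    (∀ g : G, ¬ Wp g → indFun C (linFun 1 - linFun μ) g = 0) ∧
    IsGeneralizedCharacter G (indFun C (linFun 1 - linFun μ)) := by
  classical
  have : Fintype C := Fintype.ofFinite C
  have hμne : μ ≠ 1 := by
    intro h
    apply hμ2
    rw [h]
    exact one_mul (1 : C →* ℂˣ)
  obtain ⟨F, hFdef⟩ : ∃ F : C → ℂ, F = linFun 1 - linFun μ := ⟨_, rfl⟩
  rw [← hFdef]
  have hFy : ∀ y : C, F y = 1 - ((μ y : ℂˣ) : ℂ) := by
    intro y
    rw [hFdef, Pi.sub_apply, linFun_one_apply', linFun_apply]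
  have hFcf : IsClassFunction C F := by
    intro g h
    rw [hFy, hFy, map_mul, map_mul, map_inv, mul_comm, inv_mul_cancel_left]
  -- vanishing
  have hvan : ∀ g : G, ¬ Wp g → indFun C F g = 0 := by
    intro g hg
    unfold indFun
    have : ∀ t : G, extendByZero C F (t⁻¹ * g * t) = 0 := by
      intro t
      by_cases hmem : t⁻¹ * g * t ∈ C
      · rw [extendByZero_apply_mem C F _ hmem, hFy, hμ1 ⟨_, hmem⟩ (by
          show ¬ Wp (t⁻¹ * g * t)
          rw [hW]; exact hg), Units.val_one, sub_self]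
      · exact extendByZero_apply_not_mem C F _ hmem
    simp_rw [this]
    rw [Finset.sum_const_zero, mul_zero]
  -- values on `C`
  have hval : ∀ y : C, Wp (y : G) →
      indFun C F y = F y + (1 - (((μ y)⁻¹ : ℂˣ) : ℂ)) := by
    intro y hy
    rw [indFun_eq_add_of_two_cosets C j hj F hFcf hjC y.2 (hTI y y.2 hy), hFy ⟨j⁻¹ * y * j, _⟩,
      hμj y]
  obtain ⟨F', hF'def⟩ : ∃ F' : C → ℂ, F' = linFun 1 - linFun μ⁻¹ := ⟨_, rfl⟩
  have hF'y : ∀ y : C, F' y = 1 - (((μ y)⁻¹ : ℂˣ) : ℂ) := by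
    intro y
    rw [hF'def, Pi.sub_apply, linFun_one_apply', linFun_apply, MonoidHom.inv_apply]
  refine ⟨?_, ?_, ?_, hvan, ?_⟩
  · rw [classInner_indFun_right' C _ (isClassFunction_indFun C F) F]
    have h1 : classInner ((indFun C F) ∘ C.subtype) F = classInner (F + F') F := by
      unfold classInner
      congr 1
      apply Finset.sum_congr rfl
      intro y _
      by_cases hy : Wp (y : G)
      · rw [Function.comp_apply, Subgroup.coe_subtype, hval y hy, Pi.add_apply, hF'y]
      · have : F y = 0 := by rw [hFy, hμ1 y hy, Units.val_one, sub_self]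
        rw [this, map_zero, mul_zero, mul_zero]
    rw [h1, classInner_add_left, hFdef, hF'def]
    simp only [classInner_sub_left, classInner_sub_right, classInner_linFun]
    have e1 : ¬ ((1 : C →* ℂˣ) = μ) := fun h => hμne h.symm
    have e2 : ¬ (μ = (1 : C →* ℂˣ)) := hμne
    have e3 : ¬ (μ⁻¹ = (1 : C →* ℂˣ)) := fun h => hμne (by
      apply MonoidHom.ext
      intro y
      have h2 := DFunLike.congr_fun h y
      rw [MonoidHom.inv_apply, MonoidHom.one_apply] at h2
      rw [MonoidHom.one_apply]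
      exact inv_eq_one.mp h2)
    have e4 : ¬ (μ⁻¹ = μ) := fun h => hμ2 (by
      apply MonoidHom.ext
      intro y
      have h2 := DFunLike.congr_fun h y
      rw [MonoidHom.inv_apply] at h2
      rw [MonoidHom.mul_apply, MonoidHom.one_apply]
      nth_rewrite 1 [← h2]
      exact inv_mul_cancel _)
    rw [if_pos trivial, if_neg e1, if_neg e2, if_neg e3, if_neg e4]
    norm_num
  · have hone : IsClassFunction G (fun _ : G => (1 : ℂ)) := fun _ _ => rfl
    rw [classInner_indFun_left' C F _ hone]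
    have : ((fun _ : G => (1 : ℂ)) ∘ C.subtype) = linFun (1 : C →* ℂˣ) := by
      funext y
      rw [linFun_one_apply']
      rfl
    rw [this, hFdef, classInner_sub_left, classInner_linFun, classInner_linFun, if_pos rfl,
      if_neg hμne]
    norm_num
  · rw [indFun_one, hFy, map_one, Units.val_one, sub_self, mul_zero, mul_zero]
  · apply isGeneralizedCharacter_indFun
    rw [hFdef]
    exact ⟨_, _, isCharacter_of_isIrrCharacter (Cfsg.Agent.Lib.Helper7.isIrr_of_hom' 1),
      isCharacter_of_isIrrCharacter (Cfsg.Agent.Lib.Helper7.isIrr_of_hom' μ), rfl⟩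

end

end Cfsg.Agent.Lib.Helper4
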