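import Mathlib
import Cfsg.Prelude.Def_Characters
import Cfsg.Agent.Lib.Helper4.Prim2A
import Cfsg.Agent.Lib.Helper4.Prim2D
import Cfsg.Agent.Lib.Helper4.Monomial
import Cfsg.Agent.Lib.Helper4.TwoCosetInd
import Cfsg.Agent.Lib.Helper24.LinBridge

set_option autoImplicit false
set_option linter.unusedSectionVars false

namespace Cfsg.Agent.Lib.Helper4.Prim2

open Cfsg

/-- general: relative index at most two -/
theorem relIndex_le_two {G : Type*} [Group G] [Finite G] (A K : Subgroup G)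
    (h : ∀ g ∈ K, ∀ k ∈ K, g ∉ A → k ∉ A → g⁻¹ * k ∈ A) : A.relIndex K ≤ 2 := by
  classical
  by_cases hKA : K ≤ A
  · rw [Subgroup.relIndex_eq_one.mpr hKA]; norm_num
  · obtain ⟨t, htK, htA⟩ := SetLike.not_le_iff_exists.mp hKA
    unfold Subgroup.relIndex
    rw [Subgroup.index_eq_card]
    let f : Bool → (K ⧸ A.subgroupOf K) := fun b =>
      if b then ((1 : K) : K ⧸ A.subgroupOf K) else ((⟨t, htK⟩ : K) : K ⧸ A.subgroupOf K)
    have hf : Function.Surjective f := by
      intro q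
      obtain ⟨k, rfl⟩ := QuotientGroup.mk_surjective q
      by_cases hk : (k : G) ∈ A
      · refine ⟨true, ?_⟩
        simp only [f, if_true]
        rw [QuotientGroup.eq, Subgroup.mem_subgroupOf]
        simpa using hk
      · refine ⟨false, ?_⟩
        simp only [f, Bool.false_eq_true, if_false]
        rw [QuotientGroup.eq, Subgroup.mem_subgroupOf]
        simpa using h t htK k k.2 htA hk
    have := Nat.card_le_card_of_surjective f hf
    simpa using this

section Rep

variable {G : Type*} [Group G] [Fintype G]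

/-- an eigen-frame for `ρ x` -/
structure Frame (ρ : Representation ℂ G (Fin 2 → ℂ)) (x : G) where
  v₁ : Fin 2 → ℂ
  v₂ : Fin 2 → ℂ
  l₁ : ℂ
  l₂ : ℂ
  h1 : ρ x v₁ = l₁ • v₁
  h2 : ρ x v₂ = l₂ • v₂
  hspan : ∀ v, ∃ a b : ℂ, v = a • v₁ + b • v₂
  hind : ∀ a b : ℂ, a • v₁ + b • v₂ = 0 → a = 0 ∧ b = 0

variable (ρ : Representation ℂ G (Fin 2 → ℂ))

theorem rho_inj_apply (g : G) (v : Fin 2 → ℂ) (h : ρ g v = 0) : v = 0 := by
  have h1 : ρ g⁻¹ (ρ g v) = v := by
    rw [← Module.End.mul_apply, ← map_mul, inv_mul_cancel, map_one, Module.End.one_apply]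
  rw [h, map_zero] at h1
  exact h1.symm

theorem exists_frame (x : G) : Nonempty (Frame ρ x) := by
  obtain ⟨v₁, v₂, l₁, l₂, h1, h2, hspan, hind⟩ :=
    exists_eigen_pair (ρ x) (orderOf x) (orderOf_pos x)
      (by rw [← map_pow, pow_orderOf_eq_one, map_one]) (by simp)
  exact ⟨⟨v₁, v₂, l₁, l₂, h1, h2, hspan, hind⟩⟩

variable {ρ}

theorem Frame.ne (hinj : Function.Injective ρ) {x : G} (F : Frame ρ x)
    (hx : x ∉ Subgroup.center G) : F.l₁ ≠ F.l₂ := by
  intro h
  apply hx
  rw [Subgroup.mem_center_iff]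
  intro g
  apply hinj
  rw [map_mul, map_mul]
  have hs : ρ x = F.l₁ • (1 : Module.End ℂ (Fin 2 → ℂ)) := by
    apply ext_frame F.hspan
    · rw [F.h1]; simp
    · rw [F.h2, h]; simp
  rw [hs]
  simp

theorem Frame.commute_iff (hinj : Function.Injective ρ) {x : G} (F : Frame ρ x)
    (hx : x ∉ Subgroup.center G) (g : G) : Commute x g ↔ Dg F.v₁ F.v₂ (ρ g) := by
  constructor
  · intro h
    apply dg_of_commute F.hspan F.hind F.h1 F.h2 (F.ne hinj hx)
    rw [← map_mul, ← map_mul, h.eq]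
  · intro h
    have hx' : Dg F.v₁ F.v₂ (ρ x) := ⟨⟨F.l₁, F.h1⟩, ⟨F.l₂, F.h2⟩⟩
    have h2 := Dg.commute F.hspan hx' h
    rw [← map_mul, ← map_mul] at h2
    exact hinj h2

theorem isCA_of_rep (hinj : Function.Injective ρ) : IsCA G := by
  intro x hx y z hy hz
  obtain ⟨F⟩ := exists_frame ρ x
  have h1 := (F.commute_iff hinj hx y).mp hy
  have h2 := (F.commute_iff hinj hx z).mp hz
  have h3 := Dg.commute F.hspan h1 h2
  rw [← map_mul, ← map_mul] at h3
  exact hinj h3

theorem Frame.dg_or_sw_of_mem (hinj : Function.Injective ρ) {x : G} (F : Frame ρ x)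
    (hx : x ∉ Subgroup.center G) {g : G} (hg : Commute (g * x * g⁻¹) x) :
    Dg F.v₁ F.v₂ (ρ g) ∨ Sw F.v₁ F.v₂ (ρ g) := by
  have h1 : Dg F.v₁ F.v₂ (ρ (g * x * g⁻¹)) := (F.commute_iff hinj hx _).mp hg.symm
  apply dg_or_sw F.hspan F.hind F.h1 F.h2 (F.ne hinj hx) (rho_inj_apply ρ g) h1
  rw [← map_mul, ← map_mul]
  congr 1
  group

theorem Frame.mem_centralizer_iff (hinj : Function.Injective ρ) {x : G} (F : Frame ρ x)
    (hx : x ∉ Subgroup.center G) (g : G) :
    g ∈ Subgroup.centralizer ({x} : Set G) ↔ Dg F.v₁ F.v₂ (ρ g) := by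
  rw [Subgroup.mem_centralizer_singleton_iff, ← F.commute_iff hinj hx g]
  constructor
  · intro h; exact h.symm
  · intro h; exact h.eq.symm

theorem relIndex_le_two_of_rep (hinj : Function.Injective ρ) {x : G}
    (hx : x ∉ Subgroup.center G) :
    (Subgroup.centralizer ({x} : Set G)).relIndex (NCz x) ≤ 2 := by
  obtain ⟨F⟩ := exists_frame ρ x
  have hCA : IsCA G := isCA_of_rep hinj
  apply relIndex_le_two
  intro g hg k hk hgA hkA
  have hg1 := (mem_normalizer_centralizer hCA hx g).mp hg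
  have hk1 := (mem_normalizer_centralizer hCA hx k).mp hk
  have hgS : Sw F.v₁ F.v₂ (ρ g) :=
    (F.dg_or_sw_of_mem hinj hx hg1).resolve_left
      (fun h => hgA ((F.mem_centralizer_iff hinj hx g).mpr h))
  have hkS : Sw F.v₁ F.v₂ (ρ k) :=
    (F.dg_or_sw_of_mem hinj hx hk1).resolve_left
      (fun h => hkA ((F.mem_centralizer_iff hinj hx k).mpr h))
  have h3 := dg_of_sw_sw F.hind (Ri := ρ g⁻¹)
    (by rw [← map_mul, inv_mul_cancel, map_one]) hgS hkS
  rw [← map_mul] at h3
  exact (F.mem_centralizer_iff hinj hx _).mpr h3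

theorem normalizer_ne_top_of_rep (hinj : Function.Injective ρ)
    (hprim : ∀ H : Subgroup G, H ≠ ⊤ → ∀ θ : H → ℂ, IsCharacter H θ →
      ρ.character ≠ indFun H θ)
    {x : G} (hx : x ∉ Subgroup.center G) : NCz x ≠ ⊤ := by
  intro htop
  obtain ⟨F⟩ := exists_frame ρ x
  have hCA : IsCA G := isCA_of_rep hinj
  obtain ⟨A, hAdef⟩ : ∃ A, A = Subgroup.centralizer ({x} : Set G) := ⟨_, rfl⟩
  have hall : ∀ g : G, Dg F.v₁ F.v₂ (ρ g) ∨ Sw F.v₁ F.v₂ (ρ g) := fun g =>
    F.dg_or_sw_of_mem hinj hx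
      ((mem_normalizer_centralizer hCA hx g).mp (by
        have : g ∈ NCz x := by rw [htop]; trivial
        exact this))
  have hmemA : ∀ g, g ∈ A ↔ Dg F.v₁ F.v₂ (ρ g) := fun g => by
    rw [hAdef]; exact F.mem_centralizer_iff hinj hx g
  have hnorm : ∀ t y : G, y ∈ A ↔ t * y * t⁻¹ ∈ A := by
    intro t y
    have ht : t ∈ NCz x := by rw [htop]; trivial
    rw [hAdef]
    exact Subgroup.mem_normalizer_iff.mp ht y
  have hAtop : A ≠ ⊤ := by
    intro h
    apply hx
    rw [Subgroup.mem_center_iff]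
    intro g
    have hgA : g ∈ A := by rw [h]; trivial
    rw [hAdef] at hgA
    exact Subgroup.mem_centralizer_singleton_iff.mp hgA
  obtain ⟨j, hj⟩ : ∃ j, j ∉ A := by
    by_contra h
    push_neg at h
    exact hAtop (eq_top_iff.mpr fun g _ => h g)
  have hjS : Sw F.v₁ F.v₂ (ρ j) := (hall j).resolve_left (fun h => hj ((hmemA j).mpr h))
  have hlam : ∀ a : A, ∃ c : ℂ, ρ (a : G) F.v₁ = c • F.v₁ := fun a => ((hmemA a).mp a.2).1
  choose lam hlamspec using hlam
  have hv₁ := v₁_ne F.hind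
  have lam_unique : ∀ {c c' : ℂ}, c • F.v₁ = c' • F.v₁ → c = c' :=
    fun h => smul_left_injective ℂ hv₁ h
  let f : A →* ℂ :=
    { toFun := lam
      map_one' := by
        apply lam_unique
        rw [← hlamspec 1]
        simp
      map_mul' := by
        intro a b
        apply lam_unique
        rw [← hlamspec (a * b), Subgroup.coe_mul, map_mul, Module.End.mul_apply, hlamspec b,
          map_smul, hlamspec a, smul_smul, mul_comm] }
  have hθ : IsCharacter A (fun a => ((f.toHomUnits a : ℂˣ) : ℂ)) :=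
    Cfsg.Agent.Lib.Helper24.isCharacter_of_hom f.toHomUnits
  have hφ : ∀ a : A, ((f.toHomUnits a : ℂˣ) : ℂ) = lam a := fun a => rfl
  apply hprim A hAtop _ hθ
  funext g
  by_cases hg : g ∈ A
  · obtain ⟨⟨a, ha⟩, ⟨d, hd⟩⟩ := (hmemA g).mp hg
    have hchar : ρ.character g = a + d := trace_dg F.hspan F.hind ha hd
    have hjC : ∀ y ∈ A, j⁻¹ * y * j ∈ A := by
      intro y hy
      have := (hnorm j⁻¹ y).mp hy
      simpa using this
    have hTI : ∀ t : G, t⁻¹ * g * t ∈ A → t ∈ A ∨ j⁻¹ * t ∈ A := by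
      intro t _
      by_cases ht : t ∈ A
      · left; exact ht
      · right
        have htS : Sw F.v₁ F.v₂ (ρ t) :=
          (hall t).resolve_left (fun h => ht ((hmemA t).mpr h))
        have h3 := dg_of_sw_sw F.hind (Ri := ρ j⁻¹)
          (by rw [← map_mul, inv_mul_cancel, map_one]) hjS htS
        rw [← map_mul] at h3
        exact (hmemA _).mpr h3
    have hF : IsClassFunction A (fun a => ((f.toHomUnits a : ℂˣ) : ℂ)) := by
      intro u w
      have hwu : w * u * w⁻¹ = u := by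
        apply Subtype.ext
        simp only [Subgroup.coe_mul, Subgroup.coe_inv]
        have hw : Commute x (w : G) :=
          (F.commute_iff hinj hx w).mpr ((hmemA w).mp w.2)
        have hu : Commute x (u : G) :=
          (F.commute_iff hinj hx u).mpr ((hmemA u).mp u.2)
        have hc : Commute (w : G) (u : G) := hCA x hx _ _ hw hu
        rw [hc.eq]
        group
      rw [hwu]
    rw [Cfsg.Agent.Lib.Helper4.indFun_eq_add_of_two_cosets A j hj _ hF hjC hg hTI, hchar]
    have e1 : lam ⟨g, hg⟩ = a := lam_unique ((hlamspec ⟨g, hg⟩).symm.trans ha)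
    have e2 : lam ⟨j⁻¹ * g * j, hjC g hg⟩ = d := by
      apply lam_unique
      rw [← hlamspec ⟨j⁻¹ * g * j, hjC g hg⟩]
      show ρ (j⁻¹ * g * j) F.v₁ = d • F.v₁
      rw [map_mul, map_mul]
      exact conj_coeff F.hind (by rw [← map_mul, inv_mul_cancel, map_one]) hjS hd
    rw [hφ, hφ, e1, e2]
  · have hgS := (hall g).resolve_left (fun h => hg ((hmemA g).mpr h))
    obtain ⟨⟨b, hb⟩, ⟨c, hc⟩⟩ := hgS
    have hchar : ρ.character g = 0 := trace_sw F.hspan F.hind hb hc
    rw [hchar]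
    unfold indFun
    have hz : ∀ t : G, extendByZero A (fun a => ((f.toHomUnits a : ℂˣ) : ℂ)) (t⁻¹ * g * t) = 0 := by
      intro t
      apply Cfsg.Agent.Lib.Helper26.extendByZero_apply_not_mem
      intro hmem
      apply hg
      have h5 := (hnorm t (t⁻¹ * g * t)).mp hmem
      have h6 : t * (t⁻¹ * g * t) * t⁻¹ = g := by group
      rwa [h6] at h5
    rw [Finset.sum_eq_zero (fun t _ => hz t), mul_zero]

theorem prim2_main (hirr : ρ.IsIrreducible) (hinj : Function.Injective ρ)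
    (hprim : ∀ H : Subgroup G, H ≠ ⊤ → ∀ θ : H → ℂ, IsCharacter H θ →
      ρ.character ≠ indFun H θ) :
    (Subgroup.center G).index = 12 ∨ (Subgroup.center G).index = 24 ∨
      (Subgroup.center G).index = 60 := by
  have hCA : IsCA G := isCA_of_rep hinj
  apply index_center_of_CA hCA (fun x hx => relIndex_le_two_of_rep hinj hx)
    (fun x hx => normalizer_ne_top_of_rep hinj hprim hx)
  by_contra h
  push_neg at h
  have hcomm : ∀ g k, ρ g * ρ k = ρ k * ρ g := by
    intro g k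
    rw [← map_mul, ← map_mul]
    congr 1
    exact ((Subgroup.mem_center_iff.mp (h g)) k).symm
  have h1 := Cfsg.Agent.Lib.Helper4.finrank_eq_one_of_commute ρ hirr hcomm
  rw [Module.finrank_fin_fun] at h1
  omega

end Rep

end Cfsg.Agent.Lib.Helper4.Prim2
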