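import Mathlib
import Cfsg.Agent.Lib.Helper23.XSh
import Cfsg.Agent.Lib.Helper14.FrattiniQuot

/-!
A prime-order element acting fixed-point-freely on a normal `p`-subgroup `P`, normalizing a
`q`-subgroup `Q` (`q` odd): the commutators `[x, g]`, `g ∈ Q`, centralize `P` (helper4).
-/

set_option autoImplicit false

namespace Cfsg.Agent.Lib.Helper4.PrimeActA

open scoped commutatorElement

universe u

theorem comm_inj {G : Type*} [Group G] (P : Subgroup G) (x : G)
    (hfpf : ∀ w ∈ P, x * w * x⁻¹ = w → w = 1) {w v : G} (hw : w ∈ P) (hv : v ∈ P)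
    (h : x * w * x⁻¹ * w⁻¹ = x * v * x⁻¹ * v⁻¹) : w = v := by
  have h1 : x * (v⁻¹ * w) * x⁻¹ = v⁻¹ * w := by
    have e1 : x * (v⁻¹ * w) * x⁻¹ = (x * v * x⁻¹)⁻¹ * (x * w * x⁻¹) := by group
    have h2 : x * w * x⁻¹ = x * v * x⁻¹ * v⁻¹ * w := by
      rw [← h]; group
    rw [e1, h2]; group
  have h3 := hfpf _ (P.mul_mem (P.inv_mem hv) hw) h1
  calc w = v * (v⁻¹ * w) := by group
    _ = v := by rw [h3, mul_one]

theorem comm_surj {G : Type*} [Group G] [Finite G] (P : Subgroup G) [hPn : P.Normal] (x : G)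
    (hfpf : ∀ w ∈ P, x * w * x⁻¹ = w → w = 1) {v : G} (hv : v ∈ P) :
    ∃ w ∈ P, x * w * x⁻¹ * w⁻¹ = v := by
  let φ : P → P := fun w => ⟨x * w * x⁻¹ * (w : G)⁻¹,
    P.mul_mem (hPn.conj_mem _ w.2 x) (P.inv_mem w.2)⟩
  have hinj : Function.Injective φ := by
    intro a b hab
    have h1 := congrArg Subtype.val hab
    exact Subtype.ext (comm_inj P x hfpf a.2 b.2 h1)
  have hsurj := Finite.injective_iff_surjective.mp hinj
  obtain ⟨w, hw⟩ := hsurj ⟨v, hv⟩
  exact ⟨w, w.2, congrArg Subtype.val hw⟩

/-- a `q`-element acting trivially on `N` and on `w` modulo `N` commutes with `w`. -/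
theorem stab_trivial {G : Type*} [Group G] {p q : ℕ} [hp : Fact p.Prime] [hq : Fact q.Prime]
    (hpq : p ≠ q) (N : Subgroup G) (hN : IsPGroup p N) (a : G) (ha : ∃ k : ℕ, a ^ (q ^ k) = 1)
    (w : G) (hcN : ∀ n ∈ N, a * n = n * a) (hw : a * w * a⁻¹ * w⁻¹ ∈ N) : a * w = w * a := by
  obtain ⟨n, hn⟩ : ∃ n, n = a * w * a⁻¹ * w⁻¹ := ⟨_, rfl⟩
  rw [← hn] at hw
  have han : a * n = n * a := hcN n hw
  have hpow : ∀ j : ℕ, a ^ j * w * (a ^ j)⁻¹ = n ^ j * w := by
    intro j
    induction j with
    | zero => simp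
    | succ j ih =>
      have hcomm : a * n ^ j = n ^ j * a :=
        (Commute.pow_right (show Commute a n from han) j).eq
      calc a ^ (j + 1) * w * (a ^ (j + 1))⁻¹ = a * (a ^ j * w * (a ^ j)⁻¹) * a⁻¹ := by
            rw [pow_succ']; group
        _ = a * (n ^ j * w) * a⁻¹ := by rw [ih]
        _ = n ^ j * (a * w * a⁻¹ * w⁻¹) * w := by
            have e1 : a * (n ^ j * w) * a⁻¹ = (a * n ^ j) * w * a⁻¹ := by group
            rw [e1, hcomm]; group
        _ = n ^ (j + 1) * w := by rw [← hn, pow_succ]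
  obtain ⟨k, hk⟩ := ha
  have h1 := hpow (q ^ k)
  rw [hk] at h1
  have h2 : n ^ (q ^ k) = 1 := by
    have h3 : n ^ (q ^ k) * w = w := by simpa using h1.symm
    have h4 := congrArg (· * w⁻¹) h3
    simpa using h4
  obtain ⟨m, hm⟩ := hN ⟨n, hw⟩
  have hm' : n ^ (p ^ m) = 1 := by
    have := congrArg Subtype.val hm
    simpa using this
  have h3 : orderOf n ∣ q ^ k := orderOf_dvd_of_pow_eq_one h2
  have h4 : orderOf n ∣ p ^ m := orderOf_dvd_of_pow_eq_one hm'
  have hcop : Nat.Coprime (q ^ k) (p ^ m) :=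
    Nat.Coprime.pow _ _ ((Nat.coprime_primes hq.out hp.out).mpr hpq.symm)
  have h5 : orderOf n = 1 := by
    have := Nat.dvd_gcd h3 h4
    rw [hcop.gcd_eq_one] at this
    exact Nat.dvd_one.mp this
  have h6 : n = 1 := orderOf_eq_one_iff.mp h5
  calc a * w = (a * w * a⁻¹ * w⁻¹) * w * a := by group
    _ = w * a := by rw [← hn, h6]; group

theorem fpf_main (p q r : ℕ) [hp : Fact p.Prime] [hq : Fact q.Prime] (hr : r.Prime)
    (hpr : p ≠ r) (hpq : p ≠ q) (hqr : q ≠ r) (hq2 : q ≠ 2) :
    ∀ (n : ℕ) (G : Type u) [Group G] [Finite G] (P Q : Subgroup G) [P.Normal],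
      Nat.card P = n → IsPGroup p P → IsPGroup q Q → ∀ x : G, x ^ r = 1 →
      (∀ g ∈ Q, x * g * x⁻¹ ∈ Q) → (∀ w ∈ P, x * w * x⁻¹ = w → w = 1) →
      ∀ g ∈ Q, ∀ w ∈ P, (x * g * x⁻¹ * g⁻¹) * w = w * (x * g * x⁻¹ * g⁻¹) := by
  intro n
  induction n using Nat.strong_induction_on with
  | _ n ih =>
    intro G _ _ P Q hPn hn hP hQ x hxr hxQ hfpf g hg w hw
    classical
    obtain ⟨N, hNdef⟩ : ∃ N : Subgroup G, N = (frattini ↥P).map P.subtype := ⟨_, rfl⟩
    have hNP : N ≤ P := by rw [hNdef]; exact Subgroup.map_subtype_le _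
    haveI hNn : N.Normal := by
      rw [hNdef]; exact ConjAct.normal_of_characteristic_of_normal
    obtain ⟨a, had⟩ : ∃ a, a = x * g * x⁻¹ * g⁻¹ := ⟨_, rfl⟩
    rw [← had]
    have haQ : a ∈ Q := by
      rw [had]; exact Q.mul_mem (hxQ g hg) (Q.inv_mem hg)
    by_cases hN : N = ⊥
    · -- base: P elementary abelian
      have hfr : frattini ↥P = ⊥ := by
        rw [hNdef] at hN
        exact (Subgroup.map_eq_bot_iff_of_injective _ P.subtype_injective).mp hN
      have hcomm : ∀ a b : ↥P, a * b = b * a := by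
        intro a b
        have h1 : ⁅a, b⁆ ∈ commutator ↥P := by
          rw [commutator_def]
          exact Subgroup.commutator_mem_commutator (Subgroup.mem_top a) (Subgroup.mem_top b)
        have h2 := Cfsg.Agent.Lib.Helper14.commutator_le_frattini_of_isPGroup' hP h1
        rw [hfr, Subgroup.mem_bot] at h2
        exact commutatorElement_eq_one_iff_mul_comm.mp h2
      have hexp : ∀ w : ↥P, w ^ p = 1 := by
        intro w
        have h2 := Cfsg.Agent.Lib.Helper14.pow_mem_frattini_of_isPGroup' hP w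
        rwa [hfr, Subgroup.mem_bot] at h2
      letI : CommGroup ↥P := { (inferInstance : Group ↥P) with mul_comm := hcomm }
      let c : G →* MulAut ↥P := MulAut.conjNormal
      have hcapply : ∀ (y : G) (v : ↥P), ((c y v : ↥P) : G) = y * v * y⁻¹ :=
        fun y v => MulAut.conjNormal_apply y v
      have h := Cfsg.Agent.Lib.Helper23.XSh.prime_action_core (L₀ := MulAut ↥P) (W := ↥P)
        p q r hr hpr hpq hqr hexp (MonoidHom.id _)
        (by
          intro e he
          apply MulEquiv.ext
          intro v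
          exact he v)
        (Q.map c) (hQ.map c) (c x) (by rw [← map_pow, hxr, map_one])
        (by
          rintro _ ⟨g', hg', rfl⟩
          exact ⟨x * g' * x⁻¹, hxQ g' hg', by rw [map_mul, map_mul, map_inv]⟩)
        (by
          intro v hv
          have hv' : c x v = v := hv
          apply Subtype.ext
          apply hfpf _ v.2
          rw [← hcapply, hv'])
        (by intro h2; exact absurd h2 hq2)
      have h1 := h (c g) (Subgroup.mem_map_of_mem c hg)
      have h2 : c a = 1 := by
        rw [had, map_mul, map_mul, map_mul, map_inv, map_inv, h1]; group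
      have h3 : ((c a ⟨w, hw⟩ : ↥P) : G) = w := by rw [h2]; rfl
      rw [hcapply] at h3
      calc a * w = (a * w * a⁻¹) * a := by group
        _ = w * a := by rw [h3]
    · -- inductive step
      have hfr_ne_top : frattini ↥P ≠ ⊤ := by
        intro htop
        have h1 : (⊥ : Subgroup ↥P) = ⊤ :=
          frattini_nongenerating (K := ⊥) (by rw [htop]; simp)
        apply hN
        rw [hNdef, htop, ← h1, Subgroup.map_bot]
      have hNneP : N ≠ P := by
        intro h
        apply hfr_ne_top
        have h1 : (frattini ↥P).map P.subtype = (⊤ : Subgroup ↥P).map P.subtype := by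
          rw [← hNdef, h, ← MonoidHom.range_eq_map, Subgroup.range_subtype]
        exact Subgroup.map_injective P.subtype_injective h1
      have hmul : Nat.card N * N.relIndex P = Nat.card P := by
        have := Subgroup.relIndex_mul_relIndex (H := (⊥ : Subgroup G)) (K := N) (L := P) bot_le hNP
        rwa [Subgroup.relIndex_bot_left, Subgroup.relIndex_bot_left] at this
      have hNlt : Nat.card N < n := by
        rw [← hn]
        by_contra hcon
        exact hNneP (Subgroup.eq_of_le_of_card_ge hNP (not_lt.mp hcon))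
      let π : G →* G ⧸ N := QuotientGroup.mk' N
      have hcardbar : Nat.card (P.map π) = N.relIndex P := by
        have := Subgroup.relIndex_comap (⊥ : Subgroup (G ⧸ N)) π P
        rw [MonoidHom.comap_bot, QuotientGroup.ker_mk', Subgroup.relIndex_bot_left] at this
        exact this.symm
      have hN2 : 1 < Nat.card N := (Subgroup.one_lt_card_iff_ne_bot _).mpr hN
      have hbarlt : Nat.card (P.map π) < n := by
        rw [← hn, hcardbar, ← hmul]
        have hpos : 0 < N.relIndex P := by
          rcases Nat.eq_zero_or_pos (N.relIndex P) with h0 | h0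
          · exfalso
            rw [h0, mul_zero] at hmul
            exact (Nat.card_pos (α := P)).ne' hmul.symm
          · exact h0
        nlinarith
      haveI hPbarn : (P.map π).Normal :=
        Subgroup.Normal.map hPn π (QuotientGroup.mk'_surjective N)
      -- IH on N
      have ihN := ih (Nat.card N) hNlt G N Q rfl (hP.to_le hNP) hQ x hxr hxQ
        (fun v hv => hfpf v (hNP hv))
      -- fpf on the quotient
      have hfpfbar : ∀ w' ∈ P.map π, π x * w' * (π x)⁻¹ = w' → w' = 1 := by
        rintro _ ⟨v, hv, rfl⟩ h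
        have h1 : π (x * v * x⁻¹ * v⁻¹) = 1 := by
          rw [map_mul, map_mul, map_mul, map_inv, map_inv, h]; group
        have h2 : x * v * x⁻¹ * v⁻¹ ∈ N := (QuotientGroup.eq_one_iff _).mp h1
        obtain ⟨m, hm, hmv⟩ := comm_surj N x (fun v hv => hfpf v (hNP hv)) h2
        have h3 : m = v := comm_inj P x hfpf (hNP hm) hv hmv
        rw [← h3]
        exact (QuotientGroup.eq_one_iff _).mpr hm
      have ihbar := ih (Nat.card (P.map π)) hbarlt (G ⧸ N) (P.map π) (Q.map π) rfl (hP.map π)
        (hQ.map π) (π x) (by rw [← map_pow, hxr, map_one])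
        (by
          rintro _ ⟨g', hg', rfl⟩
          exact ⟨x * g' * x⁻¹, hxQ g' hg', by rw [map_mul, map_mul, map_inv]⟩)
        hfpfbar (π g) (Subgroup.mem_map_of_mem π hg) (π w) (Subgroup.mem_map_of_mem π hw)
      have hpa : π a = π x * π g * (π x)⁻¹ * (π g)⁻¹ := by
        rw [had, map_mul, map_mul, map_mul, map_inv, map_inv]
      rw [← hpa] at ihbar
      have h5 : π (a * w * a⁻¹ * w⁻¹) = 1 := by
        rw [map_mul, map_mul, map_mul, map_inv, map_inv, ihbar]; group
      have h6 : a * w * a⁻¹ * w⁻¹ ∈ N := (QuotientGroup.eq_one_iff _).mp h5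
      have haq : ∃ k : ℕ, a ^ (q ^ k) = 1 := by
        obtain ⟨k, hk⟩ := hQ ⟨a, haQ⟩
        refine ⟨k, ?_⟩
        have := congrArg Subtype.val hk
        simpa using this
      have hcN : ∀ n' ∈ N, a * n' = n' * a := by
        intro n' hn'
        have := ihN g hg n' hn'
        rwa [← had] at this
      exact stab_trivial hpq N (hP.to_le hNP) a haq w hcN h6

end Cfsg.Agent.Lib.Helper4.PrimeActA
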