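import Mathlib
import Cfsg.Prelude.Def_Solvable
import Cfsg.Prelude.Def_Amalgam
import Cfsg.Prelude.Def_OddOrderLocal
import Cfsg.Agent.Lib.Helper4.PrimeActA
import Cfsg.Agent.Lib.Helper13.BenderB
import Cfsg.Agent.Lib.Helper13.CoreControl
import Cfsg.Agent.Lib.Helper13.Coprime
import Cfsg.Agent.Lib.Helper13.CoprimeSylow
import Cfsg.Agent.Lib.Helper20.Fitting
import Cfsg.Agent.Lib.Helper20.Cores

/-!
Prime action with fixed-point-free action on the Fitting subgroup: `[K, R] ≤ F(K)` (helper4).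
-/

set_option autoImplicit false

namespace Cfsg.Agent.Lib.Helper4.PrimeActB

open Cfsg.Agent.Lib.Helper13 Cfsg.Agent.Lib.Helper13.BenderB Cfsg.Agent.Lib.Helper13.CoreControl
  Cfsg.Agent.Lib.Helper20

open scoped commutatorElement

universe u
variable {G : Type u} [Group G] [Finite G]

theorem conj_mem_centralizer {E : Subgroup G} {k c : G}
    (hk : k ∈ Subgroup.normalizer (E : Set G))
    (hc : c ∈ Subgroup.centralizer (E : Set G)) :
    k * c * k⁻¹ ∈ Subgroup.centralizer (E : Set G) := by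
  rw [Subgroup.mem_centralizer_iff] at hc ⊢
  intro e he
  have he' : k⁻¹ * e * k ∈ E := by
    have := (Subgroup.mem_normalizer_iff.mp (Subgroup.inv_mem _ hk) e).mp he
    simpa using this
  have h1 := hc _ he'
  calc e * (k * c * k⁻¹) = k * ((k⁻¹ * e * k) * c) * k⁻¹ := by group
    _ = k * (c * (k⁻¹ * e * k)) * k⁻¹ := by rw [h1]
    _ = k * c * k⁻¹ * e := by group

theorem cent_le_fittingOf (K : Subgroup G) (q : ℕ) [hq : Fact q.Prime]
    (M : Subgroup G) (hMK : M ≤ K) (hKM : K ≤ Subgroup.normalizer (M : Set G))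
    (hMq : ∀ l ∈ M, ∃ k : ℕ, l ^ (q ^ k) ∈ Cfsg.fittingOf K) :
    M ⊓ Subgroup.centralizer ((ppOf q K : Subgroup G) : Set G) ≤ Cfsg.fittingOf K := by
  classical
  obtain ⟨C, hCdef⟩ : ∃ C, C = M ⊓ Subgroup.centralizer ((ppOf q K : Subgroup G) : Set G) :=
    ⟨_, rfl⟩
  rw [← hCdef]
  have hCM : C ≤ M := by rw [hCdef]; exact inf_le_left
  have hCcent : C ≤ Subgroup.centralizer ((ppOf q K : Subgroup G) : Set G) := by
    rw [hCdef]; exact inf_le_right
  have hCK : C ≤ K := hCM.trans hMK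
  haveI hEn : (Cfsg.pPrimeCore q ↥K).Normal := Cfsg.pPrimeCore_normal q _
  let f : ↥C →* ↥K ⧸ Cfsg.pPrimeCore q ↥K :=
    (QuotientGroup.mk' (Cfsg.pPrimeCore q ↥K)).comp (Subgroup.inclusion hCK)
  have hker : f.ker ≤ Subgroup.center ↥C := by
    intro c hc
    rw [MonoidHom.mem_ker] at hc
    have h1 : Subgroup.inclusion hCK c ∈ Cfsg.pPrimeCore q ↥K :=
      (QuotientGroup.eq_one_iff _).mp hc
    have h2 : (c : G) ∈ ppOf q K := Subgroup.mem_map.mpr ⟨_, h1, rfl⟩
    rw [Subgroup.mem_center_iff]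
    intro d
    have hd := Subgroup.mem_centralizer_iff.mp (hCcent d.2) (c : G) h2
    exact Subtype.ext hd.symm
  have hFle : Cfsg.fittingSubgroup ↥K ≤ Cfsg.pCore q ↥K ⊔ Cfsg.pPrimeCore q ↥K := by
    rw [fittingSubgroup_eq_iSup_pCore']
    apply iSup_le
    intro p'
    by_cases hp' : (p' : ℕ) = q
    · rw [hp']; exact le_sup_left
    · refine le_trans ?_ le_sup_right
      haveI : Fact (p' : ℕ).Prime := ⟨p'.2⟩
      apply le_pPrimeCore' inferInstance
      obtain ⟨n, hn⟩ := IsPGroup.iff_card.mp (pCore_isPGroup' (G := ↥K) (p' : ℕ))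
      rw [hn]
      exact Nat.Coprime.pow_left n ((Nat.coprime_primes p'.2 hq.out).mpr hp')
  have hrange : IsPGroup q f.range := by
    rintro ⟨_, c, rfl⟩
    obtain ⟨k, hk⟩ := hMq c (hCM c.2)
    obtain ⟨y, hy, hyc⟩ := Subgroup.mem_map.mp hk
    have hy2 := hFle hy
    obtain ⟨h, hh, e, he, hhe⟩ := Subgroup.mem_sup_of_normal_right.mp hy2
    obtain ⟨j, hj⟩ := (pCore_isPGroup' (G := ↥K) q) ⟨h, hh⟩
    have hj' : h ^ (q ^ j) = 1 := by
      have := congrArg Subtype.val hj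
      simpa using this
    have hinc : Subgroup.inclusion hCK (c ^ (q ^ k)) = y := by
      apply Subtype.ext
      rw [Subgroup.coe_inclusion, Subgroup.coe_pow]
      exact hyc.symm
    have h3 : f c ^ (q ^ k) = QuotientGroup.mk' _ h := by
      rw [← map_pow]
      show QuotientGroup.mk' _ (Subgroup.inclusion hCK (c ^ (q ^ k))) = _
      rw [hinc, ← hhe, map_mul]
      have : QuotientGroup.mk' (Cfsg.pPrimeCore q ↥K) e = 1 := (QuotientGroup.eq_one_iff e).mpr he
      rw [this, mul_one]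
    refine ⟨k + j, ?_⟩
    apply Subtype.ext
    rw [Subgroup.coe_pow, Subgroup.coe_one]
    show f c ^ (q ^ (k + j)) = 1
    rw [pow_add, pow_mul, h3, ← map_pow, hj', map_one]
  haveI : Group.IsNilpotent ↥f.range := hrange.isNilpotent
  haveI hnilC : Group.IsNilpotent ↥C :=
    Subgroup.isNilpotent_of_ker_le_center f.rangeRestrict
      (by rw [MonoidHom.ker_rangeRestrict]; exact hker)
  have hKC : K ≤ Subgroup.normalizer (C : Set G) := by
    have key : ∀ k ∈ K, ∀ c ∈ C, k * c * k⁻¹ ∈ C := by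
      intro k hk c hc
      rw [hCdef] at hc ⊢
      refine Subgroup.mem_inf.mpr ⟨?_, ?_⟩
      · exact (Subgroup.mem_normalizer_iff.mp (hKM hk) c).mp hc.1
      · exact conj_mem_centralizer (le_normalizer_ppOf q K hk) hc.2
    intro k hk
    rw [Subgroup.mem_normalizer_iff]
    intro c
    constructor
    · exact key k hk c
    · intro h
      have := key k⁻¹ (K.inv_mem hk) _ h
      have e : k⁻¹ * (k * c * k⁻¹) * k⁻¹⁻¹ = c := by group
      rwa [e] at this
  have hCn : (C.subgroupOf K).Normal :=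
    (Subgroup.normal_subgroupOf_iff_le_normalizer hCK).mpr hKC
  have hnil2 : Group.IsNilpotent ↥(C.subgroupOf K) :=
    Group.nilpotent_of_mulEquiv (Subgroup.subgroupOfEquivOfLe hCK).symm
  have h1 : C.subgroupOf K ≤ Cfsg.fittingSubgroup ↥K := le_sSup ⟨hCn, hnil2⟩
  have h2 := Subgroup.map_mono (f := K.subtype) h1
  rw [Subgroup.subgroupOf_map_subtype, inf_eq_left.mpr hCK] at h2
  exact h2

theorem card_dvd_eq_bot {q : ℕ} [hq : Fact q.Prime] (Y X : Subgroup G) (hYX : Y ≤ X)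
    (hY : IsPGroup q Y) (hnd : ¬ q ∣ Nat.card X) : Y = ⊥ := by
  obtain ⟨n, hn⟩ := IsPGroup.iff_card.mp hY
  have h1 : Nat.card Y ∣ Nat.card X := Subgroup.card_dvd_of_le hYX
  rw [hn] at h1
  have hn0 : n = 0 := by
    by_contra h0
    exact hnd ((dvd_pow_self q h0).trans h1)
  rw [hn0, pow_zero] at hn
  exact Subgroup.card_eq_one.mp hn

section Main

variable (K : Subgroup G) [hKn : K.Normal] [hsol : Group.IsSolvable G]
  [hFn : (Cfsg.fittingOf K).Normal]

theorem step1 (hodd : Odd (Nat.card G))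
    (x : G) (r : ℕ) (hr : r.Prime) (hxr : x ^ r = 1) (hrK : ¬ r ∣ Nat.card K)
    (hfpf : ∀ w ∈ Cfsg.fittingOf K, x * w * x⁻¹ = w → w = 1)
    (q : ℕ) [hq : Fact q.Prime] :
    ∀ lb ∈ Cfsg.pCoreOf q (K.map (QuotientGroup.mk' (Cfsg.fittingOf K))),
      QuotientGroup.mk' (Cfsg.fittingOf K) x * lb =
        lb * QuotientGroup.mk' (Cfsg.fittingOf K) x := by
  classical
  intro lb hlb
  obtain ⟨π, hπ⟩ : ∃ π : G →* G ⧸ Cfsg.fittingOf K, π = QuotientGroup.mk' (Cfsg.fittingOf K) :=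
    ⟨_, rfl⟩
  rw [← hπ] at hlb ⊢
  have hπsurj : Function.Surjective π := by rw [hπ]; exact QuotientGroup.mk'_surjective _
  have hπker : ∀ g : G, π g = 1 ↔ g ∈ Cfsg.fittingOf K := by
    intro g; rw [hπ]; exact QuotientGroup.eq_one_iff g
  have hFK : Cfsg.fittingOf K ≤ K := fittingOf_le K
  haveI hKbn : (K.map π).Normal := hKn.map π hπsurj
  by_cases hqK : q ∣ Nat.card K
  swap
  · have hb : Cfsg.pCoreOf q (K.map π) = ⊥ := by
      apply card_dvd_eq_bot _ (K.map π) (pCoreOf_le q _) (pCoreOf_isPGroup q _)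
      intro h
      exact hqK (h.trans (Subgroup.card_map_dvd K π))
    rw [hb, Subgroup.mem_bot] at hlb
    rw [hlb, mul_one, one_mul]
  have hKG : Nat.card K ∣ Nat.card G := Subgroup.card_subgroup_dvd_card K
  have hq2 : q ≠ 2 := by
    intro h
    rw [h] at hqK
    exact hodd.not_two_dvd_nat (hqK.trans hKG)
  have hqr : q ≠ r := by
    intro h
    rw [h] at hqK
    exact hrK hqK
  obtain ⟨M, hMdef⟩ : ∃ M : Subgroup G, M = (Cfsg.pCoreOf q (K.map π)).comap π := ⟨_, rfl⟩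
  have hmemM : ∀ l : G, l ∈ M ↔ π l ∈ Cfsg.pCoreOf q (K.map π) := by
    intro l; rw [hMdef, Subgroup.mem_comap]
  have hGM : ∀ g : G, g ∈ Subgroup.normalizer (M : Set G) := by
    intro g
    have h1 : π g ∈ Subgroup.normalizer ((Cfsg.pCoreOf q (K.map π) : Subgroup _) : Set _) := by
      apply normalizer_le_normalizer_pCoreOf q (K.map π)
      rw [Subgroup.normalizer_eq_top]; trivial
    rw [Subgroup.mem_normalizer_iff]
    intro h
    rw [hmemM, hmemM, map_mul, map_mul, map_inv]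
    exact Subgroup.mem_normalizer_iff.mp h1 (π h)
  have hMK : M ≤ K := by
    intro l hl
    have h1 : π l ∈ K.map π := pCoreOf_le q _ ((hmemM l).mp hl)
    obtain ⟨k, hk, hkl⟩ := Subgroup.mem_map.mp h1
    have h2 : π (k⁻¹ * l) = 1 := by rw [map_mul, map_inv, hkl]; group
    have h3 : k⁻¹ * l ∈ K := hFK ((hπker _).mp h2)
    have : l = k * (k⁻¹ * l) := by group
    rw [this]; exact K.mul_mem hk h3
  have hFM : Cfsg.fittingOf K ≤ M := by
    intro w hw
    rw [hmemM, (hπker w).mpr hw]; exact Subgroup.one_mem _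
  obtain ⟨A, hAdef⟩ : ∃ A : Subgroup G, A = Subgroup.zpowers x := ⟨_, rfl⟩
  have hAcard : Nat.card A ∣ r := by
    rw [hAdef, Nat.card_zpowers]; exact orderOf_dvd_of_pow_eq_one hxr
  have hcoprK : Nat.Coprime r (Nat.card K) := (Nat.Prime.coprime_iff_not_dvd hr).mpr hrK
  have hcopAM : (Nat.card A).Coprime (Nat.card M) :=
    Nat.Coprime.coprime_dvd_left hAcard
      (Nat.Coprime.coprime_dvd_right (Subgroup.card_dvd_of_le hMK) hcoprK)
  obtain ⟨Qs, hQs⟩ := exists_invariant_sylow A M (fun a _ => hGM a) hcopAM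
    (Or.inr inferInstance) q
  obtain ⟨Q, hQdef⟩ : ∃ Q : Subgroup G, Q = (Qs : Subgroup M).map M.subtype := ⟨_, rfl⟩
  rw [← hQdef] at hQs
  have hQ : IsPGroup q Q := by rw [hQdef]; exact Qs.2.map _
  have hQM : Q ≤ M := by rw [hQdef]; exact Subgroup.map_subtype_le _
  have hxA : x ∈ A := by rw [hAdef]; exact Subgroup.mem_zpowers x
  have hxQ : ∀ g ∈ Q, x * g * x⁻¹ ∈ Q := fun g hg =>
    (Subgroup.mem_normalizer_iff.mp (hQs hxA) g).mp hg
  -- the commutators centralize every O_p(K), p ≠ q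
  have hcent : ∀ g ∈ Q, ∀ p : ℕ, p.Prime → p ≠ q →
      x * g * x⁻¹ * g⁻¹ ∈ Subgroup.centralizer ((Cfsg.pCoreOf p K : Subgroup G) : Set G) := by
    intro g hg p hp hpq
    haveI : Fact p.Prime := ⟨hp⟩
    rw [Subgroup.mem_centralizer_iff]
    intro w hw
    by_cases hpr : p = r
    · have hb : Cfsg.pCoreOf p K = ⊥ :=
        card_dvd_eq_bot _ K (pCoreOf_le p K) (pCoreOf_isPGroup p K) (by rw [hpr]; exact hrK)
      rw [hb] at hw
      have hw' : w = 1 := by simpa using hw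
      rw [hw', one_mul, mul_one]
    · haveI hPn : (Cfsg.pCoreOf p K).Normal := by
        constructor
        intro n hn g'
        have h1 : g' ∈ Subgroup.normalizer ((Cfsg.pCoreOf p K : Subgroup G) : Set G) := by
          apply normalizer_le_normalizer_pCoreOf p K
          rw [Subgroup.normalizer_eq_top]; trivial
        exact (Subgroup.mem_normalizer_iff.mp h1 n).mp hn
      have := Cfsg.Agent.Lib.Helper4.PrimeActA.fpf_main p q r hr hpr hpq hqr hq2 _ G
        (Cfsg.pCoreOf p K) Q rfl (pCoreOf_isPGroup p K) hQ x hxr hxQ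
        (fun w hw => hfpf w (pCoreOf_le_fittingOf hp K hw)) g hg w hw
      exact this.symm
  have hMq : ∀ l ∈ M, ∃ k : ℕ, l ^ (q ^ k) ∈ Cfsg.fittingOf K := by
    intro l hl
    obtain ⟨k, hk⟩ := (pCoreOf_isPGroup q (K.map π)) ⟨π l, (hmemM l).mp hl⟩
    refine ⟨k, ?_⟩
    rw [← hπker, map_pow]
    have := congrArg Subtype.val hk
    simpa using this
  have haF : ∀ g ∈ Q, x * g * x⁻¹ * g⁻¹ ∈ Cfsg.fittingOf K := by
    intro g hg
    obtain ⟨a, had⟩ : ∃ a, a = x * g * x⁻¹ * g⁻¹ := ⟨_, rfl⟩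
    rw [← had]
    have haQ : a ∈ Q := by rw [had]; exact Q.mul_mem (hxQ g hg) (Q.inv_mem hg)
    have hDQ : Subgroup.zpowers a ≤ Q := Subgroup.zpowers_le.mpr haQ
    have hD : IsPGroup q (Subgroup.zpowers a) := hQ.to_le hDQ
    have hDK : Subgroup.zpowers a ≤ K := hDQ.trans (hQM.trans hMK)
    have hB := lemmaB K q (Subgroup.zpowers a) hDK hD
      (fun p hp hpq => Subgroup.zpowers_le.mpr (by rw [had]; exact hcent g hg p hp hpq))
    exact cent_le_fittingOf K q M hMK (fun k _ => hGM k) hMq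
      (Subgroup.mem_inf.mpr ⟨hQM haQ, hB (Subgroup.mem_zpowers a)⟩)
  -- M = F ⊔ Q
  have hsup : M ≤ Cfsg.fittingOf K ⊔ Q := by
    rw [← Subgroup.relIndex_eq_one]
    have hd1 : (Cfsg.fittingOf K ⊔ Q).relIndex M ∣ (Cfsg.fittingOf K).relIndex M :=
      Subgroup.relIndex_dvd_of_le_left M le_sup_left
    have hd2 : (Cfsg.fittingOf K ⊔ Q).relIndex M ∣ Q.relIndex M :=
      Subgroup.relIndex_dvd_of_le_left M le_sup_right
    have hF1 : (Cfsg.fittingOf K).relIndex M = Nat.card (Cfsg.pCoreOf q (K.map π)) := by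
      have h1 := Subgroup.relIndex_comap (⊥ : Subgroup (G ⧸ Cfsg.fittingOf K)) π M
      have h2 : (⊥ : Subgroup (G ⧸ Cfsg.fittingOf K)).comap π = Cfsg.fittingOf K := by
        rw [MonoidHom.comap_bot, hπ, QuotientGroup.ker_mk']
      have h3 : M.map π = Cfsg.pCoreOf q (K.map π) := by
        rw [hMdef]; exact Subgroup.map_comap_eq_self_of_surjective hπsurj _
      rw [h2, h3, Subgroup.relIndex_bot_left] at h1
      exact h1
    have hQ1 : Q.relIndex M = (Qs : Subgroup M).index := by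
      unfold Subgroup.relIndex
      rw [hQdef]
      congr 1
      exact Subgroup.comap_map_eq_self_of_injective M.subtype_injective _
    obtain ⟨n, hn⟩ := IsPGroup.iff_card.mp (pCoreOf_isPGroup q (K.map π))
    rw [hF1, hn] at hd1
    rw [hQ1] at hd2
    have hnd : ¬ q ∣ (Qs : Subgroup M).index := Qs.not_dvd_index
    have hcop : Nat.Coprime (q ^ n) (Qs : Subgroup M).index :=
      Nat.Coprime.pow_left n ((Nat.Prime.coprime_iff_not_dvd hq.out).mpr hnd)
    have := Nat.dvd_gcd hd1 hd2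
    rw [hcop.gcd_eq_one] at this
    exact Nat.dvd_one.mp this
  -- conclusion
  obtain ⟨l, rfl⟩ := hπsurj lb
  have hl : l ∈ M := (hmemM l).mpr hlb
  obtain ⟨f, hf, g, hg, hfg⟩ := Subgroup.mem_sup_of_normal_left.mp (hsup hl)
  have hpl : π l = π g := by
    rw [← hfg, map_mul, (hπker f).mpr hf, one_mul]
  rw [hpl]
  have h1 : π (x * g * x⁻¹ * g⁻¹) = 1 := (hπker _).mpr (haF g hg)
  rw [map_mul, map_mul, map_mul, map_inv, map_inv] at h1
  calc π x * π g = (π x * π g * (π x)⁻¹ * (π g)⁻¹) * π g * π x := by group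
    _ = π g * π x := by rw [h1, one_mul]

theorem prime_elt (hodd : Odd (Nat.card G))
    (x : G) (r : ℕ) (hr : r.Prime) (hxr : x ^ r = 1) (hrK : ¬ r ∣ Nat.card K)
    (hfpf : ∀ w ∈ Cfsg.fittingOf K, x * w * x⁻¹ = w → w = 1) :
    ∀ k ∈ K, QuotientGroup.mk' (Cfsg.fittingOf K) x * QuotientGroup.mk' (Cfsg.fittingOf K) k =
      QuotientGroup.mk' (Cfsg.fittingOf K) k * QuotientGroup.mk' (Cfsg.fittingOf K) x := by
  classical
  obtain ⟨π, hπ⟩ : ∃ π : G →* G ⧸ Cfsg.fittingOf K, π = QuotientGroup.mk' (Cfsg.fittingOf K) :=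
    ⟨_, rfl⟩
  have hstep := fun (q : ℕ) (hq : Fact q.Prime) => step1 K hodd x r hr hxr hrK hfpf q
  rw [← hπ] at hstep ⊢
  have hπsurj : Function.Surjective π := by rw [hπ]; exact QuotientGroup.mk'_surjective _
  haveI hKbn : (K.map π).Normal := hKn.map π hπsurj
  obtain ⟨Ab, hAb⟩ : ∃ Ab : Subgroup (G ⧸ Cfsg.fittingOf K), Ab = Subgroup.zpowers (π x) :=
    ⟨_, rfl⟩
  obtain ⟨F2, hF2⟩ : ∃ F2 : Subgroup (G ⧸ Cfsg.fittingOf K), F2 = Cfsg.fittingOf (K.map π) :=
    ⟨_, rfl⟩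
  have h1 : F2 ≤ Subgroup.centralizer (Ab : Set (G ⧸ Cfsg.fittingOf K)) := by
    rw [hF2, fittingOf_eq_iSup (K.map π)]
    apply iSup_le
    intro q'
    haveI : Fact (q' : ℕ).Prime := ⟨q'.2⟩
    intro lb hlb
    rw [Subgroup.mem_centralizer_iff]
    intro ab hab
    rw [hAb] at hab
    obtain ⟨i, rfl⟩ := Subgroup.mem_zpowers_iff.mp hab
    have hc : Commute (π x) lb := hstep (q' : ℕ) inferInstance lb hlb
    exact (hc.zpow_left i).eq
  have h2 : ⁅F2, Ab⁆ = ⊥ := Subgroup.commutator_eq_bot_iff_le_centralizer.mpr h1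
  have h2' : ⁅Ab, F2⁆ = ⊥ := by rw [Subgroup.commutator_comm]; exact h2
  have hKF2 : K.map π ≤ Subgroup.normalizer (F2 : Set (G ⧸ Cfsg.fittingOf K)) := by
    rw [hF2]
    exact Subgroup.le_normalizer.trans
      (normalizer_le_normalizer_map_char (K.map π) (Cfsg.fittingSubgroup _)
        fittingSubgroup_characteristic)
  have h3 : ⁅⁅K.map π, Ab⁆, F2⁆ = ⊥ := by
    apply Subgroup.commutator_commutator_eq_bot_of_rotate
    · rw [h2', Subgroup.commutator_bot_left]
    · have h4 : ⁅F2, K.map π⁆ ≤ F2 := commutator_le_of_le_normalizer F2 (K.map π) hKF2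
      have h5 := Subgroup.commutator_mono h4 (le_refl Ab)
      rw [h2] at h5
      exact le_bot_iff.mp h5
  have h4 : ⁅K.map π, Ab⁆ ≤ Subgroup.centralizer (F2 : Set (G ⧸ Cfsg.fittingOf K)) :=
    Subgroup.commutator_eq_bot_iff_le_centralizer.mp h3
  have h5 : ⁅K.map π, Ab⁆ ≤ K.map π := Subgroup.commutator_le_left _ _
  have h6 : ⁅K.map π, Ab⁆ ≤ F2 := by
    rw [hF2] at h4 ⊢
    exact (le_inf h5 h4).trans (inf_centralizer_fittingOf_le (K.map π))
  have h7 : ⁅⁅K.map π, Ab⁆, Ab⁆ = ⊥ := by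
    have := Subgroup.commutator_mono h6 (le_refl Ab)
    rw [h2] at this
    exact le_bot_iff.mp this
  have hAbcard : Nat.card Ab ∣ r := by
    rw [hAb, Nat.card_zpowers]
    apply orderOf_dvd_of_pow_eq_one
    rw [← map_pow, hxr, map_one]
  have hcoprK : Nat.Coprime r (Nat.card K) := (Nat.Prime.coprime_iff_not_dvd hr).mpr hrK
  have hcop : (Nat.card Ab).Coprime (Nat.card (K.map π)) :=
    Nat.Coprime.coprime_dvd_left hAbcard
      (Nat.Coprime.coprime_dvd_right (Subgroup.card_map_dvd K π) hcoprK)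
  have hAK : Ab ≤ Subgroup.normalizer ((K.map π : Subgroup _) : Set (G ⧸ Cfsg.fittingOf K)) := by
    rw [Subgroup.normalizer_eq_top]; exact le_top
  have h8 := coprime_commutator_stable Ab (K.map π) hAK hcop (Or.inr inferInstance)
  rw [h7] at h8
  intro k hk
  have h9 : ⁅π k, π x⁆ ∈ ⁅K.map π, Ab⁆ :=
    Subgroup.commutator_mem_commutator (Subgroup.mem_map_of_mem π hk)
      (by rw [hAb]; exact Subgroup.mem_zpowers _)
  rw [← h8, Subgroup.mem_bot] at h9
  exact (commutatorElement_eq_one_iff_mul_comm.mp h9).symm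

end Main

end Cfsg.Agent.Lib.Helper4.PrimeActB
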