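import Mathlib
import Cfsg.Agent.Lib.Helper4.HeightZeroStab
import Cfsg.Agent.Lib.Helper4.BrauerExt
import Cfsg.Agent.Lib.Helper7.ProjDecomp

set_option autoImplicit false

/-!
# The ramification index divides the index (helper4)

Built on helper7's `ram_dvd_index` (the invariant case) and the Clifford correspondence.
-/

namespace Cfsg.Agent.Lib.Helper4

open Cfsg Cfsg.Agent.Lib.Helper28 Cfsg.Agent.Lib.Helper26
open scoped ComplexConjugate Classical

section

variable {G : Type*} [Group G] [Fintype G] (N : Subgroup G) [hN : N.Normal]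

/-- Clifford correspondence, existence: a character of `G` over `θ` is induced from a character
of `T ⊇ I_G(θ)` over `θ` -/
theorem exists_indFun_eq_of_inertia {T : Subgroup G} (hNT : N ≤ T) (χ : IrrCharacter G)
    (θ : IrrCharacter N) (hIT : inertiaSub N (θ : N → ℂ) ≤ T)
    (hcon : classInner (fun n : N => (χ : G → ℂ) n) (θ : N → ℂ) ≠ 0) :
    ∃ ξ : IrrCharacter T, (χ : G → ℂ) = indFun T (ξ : T → ℂ) ∧
      classInner (fun n : N => (ξ : T → ℂ) ⟨(n : G), hNT n.2⟩) (θ : N → ℂ) ≠ 0 := by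
  have : Fintype (IrrCharacter T) := Fintype.ofFinite _
  have hχT : IsCharacter T (fun t : T => (χ : G → ℂ) t) :=
    Cfsg.Agent.Lib.Helper2.isCharacter_comp_hom
      (Helper26.isCharacter_of_isIrrCharacter χ.2) T.subtype
  have hexp := classInner_restrict_expand hNT (fun t : T => (χ : G → ℂ) t)
    (Helper26.isClassFunction_of_isCharacter hχT) (θ : N → ℂ)
  have hcon' : classInner (fun n : N => (fun t : T => (χ : G → ℂ) t) ⟨(n : G), hNT n.2⟩)
      (θ : N → ℂ) ≠ 0 := hcon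
  rw [hexp] at hcon'
  obtain ⟨ξ, hξ1, hξ2⟩ := exists_ne_zero_of_sum_mul_ne_zero _ _ hcon'
  have hInd : classInner (indFun T (ξ : T → ℂ)) (χ : G → ℂ) ≠ 0 := by
    rw [classInner_indFun_left' T _ _ (Helper26.isClassFunction_of_isIrrCharacter χ.2),
      ← classInner_conj_symm]
    intro h0
    apply hξ1
    have := congrArg conj h0
    rwa [Complex.conj_conj, map_zero] at this
  obtain ⟨h1, -⟩ := clifford_corr_general N hNT (θ : N → ℂ) θ.2 hIT ξ ξ.2 hξ2
    (χ : G → ℂ) χ.2 hInd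
  exact ⟨ξ, h1, hξ2⟩

/-- **Isaacs 11.29**, with the inertia group made explicit: for `χ ∈ Irr(G)` over `θ ∈ Irr(N)`,
`χ(1) = |G : I| · e · θ(1)` with `e` dividing `|I : N|`, `I` the inertia group of `θ` -/
theorem clifford_degree (χ : IrrCharacter G) (θ : IrrCharacter N)
    (hcon : classInner (fun n : N => (χ : G → ℂ) n) (θ : N → ℂ) ≠ 0) :
    ∃ e : ℕ, e ∣ N.relIndex (inertiaSub N (θ : N → ℂ)) ∧
      charDegree (χ : G → ℂ) =
        (inertiaSub N (θ : N → ℂ)).index * e * charDegree (θ : N → ℂ) := by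
  obtain ⟨I, hI⟩ : ∃ I, I = inertiaSub N (θ : N → ℂ) := ⟨_, rfl⟩
  have hNI : N ≤ I := by
    rw [hI]
    exact le_inertiaSub N (Helper26.isClassFunction_of_isIrrCharacter θ.2)
  obtain ⟨ξ, hχξ, hξθ⟩ := exists_indFun_eq_of_inertia N hNI χ θ (by rw [hI]) hcon
  rw [← hI]
  obtain ⟨φ, hφ⟩ : ∃ φ : N.subgroupOf I ≃* N, φ = Subgroup.subgroupOfEquivOfLe hNI := ⟨_, rfl⟩
  have hφcoe : ∀ x : N.subgroupOf I, ((φ x : N) : G) = ((x : I) : G) := by
    intro x
    rw [hφ]
    rfl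
  have hN' : (N.subgroupOf I).Normal := inferInstance
  obtain ⟨θ', hθ'⟩ : ∃ θ' : N.subgroupOf I → ℂ, θ' = (θ : N → ℂ) ∘ φ := ⟨_, rfl⟩
  have hθ'irr : IsIrrCharacter (N.subgroupOf I) θ' := by
    rw [hθ']
    exact Cfsg.Agent.Lib.Helper2.isIrrCharacter_comp_mulEquiv θ.2 φ
  have hinv : ∀ (g : I) (n : N.subgroupOf I),
      θ' ⟨g * n * g⁻¹, hN'.conj_mem (n : I) n.2 g⟩ = θ' n := by
    intro g n
    rw [hθ']
    have hg : (g : G) ∈ inertiaSub N (θ : N → ℂ) := by
      rw [← hI]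
      exact g.2
    have h1 := (mem_inertiaSub N (θ : N → ℂ) (g : G)).1 hg (φ n)
    show (θ : N → ℂ) (φ ⟨g * n * g⁻¹, _⟩) = (θ : N → ℂ) (φ n)
    rw [← h1]
    refine congrArg _ (Subtype.ext ?_)
    rw [hφcoe]
    show (g : G) * (((n : N.subgroupOf I) : I) : G) * ((g⁻¹ : I) : G) =
      (g : G) * ((φ n : N) : G) * (g : G)⁻¹
    rw [hφcoe]
    rfl
  have hcon' : classInner ((ξ : I → ℂ) ∘ (N.subgroupOf I).subtype) θ' ≠ 0 := by
    have h1 := Cfsg.Agent.Lib.Helper26.CH.classInner_comp_mulEquiv φ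
      (fun n : N => (ξ : I → ℂ) ⟨(n : G), hNI n.2⟩) (θ : N → ℂ)
    rw [← h1] at hξθ
    have h2 : (fun n : N => (ξ : I → ℂ) ⟨(n : G), hNI n.2⟩) ∘ φ =
        (ξ : I → ℂ) ∘ (N.subgroupOf I).subtype := by
      funext x
      show (ξ : I → ℂ) ⟨((φ x : N) : G), _⟩ = (ξ : I → ℂ) (x : I)
      refine congrArg _ (Subtype.ext ?_)
      rw [hφcoe]
    rw [h2] at hξθ
    rw [hθ']
    exact hξθ
  have hres := restrict_eq_smul_of_invariant (N.subgroupOf I) ξ.2 hθ'irr hcon'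
    (fun k => by
      funext n
      exact hinv k n)
  obtain ⟨e, he⟩ := classInner_isCharacter_nat
    (isCharacter_restrict (N.subgroupOf I) (isCharacter_of_isIrrCharacter ξ.2))
    (isCharacter_of_isIrrCharacter hθ'irr)
  have he0 : e ≠ 0 := by
    rintro rfl
    apply hcon'
    rw [he]
    simp
  have hres' : ∀ n : N.subgroupOf I, (ξ : I → ℂ) n = e * θ' n := by
    intro n
    have h1 := congrFun hres n
    rw [he] at h1
    simpa using h1
  have hdvd := Cfsg.Agent.Lib.Helper7.ram_dvd_index (N.subgroupOf I) (ξ : I → ℂ) ξ.2 θ' hθ'irr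
    hinv e he0 hres'
  refine ⟨e, hdvd, ?_⟩
  have hξdeg : charDegree (ξ : I → ℂ) = e * charDegree (θ : N → ℂ) := by
    apply charDegree_eq_of_one_eq
    have h1 := hres' 1
    rw [hθ'] at h1
    have h2 : ((1 : N.subgroupOf I) : I) = 1 := rfl
    rw [h2] at h1
    rw [h1]
    show (e : ℂ) * (θ : N → ℂ) (φ 1) = _
    rw [map_one, irr_one_eq_charDegree θ]
    push_cast
    ring
  rw [hχξ, charDegree_indFun, hξdeg]
  ring

/-- **Isaacs 11.29**: `χ(1)/θ(1)` divides `|G : N|` -/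
theorem degree_ratio_dvd_index (χ : IrrCharacter G) (θ : IrrCharacter N)
    (hcon : classInner (fun n : N => (χ : G → ℂ) n) (θ : N → ℂ) ≠ 0) :
    ∃ r : ℕ, r ∣ N.index ∧ charDegree (χ : G → ℂ) = r * charDegree (θ : N → ℂ) := by
  obtain ⟨e, he, hdeg⟩ := clifford_degree N χ θ hcon
  refine ⟨(inertiaSub N (θ : N → ℂ)).index * e, ?_, hdeg⟩
  have hNI : N ≤ inertiaSub N (θ : N → ℂ) :=
    le_inertiaSub N (Helper26.isClassFunction_of_isIrrCharacter θ.2)
  rw [← Subgroup.relIndex_mul_index hNI, mul_comm]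
  exact Nat.mul_dvd_mul he (dvd_refl _)

end

end Cfsg.Agent.Lib.Helper4
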