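import Mathlib
import Cfsg.Agent.Lib.Helper4.RamDvd
import Cfsg.Agent.Lib.Helper4.BrauerInert
import Cfsg.Agent.Lib.Helper4.CentralProdChar
import Cfsg.Agent.Lib.Helper4.CentralProdMain
import Cfsg.Agent.S0971
import Cfsg.Agent.S0187

set_option autoImplicit false

/-!
# Reynolds' theorem on blocks with a normal defect group (helper4, S0972)
-/

namespace Cfsg.Agent.Lib.Helper4

open Cfsg Cfsg.Agent.Lib.Helper28 Cfsg.Agent.Lib.Helper26
open scoped ComplexConjugate Classical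

section

variable {G : Type*} [Group G] [Fintype G] {M : Ideal AlgInt} (N : Subgroup G) [hN : N.Normal]

/-- the stabilizer of a block of a normal subgroup, as a subgroup -/
theorem exists_blockStab_normal [M.IsPrime] {b : Set (IrrCharacter N)} (hb : IsPBlock M b) :
    ∃ T : Subgroup G, ∀ x : G, x ∈ T ↔ StabilizesBlock N b x := by
  have htop : (⊤ : Subgroup G) ≤ Subgroup.normalizer (N : Set G) :=
    fun x _ => normal_le_normalizer N x
  let act : MulAction (⊤ : Subgroup G) (Blk M N) := blkAction N (⊤ : Subgroup G) htop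
  refine ⟨(MulAction.stabilizer (⊤ : Subgroup G) (⟨b, hb⟩ : Blk M N)).map
    (⊤ : Subgroup G).subtype, fun x => ?_⟩
  rw [Subgroup.mem_map]
  constructor
  · rintro ⟨n, hn, rfl⟩
    rw [MulAction.mem_stabilizer_iff] at hn
    have h1 : conjIrr N (n : G) (htop n.2) '' b = b := congrArg Subtype.val hn
    exact (image_conjIrr_eq_iff (M := M) _ hb _ _).mp h1
  · intro hst
    refine ⟨⟨x, Subgroup.mem_top x⟩, ?_, rfl⟩
    rw [MulAction.mem_stabilizer_iff]
    apply Subtype.ext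
    exact (image_conjIrr_eq_iff (M := M) _ hb _ (htop (Subgroup.mem_top x))).mpr hst

/-- the two descriptions of the stabilizer of a block -/
theorem isBlockStab_of_stabilizes {b : Set (IrrCharacter N)} {T : Subgroup G}
    (hT : ∀ x : G, x ∈ T ↔ StabilizesBlock N b x) : IsBlockStab N b T := by
  intro g
  constructor
  · intro hg θ hθ θ' hθ'
    have hg' : g⁻¹ ∈ T := T.inv_mem hg
    rw [hT, stabilizesBlock_iff] at hg'
    obtain ⟨hn, h⟩ := hg'
    have h1 := h θ hθ
    have h2 : θ' = conjIrr N g⁻¹ hn θ := by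
      apply Subtype.ext
      rw [hθ', conjIrr_eq_conjFunN, inv_inv]
    rw [h2]
    exact h1
  · intro h
    have : g⁻¹ ∈ T := by
      rw [hT, stabilizesBlock_iff]
      refine ⟨normal_le_normalizer N g⁻¹, fun θ hθ => ?_⟩
      refine h θ hθ _ ?_
      rw [conjIrr_eq_conjFunN, inv_inv]
    have h2 := T.inv_mem this
    rwa [inv_inv] at h2

/-- the `p`-part of the degree of a character over a block whose stabilizer has index prime to
`p` over `N` -/
theorem factorization_degree_of_over {p : ℕ} [Fact p.Prime] [M.IsPrime]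
    {b : Set (IrrCharacter N)} (hb : IsPBlock M b) {T : Subgroup G}
    (hT : ∀ x : G, x ∈ T ↔ StabilizesBlock N b x) (hidx : ¬ p ∣ N.relIndex T)
    (χ : IrrCharacter G) {ξ : IrrCharacter N} (hξ : ξ ∈ b)
    (hcon : classInner (fun n : N => (χ : G → ℂ) n) (ξ : N → ℂ) ≠ 0) :
    (charDegree (χ : G → ℂ)).factorization p =
      N.index.factorization p + (charDegree (ξ : N → ℂ)).factorization p := by
  have hp : p.Prime := Fact.out
  have hIT : inertiaSub N (ξ : N → ℂ) ≤ T :=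
    inertiaSub_le_of_mem N hb (isBlockStab_of_stabilizes N hT) hξ
  have hNI : N ≤ inertiaSub N (ξ : N → ℂ) :=
    le_inertiaSub N (Helper26.isClassFunction_of_isIrrCharacter ξ.2)
  obtain ⟨e, he, hdeg⟩ := clifford_degree N χ ξ hcon
  have h1 := Subgroup.relIndex_mul_relIndex N (inertiaSub N (ξ : N → ℂ)) T hNI hIT
  have h2 : ¬ p ∣ N.relIndex (inertiaSub N (ξ : N → ℂ)) := fun h =>
    hidx (h1 ▸ Dvd.dvd.mul_right h _)
  have h3 : ¬ p ∣ e := fun h => h2 (h.trans he)
  have h4 := Subgroup.relIndex_mul_index hNI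
  have hχ0 : charDegree (χ : G → ℂ) ≠ 0 := (irr_charDegree_pos χ).ne'
  have he0 : e ≠ 0 := by
    rintro rfl
    apply hχ0
    rw [hdeg]
    simp
  have hI0 : (inertiaSub N (ξ : N → ℂ)).index ≠ 0 := Subgroup.index_ne_zero_of_finite
  have hr0 : N.relIndex (inertiaSub N (ξ : N → ℂ)) ≠ 0 := by
    intro h0
    apply h2
    rw [h0]
    exact dvd_zero p
  have hξ0 : charDegree (ξ : N → ℂ) ≠ 0 := (irr_charDegree_pos ξ).ne'
  rw [hdeg, ← h4, Nat.factorization_mul (Nat.mul_ne_zero hI0 he0) hξ0,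
    Nat.factorization_mul hI0 he0, Nat.factorization_mul hr0 hI0]
  simp only [Finsupp.add_apply]
  rw [Nat.factorization_eq_zero_of_not_dvd h3, Nat.factorization_eq_zero_of_not_dvd h2]
  ring

/-- heights in a block and in a covered block agree when degrees differ by a constant -/
theorem height_zero_iff_of_cover {p : ℕ} {b : Set (IrrCharacter N)} {B : Set (IrrCharacter G)}
    (c : ℕ)
    (hover : ∀ χ ∈ B, ∃ ξ ∈ b, classInner (fun n : N => (χ : G → ℂ) n) (ξ : N → ℂ) ≠ 0)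
    (hunder : ∀ ξ ∈ b, ∃ χ ∈ B, classInner (fun n : N => (χ : G → ℂ) n) (ξ : N → ℂ) ≠ 0)
    (hdeg : ∀ χ ∈ B, ∀ ξ ∈ b, classInner (fun n : N => (χ : G → ℂ) n) (ξ : N → ℂ) ≠ 0 →
      (charDegree (χ : G → ℂ)).factorization p = c + (charDegree (ξ : N → ℂ)).factorization p) :
    (∀ χ ∈ B, blockHeight p B (χ : G → ℂ) = 0) ↔
      ∀ ξ ∈ b, blockHeight p b (ξ : N → ℂ) = 0 := by
  by_cases hbne : b.Nonempty
  swap
  · have hb0 : b = ∅ := Set.not_nonempty_iff_eq_empty.mp hbne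
    have hB0 : B = ∅ := by
      by_contra hne
      obtain ⟨χ, hχ⟩ := Set.nonempty_iff_ne_empty.mpr hne
      obtain ⟨ξ, hξ, -⟩ := hover χ hχ
      rw [hb0] at hξ
      exact hξ
    rw [hb0, hB0]
    simp
  obtain ⟨ξ₀, hξ₀⟩ := hbne
  have himage : (fun χ : IrrCharacter G => (charDegree (χ : G → ℂ)).factorization p) '' B =
      (fun s => c + s) ''
        ((fun ξ : IrrCharacter N => (charDegree (ξ : N → ℂ)).factorization p) '' b) := by
    ext k
    constructor
    · rintro ⟨χ, hχ, rfl⟩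
      obtain ⟨ξ, hξ, hcon⟩ := hover χ hχ
      exact ⟨_, ⟨ξ, hξ, rfl⟩, (hdeg χ hχ ξ hξ hcon).symm⟩
    · rintro ⟨_, ⟨ξ, hξ, rfl⟩, rfl⟩
      obtain ⟨χ, hχ, hcon⟩ := hunder ξ hξ
      exact ⟨χ, hχ, hdeg χ hχ ξ hξ hcon⟩
  have hne : ((fun ξ : IrrCharacter N => (charDegree (ξ : N → ℂ)).factorization p) ''
      b).Nonempty := ⟨_, ξ₀, hξ₀, rfl⟩
  have hsInf : sInf ((fun χ : IrrCharacter G => (charDegree (χ : G → ℂ)).factorization p) '' B) =
      c + sInf ((fun ξ : IrrCharacter N => (charDegree (ξ : N → ℂ)).factorization p) '' b) := by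
    rw [himage]
    apply le_antisymm
    · have hmemInf := Nat.sInf_mem hne
      exact Nat.sInf_le ⟨_, hmemInf, rfl⟩
    · have hne2 : ((fun s => c + s) ''
          ((fun ξ : IrrCharacter N => (charDegree (ξ : N → ℂ)).factorization p) '' b)).Nonempty :=
        hne.image _
      obtain ⟨s, hs, hs2⟩ := Nat.sInf_mem hne2
      rw [← hs2]
      exact Nat.add_le_add_left (Nat.sInf_le hs) c
  constructor
  · intro h ξ hξ
    obtain ⟨χ, hχ, hcon⟩ := hunder ξ hξ
    have h1 := h χ hχ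
    unfold blockHeight at h1 ⊢
    rw [hsInf, hdeg χ hχ ξ hξ hcon] at h1
    omega
  · intro h χ hχ
    obtain ⟨ξ, hξ, hcon⟩ := hover χ hχ
    have h1 := h ξ hξ
    unfold blockHeight at h1 ⊢
    rw [hsInf, hdeg χ hχ ξ hξ hcon]
    omega

end

section CentralProduct

variable {K : Type*} [Group K] [Fintype K] {M : Ideal AlgInt} (D : Subgroup K)

/-- in a block of `K = D C_K(D)` with defect group `D`, all heights are zero iff `D` is abelian -/
theorem central_product_heights {p : ℕ} [Fact p.Prime] (hM : IsPModular p M)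
    (hD : IsPGroup p D) (hK : D ⊔ Subgroup.centralizer (D : Set K) = ⊤)
    {b : Set (IrrCharacter K)} (hb : IsPBlock M b) (hDdef : IsDefectGroup p M b D) :
    (∀ ξ ∈ b, blockHeight p b (ξ : K → ℂ) = 0) ↔ ∀ x y : D, x * y = y * x := by
  have hp : p.Prime := Fact.out
  obtain ⟨⟨χ₀, ⟨hχ₀b, hχ₀D⟩, -⟩, -, -⟩ := central_product_block D hM hD hK hb hDdef
  obtain ⟨hchar, hex⟩ := central_product_characters D hM hD hK hb hDdef hχ₀b hχ₀D
  have hdeg : ∀ (θ : IrrCharacter K) (ζ : IrrCharacter D),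
      IsTwistOf D p (χ₀ : K → ℂ) (θ : K → ℂ) (ζ : D → ℂ) →
      charDegree (θ : K → ℂ) = charDegree (ζ : D → ℂ) * charDegree (χ₀ : K → ℂ) := by
    intro θ ζ h
    apply charDegree_eq_of_one_eq
    have h1 := h.1 1 1 (by
      rw [orderOf_one]
      exact hp.one_lt.ne' ∘ Nat.dvd_one.mp) (Commute.one_right _)
    rw [Subgroup.coe_one, mul_one] at h1
    rw [h1, irr_one_eq_charDegree ζ, irr_one_eq_charDegree χ₀]
    push_cast
    ring
  have hχ₀0 : charDegree (χ₀ : K → ℂ) ≠ 0 := (irr_charDegree_pos χ₀).ne'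
  constructor
  · intro h
    have hlin : ∀ ζ : IrrCharacter D, (ζ : D → ℂ) 1 = 1 := by
      intro ζ
      obtain ⟨θ, hθb, htw⟩ := hex ζ
      have h1 := h θ hθb
      unfold blockHeight at h1
      have h2 : sInf ((fun ψ : IrrCharacter K => (charDegree (ψ : K → ℂ)).factorization p) '' b) ≤
          (charDegree (χ₀ : K → ℂ)).factorization p := Nat.sInf_le ⟨χ₀, hχ₀b, rfl⟩
      have hζ0 : charDegree (ζ : D → ℂ) ≠ 0 := (irr_charDegree_pos ζ).ne'
      rw [hdeg θ ζ htw, Nat.factorization_mul hζ0 hχ₀0, Finsupp.add_apply] at h1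
      have h3 : (charDegree (ζ : D → ℂ)).factorization p = 0 := by omega
      obtain ⟨d, hd0, hd1, hdd⟩ := irr_degree_dvd_card ζ.2
      obtain ⟨k, hk⟩ := IsPGroup.iff_card.mp hD
      rw [hk] at hdd
      obtain ⟨j, -, hj⟩ := (Nat.dvd_prime_pow hp).mp hdd
      have h4 : charDegree (ζ : D → ℂ) = d := charDegree_eq_of_one_eq hd1
      rw [h4, hj, Nat.Prime.factorization_pow hp, Finsupp.single_eq_same] at h3
      rw [hd1, hj, h3, pow_zero, Nat.cast_one]
    exact (Cfsg.Agent.S0187.result (G := D)).mpr hlin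
  · intro hcomm ξ hξ
    have hlin := (Cfsg.Agent.S0187.result (G := D)).mp hcomm
    have hall : ∀ θ ∈ b, charDegree (θ : K → ℂ) = charDegree (χ₀ : K → ℂ) := by
      intro θ hθ
      obtain ⟨ζ, htw⟩ := (hchar θ).mp hθ
      rw [hdeg θ ζ htw, charDegree_eq_of_one_eq (d := 1) (by rw [hlin ζ, Nat.cast_one]), one_mul]
    unfold blockHeight
    have h1 : (charDegree (χ₀ : K → ℂ)).factorization p ≤
        sInf ((fun ψ : IrrCharacter K => (charDegree (ψ : K → ℂ)).factorization p) '' b) := by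
      have hne : ((fun ψ : IrrCharacter K => (charDegree (ψ : K → ℂ)).factorization p) ''
          b).Nonempty := ⟨_, χ₀, hχ₀b, rfl⟩
      obtain ⟨θ, hθ, hθ2⟩ := Nat.sInf_mem hne
      rw [← hθ2]
      show _ ≤ (charDegree (θ : K → ℂ)).factorization p
      rw [hall θ hθ]
    rw [hall ξ hξ]
    omega

end CentralProduct

section Main

variable {G : Type*} [Group G] [Fintype G] {M : Ideal AlgInt}

/-- **Reynolds' theorem** (S0972) -/
theorem reynolds {p : ℕ} [Fact p.Prime] (hM : IsPModular p M) {B : Set (IrrCharacter G)}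
    (hB : IsPBlock M B) (P : Subgroup G) [hPn : P.Normal] (hP : IsDefectGroup p M B P) :
    (∀ a ∈ P, ∀ c ∈ P, a * c = c * a) ↔ ∀ χ ∈ B, blockHeight p B (χ : G → ℂ) = 0 := by
  have hMprime : M.IsPrime := hM.2.1.isPrime
  have hMtop : M ≠ ⊤ := Ideal.IsPrime.ne_top hMprime
  have hPp : IsPGroup p P := isPGroup_of_isDefectGroup hP
  have hHn : (P ⊔ Subgroup.centralizer (P : Set G)).Normal := inferInstance
  obtain ⟨H, hH⟩ : ∃ H : Subgroup G, H = P ⊔ Subgroup.centralizer (P : Set G) := ⟨_, rfl⟩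
  have hHnorm : H.Normal := hH ▸ hHn
  have hPH : P ≤ H := hH ▸ le_sup_left
  have hCH : Subgroup.centralizer (P : Set G) ≤ H := hH ▸ le_sup_right
  have hNtop : Subgroup.normalizer (P : Set G) = ⊤ := Subgroup.normalizer_eq_top_iff.mpr hPn
  have hHN : H ≤ Subgroup.normalizer (P : Set G) := by
    rw [hNtop]
    exact le_top
  obtain ⟨b, hbP, hind⟩ := ext_first_main_exists hM hB hP hPH hCH hHN
  have hb : IsPBlock M b := hind.1
  obtain ⟨T, hT⟩ := exists_blockStab_normal H hb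
  have hT' : ∀ g : G, g ∈ T ↔ (g ∈ Subgroup.normalizer (P : Set G) ∧ ∀ θ ∈ b,
      ∀ θ' : IrrCharacter H,
        (∀ h h' : H, (h' : G) = g * h * g⁻¹ → (θ' : H → ℂ) h' = (θ : H → ℂ) h) → θ' ∈ b) := by
    intro g
    rw [hT, stabilizesBlock_iff]
    constructor
    · rintro ⟨hg, h⟩
      refine ⟨by rw [hNtop]; trivial, fun θ hθ θ' hθ' => ?_⟩
      have : θ' = conjIrr H g hg θ := (isConjCharOf_iff H g hg θ θ').mp hθ'
      rw [this]
      exact h θ hθ
    · rintro ⟨-, h⟩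
      refine ⟨normal_le_normalizer H g, fun χ hχ => ?_⟩
      exact h χ hχ _ (isConjCharOf_conjIrr H g _ χ)
  have hidx : ¬ p ∣ H.relIndex T := (inertial_index_iff hM hPp hH hb hbP hind hT').mp hP
  have huniq : ∀ χ : IrrCharacter G,
      (∃ θ ∈ b, classInner (fun n : H => (χ : G → ℂ) n) (θ : H → ℂ) ≠ 0) → χ ∈ B := by
    intro χ ⟨θ, hθ, hcon⟩
    subst hH
    have h1 := (Cfsg.Agent.S0971.result p M hM P hPp b hb).2 (blockOf M (χ : G → ℂ)) ⟨χ, rfl⟩
      ⟨χ, sameBlock_refl hMtop _, θ, hθ, by convert hcon⟩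
    have h2 : blockOf M (χ : G → ℂ) = B := induced_block_unique h1 hind
    rw [← h2]
    exact sameBlock_refl hMtop _
  have hunder : ∀ ξ ∈ b, ∃ χ ∈ B,
      classInner (fun n : H => (χ : G → ℂ) n) (ξ : H → ℂ) ≠ 0 := by
    intro ξ hξ
    obtain ⟨Θ, hΘ, hΘcon⟩ := Cfsg.Agent.Lib.Helper26.CH.exists_above H.subtype
      H.subtype_injective ξ.2
    exact ⟨⟨Θ, hΘ⟩, huniq ⟨Θ, hΘ⟩ ⟨ξ, hξ, hΘcon⟩, hΘcon⟩
  obtain ⟨ξ₀, hξ₀⟩ := block_nonempty hb
  obtain ⟨χ₀, hχ₀B, hcon₀⟩ := hunder ξ₀ hξ₀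
  have hover : ∀ χ ∈ B, ∃ ξ ∈ b,
      classInner (fun n : H => (χ : G → ℂ) n) (ξ : H → ℂ) ≠ 0 :=
    fun χ hχ => exists_over_of_covers H hb hB ⟨χ₀, hχ₀B, ξ₀, hξ₀, hcon₀⟩ hχ
  have hdeg : ∀ χ ∈ B, ∀ ξ ∈ b,
      classInner (fun n : H => (χ : G → ℂ) n) (ξ : H → ℂ) ≠ 0 →
      (charDegree (χ : G → ℂ)).factorization p =
        H.index.factorization p + (charDegree (ξ : H → ℂ)).factorization p :=
    fun χ _ ξ hξ hcon => factorization_degree_of_over H hb hT hidx χ hξ hcon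
  have hiff := height_zero_iff_of_cover H (H.index.factorization p) hover hunder hdeg
  have hDp : IsPGroup p (P.subgroupOf H) := hPp.comap_subtype
  have hK : P.subgroupOf H ⊔ Subgroup.centralizer ((P.subgroupOf H : Subgroup H) : Set H) = ⊤ := by
    rw [eq_top_iff]
    intro h _
    obtain ⟨y, hy, c, hc, hyc⟩ := exists_mul_of_mem_sup (P := P) (by rw [← hH]; exact h.2)
    have hyH : y ∈ H := hPH hy
    have hcH : c ∈ H := hCH hc
    have hh : h = (⟨y, hyH⟩ : H) * ⟨c, hcH⟩ := Subtype.ext hyc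
    rw [hh]
    apply Subgroup.mul_mem
    · exact Subgroup.mem_sup_left (Subgroup.mem_subgroupOf.mpr hy)
    · apply Subgroup.mem_sup_right
      rw [Subgroup.mem_centralizer_iff]
      intro x hx
      apply Subtype.ext
      exact (Subgroup.mem_centralizer_iff.mp hc) x (Subgroup.mem_subgroupOf.mp hx)
  have hC := central_product_heights (P.subgroupOf H) hM hDp hK hb hbP
  rw [hiff, hC]
  constructor
  · intro h x y
    apply Subtype.ext
    apply Subtype.ext
    exact h _ (Subgroup.mem_subgroupOf.mp x.2) _ (Subgroup.mem_subgroupOf.mp y.2)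
  · intro h a ha c hc
    have h1 := h ⟨⟨a, hPH ha⟩, Subgroup.mem_subgroupOf.mpr ha⟩
      ⟨⟨c, hPH hc⟩, Subgroup.mem_subgroupOf.mpr hc⟩
    exact congrArg (fun z : P.subgroupOf H => ((z : H) : G)) h1

end Main

end Cfsg.Agent.Lib.Helper4
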