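import Mathlib
import Cfsg.Prelude.Def_Local
import Cfsg.Prelude.Def_Solvable
import Cfsg.Agent.Lib.Helper24.Tate
import Cfsg.Agent.Lib.Helper20.PComponents
import Cfsg.Agent.Lib.Helper3.PSolvable
import Cfsg.Agent.Lib.Helper1.OmegaOne

set_option autoImplicit false

/-!
# Normal subgroups meeting a Sylow `p`-subgroup inside its Frattini subgroup (helper4)

Consequences of Tate's theorem (helper24): if `O_{p'}(G) ≤ L ⊴ G` and `L ∩ P ≤ Φ(P)`, then
`O_{p'}(G ⧸ L) = 1` in the sense that no normal subgroup `Y > L` has `p'`-index over `L`, and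
`L ≠ G` if `p ∣ |G|`.
-/

namespace Cfsg.Agent.Lib.Helper4

open Cfsg

section

variable {G : Type*} [Group G] [Finite G] {p : ℕ} [Fact p.Prime]

theorem eq_of_frattini_of_coprime_relIndex (P : Sylow p G) (L Y : Subgroup G) [hLn : L.Normal]
    [hYn : Y.Normal] (hNL : pPrimeCore p G ≤ L) (hLY : L ≤ Y)
    (hLP : L ⊓ (P : Subgroup G) ≤ (frattini P).map (P : Subgroup G).subtype)
    (hidx : ¬ p ∣ L.relIndex Y) : Y = L := by
  have hp : p.Prime := Fact.out
  -- `Y ∩ P ≤ L`
  have hYP : Y ⊓ (P : Subgroup G) ≤ L := by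
    intro y hy
    obtain ⟨hyY, hyP⟩ := Subgroup.mem_inf.mp hy
    obtain ⟨k, hk⟩ := (IsPGroup.iff_orderOf.mp P.2) ⟨y, hyP⟩
    rw [Subgroup.orderOf_mk] at hk
    have h1 : orderOf (QuotientGroup.mk' L y) ∣ p ^ k := by
      rw [← hk]
      exact orderOf_map_dvd _ y
    have h2 : orderOf (QuotientGroup.mk' L y) ∣ L.relIndex Y := by
      have h3 := Subgroup.relIndex_ker (K := Y) (QuotientGroup.mk' L)
      rw [QuotientGroup.ker_mk'] at h3
      rw [h3]
      exact Subgroup.orderOf_dvd_natCard _ (Subgroup.mem_map_of_mem _ hyY)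
    have hcop : (p ^ k).Coprime (L.relIndex Y) :=
      Nat.Coprime.pow_left k ((Nat.Prime.coprime_iff_not_dvd hp).mpr hidx)
    have h4 : orderOf (QuotientGroup.mk' L y) = 1 :=
      Nat.eq_one_of_dvd_coprimes hcop h1 h2
    rw [orderOf_eq_one_iff] at h4
    exact (QuotientGroup.eq_one_iff y).mp h4
  have hYΦ : Y ⊓ (P : Subgroup G) ≤ (frattini P).map (P : Subgroup G).subtype :=
    fun y hy => hLP (Subgroup.mem_inf.mpr ⟨hYP hy, (Subgroup.mem_inf.mp hy).2⟩)
  obtain ⟨Q, T, hTn, hTQ⟩ := Cfsg.Agent.Lib.Helper24.tate_hasNormalPComplement P Y hYΦ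
  have hcm := hTQ.card_mul_card
  have hQ : Nat.card (Q : Subgroup Y) = p ^ (Nat.card Y).factorization p :=
    Sylow.card_eq_multiplicity Q
  have hTcop : (Nat.card T).Coprime p := by
    rw [← hTQ.index_eq_card]
    exact ((Nat.Prime.coprime_iff_not_dvd hp).mpr (Sylow.not_dvd_index Q)).symm
  have hTle : T ≤ pPrimeCore p Y := Cfsg.Agent.Lib.Helper2.le_pPrimeCore hTn hTcop
  have hYsub : Y.IsSubnormal := Subgroup.Normal.isSubnormal hYn
  have hmap := Cfsg.Agent.Lib.Helper20.map_pPrimeCore_subnormal p Y hYsub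
  have hcardcore : Nat.card (pPrimeCore p Y) ∣ Nat.card (pPrimeCore p G) := by
    rw [← Subgroup.card_map_of_injective Y.subtype_injective, hmap]
    exact Subgroup.card_dvd_of_le inf_le_left
  have hTcard : Nat.card T ≤ Nat.card (pPrimeCore p G) :=
    Nat.le_of_dvd Nat.card_pos ((Subgroup.card_dvd_of_le hTle).trans hcardcore)
  -- `|Y| = |L| * r`
  have hYL : Nat.card L * L.relIndex Y = Nat.card Y := by
    have := Subgroup.relIndex_mul_relIndex ⊥ L Y bot_le hLY
    rwa [Subgroup.relIndex_bot_left, Subgroup.relIndex_bot_left] at this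
  have hr0 : L.relIndex Y ≠ 0 := by
    intro h0
    rw [h0, mul_zero] at hYL
    exact Nat.card_pos.ne' hYL.symm
  have hfac : (Nat.card Y).factorization p = (Nat.card L).factorization p := by
    rw [← hYL, Nat.factorization_mul Nat.card_pos.ne' hr0, Finsupp.add_apply,
      Nat.factorization_eq_zero_of_not_dvd hidx, add_zero]
  have hNcop : (Nat.card (pPrimeCore p G)).Coprime p :=
    Cfsg.Agent.Lib.Helper2.pPrimeCore_coprime p
  have hLge : Nat.card (pPrimeCore p G) * p ^ (Nat.card L).factorization p ∣ Nat.card L :=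
    Nat.Coprime.mul_dvd_of_dvd_of_dvd (Nat.Coprime.pow_right _ hNcop)
      (Subgroup.card_dvd_of_le hNL) (Nat.ordProj_dvd _ _)
  have hle : Nat.card Y ≤ Nat.card L := by
    calc Nat.card Y = Nat.card T * Nat.card (Q : Subgroup Y) := hcm.symm
      _ ≤ Nat.card (pPrimeCore p G) * p ^ (Nat.card L).factorization p := by
        rw [hQ, hfac]
        exact Nat.mul_le_mul_right _ hTcard
      _ ≤ Nat.card L := Nat.le_of_dvd Nat.card_pos hLge
  exact (Subgroup.eq_of_le_of_card_ge hLY hle).symm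

theorem ne_top_of_frattini (P : Sylow p G) (L : Subgroup G) (hpG : p ∣ Nat.card G)
    (hLP : L ⊓ (P : Subgroup G) ≤ (frattini P).map (P : Subgroup G).subtype) : L ≠ ⊤ := by
  intro h
  rw [h, top_inf_eq] at hLP
  have hne : (P : Subgroup G) ≠ ⊥ := Sylow.ne_bot_of_dvd_card P hpG
  exact absurd hLP (not_le_of_gt (Cfsg.Agent.Lib.Helper1.map_frattini_lt (P : Subgroup G) hne))

/-- two distinct primes cannot both have the Frattini property for the same normal subgroup of a
`p`-solvable group -/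
theorem prime_eq_of_frattini {q : ℕ} [Fact q.Prime] (hps : IsPSolvable p G)
    (hpG : p ∣ Nat.card G) (P : Sylow p G) (Q : Sylow q G) (L : Subgroup G) [hLn : L.Normal]
    (hNp : pPrimeCore p G ≤ L) (hNq : pPrimeCore q G ≤ L)
    (hLP : L ⊓ (P : Subgroup G) ≤ (frattini P).map (P : Subgroup G).subtype)
    (hLQ : L ⊓ (Q : Subgroup G) ≤ (frattini Q).map (Q : Subgroup G).subtype) : p = q := by
  have hp : p.Prime := Fact.out
  have hq : q.Prime := Fact.out
  by_contra hne
  have hLtop : L < ⊤ := lt_top_iff_ne_top.mpr (ne_top_of_frattini P L hpG hLP)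
  obtain ⟨Y, hYn, hLY, _, hY⟩ := Cfsg.Agent.Lib.Helper3.exists_normal_between hp hps hLn
    (inferInstance : (⊤ : Subgroup G).Normal) hLtop
  rcases hY with ⟨m, hm⟩ | hcop
  · have hqd : ¬ q ∣ L.relIndex Y := by
      rw [hm]
      intro hd
      have := (Nat.prime_dvd_prime_iff_eq hq hp).mp (hq.dvd_of_dvd_pow hd)
      exact hne this.symm
    exact hLY.ne (eq_of_frattini_of_coprime_relIndex Q L Y hNq hLY.le hLQ hqd).symm
  · have hpd : ¬ p ∣ L.relIndex Y := by
      intro hd
      have h1 : p ∣ Nat.gcd (L.relIndex Y) p := Nat.dvd_gcd hd dvd_rfl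
      rw [Nat.Coprime.gcd_eq_one hcop] at h1
      exact hp.one_lt.ne' (Nat.dvd_one.mp h1)
    exact hLY.ne (eq_of_frattini_of_coprime_relIndex P L Y hNp hLY.le hLP hpd).symm

end

end Cfsg.Agent.Lib.Helper4
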