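import Mathlib
import Cfsg.Agent.Lib.Helper4.RamDvd
import Cfsg.Agent.Lib.Helper4.Deflate
import Cfsg.Agent.Lib.Helper4.CentralDefect
import Cfsg.Agent.Lib.Helper4.BrauerInert
import Cfsg.Agent.Lib.Helper4.BlockPassman
import Cfsg.Agent.Lib.Helper4.BrauerMaxCrit

set_option autoImplicit false

/-!
# Brauer pairs carrying a weight (helper4, S4694)
-/

namespace Cfsg.Agent.Lib.Helper4

open Cfsg Cfsg.Agent.Lib.Helper28 Cfsg.Agent.Lib.Helper26
open scoped ComplexConjugate Classical

section General

/-- averaging along a surjective homomorphism -/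
theorem avg_comp_surjective {A B : Type*} [Group A] [Group B] [Fintype A] [Fintype B]
    (π : A →* B) (hπ : Function.Surjective π) (F : B → ℂ) :
    (Nat.card A : ℂ)⁻¹ * ∑ a : A, F (π a) = (Nat.card B : ℂ)⁻¹ * ∑ b : B, F b := by
  obtain ⟨c, hc⟩ : ∃ c : ℕ, c = (Finset.univ.filter (fun a : A => π a = 1)).card := ⟨_, rfl⟩
  have hfib : ∀ b : B, (Finset.univ.filter (fun a : A => π a = b)).card = c := by
    intro b
    rw [hc]
    exact MonoidHom.card_fiber_eq_of_mem_range π (hπ b) ⟨1, map_one π⟩
  have h1 : ∑ a : A, F (π a) = ∑ b : B, (c : ℂ) * F b := by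
    rw [← Finset.sum_fiberwise Finset.univ π (fun a => F (π a))]
    refine Finset.sum_congr rfl fun b _ => ?_
    rw [Finset.sum_congr rfl (fun a ha => by rw [(Finset.mem_filter.1 ha).2] :
      ∀ a ∈ Finset.univ.filter (fun a : A => π a = b), F (π a) = F b),
      Finset.sum_const, hfib b, nsmul_eq_mul]
  have h2 : Nat.card A = c * Nat.card B := by
    rw [Nat.card_eq_fintype_card, Nat.card_eq_fintype_card, ← Finset.card_univ (α := A),
      Finset.card_eq_sum_card_fiberwise (f := π) (t := Finset.univ) (fun a _ => Finset.mem_univ _)]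
    rw [Finset.sum_congr rfl (fun b _ => hfib b), Finset.sum_const, Finset.card_univ, smul_eq_mul,
      mul_comm]
  have hB0 : (Nat.card B : ℂ) ≠ 0 := by
    have : Nat.card B ≠ 0 := Nat.card_pos.ne'
    exact_mod_cast this
  have hc0 : (c : ℂ) ≠ 0 := by
    have : c ≠ 0 := by
      rintro rfl
      have : Nat.card A ≠ 0 := Nat.card_pos.ne'
      rw [h2, zero_mul] at this
      exact this rfl
    exact_mod_cast this
  rw [h1, ← Finset.mul_sum, h2]
  push_cast
  field_simp

theorem classInner_comp_surjective {A B : Type*} [Group A] [Group B] [Fintype A] [Fintype B]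
    (π : A →* B) (hπ : Function.Surjective π) (f g : B → ℂ) :
    classInner (f ∘ π) (g ∘ π) = classInner f g := by
  unfold classInner
  exact avg_comp_surjective π hπ (fun b => f b * conj (g b))

variable {G : Type*} [Group G] [Fintype G]

/-- the constituents of the restriction of a character of `p`-defect zero to a normal subgroup
have `p`-defect zero -/
theorem defect_zero_constituent {p : ℕ} [Fact p.Prime] (N : Subgroup G) [N.Normal]
    (χ : IrrCharacter G)
    (hχ : (charDegree (χ : G → ℂ)).factorization p = (Nat.card G).factorization p)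
    (θ : IrrCharacter N) (hcon : classInner (fun n : N => (χ : G → ℂ) n) (θ : N → ℂ) ≠ 0) :
    (charDegree (θ : N → ℂ)).factorization p = (Nat.card N).factorization p := by
  obtain ⟨r, hr, hdeg⟩ := degree_ratio_dvd_index N χ θ hcon
  have hχ0 : charDegree (χ : G → ℂ) ≠ 0 := (irr_charDegree_pos χ).ne'
  have hθ0 : charDegree (θ : N → ℂ) ≠ 0 := (irr_charDegree_pos θ).ne'
  have hr0 : r ≠ 0 := by
    rintro rfl
    apply hχ0
    rw [hdeg, zero_mul]
  have h1 : r.factorization p ≤ N.index.factorization p :=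
    (Nat.factorization_le_iff_dvd hr0 Subgroup.index_ne_zero_of_finite).2 hr p
  have h2 : (charDegree (θ : N → ℂ)).factorization p ≤ (Nat.card N).factorization p := by
    obtain ⟨d, hd0, hd1, hdd⟩ := irr_degree_dvd_card θ.2
    rw [charDegree_eq_of_one_eq hd1]
    exact (Nat.factorization_le_iff_dvd hd0.ne' Nat.card_pos.ne').2 hdd p
  have h3 : (Nat.card G).factorization p =
      (Nat.card N).factorization p + N.index.factorization p := by
    rw [← Subgroup.card_mul_index N, Nat.factorization_mul Nat.card_pos.ne'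
      Subgroup.index_ne_zero_of_finite]
    rfl
  rw [hdeg, Nat.factorization_mul hr0 hθ0, Finsupp.add_apply] at hχ
  omega

/-- a group with an irreducible character of `p`-defect zero has no nontrivial normal
`p`-subgroup -/
theorem normal_pSubgroup_eq_bot_of_defect_zero {p : ℕ} [Fact p.Prime] (R : Subgroup G) [R.Normal]
    (hR : IsPGroup p R) (χ : IrrCharacter G)
    (hχ : (charDegree (χ : G → ℂ)).factorization p = (Nat.card G).factorization p) :
    R = ⊥ := by
  have hp : p.Prime := Fact.out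
  obtain ⟨θ, hcon⟩ := exists_constituent_restrict R χ.2
  have h1 := defect_zero_constituent R χ hχ θ hcon
  obtain ⟨k, hk⟩ := IsPGroup.iff_card.mp hR
  obtain ⟨d, hd0, hd1, hdd⟩ := irr_degree_dvd_card θ.2
  rw [hk] at hdd
  obtain ⟨j, -, hj⟩ := (Nat.dvd_prime_pow hp).mp hdd
  rw [charDegree_eq_of_one_eq hd1, hj, hk, Nat.Prime.factorization_pow hp,
    Nat.Prime.factorization_pow hp, Finsupp.single_eq_same, Finsupp.single_eq_same] at h1
  -- `θ(1) = |R|`, and `θ(1)² ≤ |R|`
  have h2 := sum_normSq_irrChar θ.2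
  have h3 : Complex.normSq ((θ : R → ℂ) 1) ≤ ∑ g : R, Complex.normSq ((θ : R → ℂ) g) :=
    Finset.single_le_sum (f := fun g : R => Complex.normSq ((θ : R → ℂ) g))
      (fun g _ => Complex.normSq_nonneg _) (Finset.mem_univ 1)
  rw [h2, hd1, hj, h1, hk] at h3
  have h4 : ((p ^ k : ℕ) : ℝ) * ((p ^ k : ℕ) : ℝ) ≤ ((p ^ k : ℕ) : ℝ) := by
    have : Complex.normSq (((p ^ k : ℕ) : ℂ)) = ((p ^ k : ℕ) : ℝ) * ((p ^ k : ℕ) : ℝ) := by
      rw [Complex.normSq_natCast]
    rw [← this]
    exact h3
  have h5 : p ^ k * p ^ k ≤ p ^ k := by exact_mod_cast h4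
  have h6 : p ^ k = 1 := by
    have hpos : 0 < p ^ k := pos_of_ne_zero (pow_ne_zero _ hp.ne_zero)
    nlinarith
  rw [h6] at hk
  exact (Subgroup.card_eq_one).mp hk

end General

section Weight

variable {Γ : Type*} [Group Γ] [Fintype Γ]

/-- a character with the normal `p`-subgroup `Q` in its kernel and of defect zero modulo `Q`,
deflated to `Γ ⧸ Q` -/
theorem exists_deflate_defect_zero {p : ℕ} [Fact p.Prime] (Q : Subgroup Γ) [Q.Normal]
    (χ : IrrCharacter Γ) (hker : ∀ q ∈ Q, (χ : Γ → ℂ) q = (χ : Γ → ℂ) 1)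
    (hdeg : (charDegree (χ : Γ → ℂ)).factorization p + (Nat.card Q).factorization p =
      (Nat.card Γ).factorization p) :
    ∃ χ' : IrrCharacter (Γ ⧸ Q), (∀ g : Γ, (χ' : Γ ⧸ Q → ℂ) (QuotientGroup.mk g) =
      (χ : Γ → ℂ) g) ∧
      (charDegree (χ' : Γ ⧸ Q → ℂ)).factorization p = (Nat.card (Γ ⧸ Q)).factorization p := by
  obtain ⟨χ', hχ'⟩ := exists_deflate_irr Q χ hker
  refine ⟨χ', hχ', ?_⟩
  have h1 : charDegree (χ' : Γ ⧸ Q → ℂ) = charDegree (χ : Γ → ℂ) := by
    unfold charDegree
    rw [← hχ' 1]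
    rfl
  have h2 : (Nat.card Γ).factorization p =
      (Nat.card Q).factorization p + (Nat.card (Γ ⧸ Q)).factorization p := by
    rw [← Subgroup.card_mul_index Q, Nat.factorization_mul Nat.card_pos.ne'
      Subgroup.index_ne_zero_of_finite, Subgroup.index_eq_card]
    rfl
  rw [h1]
  omega

/-- **S4694, second part**: `Q` contains every normal `p`-subgroup -/
theorem normal_pSubgroup_le_of_weight {p : ℕ} [Fact p.Prime] (Q : Subgroup Γ) [Q.Normal]
    (χ : IrrCharacter Γ) (hker : ∀ q ∈ Q, (χ : Γ → ℂ) q = (χ : Γ → ℂ) 1)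
    (hdeg : (charDegree (χ : Γ → ℂ)).factorization p + (Nat.card Q).factorization p =
      (Nat.card Γ).factorization p) (R : Subgroup Γ) [hRn : R.Normal] (hR : IsPGroup p R) :
    R ≤ Q := by
  have : Fintype (Γ ⧸ Q) := Fintype.ofFinite _
  obtain ⟨χ', -, hχ'⟩ := exists_deflate_defect_zero Q χ hker hdeg
  have hn : (R.map (QuotientGroup.mk' Q)).Normal :=
    Subgroup.Normal.map hRn _ (QuotientGroup.mk'_surjective Q)
  have hp' : IsPGroup p (R.map (QuotientGroup.mk' Q)) := hR.map _
  have hbot := normal_pSubgroup_eq_bot_of_defect_zero (R.map (QuotientGroup.mk' Q)) hp' χ' hχ'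
  rw [Subgroup.map_eq_bot_iff, QuotientGroup.ker_mk'] at hbot
  exact hbot

/-- **S4694, first part, abstractly**: a constituent on a normal subgroup `N` of full defect
modulo `N ∩ Q` -/
theorem exists_constituent_of_weight {p : ℕ} [Fact p.Prime] (Q : Subgroup Γ) [Q.Normal]
    (χ : IrrCharacter Γ) (hker : ∀ q ∈ Q, (χ : Γ → ℂ) q = (χ : Γ → ℂ) 1)
    (hdeg : (charDegree (χ : Γ → ℂ)).factorization p + (Nat.card Q).factorization p =
      (Nat.card Γ).factorization p) (N : Subgroup Γ) [hNn : N.Normal] :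
    ∃ θ : IrrCharacter N, classInner (fun n : N => (χ : Γ → ℂ) n) (θ : N → ℂ) ≠ 0 ∧
      (charDegree (θ : N → ℂ)).factorization p + (Nat.card (Q.subgroupOf N)).factorization p =
        (Nat.card N).factorization p := by
  have : Fintype (Γ ⧸ Q) := Fintype.ofFinite _
  obtain ⟨χ', hχ'val, hχ'⟩ := exists_deflate_defect_zero Q χ hker hdeg
  have hn : (N.map (QuotientGroup.mk' Q)).Normal :=
    Subgroup.Normal.map hNn _ (QuotientGroup.mk'_surjective Q)
  obtain ⟨θ', hcon'⟩ := exists_constituent_restrict (N.map (QuotientGroup.mk' Q)) χ'.2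
  have hθ'deg := defect_zero_constituent (N.map (QuotientGroup.mk' Q)) χ' hχ' θ' hcon'
  obtain ⟨π, hπ⟩ : ∃ π : N →* N.map (QuotientGroup.mk' Q),
      π = (QuotientGroup.mk' Q).subgroupMap N := ⟨_, rfl⟩
  have hπs : Function.Surjective π := by
    rw [hπ]
    exact MonoidHom.subgroupMap_surjective _ _
  have hπcoe : ∀ n : N, ((π n : N.map (QuotientGroup.mk' Q)) : Γ ⧸ Q) =
      QuotientGroup.mk (n : Γ) := by
    intro n
    rw [hπ]
    rfl
  have hθirr : IsIrrCharacter N ((θ' : N.map (QuotientGroup.mk' Q) → ℂ) ∘ π) :=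
    Cfsg.Agent.Lib.Helper2.isIrrCharacter_comp_of_surjective θ'.2 π hπs
  refine ⟨⟨_, hθirr⟩, ?_, ?_⟩
  · have h1 := classInner_comp_surjective π hπs
      ((χ' : Γ ⧸ Q → ℂ) ∘ (N.map (QuotientGroup.mk' Q)).subtype)
      (θ' : N.map (QuotientGroup.mk' Q) → ℂ)
    have h2 : ((χ' : Γ ⧸ Q → ℂ) ∘ (N.map (QuotientGroup.mk' Q)).subtype) ∘ π =
        fun n : N => (χ : Γ → ℂ) n := by
      funext n
      show (χ' : Γ ⧸ Q → ℂ) ((π n : N.map (QuotientGroup.mk' Q)) : Γ ⧸ Q) = _
      rw [hπcoe, hχ'val]
    rw [h2] at h1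
    show classInner (fun n : N => (χ : Γ → ℂ) n)
      ((θ' : N.map (QuotientGroup.mk' Q) → ℂ) ∘ π) ≠ 0
    rw [h1]
    exact hcon'
  · have hd : charDegree ((θ' : N.map (QuotientGroup.mk' Q) → ℂ) ∘ π) =
        charDegree (θ' : N.map (QuotientGroup.mk' Q) → ℂ) := by
      unfold charDegree
      rw [Function.comp_apply, map_one]
    show (charDegree ((θ' : N.map (QuotientGroup.mk' Q) → ℂ) ∘ π)).factorization p + _ = _
    rw [hd, hθ'deg]
    have hker : π.ker = Q.subgroupOf N := by
      ext n
      rw [MonoidHom.mem_ker, Subgroup.mem_subgroupOf]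
      constructor
      · intro h
        have h1 := congrArg (fun x : N.map (QuotientGroup.mk' Q) => (x : Γ ⧸ Q)) h
        simp only [hπcoe] at h1
        exact (QuotientGroup.eq_one_iff _).mp h1
      · intro h
        apply Subtype.ext
        rw [hπcoe]
        exact (QuotientGroup.eq_one_iff _).mpr h
    have hcard : Nat.card (N.map (QuotientGroup.mk' Q)) = (Q.subgroupOf N).index := by
      rw [← hker, Subgroup.index_eq_card]
      exact Nat.card_congr (QuotientGroup.quotientKerEquivOfSurjective π hπs).symm.toEquiv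
    rw [hcard, ← Subgroup.card_mul_index (Q.subgroupOf N),
      Nat.factorization_mul Nat.card_pos.ne' Subgroup.index_ne_zero_of_finite, Finsupp.add_apply]
    ring

end Weight

section Main

variable {G : Type*} [Group G] [Fintype G] {M : Ideal AlgInt}

/-- a member of the block with the idempotent of a set `c` of characters of a normal subgroup
lies over `c` -/
theorem exists_over_of_same_idem (N : Subgroup G) [hN : N.Normal]
    {c : Set (IrrCharacter N)} {B : Set (IrrCharacter G)}
    (hBc : ∀ g : G, blockCoeff B g = subgroupBlockCoeff N c g) {χ : IrrCharacter G}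
    (hχ : χ ∈ B) :
    ∃ θ ∈ c, classInner ((χ : G → ℂ) ∘ N.subtype) ((θ : IrrCharacter N) : N → ℂ) ≠ 0 := by
  have hBF : blockCoeff B = extZero N (blockCoeff c) := by
    funext g
    rw [hBc g]
    rfl
  have hBS : B = idemSupport (extZero N (blockCoeff c)) := by
    rw [← hBF, idemSupport_blockCoeff]
  by_contra hnone
  push Not at hnone
  have h0 := omegaF_extZero_of_none N (χ : G → ℂ) c hnone
  rw [hBS] at hχ
  have h1 : omegaF (χ : G → ℂ) (extZero N (blockCoeff c)) = 1 := hχ
  rw [h0] at h1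
  exact zero_ne_one h1

/-- **S4694** -/
theorem weight_pair {p : ℕ} [Fact p.Prime] (hM : IsPModular p M) {B : Set (IrrCharacter G)}
    {Q : Subgroup G} {e : Set (IrrCharacter (Subgroup.centralizer (Q : Set G)))}
    (hQe : IsBrauerPairOf p M B Q e) {T : Subgroup G}
    (hT : ∀ y : G, y ∈ T ↔ y ∈ Subgroup.normalizer (Q : Set G) ∧
      StabilizesBlock (Subgroup.centralizer (Q : Set G)) e y)
    {F' : Set (IrrCharacter T)}
    (hF'e : ∀ t : T, blockCoeff F' t =
      subgroupBlockCoeff (Subgroup.centralizer (Q : Set G)) e (t : G))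
    {χ : IrrCharacter T} (hχ : χ ∈ F')
    (hχQ : ∀ q : G, q ∈ Q → ∀ t : T, ∀ t' : T, (t' : G) = q * (t : G) →
      (χ : T → ℂ) t' = (χ : T → ℂ) t)
    (hdeg : (charDegree (χ : T → ℂ)).factorization p + (Nat.card Q).factorization p =
      (Nat.card T).factorization p) :
    IsDefectGroup p M e ((Q ⊓ Subgroup.centralizer (Q : Set G)).subgroupOf
      (Subgroup.centralizer (Q : Set G))) ∧
    ∀ R : Subgroup G, R ≤ T → IsPGroup p R →
      (∀ t ∈ T, t ∈ Subgroup.normalizer (R : Set G)) → R ≤ Q := by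
  have hMprime : M.IsPrime := hM.2.1.isPrime
  have hMtop : M ≠ ⊤ := Ideal.IsPrime.ne_top hMprime
  have hQp : IsPGroup p Q := hQe.1.1
  have he : IsPBlock M e := hQe.1.2
  have hQT : Q ≤ T := fun u hu =>
    (hT u).mpr ⟨Subgroup.le_normalizer hu, stabilizesBlock_of_mem Q e hu⟩
  have hCT : Subgroup.centralizer (Q : Set G) ≤ T := fun u hu =>
    (hT u).mpr ⟨Subgroup.centralizer_le_normalizer _ hu, stabilizesBlock_of_mem_centralizer Q e hu⟩
  have hTN : T ≤ Subgroup.normalizer (Q : Set G) := fun y hy => ((hT y).mp hy).1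
  have hQn : (Q.subgroupOf T).Normal := Subgroup.normal_subgroupOf_of_le_normalizer hTN
  have hCn : ((Subgroup.centralizer (Q : Set G)).subgroupOf T).Normal :=
    Subgroup.normal_subgroupOf_of_le_normalizer
      (hTN.trans (normalizer_le_normalizer_centralizer Q))
  have hker' : ∀ q ∈ Q.subgroupOf T, (χ : T → ℂ) q = (χ : T → ℂ) 1 := by
    intro q hq
    exact hχQ (q : G) (Subgroup.mem_subgroupOf.mp hq) 1 q (by simp)
  have hdeg' : (charDegree (χ : T → ℂ)).factorization p +
      (Nat.card (Q.subgroupOf T)).factorization p = (Nat.card T).factorization p := by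
    rw [Cfsg.Agent.Lib.Helper4.card_subgroupOf_of_le hQT]
    exact hdeg
  constructor
  · obtain ⟨θ', hcon', hθ'deg⟩ := exists_constituent_of_weight (Q.subgroupOf T) χ hker' hdeg'
      ((Subgroup.centralizer (Q : Set G)).subgroupOf T)
    have hst : ∀ t : T, StabilizesBlock ((Subgroup.centralizer (Q : Set G)).subgroupOf T)
        (subBlock hCT e) t := fun t => stabilizesBlock_subBlock hCT ((hT t).mp t.2).2
    have hF'c : ∀ t : T, blockCoeff F' t =
        subgroupBlockCoeff ((Subgroup.centralizer (Q : Set G)).subgroupOf T) (subBlock hCT e) t :=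
      fun t => by rw [hF'e, subgroupBlockCoeff_subBlock]
    obtain ⟨θ₁, hθ₁, hcon₁⟩ := exists_over_of_same_idem
      ((Subgroup.centralizer (Q : Set G)).subgroupOf T) hF'c hχ
    have hθ'c : θ' ∈ subBlock hCT e :=
      constituents_mem_of_stabilizes ((Subgroup.centralizer (Q : Set G)).subgroupOf T) hst χ.2
        hθ₁ hcon₁ θ' hcon'
    obtain ⟨θ, hθdef⟩ : ∃ θ : IrrCharacter (Subgroup.centralizer (Q : Set G)),
        θ = irrEquiv (Subgroup.subgroupOfEquivOfLe hCT).symm θ' := ⟨_, rfl⟩
    have hθe : θ ∈ e := by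
      rw [hθdef]
      exact hθ'c
    have hθd : charDegree (θ : Subgroup.centralizer (Q : Set G) → ℂ) =
        charDegree (θ' : (Subgroup.centralizer (Q : Set G)).subgroupOf T → ℂ) := by
      rw [hθdef, charDegree_irrEquiv]
    have hc1 : Nat.card ((Subgroup.centralizer (Q : Set G)).subgroupOf T) =
        Nat.card (Subgroup.centralizer (Q : Set G)) :=
      Cfsg.Agent.Lib.Helper4.card_subgroupOf_of_le hCT
    have hc2 : Nat.card ((Q.subgroupOf T).subgroupOf
        ((Subgroup.centralizer (Q : Set G)).subgroupOf T)) =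
        Nat.card (Q ⊓ Subgroup.centralizer (Q : Set G) : Subgroup G) := by
      have h0 : (Q.subgroupOf T).subgroupOf ((Subgroup.centralizer (Q : Set G)).subgroupOf T) =
          (Q.subgroupOf T ⊓ (Subgroup.centralizer (Q : Set G)).subgroupOf T).subgroupOf
            ((Subgroup.centralizer (Q : Set G)).subgroupOf T) :=
        (Subgroup.inf_subgroupOf_right _ _).symm
      rw [h0, Cfsg.Agent.Lib.Helper4.card_subgroupOf_of_le inf_le_right]
      have h1 : Q.subgroupOf T ⊓ (Subgroup.centralizer (Q : Set G)).subgroupOf T =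
          (Q ⊓ Subgroup.centralizer (Q : Set G)).subgroupOf T := by
        ext x
        simp only [Subgroup.mem_inf, Subgroup.mem_subgroupOf]
      rw [h1, Cfsg.Agent.Lib.Helper4.card_subgroupOf_of_le (inf_le_left.trans hQT)]
    rw [hc1, hc2, ← hθd] at hθ'deg
    -- `Z(Q)` is a defect group of `e`
    obtain ⟨Z, hZ⟩ : ∃ Z : Subgroup (Subgroup.centralizer (Q : Set G)),
        Z = (Q ⊓ Subgroup.centralizer (Q : Set G)).subgroupOf
          (Subgroup.centralizer (Q : Set G)) := ⟨_, rfl⟩
    rw [← hZ]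
    have hZp : IsPGroup p Z := by
      rw [hZ]
      exact (hQp.to_le inf_le_left).comap_subtype
    have hZc : Z ≤ Subgroup.center (Subgroup.centralizer (Q : Set G)) := by
      rw [hZ]
      exact center_subgroupOf_le_center Q
    have hZcard : Nat.card Z = Nat.card ↥(Q ⊓ Subgroup.centralizer (Q : Set G)) := by
      rw [hZ]
      exact Cfsg.Agent.Lib.Helper4.card_subgroupOf_of_le inf_le_right
    have hdegθ : (charDegree (θ : Subgroup.centralizer (Q : Set G) → ℂ)).factorization p =
        Z.index.factorization p := by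
      have h1 : Nat.card Z * Z.index = Nat.card (Subgroup.centralizer (Q : Set G)) :=
        Subgroup.card_mul_index Z
      have h2 : (Nat.card (Subgroup.centralizer (Q : Set G))).factorization p =
          (Nat.card Z).factorization p + Z.index.factorization p := by
        rw [← h1, Nat.factorization_mul Nat.card_pos.ne' Subgroup.index_ne_zero_of_finite,
          Finsupp.add_apply]
      rw [hZcard] at h2
      omega
    have hZdef0 := laradji_defect hM hZp hZc θ hdegθ
    have hee : e = blockOf M (θ : Subgroup.centralizer (Q : Set G) → ℂ) :=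
      Cfsg.Agent.Lib.Helper28.block_eq_of_mem he ⟨θ, rfl⟩ hθe (sameBlock_refl hMtop _)
    rw [hee]
    exact hZdef0
  · intro R hRT hRp hRn
    have hRn' : (R.subgroupOf T).Normal :=
      Subgroup.normal_subgroupOf_of_le_normalizer (fun t ht => hRn t ht)
    have hle := normal_pSubgroup_le_of_weight (Q.subgroupOf T) χ hker' hdeg' (R.subgroupOf T)
      hRp.comap_subtype
    intro r hr
    have h1 : (⟨r, hRT hr⟩ : T) ∈ R.subgroupOf T := Subgroup.mem_subgroupOf.mpr hr
    exact Subgroup.mem_subgroupOf.mp (hle h1)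

end Main

end Cfsg.Agent.Lib.Helper4
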